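import Groth.Agent.DR39.TensorDual
import Groth.Prelude.Def_DRing2

/-! Base change of K-flat complexes. -/

set_option autoImplicit false
set_option linter.style.haveILetI false
set_option linter.unusedSectionVars false
set_option linter.unusedSimpArgs false

universe u

open CategoryTheory CategoryTheory.Limits MonoidalCategory HomologicalComplex
open scoped TensorProduct

namespace Groth.Agent.DR39

variable {A B : Type u} [CommRing A] [CommRing B] (φ : A →+* B)

/-- `x ↦ 1 ⊗ x`. -/
noncomputable def oneL (M : ModuleCat.{u} A) :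
    M ⟶ (ModuleCat.restrictScalars φ).obj ((ModuleCat.extendScalars.{u, u, u} φ).obj M) :=
  ModuleCat.ExtendRestrictScalarsAdj.homEquiv φ (𝟙 _)

/-- Restriction of characters. -/
noncomputable def resChar : (ModuleCat.restrictScalars φ).obj (EA B) ⟶ EA A :=
  ModuleCat.ofHom (X := ((ModuleCat.restrictScalars φ).obj (EA B)))
    { toFun := fun χ => AddMonoidHom.comp χ φ.toAddMonoidHom
      map_add' := fun _ _ => rfl
      map_smul' := fun r χ => DFunLike.ext _ _ fun a => by
        show (show CharacterModule B from χ) (φ r • φ a) = (show CharacterModule B from χ) (φ (r • a))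
        simp }

variable (K : DRing.Cx A) (L : DRing.Cx B) (n : ℤ)

/-- Base change of a complex. -/
noncomputable abbrev extCx : DRing.Cx B :=
  ((ModuleCat.extendScalars.{u, u, u} φ).mapHomologicalComplex (ComplexShape.up ℤ)).obj K

/-- An element of the dual as a morphism. -/
noncomputable def toM {p : ℤ} (χ : (dualCx (extCx φ K) n).X p) :
    (ModuleCat.extendScalars.{u, u, u} φ).obj (K.X (n - p)) ⟶ EA B :=
  ModuleCat.ofHom (X := ((ModuleCat.extendScalars.{u, u, u} φ).obj (K.X (n - p)))) (toL (extCx φ K) n p χ)

/-- The value at `(x, 1)`. -/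
noncomputable def val1 {p : ℤ} {N : ModuleCat.{u} B} (a : N ⟶ (dualCx (extCx φ K) n).X p) (m : N)
    (x : K.X (n - p)) : AddCircle (1 : ℚ) :=
  (toL (extCx φ K) n p (a.hom m) ((oneL φ (K.X (n - p))).hom x) : CharacterModule B) (1 : B)

theorem hom_ext_val1 {p : ℤ} {N : ModuleCat.{u} B} {a b : N ⟶ (dualCx (extCx φ K) n).X p}
    (h : ∀ m x, val1 φ K n a m x = val1 φ K n b m x) : a = b := by
  refine ModuleCat.hom_ext (LinearMap.ext fun m => toL_injective p ?_)
  refine congrArg ModuleCat.Hom.hom (ModuleCat.ExtendScalars.hom_ext (α := toM φ K n (a.hom m))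
    (β := toM φ K n (b.hom m)) fun x => ?_)
  refine DFunLike.ext _ _ fun s => ?_
  have key : ∀ c : N ⟶ (dualCx (extCx φ K) n).X p,
      (toL (extCx φ K) n p (c.hom m) ((oneL φ (K.X (n - p))).hom x) : CharacterModule B) s =
        val1 φ K n c (s • m) x := fun c => by
    simp [val1]
  exact (key a).trans ((h _ _).trans (key b).symm)

/-- Restriction of a map into the dual. -/
noncomputable def resDual {p : ℤ} {N : ModuleCat.{u} B} (a : N ⟶ (dualCx (extCx φ K) n).X p) :
    (ModuleCat.restrictScalars φ).obj N ⟶ (dualCx K n).X p :=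
  ModuleCat.ofHom (X := (ModuleCat.restrictScalars φ).obj N)
    { toFun := fun m => ((oneL φ (K.X (n - p))) ≫ (ModuleCat.restrictScalars φ).map
        (toM φ K n (a.hom m)) ≫ resChar φ).hom
      map_add' := fun m m' => by
        show ((oneL φ (K.X (n - p))) ≫ (ModuleCat.restrictScalars φ).map
          (toM φ K n (a.hom ((show N from m) + (show N from m')))) ≫ resChar φ).hom = _
        rw [map_add]
        rfl
      map_smul' := fun r m => LinearMap.ext fun x => DFunLike.ext _ _ fun s => by
        show (toL (extCx φ K) n p (a.hom (φ r • (show N from m))) ((oneL φ (K.X (n - p))).hom x) : CharacterModule B) (φ s) =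
          (toL (extCx φ K) n p (a.hom (show N from m)) ((oneL φ (K.X (n - p))).hom x) : CharacterModule B) (φ (r • s))
        rw [map_smul, map_smul]
        show (toL (extCx φ K) n p (a.hom (show N from m)) ((oneL φ (K.X (n - p))).hom x) : CharacterModule B) (φ r • φ s) = _
        simp }

theorem resDual_one {p : ℤ} {N : ModuleCat.{u} B} (a : N ⟶ (dualCx (extCx φ K) n).X p) (m : N)
    (x : K.X (n - p)) : (toL K n p ((resDual φ K n a).hom m) x : CharacterModule A) (1 : A) = val1 φ K n a m x := by
  show (toL (extCx φ K) n p (a.hom m) ((oneL φ (K.X (n - p))).hom x) : CharacterModule B) (φ 1) = _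
  rw [map_one]
  rfl

/-- Extension of a map into the dual. -/
theorem exists_val1 {p : ℤ} {N : ModuleCat.{u} B}
    (k : (ModuleCat.restrictScalars φ).obj N ⟶ (dualCx K n).X p) :
    ∃ a : N ⟶ (dualCx (extCx φ K) n).X p,
      ∀ m x, val1 φ K n a m x = (toL K n p (k.hom m) x : CharacterModule A) (1 : A) := by
  have hx : ∀ m : N, ∃ u : K.X (n - p) ⟶ (ModuleCat.restrictScalars φ).obj (EA B),
      ∀ x s, (show CharacterModule B from u.hom x) s = (toL K n p (k.hom (s • m : N)) x : CharacterModule A) (1 : A) := by
    intro m
    let c : K.X (n - p) → CharacterModule B := fun x =>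
      { toFun := fun s => (toL K n p (k.hom (s • m : N)) x : CharacterModule A) (1 : A)
        map_zero' := by erw [zero_smul, map_zero, map_zero]; rfl
        map_add' := fun s s' => by erw [add_smul, map_add, map_add]; rfl }
    refine ⟨ModuleCat.ofHom (Y := (ModuleCat.restrictScalars φ).obj (EA B))
      { toFun := fun x => c x
        map_add' := fun x x' => ?_
        map_smul' := fun r x => ?_ }, fun x s => rfl⟩
    · exact DFunLike.ext (F := CharacterModule B) _ _ fun s => by
        show (toL K n p (k.hom (s • m : N)) (x + x') : CharacterModule A) (1 : A) =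
          (toL K n p (k.hom (s • m : N)) x : CharacterModule A) (1 : A) +
            (toL K n p (k.hom (s • m : N)) x' : CharacterModule A) (1 : A)
        rw [map_add]; rfl
    · exact DFunLike.ext (F := CharacterModule B) _ _ fun s => by
        show (toL K n p (k.hom (s • m : N)) (r • x) : CharacterModule A) (1 : A) =
          (toL K n p (k.hom ((φ r • s) • m : N)) x : CharacterModule A) (1 : A)
        rw [smul_assoc, LinearMap.map_smul (toL K n p (k.hom (s • m : N))) r x]
        have e : k.hom ((φ r • (s • m : N)) : N) = r • k.hom (s • m : N) :=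
          LinearMap.map_smul k.hom r _
        rw [e, LinearMap.map_smul (toL K n p)]
        rfl
  choose u hu using hx
  let e := fun m => ModuleCat.ExtendRestrictScalarsAdj.HomEquiv.fromExtendScalars φ (u m)
  have he : ∀ m x s, ((e m).hom ((oneL φ (K.X (n - p))).hom x) : CharacterModule B) s =
      (toL K n p (k.hom (s • m : N)) x : CharacterModule A) (1 : A) := fun m x s => by
    rw [← hu]
    exact congrArg (fun t : CharacterModule B => t s) (LinearMap.congr_fun (congrArg ModuleCat.Hom.hom
      ((ModuleCat.ExtendRestrictScalarsAdj.homEquiv φ).apply_symm_apply (u m))) x)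
  refine ⟨ModuleCat.ofHom
    { toFun := fun m => (e m).hom
      map_add' := fun m m' => congrArg ModuleCat.Hom.hom (ModuleCat.ExtendScalars.hom_ext
        (α := e (m + m')) (β := e m + e m') fun x => DFunLike.ext _ _ fun s => ?_)
      map_smul' := fun r m => congrArg ModuleCat.Hom.hom (ModuleCat.ExtendScalars.hom_ext
        (α := e (r • m)) (β := r • e m) fun x => DFunLike.ext _ _ fun s => ?_) }, fun m x => ?_⟩
  · refine (he _ x s).trans ?_
    erw [smul_add, map_add, map_add]
    exact congrArg₂ (· + ·) (he m x s).symm (he m' x s).symm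
  · refine (he _ x s).trans ?_
    refine Eq.trans ?_ (he m x (r • s)).symm
    rw [smul_smul, smul_eq_mul, mul_comm]
  · exact (he m x 1).trans (by rw [one_smul])

theorem isKFlat_extendScalars (hK : DRing.IsKFlat A K) : DRing.IsKFlat B (extCx φ K) := by
  rw [isKFlat_iff_dual]
  intro n
  haveI := isKFlat_iff_dual.1 hK n
  refine ⟨fun {M} g hM => ?_⟩
  let g' : (DRing.restrictCx φ).obj M ⟶ dualCx K n :=
    { f := fun p => resDual φ K n (g.f p)
      comm' := fun p p' hp => by
        refine ModuleCat.hom_ext (LinearMap.ext fun m => toL_injective p' (LinearMap.ext fun x =>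
          DFunLike.ext _ _ fun s => ?_))
        show _ = (toL (extCx φ K) n p' ((g.f p').hom ((M.d p p').hom m)) _ : CharacterModule B) (φ s)
        rw [f_apply_d, dualCx_d_apply]
        rfl }
  let H : Homotopy g' 0 := CochainComplex.IsKInjective.homotopyZero g' (by
    intro i
    rw [exactAt_iff_isZero_homology]
    exact IsZero.of_iso ((ModuleCat.restrictScalars φ).map_isZero (hM i).isZero_homology)
      ((M.sc i).mapHomologyIso (ModuleCat.restrictScalars φ)))
  choose h hh using fun i j => exists_val1 φ K n (H.hom i j)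
  refine ⟨{ hom := h, zero := fun i j hij => hom_ext_val1 φ K n fun m x => ?_, comm := fun p => ?_ }⟩
  · rw [hh, H.zero i j hij]
    rfl
  rw [dNext_eq h (show (ComplexShape.up ℤ).Rel p (p + 1) by simp),
    prevD_eq h (show (ComplexShape.up ℤ).Rel (p - 1) p by simp)]
  refine hom_ext_val1 φ K n fun m x => ?_
  rw [← resDual_one]
  show (toL K n p ((g'.f p).hom m) x : CharacterModule A) 1 = _
  rw [H.comm p, dNext_eq H.hom (show (ComplexShape.up ℤ).Rel p (p + 1) by simp),
    prevD_eq H.hom (show (ComplexShape.up ℤ).Rel (p - 1) p by simp)]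
  show _ = val1 φ K n (h (p + 1) p) ((M.d p (p + 1)).hom m) x +
    p.negOnePow • val1 φ K n (h p (p - 1)) m ((K.d (n - p) (n - (p - 1))).hom x) + 0
  rw [hh, hh]
  rfl

end Groth.Agent.DR39
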