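import Mathlib.Algebra.Homology.QuasiIso
import Mathlib.Algebra.Homology.ShortComplex.ModuleCat
import Mathlib.Algebra.Category.ModuleCat.Abelian
import Mathlib.Algebra.Category.ModuleCat.Kernels
import Mathlib.Algebra.Homology.HomotopyCategory

/-! Elementwise cohomology of cochain complexes of modules. -/

set_option autoImplicit false
set_option linter.style.haveILetI false

universe v u

open CategoryTheory CategoryTheory.Limits CategoryTheory.Category

namespace Groth.Agent.DR39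

variable {R : Type u} [Ring R] {K L : CochainComplex (ModuleCat.{v} R) ℤ}

theorem d_apply_d (K : CochainComplex (ModuleCat.{v} R) ℤ) (i j k : ℤ) (x : K.X i) :
    (K.d j k).hom ((K.d i j).hom x) = 0 := by
  rw [← LinearMap.comp_apply, ← ModuleCat.hom_comp, K.d_comp_d]; rfl

theorem f_apply_d (φ : K ⟶ L) (i j : ℤ) (x : K.X i) :
    (φ.f j).hom ((K.d i j).hom x) = (L.d i j).hom ((φ.f i).hom x) := by
  rw [← LinearMap.comp_apply, ← ModuleCat.hom_comp, ← φ.comm, ModuleCat.hom_comp, LinearMap.comp_apply]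

/-- Cycles in degree `i`. -/
abbrev Zd (K : CochainComplex (ModuleCat.{v} R) ℤ) (i : ℤ) : Submodule R (K.X i) :=
  LinearMap.ker (K.d i (i + 1)).hom

/-- Cycles to abstract cycles. -/
noncomputable def zcls (K : CochainComplex (ModuleCat.{v} R) ℤ) (i : ℤ) :
    ModuleCat.of R (Zd K i) ⟶ K.cycles i :=
  K.liftCycles (ModuleCat.ofHom (Zd K i).subtype) (i + 1) (by simp)
    (ModuleCat.hom_ext (LinearMap.ext fun z => z.2))

theorem iCycles_zcls (K : CochainComplex (ModuleCat.{v} R) ℤ) (i : ℤ) (z : Zd K i) :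
    (K.iCycles i).hom ((zcls K i).hom z) = (z : K.X i) := by
  have : zcls K i ≫ K.iCycles i = ModuleCat.ofHom (Zd K i).subtype := by
    unfold zcls
    exact HomologicalComplex.liftCycles_i _ _ _ _ _
  exact congrArg (fun g : ModuleCat.of R (Zd K i) ⟶ K.X i => g.hom z) this

theorem iCycles_injective (K : CochainComplex (ModuleCat.{v} R) ℤ) (i : ℤ) :
    Function.Injective (K.iCycles i).hom := (ModuleCat.mono_iff_injective _).1 inferInstance

theorem zcls_surjective (K : CochainComplex (ModuleCat.{v} R) ℤ) (i : ℤ) :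
    Function.Surjective (zcls K i).hom := by
  intro c
  have hc : (K.d i (i + 1)).hom ((K.iCycles i).hom c) = 0 := by
    rw [← LinearMap.comp_apply, ← ModuleCat.hom_comp, K.iCycles_d]; rfl
  exact ⟨⟨_, hc⟩, iCycles_injective K i (iCycles_zcls K i _)⟩

/-- Cohomology class of a cycle. -/
noncomputable def hcls (K : CochainComplex (ModuleCat.{v} R) ℤ) (i : ℤ) :
    Zd K i →ₗ[R] K.homology i :=
  (zcls K i ≫ K.homologyπ i).hom

theorem hcls_surjective (K : CochainComplex (ModuleCat.{v} R) ℤ) (i : ℤ) :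
    Function.Surjective (hcls K i) := by
  have : Epi (K.homologyπ i) :=
    Cofork.IsColimit.epi (K.homologyIsCokernel (i - 1) i (by simp))
  exact ((ModuleCat.epi_iff_surjective (K.homologyπ i)).1 this).comp (zcls_surjective K i)

theorem hcls_eq_zero_iff (K : CochainComplex (ModuleCat.{v} R) ℤ) (i : ℤ) (z : Zd K i) :
    hcls K i z = 0 ↔ (z : K.X i) ∈ LinearMap.range (K.d (i - 1) i).hom := by
  have hex : (ShortComplex.mk (K.toCycles (i - 1) i) (K.homologyπ i) (by simp)).Exact :=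
    ShortComplex.exact_of_g_is_cokernel _ (K.homologyIsCokernel (i - 1) i (by simp))
  have ht : ∀ x, (K.iCycles i).hom ((K.toCycles (i - 1) i).hom x) = (K.d (i - 1) i).hom x :=
    fun x => by rw [← LinearMap.comp_apply, ← ModuleCat.hom_comp, K.toCycles_i]
  constructor
  · intro h
    obtain ⟨x, hx⟩ := (ShortComplex.moduleCat_exact_iff _).1 hex ((zcls K i).hom z) h
    exact ⟨x, by rw [← ht, ← iCycles_zcls K i z]; exact congrArg (K.iCycles i).hom hx⟩
  · rintro ⟨x, hx⟩
    have : (zcls K i).hom z = (K.toCycles (i - 1) i).hom x :=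
      iCycles_injective K i (by rw [iCycles_zcls, ht, hx])
    show (K.homologyπ i).hom ((zcls K i).hom z) = 0
    rw [this, ← LinearMap.comp_apply, ← ModuleCat.hom_comp, K.toCycles_comp_homologyπ]
    rfl

theorem hcls_eq_iff (K : CochainComplex (ModuleCat.{v} R) ℤ) (i : ℤ) (z z' : Zd K i) :
    hcls K i z = hcls K i z' ↔ (z : K.X i) - z' ∈ LinearMap.range (K.d (i - 1) i).hom := by
  rw [← sub_eq_zero, ← map_sub, hcls_eq_zero_iff]
  rfl

/-- The image of a cycle. -/
def zmap (φ : K ⟶ L) (i : ℤ) : Zd K i →ₗ[R] Zd L i :=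
  (φ.f i).hom.restrict fun x hx => by
    rw [LinearMap.mem_ker] at hx ⊢
    rw [← f_apply_d, hx, map_zero]

theorem homologyMap_hcls (φ : K ⟶ L) (i : ℤ) (z : Zd K i) :
    (HomologicalComplex.homologyMap φ i).hom (hcls K i z) = hcls L i (zmap φ i z) := by
  have h : (HomologicalComplex.cyclesMap φ i).hom ((zcls K i).hom z) = (zcls L i).hom (zmap φ i z) := by
    apply iCycles_injective L i
    rw [iCycles_zcls, ← LinearMap.comp_apply, ← ModuleCat.hom_comp, HomologicalComplex.cyclesMap_i,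
      ModuleCat.hom_comp, LinearMap.comp_apply, iCycles_zcls]
    rfl
  show (HomologicalComplex.homologyMap φ i).hom ((K.homologyπ i).hom ((zcls K i).hom z)) =
    (L.homologyπ i).hom ((zcls L i).hom (zmap φ i z))
  rw [← h, ← LinearMap.comp_apply, ← ModuleCat.hom_comp, HomologicalComplex.homologyπ_naturality]
  rfl

theorem injective_homologyMap_iff (φ : K ⟶ L) (i : ℤ) :
    Function.Injective (HomologicalComplex.homologyMap φ i).hom ↔
      ∀ x : K.X i, (K.d i (i + 1)).hom x = 0 → ∀ y : L.X (i - 1),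
        (L.d (i - 1) i).hom y = (φ.f i).hom x → x ∈ LinearMap.range (K.d (i - 1) i).hom := by
  rw [injective_iff_map_eq_zero]
  constructor
  · intro h x hx y hy
    refine (hcls_eq_zero_iff K i ⟨x, hx⟩).1 (h _ ?_)
    rw [homologyMap_hcls, hcls_eq_zero_iff]
    exact ⟨y, hy⟩
  · intro h c hc
    obtain ⟨⟨x, hx⟩, rfl⟩ := hcls_surjective K i c
    rw [homologyMap_hcls, hcls_eq_zero_iff] at hc
    obtain ⟨y, hy⟩ := hc
    exact (hcls_eq_zero_iff K i ⟨x, hx⟩).2 (h x hx y hy)

theorem surjective_homologyMap_iff (φ : K ⟶ L) (i : ℤ) :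
    Function.Surjective (HomologicalComplex.homologyMap φ i).hom ↔
      ∀ z : L.X i, (L.d i (i + 1)).hom z = 0 → ∃ x : K.X i, (K.d i (i + 1)).hom x = 0 ∧
        (φ.f i).hom x - z ∈ LinearMap.range (L.d (i - 1) i).hom := by
  constructor
  · intro h z hz
    obtain ⟨c, hc⟩ := h (hcls L i ⟨z, hz⟩)
    obtain ⟨⟨x, hx⟩, rfl⟩ := hcls_surjective K i c
    rw [homologyMap_hcls, hcls_eq_iff] at hc
    exact ⟨x, hx, hc⟩
  · intro h c
    obtain ⟨⟨z, hz⟩, rfl⟩ := hcls_surjective L i c
    obtain ⟨x, hx, hxz⟩ := h z hz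
    exact ⟨hcls K i ⟨x, hx⟩, by rw [homologyMap_hcls, hcls_eq_iff]; exact hxz⟩

theorem isIso_iff_bijective {M N : ModuleCat.{v} R} (f : M ⟶ N) :
    IsIso f ↔ Function.Bijective f.hom :=
  ConcreteCategory.isIso_iff_bijective f

theorem quasiIsoAt_of_elements (φ : K ⟶ L) (i : ℤ)
    (hinj : ∀ x : K.X i, (K.d i (i + 1)).hom x = 0 → ∀ y : L.X (i - 1),
        (L.d (i - 1) i).hom y = (φ.f i).hom x → x ∈ LinearMap.range (K.d (i - 1) i).hom)
    (hsurj : ∀ z : L.X i, (L.d i (i + 1)).hom z = 0 → ∃ x : K.X i, (K.d i (i + 1)).hom x = 0 ∧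
        (φ.f i).hom x - z ∈ LinearMap.range (L.d (i - 1) i).hom) :
    QuasiIsoAt φ i := by
  rw [quasiIsoAt_iff_isIso_homologyMap, isIso_iff_bijective]
  exact ⟨(injective_homologyMap_iff φ i).2 hinj, (surjective_homologyMap_iff φ i).2 hsurj⟩

theorem isZero_homology_iff (K : CochainComplex (ModuleCat.{v} R) ℤ) (i : ℤ) :
    IsZero (K.homology i) ↔
      ∀ x : K.X i, (K.d i (i + 1)).hom x = 0 → x ∈ LinearMap.range (K.d (i - 1) i).hom := by
  rw [ModuleCat.isZero_iff_subsingleton]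
  constructor
  · intro h x hx
    exact (hcls_eq_zero_iff K i ⟨x, hx⟩).1 (Subsingleton.elim _ _)
  · intro h
    refine ⟨fun a b => ?_⟩
    obtain ⟨z, rfl⟩ := hcls_surjective K i a
    obtain ⟨w, rfl⟩ := hcls_surjective K i b
    rw [(hcls_eq_zero_iff K i z).2 (h _ z.2), (hcls_eq_zero_iff K i w).2 (h _ w.2)]

end Groth.Agent.DR39
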