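import Groth.Agent.DR39.Elem
import Mathlib.Algebra.Homology.HomotopyCategory.KProjective
import Mathlib.Algebra.Category.ModuleCat.Projective
import Mathlib.LinearAlgebra.Finsupp.LinearCombination

/-! A semi-free K-projective resolution of an arbitrary complex of modules. -/

set_option autoImplicit false
set_option linter.style.haveILetI false
set_option linter.unusedSimpArgs false

universe u

open CategoryTheory CategoryTheory.Limits CategoryTheory.Category

namespace Groth.Agent.DR39.SF

variable {A : Type u} [CommRing A] {K : CochainComplex (ModuleCat.{u} A) ℤ}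

/-- Formal generators: a target element and a formal linear combination of generators in the next degree. -/
inductive Pre (K : CochainComplex (ModuleCat.{u} A) ℤ) : ℤ → Type u
  | mk {i : ℤ} (y : K.X i) (n : ℕ) (c : Fin n → A) (g : Fin n → Pre K (i + 1)) : Pre K i

/-- The target element. -/
def Pre.tgt : {i : ℤ} → Pre K i → K.X i
  | _, .mk y _ _ _ => y

/-- The differential of a formal generator. -/
noncomputable def Pre.dd : {i : ℤ} → Pre K i → (Pre K (i + 1) →₀ A)
  | _, .mk _ n c g => ∑ k : Fin n, Finsupp.single (g k) (c k)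

/-- Validity: children valid, differential a cycle, compatible with the target. -/
def Pre.Valid : {i : ℤ} → Pre K i → Prop
  | i, .mk y n c g => (∀ k : Fin n, (g k).Valid) ∧ (∑ k : Fin n, c k • (g k).dd) = 0 ∧
      (∑ k : Fin n, c k • (g k).tgt) = (K.d i (i + 1)).hom y

/-- Generators in degree `i`. -/
abbrev Gen (K : CochainComplex (ModuleCat.{u} A) ℤ) (i : ℤ) : Type u := {p : Pre K i // p.Valid}

/-- Differential on generators. -/
noncomputable def dgen : {i : ℤ} → Gen K i → (Gen K (i + 1) →₀ A)
  | _, ⟨.mk _ n c g, h⟩ => ∑ k : Fin n, Finsupp.single ⟨g k, h.1 k⟩ (c k)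

theorem val_dgen {i : ℤ} (p : Gen K i) :
    Finsupp.mapDomain Subtype.val (dgen p) = p.1.dd := by
  obtain ⟨⟨y, n, c, g⟩, h⟩ := p
  simp [dgen, Pre.dd, Finsupp.mapDomain_finsetSum, Finsupp.mapDomain_single]

theorem dd_dgen {i : ℤ} (p : Gen K i) :
    Finsupp.linearCombination A (dgen (K := K) (i := i + 1)) (dgen p) = 0 := by
  obtain ⟨⟨y, n, c, g⟩, h⟩ := p
  apply Finsupp.mapDomain_injective Subtype.val_injective
  rw [Finsupp.mapDomain_zero]
  rw [show dgen (⟨.mk y n c g, h⟩ : Gen K i) = ∑ k : Fin n, Finsupp.single ⟨g k, h.1 k⟩ (c k) from rfl]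
  simp [Finsupp.mapDomain_finsetSum, Finsupp.mapDomain_smul, val_dgen, h.2.1]

theorem tgt_dgen {i : ℤ} (p : Gen K i) :
    Finsupp.linearCombination A (fun q : Gen K (i + 1) => q.1.tgt) (dgen p) =
      (K.d i (i + 1)).hom p.1.tgt := by
  obtain ⟨⟨y, n, c, g⟩, h⟩ := p
  simp only [dgen, map_sum, Finsupp.linearCombination_single]
  exact h.2.2

variable (K)

/-- The semi-free complex. -/
noncomputable def res : CochainComplex (ModuleCat.{u} A) ℤ :=
  CochainComplex.of (fun i => ModuleCat.of A (Gen K i →₀ A))
    (fun i => ModuleCat.ofHom (Finsupp.linearCombination A (dgen (K := K) (i := i))))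
    (fun i => by
      apply ModuleCat.hom_ext
      apply Finsupp.lhom_ext'
      intro p
      apply LinearMap.ext_ring
      simp [dd_dgen])

theorem res_d (i : ℤ) :
    ((res K).d i (i + 1)).hom = Finsupp.linearCombination A (dgen (K := K) (i := i)) := by
  simp [res]
  try rfl

/-- The quasi-isomorphism to `K`. -/
noncomputable def aug : res K ⟶ K where
  f i := ModuleCat.ofHom (Finsupp.linearCombination A fun p : Gen K i => p.1.tgt)
  comm' i j hij := by
    obtain rfl : i + 1 = j := hij
    apply ModuleCat.hom_ext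
    apply Finsupp.lhom_ext'
    intro p
    apply LinearMap.ext_ring
    show (K.d i (i + 1)).hom (Finsupp.linearCombination A (fun q : Gen K i => q.1.tgt)
        (Finsupp.single p 1)) = Finsupp.linearCombination A (fun q : Gen K (i + 1) => q.1.tgt)
        (((res K).d i (i + 1)).hom (Finsupp.single p 1 : Gen K i →₀ A))
    rw [res_d]
    erw [Finsupp.linearCombination_single, Finsupp.linearCombination_single]
    simp [tgt_dgen]

theorem exists_gen (i : ℤ) (x : Gen K (i + 1) →₀ A) (y : K.X i)
    (hd : Finsupp.linearCombination A (dgen (K := K)) x = 0)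
    (hf : Finsupp.linearCombination A (fun q : Gen K (i + 1) => q.1.tgt) x = (K.d i (i + 1)).hom y) :
    ∃ p : Gen K i, dgen p = x ∧ p.1.tgt = y := by
  classical
  let e := x.support.equivFin
  let g : Fin x.support.card → Gen K (i + 1) := fun k => (e.symm k).1
  have hx : ∑ k, Finsupp.single (g k) (x (g k)) = x := by
    rw [Equiv.sum_comp e.symm (fun q : x.support => Finsupp.single q.1 (x q.1)),
      Finset.sum_coe_sort x.support (fun q => Finsupp.single q (x q))]
    exact Finsupp.sum_single x
  refine ⟨⟨.mk y _ (fun k => x (g k)) (fun k => (g k).1), ⟨fun k => (g k).2, ?_, ?_⟩⟩, ?_, ?_⟩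
  · have h2 := congrArg (Finsupp.mapDomain Subtype.val) hd
    rw [← hx, map_sum, Finsupp.mapDomain_zero, Finsupp.mapDomain_finsetSum] at h2
    simpa [Finsupp.mapDomain_smul, val_dgen] using h2
  · rw [← hf]
    conv_rhs => rw [← hx, map_sum]
    simp
  · conv_rhs => rw [← hx]
    rfl
  · simp [Pre.tgt]

theorem aug_cycles_surjective (i : ℤ) (z : K.X i) (hz : (K.d i (i + 1)).hom z = 0) :
    ∃ x : (res K).X i, ((res K).d i (i + 1)).hom x = 0 ∧ ((aug K).f i).hom x = z := by
  obtain ⟨p, hp, hp'⟩ := exists_gen K i 0 z (by simp) (by simp [hz])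
  refine ⟨(Finsupp.single p 1 : Gen K i →₀ A), ?_, ?_⟩
  · rw [res_d]
    erw [Finsupp.linearCombination_single]
    rw [hp, smul_zero]
    rfl
  · show Finsupp.linearCombination A (fun q : Gen K i => q.1.tgt) (Finsupp.single p 1) = z
    rw [Finsupp.linearCombination_single, one_smul, hp']

theorem aug_surjective (i : ℤ) : Function.Surjective ((aug K).f i).hom := by
  intro y
  obtain ⟨x, hx, hx'⟩ := aug_cycles_surjective K (i + 1) ((K.d i (i + 1)).hom y) (d_apply_d K _ _ _ y)
  rw [res_d] at hx
  obtain ⟨p, -, hp'⟩ := exists_gen K i x y hx hx'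
  refine ⟨(Finsupp.single p 1 : Gen K i →₀ A), ?_⟩
  show Finsupp.linearCombination A (fun q : Gen K i => q.1.tgt) (Finsupp.single p 1) = y
  rw [Finsupp.linearCombination_single, one_smul, hp']

instance quasiIso_aug : QuasiIso (aug K) where
  quasiIsoAt i := by
    refine quasiIsoAt_of_elements _ i (fun x hx y hy => ?_) (fun z hz => ?_)
    · have key : ∀ j, i = j + 1 → ∀ y : K.X j, (K.d j i).hom y = ((aug K).f i).hom x →
          x ∈ LinearMap.range ((res K).d j i).hom := by
        rintro j rfl y hy
        rw [res_d] at hx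
        obtain ⟨p, hp, -⟩ := exists_gen K j x y hx hy.symm
        refine ⟨(Finsupp.single p 1 : Gen K j →₀ A), ?_⟩
        rw [res_d]
        erw [Finsupp.linearCombination_single]
        rw [hp]
        exact one_smul A _
      exact key (i - 1) (by omega) y hy
    · obtain ⟨x, hx, rfl⟩ := aug_cycles_surjective K i z hz
      exact ⟨x, hx, 0, by simp⟩

theorem projective_res (i : ℤ) : Projective ((res K).X i) :=
  (IsProjective.iff_projective (R := A) (Gen K i →₀ A)).1 inferInstance

theorem free_res (i : ℤ) : Module.Free A ((res K).X i) :=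
  inferInstanceAs (Module.Free A (Gen K i →₀ A))

variable {K}

open Classical in
/-- Primitive used to build null homotopies. -/
noncomputable def hpre {L : CochainComplex (ModuleCat.{u} A) ℤ}
    (v : ∀ {i : ℤ}, Pre K i → L.X i) : {i : ℤ} → Pre K i → L.X (i - 1)
  | i, .mk y n c g =>
    if hw : ∃ w : L.X (i - 1), (L.d (i - 1) i).hom w =
        v (.mk y n c g) - ∑ k : Fin n, c k • (L.XIsoOfEq (add_sub_cancel_right i 1)).hom.hom
          (hpre v (g k)) then hw.choose else 0

theorem XIsoOfEq_d (L : CochainComplex (ModuleCat.{u} A) ℤ) {i i' : ℤ} (h : i = i') (j : ℤ)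
    (x : L.X i) : (L.d i' j).hom ((L.XIsoOfEq h).hom.hom x) = (L.d i j).hom x := by
  subst h; rfl

theorem hpre_spec {L : CochainComplex (ModuleCat.{u} A) ℤ} (hL : ∀ i, IsZero (L.homology i))
    (φ : res K ⟶ L) (v : ∀ {i : ℤ}, Pre K i → L.X i)
    (hv : ∀ {i : ℤ} (p : Gen K i), v p.1 = (φ.f i).hom (Finsupp.single p 1 : Gen K i →₀ A)) :
    ∀ {i : ℤ} (p : Pre K i) (hp : p.Valid),
      (L.d (i - 1) i).hom (hpre v p) + (L.XIsoOfEq (add_sub_cancel_right i 1)).hom.hom
        (Finsupp.linearCombination A (fun q : Gen K (i + 1) => hpre v q.1) (dgen ⟨p, hp⟩)) =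
      v p := by
  intro i p hp
  induction p with
  | @mk i y n c g ih =>
    have hlc : (L.XIsoOfEq (add_sub_cancel_right i 1)).hom.hom
        (Finsupp.linearCombination A (fun q : Gen K (i + 1) => hpre v q.1) (dgen ⟨_, hp⟩)) =
        ∑ k : Fin n, c k • (L.XIsoOfEq (add_sub_cancel_right i 1)).hom.hom (hpre v (g k)) := by
      simp [dgen]
    rw [hlc]
    have hw : ∃ w : L.X (i - 1), (L.d (i - 1) i).hom w = v (.mk y n c g) -
        ∑ k : Fin n, c k • (L.XIsoOfEq (add_sub_cancel_right i 1)).hom.hom (hpre v (g k)) := by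
      refine (isZero_homology_iff L i).1 (hL i) _ ?_
      rw [map_sub, map_sum, sub_eq_zero]
      simp only [map_smul, XIsoOfEq_d]
      have e : ∀ k, (L.d (i + 1 - 1) (i + 1)).hom (hpre v (g k)) = v (g k) -
          (L.XIsoOfEq (add_sub_cancel_right (i + 1) 1)).hom.hom
            (Finsupp.linearCombination A (fun q : Gen K (i + 1 + 1) => hpre v q.1) (dgen ⟨g k, hp.1 k⟩)) :=
        fun k => eq_sub_of_add_eq (ih k (hp.1 k))
      simp only [e, smul_sub, Finset.sum_sub_distrib]
      have h2 : ∑ k : Fin n, c k • (L.XIsoOfEq (add_sub_cancel_right (i + 1) 1)).hom.hom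
          (Finsupp.linearCombination A (fun q : Gen K (i + 1 + 1) => hpre v q.1)
            (dgen ⟨g k, hp.1 k⟩)) = 0 := by
        simp only [← map_smul, ← map_sum]
        have := dd_dgen (⟨_, hp⟩ : Gen K i)
        rw [show dgen (⟨.mk y n c g, hp⟩ : Gen K i) = ∑ k : Fin n, Finsupp.single ⟨g k, hp.1 k⟩ (c k)
          from rfl] at this
        simp only [map_sum, Finsupp.linearCombination_single] at this
        erw [this, map_zero]
      rw [h2, sub_zero, hv ⟨_, hp⟩]
      erw [← f_apply_d]
      rw [res_d]
      erw [Finsupp.linearCombination_single]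
      simp only [one_smul, dgen]
      refine (map_sum (φ.f (i + 1)).hom _ _).trans (Finset.sum_congr rfl fun k _ => ?_)
      rw [hv ⟨g k, hp.1 k⟩]
      exact (congrArg (φ.f (i + 1)).hom (Finsupp.smul_single_one _ (c k)).symm).trans (map_smul _ _ _)
    rw [hpre, dif_pos hw, hw.choose_spec, sub_add_cancel]

variable (K)

instance isKProjective_res : (res K).IsKProjective where
  nonempty_homotopy_zero := fun {L} φ hL => by
    classical
    have hL' : ∀ i, IsZero (L.homology i) := fun i => (hL i).isZero_homology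
    let v : ∀ {i : ℤ}, Pre K i → L.X i := fun {i} p =>
      if hp : p.Valid then (φ.f i).hom (Finsupp.single ⟨p, hp⟩ 1 : Gen K i →₀ A) else 0
    have hv : ∀ {i : ℤ} (p : Gen K i),
        v p.1 = (φ.f i).hom (Finsupp.single p 1 : Gen K i →₀ A) := fun p => dif_pos p.2
    let h : ∀ i j : ℤ, (res K).X i ⟶ L.X j := fun i j =>
      if hij : i - 1 = j then
        ModuleCat.ofHom (Finsupp.linearCombination A fun p : Gen K i => hpre v p.1) ≫
          (L.XIsoOfEq hij).hom else 0
    have hh : ∀ i j, ¬(ComplexShape.up ℤ).Rel j i → h i j = 0 := fun i j hij =>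
      dif_neg fun hc => hij (by simp [← hc])
    have he : φ = Homotopy.nullHomotopicMap h := by
      ext i : 1
      rw [Homotopy.nullHomotopicMap_f (k₂ := i - 1) (k₀ := i + 1) (by simp) (by simp)]
      apply ModuleCat.hom_ext
      apply Finsupp.lhom_ext'
      intro p
      apply LinearMap.ext_ring
      simp only [LinearMap.comp_apply, Finsupp.lsingle_apply, ModuleCat.hom_add, ModuleCat.hom_comp,
        LinearMap.add_apply, res_d]
      erw [← hv p, ← hpre_spec hL' φ v hv p.1 p.2]
      have e1 : h i (i - 1) = ModuleCat.ofHom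
          (Finsupp.linearCombination A fun q : Gen K i => hpre v q.1) := by
        dsimp only [h]; rw [dif_pos rfl]; rfl
      have e2 : h (i + 1) i = ModuleCat.ofHom
          (Finsupp.linearCombination A fun q : Gen K (i + 1) => hpre v q.1) ≫
            (L.XIsoOfEq (add_sub_cancel_right i 1)).hom := dif_pos (add_sub_cancel_right i 1)
      rw [e1, e2]
      show _ = (L.XIsoOfEq (add_sub_cancel_right i 1)).hom.hom
          (Finsupp.linearCombination A (fun q : Gen K (i + 1) => hpre v q.1)
            (Finsupp.linearCombination A (dgen (K := K) (i := i)) (Finsupp.single p 1))) +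
        (L.d (i - 1) i).hom
          (Finsupp.linearCombination A (fun q : Gen K i => hpre v q.1) (Finsupp.single p 1))
      erw [Finsupp.linearCombination_single, Finsupp.linearCombination_single]
      rw [one_smul, one_smul]
      exact add_comm _ _
    exact ⟨by rw [he]; exact Homotopy.nullHomotopy h hh⟩

end Groth.Agent.DR39.SF
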