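import Groth.Agent.DR39.TensorMap
import Groth.Agent.DR39.SemiFree
import Mathlib.Algebra.Category.ModuleCat.Monoidal.Symmetric
import Mathlib.Algebra.Category.ModuleCat.ChangeOfRings
import Groth.Prelude.Def_DDual2

/-! Symmetry of the tensor product of complexes; tensoring with a module and base change. -/

set_option autoImplicit false
set_option linter.style.haveILetI false
set_option linter.unusedSimpArgs false

universe u

open CategoryTheory CategoryTheory.Limits MonoidalCategory HomologicalComplex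
open scoped TensorProduct

namespace Groth.Agent.DR39

variable {A : Type u} [CommRing A] {M M' P P' : DRing.Cx A}

theorem hom_ext_EA {X Y : ModuleCat.{u} A} {u v : X ⟶ Y}
    (h : ∀ φ : Y ⟶ EA A, u ≫ φ = v ≫ φ) : u = v := by
  refine ModuleCat.hom_ext (LinearMap.ext fun x => sub_eq_zero.1 ?_)
  by_contra hne
  obtain ⟨φ, -, hφ⟩ := exists_character_of_notMem ⊥ (x := u.hom x - v.hom x)
    (fun h => hne ((Submodule.mem_bot A).1 h))
  apply hφ
  rw [map_sub, sub_eq_zero]
  exact LinearMap.congr_fun (congrArg ModuleCat.Hom.hom (h (ModuleCat.ofHom φ))) x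

theorem isIso_of_functionals {X Y : ModuleCat.{u} A} (u : X ⟶ Y)
    (hs : ∀ φ : X ⟶ EA A, ∃ φ', u ≫ φ' = φ) (hi : ∀ φ : Y ⟶ EA A, u ≫ φ = 0 → φ = 0) : IsIso u := by
  rw [isIso_iff_bijective]
  constructor
  · rw [injective_iff_map_eq_zero]
    intro x hx
    by_contra hne
    obtain ⟨φ, -, hφ⟩ := exists_character_of_notMem ⊥ (x := x) (fun h => hne ((Submodule.mem_bot A).1 h))
    obtain ⟨φ', hφ'⟩ := hs (ModuleCat.ofHom φ)
    have : φ'.hom (u.hom x) = φ x := LinearMap.congr_fun (congrArg ModuleCat.Hom.hom hφ') x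
    exact hφ (by rw [← this, hx, map_zero])
  · intro y
    by_contra hne
    obtain ⟨φ, hk, hφ⟩ := exists_character_of_notMem (LinearMap.range u.hom) (x := y) hne
    exact hφ (LinearMap.congr_fun (congrArg ModuleCat.Hom.hom
      (hi (ModuleCat.ofHom φ) (ModuleCat.hom_ext (LinearMap.ext fun w => hk ⟨w, rfl⟩)))) y)

theorem cmp_units_smul {n : ℤ} (s : ℤˣ) (φ : (M ⊗ P).X n ⟶ EA A) (p q : ℤ) (h : p + q = n) :
    cmp M P (s • φ) p q h = s • cmp M P φ p q h := by
  unfold cmp
  rw [Linear.comp_units_smul]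
  exact LinearMap.ext fun m => LinearMap.ext fun x => rfl

/-- The symmetry in degree `n`. -/
noncomputable def symmX (M P : DRing.Cx A) (n : ℤ) : (M ⊗ P).X n ⟶ (P ⊗ M).X n :=
  mapBifunctorDesc (fun p q h =>
    ((p * q).negOnePow : ℤˣ) • ((β_ (M.X p) (P.X q)).hom ≫ ιTensorObj P M q p n (show q + p = n by
      change p + q = n at h; omega)))

theorem cmp_symmX {n : ℤ} (φ : (P ⊗ M).X n ⟶ EA A) (p q : ℤ) (h : p + q = n) (m : M.X p) (x : P.X q) :
    cmp M P (symmX M P n ≫ φ) p q h m x = (p * q).negOnePow • cmp P M φ q p (by omega) x m := by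
  show ((ιTensorObj M P p q n h ≫ symmX M P n ≫ φ).hom) (m ⊗ₜ[A] x) = _
  rw [← Category.assoc, symmX, ιTensorObj]
  erw [ι_mapBifunctorDesc]
  rw [Linear.units_smul_comp, Category.assoc]
  rfl

theorem symmX_symmX (M P : DRing.Cx A) (n : ℤ) : symmX M P n ≫ symmX P M n = 𝟙 _ := by
  refine hom_ext_EA fun φ => cmp_ext M P fun p q h => LinearMap.ext fun m => LinearMap.ext fun x => ?_
  rw [Category.assoc, cmp_symmX, cmp_symmX, smul_smul, mul_comm q p, Int.units_mul_self, one_smul,
    Category.id_comp]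

/-- The symmetry `M ⊗ P ≅ P ⊗ M` with Koszul signs. -/
noncomputable def symm' (M P : DRing.Cx A) : M ⊗ P ⟶ P ⊗ M where
  f n := symmX M P n
  comm' n' n hn := by
    change n' + 1 = n at hn
    refine hom_ext_EA fun φ => cmp_ext M P fun p q h => LinearMap.ext fun m => LinearMap.ext fun x => ?_
    rw [Category.assoc, Category.assoc, cmp_symmX,
      cmp_d P M hn φ q (q + 1) p (p + 1) rfl rfl (by omega) x m,
      cmp_d M P hn (symmX M P n ≫ φ) p (p + 1) q (q + 1) rfl rfl h m x, cmp_symmX, cmp_symmX,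
      smul_add, smul_smul, smul_smul, ← Int.negOnePow_add, ← Int.negOnePow_add,
      add_comm ((p * q).negOnePow • _)]
    congr 2
    · rw [Int.negOnePow_eq_iff]; exact ⟨0, by ring⟩
    · rw [Int.negOnePow_eq_iff]; exact ⟨-p, by ring⟩

instance isIso_symm' (M P : DRing.Cx A) : IsIso (symm' M P) :=
  ⟨symm' P M, HomologicalComplex.hom_ext _ _ fun n => symmX_symmX M P n,
    HomologicalComplex.hom_ext _ _ fun n => symmX_symmX P M n⟩

theorem symm'_naturality (f : P ⟶ P') (M : DRing.Cx A) :
    (f ▷ M) ≫ symm' P' M = symm' P M ≫ (M ◁ f) := by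
  refine HomologicalComplex.hom_ext _ _ fun n => hom_ext_EA fun φ =>
    cmp_ext P M fun p q h => LinearMap.ext fun x => LinearMap.ext fun m => ?_
  show cmp P M (((f ▷ M).f n ≫ symmX P' M n) ≫ φ) p q h x m =
    cmp P M ((symmX P M n ≫ (M ◁ f).f n) ≫ φ) p q h x m
  rw [Category.assoc, Category.assoc, cmp_whiskerRight, cmp_symmX, cmp_whiskerLeft]
  simp only [LinearMap.comp_apply]
  rw [cmp_symmX]
  rfl

/-- Tensoring a quasi-isomorphism between K-flat complexes with any complex. -/
theorem quasiIso_whiskerRight_of_kflat (hP : DRing.IsKFlat A P) (hP' : DRing.IsKFlat A P')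
    (f : P ⟶ P') [QuasiIso f] (M : DRing.Cx A) : QuasiIso (f ▷ M) := by
  haveI := quasiIso_whiskerLeft hP hP' f M
  haveI : QuasiIso ((f ▷ M) ≫ symm' P' M) := by rw [symm'_naturality]; infer_instance
  exact quasiIso_of_comp_right (f ▷ M) (symm' P' M)

/-- The complex with a module in degree `0`. -/
noncomputable abbrev sgl (N : ModuleCat.{u} A) : DRing.Cx A :=
  (single (ModuleCat.{u} A) (ComplexShape.up ℤ) 0).obj N

/-- `P ⊗ N → P ⊗ N[0]`. -/
noncomputable def toSingleTensor (P : DRing.Cx A) (N : ModuleCat.{u} A) :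
    ((tensorRight N).mapHomologicalComplex (ComplexShape.up ℤ)).obj P ⟶ P ⊗ sgl N where
  f q := (P.X q ◁ (singleObjXSelf (ComplexShape.up ℤ) 0 N).inv) ≫
    ιTensorObj P (sgl N) q 0 q (add_zero q)
  comm' q q' hq := by
    change q + 1 = q' at hq
    refine hom_ext_EA fun φ => ModuleCat.hom_ext (TensorProduct.ext' fun x m => ?_)
    simp only [Category.assoc]
    show cmp P (sgl N) ((P ⊗ sgl N).d q q' ≫ φ) q 0 (add_zero q) x
        ((singleObjXSelf (ComplexShape.up ℤ) 0 N).inv.hom m) =
      cmp P (sgl N) φ q' 0 (add_zero q') ((P.d q q').hom x)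
        ((singleObjXSelf (ComplexShape.up ℤ) 0 N).inv.hom m)
    rw [cmp_d P (sgl N) hq φ q q' 0 1 hq rfl (add_zero q), single_obj_d]
    simp

instance isIso_toSingleTensor (P : DRing.Cx A) (N : ModuleCat.{u} A) : IsIso (toSingleTensor P N) := by
  haveI : ∀ q, IsIso ((toSingleTensor P N).f q) := fun q => by
    refine isIso_of_functionals _ (fun φ => ?_) (fun φ hφ => ?_)
    · let g : ∀ p r : ℤ, p + r = q → (P.X p →ₗ[A] (sgl N).X r →ₗ[A] CharacterModule A) := fun p r h =>
        if hr : r = 0 then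
          (LinearMap.lcomp A (CharacterModule A)
            (singleObjXIsoOfEq (ComplexShape.up ℤ) 0 N r hr).hom.hom) ∘ₗ TensorProduct.curry φ.hom ∘ₗ
              (P.XIsoOfEq (show p = q by omega)).hom.hom
        else 0
      refine ⟨mkφ P (sgl N) g, ModuleCat.hom_ext (TensorProduct.ext' fun x m => ?_)⟩
      show cmp P (sgl N) (mkφ P (sgl N) g) q 0 (add_zero q) x
        ((singleObjXSelf (ComplexShape.up ℤ) 0 N).inv.hom m) = φ.hom (x ⊗ₜ[A] m)
      rw [cmp_mkφ]
      simp only [g, dif_pos]
      show φ.hom ((P.XIsoOfEq (show q = q from rfl)).hom.hom x ⊗ₜ[A]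
        ((singleObjXSelf (ComplexShape.up ℤ) 0 N).inv ≫ (singleObjXSelf (ComplexShape.up ℤ) 0 N).hom).hom m) = _
      rw [Iso.inv_hom_id, XIsoOfEq_rfl]
      rfl
    · refine cmp_ext P (sgl N) fun p r h => ?_
      rw [cmp_zero]
      refine LinearMap.ext fun x => LinearMap.ext fun m => ?_
      by_cases hr : r = 0
      · subst hr
        obtain rfl : p = q := by omega
        obtain ⟨m', rfl⟩ : ∃ m', (singleObjXSelf (ComplexShape.up ℤ) 0 N).inv.hom m' = m :=
          ((isIso_iff_bijective _).1 inferInstance).2 m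
        exact LinearMap.congr_fun (congrArg ModuleCat.Hom.hom hφ) (x ⊗ₜ[A] m')
      · haveI : Subsingleton ((sgl N).X r) :=
          ModuleCat.subsingleton_of_isZero (isZero_single_obj_X _ _ _ _ hr)
        rw [Subsingleton.elim m 0, map_zero, map_zero]
  exact HomologicalComplex.Hom.isIso_of_components _

theorem toSingleTensor_naturality (f : P ⟶ P') (N : ModuleCat.{u} A) :
    ((tensorRight N).mapHomologicalComplex (ComplexShape.up ℤ)).map f ≫ toSingleTensor P' N =
      toSingleTensor P N ≫ (f ▷ sgl N) := by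
  refine HomologicalComplex.hom_ext _ _ fun q => hom_ext_EA fun φ =>
    ModuleCat.hom_ext (TensorProduct.ext' fun x m => ?_)
  show cmp P' (sgl N) φ q 0 (add_zero q) ((f.f q).hom x)
      ((singleObjXSelf (ComplexShape.up ℤ) 0 N).inv.hom m) =
    cmp P (sgl N) ((f ▷ sgl N).f q ≫ φ) q 0 (add_zero q) x
      ((singleObjXSelf (ComplexShape.up ℤ) 0 N).inv.hom m)
  rw [cmp_whiskerRight]
  rfl

/-- Tensoring a quasi-isomorphism between K-flat complexes with a module. -/
theorem quasiIso_tensorRight_of_kflat (hP : DRing.IsKFlat A P) (hP' : DRing.IsKFlat A P')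
    (f : P ⟶ P') [QuasiIso f] (N : ModuleCat.{u} A) :
    QuasiIso (((tensorRight N).mapHomologicalComplex (ComplexShape.up ℤ)).map f) := by
  haveI := quasiIso_whiskerRight_of_kflat hP hP' f (sgl N)
  haveI : IsIso (toSingleTensor P N) := inferInstance
  haveI : QuasiIso (((tensorRight N).mapHomologicalComplex (ComplexShape.up ℤ)).map f ≫
      toSingleTensor P' N) := by
    rw [toSingleTensor_naturality]
    exact quasiIso_comp (φ := (toSingleTensor P N)) (φ' := f ▷ sgl N)
  exact (quasiIso_iff_comp_right (((tensorRight N).mapHomologicalComplex (ComplexShape.up ℤ)).map f)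
    (toSingleTensor P' N)).1 this

variable {B : Type u} [CommRing B] (ψ : A →+* B)

/-- `B` as an `A`-module via `ψ`. -/
noncomputable abbrev resB : ModuleCat.{u} A :=
  (ModuleCat.restrictScalars ψ).obj (ModuleCat.of B B)

section

variable [Algebra A B] {M N : Type u} [AddCommGroup M] [Module A M] [AddCommGroup N] [Module A N]

theorem commLinear' (a : A) (z : B ⊗[A] M) :
    TensorProduct.comm A B M ((algebraMap A B a) • z) = a • TensorProduct.comm A B M z := by
  rw [algebraMap_smul, map_smul]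

theorem commNat' (f : M →ₗ[A] N) (z : B ⊗[A] M) :
    TensorProduct.comm A B N (f.lTensor B z) = f.rTensor B (TensorProduct.comm A B M z) := by
  induction z using TensorProduct.induction_on with
  | zero => simp
  | tmul b m => rfl
  | add u v hu hv => simp only [map_add, hu, hv]

end

/-- Underlying `A`-linear functor of extension of scalars. -/
noncomputable def extendRestrictIso :
    ModuleCat.extendScalars.{u, u, u} ψ ⋙ ModuleCat.restrictScalars ψ ≅ tensorRight (resB ψ) :=
  letI := ψ.toAlgebra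
  NatIso.ofComponents
    (fun M => (({ TensorProduct.comm A (resB ψ) M with
        map_smul' := fun a z => (letI := ψ.toAlgebra; commLinear' (B := B) (M := M) a z) } :
        ((ModuleCat.extendScalars.{u, u, u} ψ ⋙ ModuleCat.restrictScalars ψ).obj M) ≃ₗ[A]
          ((tensorRight (resB ψ)).obj M))).toModuleIso)
    (fun {M N} f => ModuleCat.hom_ext (LinearMap.ext fun z => (letI := ψ.toAlgebra; commNat' (B := B) f.hom z)))

/-- Base change of a quasi-isomorphism between K-flat complexes. -/
theorem quasiIso_extendScalars_of_kflat (hP : DRing.IsKFlat A P) (hP' : DRing.IsKFlat A P')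
    (f : P ⟶ P') [QuasiIso f] :
    QuasiIso (((ModuleCat.extendScalars.{u, u, u} ψ).mapHomologicalComplex (ComplexShape.up ℤ)).map f) := by
  haveI := quasiIso_tensorRight_of_kflat hP hP' f (resB ψ)
  let τ := NatIso.mapHomologicalComplex (extendRestrictIso ψ) (ComplexShape.up ℤ)
  haveI : QuasiIso (((ModuleCat.extendScalars.{u, u, u} ψ ⋙ ModuleCat.restrictScalars ψ).mapHomologicalComplex
      (ComplexShape.up ℤ)).map f) :=
    quasiIso_of_arrow_mk_iso (((tensorRight (resB ψ)).mapHomologicalComplex (ComplexShape.up ℤ)).map f) _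
      (Arrow.isoMk (τ.app P).symm (τ.app P').symm (τ.inv.naturality f).symm)
  exact (quasiIso_map_iff_of_preservesHomology _ (ModuleCat.restrictScalars ψ)).1 this

end Groth.Agent.DR39
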