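import Groth.Agent.DR39.Hom
import Groth.Agent.DR39.TensorSymm
import Groth.Prelude.Def_DRing4
import Mathlib.Algebra.Homology.BifunctorHomotopy
import Mathlib.CategoryTheory.Functor.Derived.LeftDerived

/-! Computation of the derived tensor products and base change on K-flat complexes. -/

set_option autoImplicit false
set_option linter.style.haveILetI false
set_option linter.unusedSectionVars false

universe u

open CategoryTheory CategoryTheory.Limits MonoidalCategory

namespace Groth.Agent.DR39

section Generic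

variable {C D E : Type*} [Category C] [Category D] [Category E] {L : C ⥤ D} {F : C ⥤ E}

/-- A class of objects adapted to the left derivation of `F`. -/
structure Deformation (L : C ⥤ D) (F : C ⥤ E) where
  cls : C → Prop
  res : ∀ X, ∃ (P : C) (p : P ⟶ X), cls P ∧ IsIso (L.map p)
  surj : ∀ P X, cls P → Function.Surjective (L.map : (P ⟶ X) → _)
  inj : ∀ P X, cls P → ∀ f g : P ⟶ X, L.map f = L.map g → F.map f = F.map g

variable (W : MorphismProperty C) [L.IsLocalization W] (dd : Deformation L F)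
include W

theorem Deformation.exists_rep (Y : D) : ∃ (P : C), dd.cls P ∧ Nonempty (L.obj P ≅ Y) := by
  haveI := Localization.essSurj L W
  obtain ⟨P, p, hP, hp⟩ := dd.res (L.objPreimage Y)
  exact ⟨P, hP, ⟨asIso (L.map p) ≪≫ L.objObjPreimageIso Y⟩⟩

theorem Deformation.isIso_counit {RF : D ⥤ E} (α : L ⋙ RF ⟶ F) [RF.IsLeftDerivedFunctor α W]
    {X : C} (hX : dd.cls X) : IsIso (α.app X) := by
  choose P hP e' using dd.exists_rep W
  let e : ∀ Y, L.obj (P Y) ≅ Y := fun Y => (e' Y).some
  choose lift hlift using fun (Q : C) (Z : C) (hQ : dd.cls Q) (u : L.obj Q ⟶ L.obj Z) => dd.surj Q Z hQ u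
  let G : D ⥤ E :=
    { obj := fun Y => F.obj (P Y)
      map := fun {Y Y'} u => F.map (lift (P Y) (P Y') (hP Y) ((e Y).hom ≫ u ≫ (e Y').inv))
      map_id := fun Y => by
        rw [← F.map_id]
        exact dd.inj _ _ (hP Y) _ _ (by simp [hlift])
      map_comp := fun {Y Y' Y''} u v => by
        rw [← F.map_comp]
        exact dd.inj _ _ (hP Y) _ _ (by simp [hlift]) }
  let a : L ⋙ G ⟶ F :=
    { app := fun Z => F.map (lift (P (L.obj Z)) Z (hP _) (e (L.obj Z)).hom)
      naturality := fun Z Z' f => by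
        show F.map _ ≫ F.map _ = F.map _ ≫ F.map f
        rw [← F.map_comp, ← F.map_comp]
        exact dd.inj _ _ (hP _) _ _ (by simp [hlift]) }
  let γ : G ⟶ RF := RF.leftDerivedLift α W G a
  have hγ : ∀ Z, γ.app (L.obj Z) ≫ α.app Z = a.app Z := fun Z => RF.leftDerived_fac_app α W G a Z
  let δ : RF ⟶ G :=
    { app := fun Y => RF.map (e Y).inv ≫ α.app (P Y)
      naturality := fun Y Y' u => by
        show RF.map u ≫ RF.map _ ≫ α.app (P Y') = (RF.map _ ≫ α.app (P Y)) ≫ F.map _
        rw [Category.assoc, ← α.naturality, Functor.comp_map, hlift, ← RF.map_comp_assoc,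
          ← RF.map_comp_assoc]
        simp }
  have hδ : ∀ Z, δ.app (L.obj Z) ≫ a.app Z = α.app Z := fun Z => by
    show (RF.map _ ≫ α.app _) ≫ F.map _ = _
    rw [Category.assoc, ← α.naturality, Functor.comp_map, hlift, ← RF.map_comp_assoc]
    simp
  have h1 : δ ≫ γ = 𝟙 RF := by
    refine RF.leftDerived_ext α W RF _ _ (NatTrans.ext (funext fun Z => ?_))
    show (δ.app (L.obj Z) ≫ γ.app (L.obj Z)) ≫ α.app Z = 𝟙 _ ≫ α.app Z
    rw [Category.assoc, hγ, hδ, Category.id_comp]
  have h2 : γ ≫ δ = 𝟙 G := by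
    refine NatTrans.ext (funext fun Y => ?_)
    show γ.app Y ≫ RF.map (e Y).inv ≫ α.app (P Y) = 𝟙 (F.obj (P Y))
    rw [← γ.naturality_assoc, hγ]
    show F.map _ ≫ F.map _ = _
    rw [← F.map_comp, ← F.map_id]
    exact dd.inj _ _ (hP Y) _ _ (by simp [hlift])
  haveI : IsIso (δ.app (L.obj X)) :=
    ⟨γ.app (L.obj X), congrArg (fun t : RF ⟶ RF => t.app (L.obj X)) h1,
      congrArg (fun t : G ⟶ G => t.app (L.obj X)) h2⟩
  haveI : IsIso (a.app X) := by
    refine ⟨F.map (lift X (P (L.obj X)) hX (e (L.obj X)).inv), ?_, ?_⟩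
    · show F.map _ ≫ F.map _ = 𝟙 (F.obj (P (L.obj X)))
      rw [← F.map_comp, ← F.map_id]
      exact dd.inj _ _ (hP _) _ _ (by simp [hlift])
    · show F.map _ ≫ F.map _ = 𝟙 (F.obj X)
      rw [← F.map_comp, ← F.map_id]
      exact dd.inj _ _ hX _ _ (by simp [hlift])
  rw [← hδ X]
  infer_instance

end Generic

attribute [local instance] HasDerivedCategory.standard

variable {A : Type u} [CommRing A]

/-- K-projective complexes are adapted for `- ⊗ E`. -/
noncomputable def tensorCxDeformation (E : DRing.Cx A) :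
    Deformation (DerivedCategory.Q (C := ModuleCat.{u} A)) (DRing.tensorCxQ A E) where
  cls P := P.IsKProjective
  res X := ⟨SF.res X, SF.aug X, inferInstance,
    (DerivedCategory.isIso_Q_map_iff_quasiIso (ModuleCat.{u} A) _).2 inferInstance⟩
  surj P X hP := by
    haveI := hP
    exact Q_map_surjective P X
  inj P X hP f g h := by
    haveI := hP
    obtain ⟨H⟩ := (Q_map_eq_iff f g).1 h
    exact DerivedCategory.Q_map_eq_of_homotopy (C := ModuleCat.{u} A)
      (HomologicalComplex.mapBifunctorMapHomotopy₁ H (𝟙 E) (curriedTensor (ModuleCat.{u} A))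
        (ComplexShape.up ℤ))

/-- The counit of `- ⊗^L E`. -/
noncomputable abbrev tensorCxCounit (E : DRing.Cx A) [DRing.HasLTensorCx A E] :
    DerivedCategory.Q ⋙ DRing.LTensorCx A E ⟶ DRing.tensorCxQ A E :=
  (DRing.tensorCxQ A E).totalLeftDerivedCounit DerivedCategory.Q
    (HomologicalComplex.quasiIso (ModuleCat.{u} A) (ComplexShape.up ℤ))

theorem isIso_tensorCxCounit (E : DRing.Cx A) [DRing.HasLTensorCx A E] (P : DRing.Cx A)
    (hP : DRing.IsKFlat A P) : IsIso ((tensorCxCounit E).app P) := by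
  haveI : IsIso ((tensorCxCounit E).app (SF.res P)) :=
    (tensorCxDeformation E).isIso_counit (HomologicalComplex.quasiIso _ _) (tensorCxCounit E)
      (X := SF.res P) (SF.isKProjective_res P)
  haveI := quasiIso_whiskerRight_of_kflat (isKFlat_of_isKProjective (P := SF.res P)) hP (SF.aug P) E
  haveI : IsIso ((DRing.tensorCxQ A E).map (SF.aug P)) :=
    (DerivedCategory.isIso_Q_map_iff_quasiIso (ModuleCat.{u} A) (SF.aug P ▷ E)).2 inferInstance
  haveI : IsIso ((DerivedCategory.Q ⋙ DRing.LTensorCx A E).map (SF.aug P)) := by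
    haveI := (DerivedCategory.isIso_Q_map_iff_quasiIso (ModuleCat.{u} A) (SF.aug P)).2 inferInstance
    exact Functor.map_isIso _ (DerivedCategory.Q.map (SF.aug P))
  exact IsIso.of_isIso_fac_left ((tensorCxCounit E).naturality (SF.aug P))

/-- `P ⊗^L E` for K-flat `P`. -/
noncomputable def LTensorCxIso (E : DRing.Cx A) [DRing.HasLTensorCx A E] (P : DRing.Cx A)
    (hP : DRing.IsKFlat A P) :
    (DRing.LTensorCx A E).obj (DerivedCategory.Q.obj P) ≅ DerivedCategory.Q.obj (P ⊗ E) :=
  haveI := isIso_tensorCxCounit E P hP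
  asIso ((tensorCxCounit E).app P)

section Qh

variable {B : Type u} [CommRing B] (F : ModuleCat.{u} A ⥤ ModuleCat.{u} B) [F.Additive]

/-- The functor `K(A) ⥤ D(B)` induced by an additive functor. -/
noncomputable abbrev FKh : HomotopyCategory (ModuleCat.{u} A) (ComplexShape.up ℤ) ⥤ Dual.D B :=
  F.mapHomotopyCategory (ComplexShape.up ℤ) ⋙ DerivedCategory.Qh

/-- Images of K-projective complexes are adapted. -/
noncomputable def khDeformation :
    Deformation (DerivedCategory.Qh (C := ModuleCat.{u} A)) (FKh F) where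
  cls X := ∃ P : DRing.Cx A, P.IsKProjective ∧ (HomotopyCategory.quotient _ _).obj P = X
  res X := by
    obtain ⟨K, rfl⟩ := X.quotient_obj_surjective
    refine ⟨_, (HomotopyCategory.quotient _ _).map (SF.aug K), ⟨_, SF.isKProjective_res K, rfl⟩, ?_⟩
    rw [DerivedCategory.isIso_Qh_map_iff, HomotopyCategory.quotient_map_mem_quasiIso_iff]
    exact SF.quasiIso_aug K
  surj Q X hQ := by
    obtain ⟨P, hP, rfl⟩ := hQ
    exact (CochainComplex.IsKProjective.Qh_map_bijective P X).2
  inj Q X hQ f g h := by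
    obtain ⟨P, hP, rfl⟩ := hQ
    rw [(CochainComplex.IsKProjective.Qh_map_bijective P X).1 h]

variable [(FKh F).HasLeftDerivedFunctor (HomotopyCategory.quasiIso (ModuleCat.{u} A) (ComplexShape.up ℤ))]

/-- The total left derived functor of an additive functor. -/
noncomputable abbrev LF : Dual.D A ⥤ Dual.D B :=
  (FKh F).totalLeftDerived DerivedCategory.Qh (HomotopyCategory.quasiIso (ModuleCat.{u} A) (ComplexShape.up ℤ))

/-- The canonical map `LF(Q P) → Q(F P)`. -/
noncomputable def LFapp (P : DRing.Cx A) :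
    (LF F).obj (DerivedCategory.Q.obj P) ⟶
      DerivedCategory.Q.obj ((F.mapHomologicalComplex (ComplexShape.up ℤ)).obj P) :=
  (LF F).map ((DerivedCategory.quotientCompQhIso (ModuleCat.{u} A)).inv.app P) ≫
    ((FKh F).totalLeftDerivedCounit DerivedCategory.Qh
      (HomotopyCategory.quasiIso (ModuleCat.{u} A) (ComplexShape.up ℤ))).app
        ((HomotopyCategory.quotient _ _).obj P) ≫
    DerivedCategory.Qh.map ((F.mapHomotopyCategoryFactors (ComplexShape.up ℤ)).hom.app P) ≫
    (DerivedCategory.quotientCompQhIso (ModuleCat.{u} B)).hom.app _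

theorem LFapp_naturality {P Q : DRing.Cx A} (f : P ⟶ Q) :
    (LF F).map (DerivedCategory.Q.map f) ≫ LFapp F Q =
      LFapp F P ≫ DerivedCategory.Q.map ((F.mapHomologicalComplex (ComplexShape.up ℤ)).map f) := by
  have h1 := (DerivedCategory.quotientCompQhIso (ModuleCat.{u} A)).inv.naturality f
  have h2 := ((FKh F).totalLeftDerivedCounit DerivedCategory.Qh
    (HomotopyCategory.quasiIso (ModuleCat.{u} A) (ComplexShape.up ℤ))).naturality
    ((HomotopyCategory.quotient _ _).map f)
  have h3 := (F.mapHomotopyCategoryFactors (ComplexShape.up ℤ)).hom.naturality f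
  have h4 := (DerivedCategory.quotientCompQhIso (ModuleCat.{u} B)).hom.naturality
    ((F.mapHomologicalComplex (ComplexShape.up ℤ)).map f)
  simp only [Functor.comp_map] at h1 h2 h3 h4
  simp only [LFapp, Category.assoc]
  rw [← Functor.map_comp_assoc, h1, Functor.map_comp_assoc, reassoc_of% h2,
    ← Functor.map_comp_assoc DerivedCategory.Qh, h3, Functor.map_comp_assoc, h4]

theorem isIso_LFapp_of_isKProjective (P : DRing.Cx A) [P.IsKProjective] : IsIso (LFapp F P) := by
  haveI := (khDeformation F).isIso_counit (HomotopyCategory.quasiIso (ModuleCat.{u} A) (ComplexShape.up ℤ))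
    ((FKh F).totalLeftDerivedCounit DerivedCategory.Qh
      (HomotopyCategory.quasiIso (ModuleCat.{u} A) (ComplexShape.up ℤ)))
    (X := (HomotopyCategory.quotient _ _).obj P) ⟨P, inferInstance, rfl⟩
  unfold LFapp
  infer_instance

theorem isIso_LFapp (P : DRing.Cx A)
    (h : QuasiIso ((F.mapHomologicalComplex (ComplexShape.up ℤ)).map (SF.aug P))) :
    IsIso (LFapp F P) := by
  haveI := isIso_LFapp_of_isKProjective F (SF.res P)
  haveI := (DerivedCategory.isIso_Q_map_iff_quasiIso (ModuleCat.{u} A) (SF.aug P)).2 inferInstance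
  haveI := (DerivedCategory.isIso_Q_map_iff_quasiIso (ModuleCat.{u} B) _).2 h
  exact IsIso.of_isIso_fac_left (LFapp_naturality F (SF.aug P))

end Qh

section Concrete

variable {B : Type u} [CommRing B]

/-- `P ⊗^L M` for K-flat `P`. -/
noncomputable def LTensorIso (M : ModuleCat.{u} A) [DRing.HasLTensor A M] (P : DRing.Cx A)
    (hP : DRing.IsKFlat A P) :
    (DRing.LTensor A M).obj (DerivedCategory.Q.obj P) ≅ DerivedCategory.Q.obj (DRing.tensorCx P M) :=
  @asIso _ _ _ _ (LFapp (tensorRight M) P) (isIso_LFapp (tensorRight M) P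
    (quasiIso_tensorRight_of_kflat (isKFlat_of_isKProjective (P := SF.res P)) hP (SF.aug P) M))

/-- `P ⊗^L B` for K-flat `P`. -/
noncomputable def LBaseChangeIso (φ : A →+* B) [DRing.HasLBaseChange φ] (P : DRing.Cx A)
    (hP : DRing.IsKFlat A P) :
    (DRing.LBaseChange φ).obj (DerivedCategory.Q.obj P) ≅
      DerivedCategory.Q.obj (((ModuleCat.extendScalars φ).mapHomologicalComplex (ComplexShape.up ℤ)).obj P) :=
  haveI := isIso_LFapp (ModuleCat.extendScalars.{u, u, u} φ) P
    (quasiIso_extendScalars_of_kflat φ (isKFlat_of_isKProjective (P := SF.res P)) hP (SF.aug P))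
  asIso (LFapp (ModuleCat.extendScalars.{u, u, u} φ) P)

/-- Restriction of scalars of the class of a complex. -/
noncomputable def restrictDIso (φ : A →+* B) (P : DRing.Cx B) :
    (DRing.restrictD φ).obj (DerivedCategory.Q.obj P) ≅ DerivedCategory.Q.obj ((DRing.restrictCx φ).obj P) :=
  (ModuleCat.restrictScalars.{u} φ).mapDerivedCategoryFactors.app P

end Concrete

end Groth.Agent.DR39
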