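import Groth.Agent.DR39.Perf
import Groth.Agent.DR39.Derived
import Mathlib.Data.Int.Interval

/-! Derived tensor products of bounded above complexes of finite projectives. -/

set_option autoImplicit false
set_option linter.style.haveILetI false
set_option linter.unusedSectionVars false

universe u

open CategoryTheory CategoryTheory.Limits MonoidalCategory HomologicalComplex

attribute [local instance] HasDerivedCategory.standard

namespace Groth.Agent.DR39

variable {A : Type u} [CommRing A]

theorem tensor_FP (E F : DRing.Cx A) (b c : ℤ) (hb : DRing.VanishesAbove E b)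
    (hc : DRing.VanishesAbove F c) (hE : ∀ i, FPp (E.X i)) (hF : ∀ i, FPp (F.X i)) (n : ℤ) :
    FPp ((E ⊗ F).X n) := by
  haveI : ∀ p : Finset.Icc (n - c) b, Module.Finite A (E.X p.1 ⊗ F.X (n - p.1) : ModuleCat.{u} A) := fun p => by
    haveI := (hE p.1).1; haveI := (hF (n - p.1)).1
    exact inferInstanceAs (Module.Finite A (TensorProduct A _ _))
  haveI : ∀ p : Finset.Icc (n - c) b, Module.Projective A (E.X p.1 ⊗ F.X (n - p.1) : ModuleCat.{u} A) := fun p => by
    haveI := (hE p.1).2; haveI := (hF (n - p.1)).2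
    exact inferInstanceAs (Module.Projective A (TensorProduct A _ _))
  let s : (∀ p : Finset.Icc (n - c) b, (E.X p.1 ⊗ F.X (n - p.1) : ModuleCat.{u} A)) →ₗ[A] (E ⊗ F).X n :=
    ∑ p : Finset.Icc (n - c) b, (ιTensorObj E F p.1 (n - p.1) n (by omega)).hom ∘ₗ LinearMap.proj p
  let i : (E ⊗ F).X n ⟶ ModuleCat.of A (∀ p : Finset.Icc (n - c) b, (E.X p.1 ⊗ F.X (n - p.1) : ModuleCat.{u} A)) :=
    mapBifunctorDesc fun p q h => if hp : p ∈ Finset.Icc (n - c) b then
      (E.X p ◁ (F.XIsoOfEq (show q = n - p by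
        change p + q = n at h; omega)).hom) ≫
        ModuleCat.ofHom (LinearMap.single A (fun p : Finset.Icc (n - c) b => ↑(E.X p.1 ⊗ F.X (n - p.1) : ModuleCat.{u} A)) (⟨p, hp⟩ : Finset.Icc (n - c) b)) else 0
  have hsi : i ≫ ModuleCat.ofHom s = 𝟙 _ := by
    apply mapBifunctor.hom_ext
    intro p q h
    change p + q = n at h
    obtain rfl : q = n - p := by omega
    refine Eq.trans ?_ (Category.comp_id _).symm
    rw [← Category.assoc]
    erw [ι_mapBifunctorDesc]
    by_cases hp : p ∈ Finset.Icc (n - c) b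
    · rw [dif_pos hp, XIsoOfEq_rfl]
      refine ModuleCat.hom_ext (LinearMap.ext fun x => ?_)
      simp only [Iso.refl_hom, MonoidalCategory.whiskerLeft_id, Category.id_comp, ModuleCat.hom_comp,
        ModuleCat.hom_ofHom, LinearMap.comp_apply, s, LinearMap.sum_apply, LinearMap.proj_apply]
      rw [Finset.sum_eq_single (⟨p, hp⟩ : Finset.Icc (n - c) b) (fun r _ hr => ?_) (fun hh => absurd (Finset.mem_univ _) hh)]
      · simp
      · simp [Pi.single_eq_of_ne hr]
    · rw [dif_neg hp, zero_comp]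
      have hz : IsZero (E.X p) ∨ IsZero (F.X (n - p)) := by
        rw [Finset.mem_Icc] at hp
        by_cases hpb : b < p
        · exact Or.inl (hb p hpb)
        · exact Or.inr (hc _ (by omega))
      refine (IsZero.eq_of_src ?_ _ _)
      rcases hz with hz | hz
      · exact Functor.map_isZero (tensorRight (F.X (n - p))) hz
      · exact Functor.map_isZero (tensorLeft (E.X p)) hz
  have hsi' : s ∘ₗ i.hom = LinearMap.id := congrArg ModuleCat.Hom.hom hsi
  haveI : Module.Projective A (∀ p : Finset.Icc (n - c) b, (E.X p.1 ⊗ F.X (n - p.1) : ModuleCat.{u} A)) :=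
    Module.Projective.of_equiv (DirectSum.linearEquivFunOnFintype A _ _)
  exact ⟨Module.Finite.of_surjective s fun x => ⟨i.hom x, LinearMap.congr_fun hsi' x⟩,
    Module.Projective.of_split i.hom s hsi'⟩

theorem isZero_tensor_X (E F : DRing.Cx A) (n : ℤ)
    (h : ∀ p, IsZero (E.X p) ∨ IsZero (F.X (n - p))) : IsZero ((E ⊗ F).X n) := by
  rw [IsZero.iff_id_eq_zero]
  apply mapBifunctor.hom_ext
  intro p q hpq
  change p + q = n at hpq
  obtain rfl : q = n - p := by omega
  refine IsZero.eq_of_src ?_ _ _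
  rcases h p with hz | hz
  · exact Functor.map_isZero (tensorRight (F.X (n - p))) hz
  · exact Functor.map_isZero (tensorLeft (E.X p)) hz

theorem exists_tensor_rep {K : Dual.D A} {L : DRing.Cx A} [DRing.HasLTensorCx A L]
    {E F : DRing.Cx A} {b c : ℤ} (hb : DRing.VanishesAbove E b) (hc : DRing.VanishesAbove F c)
    (hE : ∀ i, FPp (E.X i)) (hF : ∀ i, FPp (F.X i)) (e : (QA A).obj E ≅ K)
    (e' : (QA A).obj F ≅ DRing.toD L) :
    Nonempty ((QA A).obj (E ⊗ F) ≅ (DRing.LTensorCx A L).obj K) := by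
  haveI := isKProjective_of_bddAbove F c hc fun i => (hF i).2
  have hkE : DRing.IsKFlat A E := isKFlat_of_flat b hb fun i => flat_of_FP (hE i)
  obtain ⟨f, hf⟩ := Q_map_surjective F L e'.hom
  haveI : QuasiIso f := (DerivedCategory.isIso_Q_map_iff_quasiIso (ModuleCat.{u} A) f).1 (by
    rw [hf]; infer_instance)
  haveI := quasiIso_whiskerRight hkE f
  haveI : QuasiIso ((f ▷ E) ≫ symm' L E) := inferInstance
  haveI : QuasiIso (E ◁ f) := by
    have h : QuasiIso (symm' F E ≫ (E ◁ f)) := by rw [← symm'_naturality]; infer_instance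
    exact (quasiIso_iff_comp_left (symm' F E) (E ◁ f)).1 h
  exact ⟨@asIso _ _ _ _ ((QA A).map (E ◁ f))
    ((DerivedCategory.isIso_Q_map_iff_quasiIso (ModuleCat.{u} A) _).2 inferInstance) ≪≫
    (LTensorCxIso L E hkE).symm ≪≫ (DRing.LTensorCx A L).mapIso e⟩

end Groth.Agent.DR39
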