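import Groth.Agent.DR39.ExactFun
import Mathlib.RingTheory.RingHom.Flat
import Mathlib.RingTheory.Flat.FaithfullyFlat.Basic
import Mathlib.RingTheory.Finiteness.Descent
import Mathlib.RingTheory.Localization.Finiteness
import Mathlib.RingTheory.Localization.BaseChange

/-! Flat base change, descent. -/

set_option autoImplicit false
set_option linter.style.haveILetI false
set_option linter.unusedSectionVars false

universe u

open CategoryTheory CategoryTheory.Limits CategoryTheory.Pretriangulated
open scoped TensorProduct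

attribute [local instance] HasDerivedCategory.standard

namespace Groth.Agent.DR39

variable {A : Type u} [CommRing A]

/-- Extension of scalars along an algebra. -/
noncomputable abbrev extA (A B : Type u) [CommRing A] [CommRing B] [Algebra A B] :
    ModuleCat.{u} A ⥤ ModuleCat.{u} B := ModuleCat.extendScalars.{u, u, u} (algebraMap A B)

theorem ext_tensorIso (B : Type u) [CommRing B] [alg : Algebra A B] (M : ModuleCat.{u} A) :
    Nonempty ((extA A B).obj M ≅ ModuleCat.of B (B ⊗[A] M)) := by
  obtain ⟨φ, rfl⟩ : ∃ φ : A →+* B, alg = φ.toAlgebra :=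
    ⟨algebraMap A B, Algebra.algebra_ext _ _ fun _ => rfl⟩
  exact ⟨Iso.refl _⟩

instance preservesFiniteLimits_extA (B : Type u) [CommRing B] [Algebra A B] [Module.Flat A B] :
    PreservesFiniteLimits (extA A B) :=
  preservesFiniteLimits_extendScalars _ (RingHom.flat_algebraMap_iff.2 inferInstance)

instance preservesFiniteColimits_extA (B : Type u) [CommRing B] [Algebra A B] :
    PreservesFiniteColimits (extA A B) := inferInstance

theorem finite_tensor_of_finite_extA (B : Type u) [CommRing B] [Algebra A B] (M : ModuleCat.{u} A)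
    (h : Module.Finite B ((extA A B).obj M)) : Module.Finite B (B ⊗[A] M) := by
  obtain ⟨e⟩ := ext_tensorIso B M
  exact Module.Finite.equiv e.toLinearEquiv

theorem subsingleton_tensor_of_isZero_extA (B : Type u) [CommRing B] [Algebra A B]
    (M : ModuleCat.{u} A) (h : IsZero ((extA A B).obj M)) : Subsingleton (B ⊗[A] M) := by
  obtain ⟨e⟩ := ext_tensorIso B M
  exact ModuleCat.subsingleton_of_isZero (h.of_iso e.symm)

theorem isZero_of_faithfullyFlat (B : Type u) [CommRing B] [Algebra A B] [Module.FaithfullyFlat A B]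
    (M : ModuleCat.{u} A) (h : IsZero ((extA A B).obj M)) : IsZero M := by
  haveI := subsingleton_tensor_of_isZero_extA B M h
  haveI := (Module.FaithfullyFlat.subsingleton_tensorProduct_iff_right A B (N := M)).1 inferInstance
  exact ModuleCat.isZero_of_subsingleton M

theorem finite_of_faithfullyFlat (B : Type u) [CommRing B] [Algebra A B] [Module.FaithfullyFlat A B]
    (M : ModuleCat.{u} A) (h : Module.Finite B ((extA A B).obj M)) : Module.Finite A M :=
  haveI := finite_tensor_of_finite_extA B M h
  Module.Finite.of_finite_tensorProduct_of_faithfullyFlat B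

theorem isZero_of_away {r : ℕ} (f : Fin r → A) (hf : Ideal.span (Set.range f) = ⊤)
    (M : ModuleCat.{u} A) (h : ∀ i, IsZero ((extA A (Localization.Away (f i))).obj M)) :
    IsZero M := by
  suffices hM : Subsingleton M from ModuleCat.isZero_of_subsingleton M
  refine subsingleton_of_forall_eq 0 fun m => ?_
  rw [← Submodule.mem_bot A]
  refine Submodule.mem_of_span_eq_top_of_smul_pow_mem _ (Set.range f) hf m fun x => ?_
  obtain ⟨_, i, rfl⟩ := x
  haveI := subsingleton_tensor_of_isZero_extA (Localization.Away (f i)) M (h i)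
  obtain ⟨⟨_, n, rfl⟩, hn⟩ :=
    (IsLocalizedModule.eq_iff_exists (Submonoid.powers (f i))
      (TensorProduct.mk A (Localization.Away (f i)) M 1)).1
      (Subsingleton.elim ((TensorProduct.mk A (Localization.Away (f i)) M 1) m)
        ((TensorProduct.mk A (Localization.Away (f i)) M 1) 0))
  exact ⟨n, by simpa [Submonoid.smul_def] using hn⟩

theorem finite_of_away {r : ℕ} (f : Fin r → A) (hf : Ideal.span (Set.range f) = ⊤)
    (M : ModuleCat.{u} A) (h : ∀ i, Module.Finite (Localization.Away (f i))
      ((extA A (Localization.Away (f i))).obj M)) : Module.Finite A M := by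
  refine Module.Finite.of_localizationSpan' (Set.range f) hf
    (Rₚ := fun g => Localization.Away g.1) (Mₚ := fun g => Localization.Away g.1 ⊗[A] M)
    (fun g => TensorProduct.mk A (Localization.Away g.1) M 1) fun g => ?_
  obtain ⟨_, i, rfl⟩ := g
  exact finite_tensor_of_finite_extA _ M (h i)

section Distrib

variable {B : Type u} [CommRing B] (φ : A →+* B)

/-- `B ⊗ (E ⊗ M) = (B ⊗ E) ⊗ (B ⊗ M)`. -/
noncomputable def distribX (X M : ModuleCat.{u} A) :
    (ModuleCat.extendScalars.{u, u, u} φ).obj (ModuleCat.of A (X ⊗[A] M)) ≅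
      ModuleCat.of B (((ModuleCat.extendScalars.{u, u, u} φ).obj X) ⊗[B]
        ((ModuleCat.extendScalars.{u, u, u} φ).obj M)) :=
  letI := φ.toAlgebra
  LinearEquiv.toModuleIso (TensorProduct.AlgebraTensorModule.distribBaseChange A B X M)

theorem distribX_natural {X Y : ModuleCat.{u} A} (g : X ⟶ Y) (M : ModuleCat.{u} A) :
    (distribX φ X M).hom ≫ ModuleCat.ofHom
        (((ModuleCat.extendScalars.{u, u, u} φ).map g).hom.rTensor
          ((ModuleCat.extendScalars.{u, u, u} φ).obj M)) =
      (ModuleCat.extendScalars.{u, u, u} φ).map (ModuleCat.ofHom (g.hom.rTensor M)) ≫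
        (distribX φ Y M).hom := by
  letI := φ.toAlgebra
  refine ModuleCat.hom_ext (LinearMap.ext fun z => ?_)
  change B ⊗[A] (X ⊗[A] M) at z
  change (g.hom.baseChange B).rTensor (B ⊗[A] M)
      (TensorProduct.AlgebraTensorModule.distribBaseChange A B X M z) =
    TensorProduct.AlgebraTensorModule.distribBaseChange A B Y M
      ((g.hom.rTensor M).baseChange B z)
  induction z using TensorProduct.induction_on with
  | zero => simp
  | add x y hx hy => simp only [map_add, hx, hy]
  | tmul b w =>
    induction w using TensorProduct.induction_on with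
    | zero => simp
    | add x y hx hy => simp only [TensorProduct.tmul_add, map_add, hx, hy]
    | tmul x m => simp

/-- Base change of a tensor product complex. -/
noncomputable def distribCx (E : DRing.Cx A) (M : ModuleCat.{u} A) :
    ((ModuleCat.extendScalars.{u, u, u} φ).mapHomologicalComplex (ComplexShape.up ℤ)).obj
        (DRing.tensorCx E M) ≅
      DRing.tensorCx (((ModuleCat.extendScalars.{u, u, u} φ).mapHomologicalComplex
        (ComplexShape.up ℤ)).obj E) ((ModuleCat.extendScalars.{u, u, u} φ).obj M) :=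
  HomologicalComplex.Hom.isoOfComponents (fun i => distribX φ (E.X i) M)
    fun i j _ => distribX_natural φ (E.d i j) M

end Distrib

/-- Descent of tor amplitude along a family of flat algebras jointly detecting zero. -/
theorem ta_descent {ι : Type*} {B : ι → Type u} [∀ i, CommRing (B i)] [∀ i, Algebra A (B i)]
    [∀ i, Module.Flat A (B i)]
    (hz : ∀ M : ModuleCat.{u} A, (∀ i, IsZero ((extA A (B i)).obj M)) → IsZero M)
    {X : Dual.D A} {a b : ℤ} (h : ∀ i, TA a b ((DF (extA A (B i))).obj X)) : TA a b X := by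
  have hX : Acyc (b + 1) X := fun j hj => hz _ fun i => by
    obtain ⟨e⟩ := HF_DF (extA A (B i)) X j
    exact ((h i).acyc j hj).of_iso e.symm
  obtain ⟨E, hEv, hE, ⟨e⟩⟩ := rep_free_of_acyc hX
  refine ta_of_lowEx E a b ((vanishesAbove_iff E b).2 hEv) (fun j => flat_of_FR (hE j)) e
    fun M j hj => hz _ fun i => ?_
  let E' := ((extA A (B i)).mapHomologicalComplex (ComplexShape.up ℤ)).obj E
  have hE' : DRing.IsKFlat (B i) E' := isKFlat_of_flat b
    (fun k hk => (extA A (B i)).map_isZero (hEv k fun hm => absurd (Set.mem_Iic.1 hm) (by omega)))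
    fun k => flat_extendScalars _ (flat_of_FR (hE k))
  have := (h i).lowEx hE' ((DFQ (extA A (B i)) E).symm ≪≫ (DF (extA A (B i))).mapIso e)
    ((extA A (B i)).obj M) j hj
  exact (this.of_iso ((HomologicalComplex.homologyFunctor _ _ j).mapIso
    (distribCx (algebraMap A (B i)) E M))).of_iso
      (((DRing.tensorCx E M).sc j).mapHomologyIso (extA A (B i))).symm

/-- Descent of pseudo-coherence along a family of flat algebras. -/
theorem pc_descent {ι : Type*} {B : ι → Type u} [∀ i, CommRing (B i)] [∀ i, Algebra A (B i)]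
    [∀ i, Module.Flat A (B i)]
    (hz : ∀ M : ModuleCat.{u} A, (∀ i, IsZero ((extA A (B i)).obj M)) → IsZero M)
    (hf : ∀ M : ModuleCat.{u} A, (∀ i, Module.Finite (B i) ((extA A (B i)).obj M)) → Module.Finite A M)
    {b : ℤ} {X : Dual.D A} {m : ℤ} (hb : ∀ i, Acyc b ((DF (extA A (B i))).obj X))
    (h : ∀ i, PC m ((DF (extA A (B i))).obj X)) : PC m X := by
  refine pc_reflect_of_rel (Φ := fun n Y => ∀ i, PC n ((DF (extA A (B i))).obj Y))
    (fun n Y hY hn => hf _ fun i => ?_) (fun _ _ _ hnn hn i => (hn i).mono hnn)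
    (fun T hT n h1 h2 i => PC.obj₃ ((DF (extA A (B i))).map_distinguished _ hT)
      (pc_map _ (pc_extendScalars_FF _) (pc_of_bff h1)) (h2 i)) (b := b)
    (fun j hj => hz _ fun i => ?_) h
  · obtain ⟨e⟩ := HF_DF (extA A (B i)) Y n
    haveI := finite_HF_top (hn i) (hY.map (extA A (B i)))
    exact Module.Finite.equiv e.toLinearEquiv
  · obtain ⟨e⟩ := HF_DF (extA A (B i)) X j
    exact (hb i j hj).of_iso e.symm

theorem rep_inD_baseChange {B : Type u} [CommRing B] [Algebra A B] [Module.Flat A B]
    (M : Type u) [AddCommGroup M] [Module A M] :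
    Nonempty ((DF (extA A B)).obj (Dual.inD A M) ≅ Dual.inD B (B ⊗[A] M)) := by
  obtain ⟨e⟩ := ext_tensorIso B (ModuleCat.of A M)
  exact ⟨DFinD (extA A B) (ModuleCat.of A M) ≪≫
    (DerivedCategory.singleFunctor (ModuleCat.{u} B) 0).mapIso e⟩

theorem perfect_map {B : Type u} [CommRing B] [Algebra A B] [Module.Flat A B] {X : Dual.D A}
    (h : DRing.IsPerfect A X) : DRing.IsPerfect B ((DF (extA A B)).obj X) := by
  obtain ⟨a, b, h⟩ := (perfect_iff_rep X).1 h
  exact (perfect_iff_rep _).2 ⟨a, b, h.map _ fun _ hM => fp_extendScalars _ hM⟩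

theorem ta_map {B : Type u} [CommRing B] [Algebra A B] [Module.Flat A B] {X : Dual.D A} {a b : ℤ}
    (h : TA a b X) : TA a b ((DF (extA A B)).obj X) :=
  (ta_iff_rep a b _).2 (((ta_iff_rep a b X).1 h).map _ fun _ hM => flat_extendScalars _ hM)

end Groth.Agent.DR39
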