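import Groth.Agent.DR39.Balance
import Groth.Agent.DR39.BC
import Groth.Agent.DR39.Derived
import Mathlib.LinearAlgebra.FreeModule.Finite.Basic

/-! Restriction of scalars: pseudo-coherence, tor amplitude, perfectness. -/

set_option autoImplicit false
set_option linter.style.haveILetI false
set_option linter.unusedSectionVars false

universe u

open CategoryTheory CategoryTheory.Limits CategoryTheory.Pretriangulated
open scoped TensorProduct

attribute [local instance] HasDerivedCategory.standard

namespace Groth.Agent.DR39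

variable {A : Type u} [CommRing A]

/-- Isomorphic modules give isomorphic objects. -/
noncomputable def inDIso {M N : Type u} [AddCommGroup M] [Module A M] [AddCommGroup N] [Module A N]
    (e : M ≃ₗ[A] N) : Dual.inD A M ≅ Dual.inD A N :=
  (DerivedCategory.singleFunctor (ModuleCat.{u} A) 0).mapIso e.toModuleIso

theorem pc_inD_pi {m : ℤ} (M : Type u) [AddCommGroup M] [Module A M] (h : PC m (Dual.inD A M))
    (k : ℕ) : PC m (Dual.inD A (Fin k → M)) := by
  induction k with
  | zero => exact pc_of_bff (bff_inD_of_free _)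
  | succ k ih =>
    obtain ⟨T, hT, e1, e2, e3⟩ := exists_triangle_of_surjective (A := A) (F := M × (Fin k → M))
      (LinearMap.snd A M (Fin k → M)) LinearMap.snd_surjective
    have e : LinearMap.ker (LinearMap.snd A M (Fin k → M)) ≃ₗ[A] M :=
      (LinearEquiv.ofEq _ _ (LinearMap.range_inl A M (Fin k → M)).symm).trans
        (LinearEquiv.ofInjective _ LinearMap.inl_injective).symm
    have hp : PC m T.obj₂ := PC.obj₂ hT (by rw [e1]; exact h.of_iso (inDIso e).symm) (by rw [e3]; exact ih)
    rw [e2] at hp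
    exact hp.of_iso (inDIso (Fin.consLinearEquiv A (fun _ => M)))

theorem rest_self_iso (B : Type u) [CommRing B] [alg : Algebra A B] :
    Nonempty ((ModuleCat.restrictScalars (algebraMap A B)).obj (ModuleCat.of B B) ≅ ModuleCat.of A B) := by
  obtain ⟨φ, rfl⟩ : ∃ φ : A →+* B, alg = φ.toAlgebra :=
    ⟨algebraMap A B, Algebra.algebra_ext _ _ fun _ => rfl⟩
  exact ⟨Iso.refl _⟩

theorem pc_restrict_FF {B : Type u} [CommRing B] (φ : A →+* B)
    (hB : ∀ n, PC n (Dual.inD A ((ModuleCat.restrictScalars φ).obj (ModuleCat.of B B))))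
    (M : ModuleCat.{u} B) (h : FFp M) (n : ℤ) :
    PC n (Dual.inD A ((ModuleCat.restrictScalars φ).obj M)) := by
  haveI := h.1; haveI := h.2
  rcases subsingleton_or_nontrivial B with hs | hs
  · haveI : Subsingleton M := Module.subsingleton B M
    haveI : Subsingleton (ModuleCat.of A ((ModuleCat.restrictScalars φ).obj M)) := ‹Subsingleton M›
    exact pc_of_bff ⟨0, 0, Rep.of_isZero isModClass_FF (Functor.map_isZero _
      (ModuleCat.isZero_of_subsingleton (ModuleCat.of A ((ModuleCat.restrictScalars φ).obj M))))⟩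
  obtain ⟨k, ⟨b⟩⟩ : ∃ k, Nonempty (Module.Basis (Fin k) B M) :=
    ⟨_, ⟨Module.finBasis B M⟩⟩
  let e : (Fin k → (ModuleCat.restrictScalars φ).obj (ModuleCat.of B B)) ≃ₗ[A]
      (ModuleCat.restrictScalars φ).obj M :=
    { b.equivFun.symm with
      map_smul' := fun a x => b.equivFun.symm.map_smul (φ a) x }
  exact (pc_inD_pi _ (hB n) k).of_iso (inDIso e)

theorem finite_of_finite_restrict {B : Type u} [CommRing B] (φ : A →+* B) (M : ModuleCat.{u} B)
    (h : Module.Finite A ((ModuleCat.restrictScalars φ).obj M)) : Module.Finite B M := by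
  letI := φ.toAlgebra
  letI : Module A M := Module.compHom M φ
  haveI : IsScalarTower A B M := ⟨fun a b m => by
    show (φ a * b) • m = φ a • b • m
    rw [mul_smul]⟩
  haveI : Module.Finite A M := h
  exact Module.Finite.of_restrictScalars_finite A B M

theorem isZero_of_isZero_restrict {B : Type u} [CommRing B] (φ : A →+* B) (M : ModuleCat.{u} B)
    (h : IsZero ((ModuleCat.restrictScalars φ).obj M)) : IsZero M := by
  haveI h' : Subsingleton ((ModuleCat.restrictScalars φ).obj M) := ModuleCat.subsingleton_of_isZero h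
  haveI : Subsingleton M := h'
  exact ModuleCat.isZero_of_subsingleton M

theorem pc_restrict_iff {B : Type u} [CommRing B] (φ : A →+* B)
    (hB : ∀ n, PC n (Dual.inD A ((ModuleCat.restrictScalars φ).obj (ModuleCat.of B B))))
    (K : Dual.D B) (m : ℤ) : PC m K ↔ PC m ((DRing.restrictD φ).obj K) :=
  ⟨pc_map _ (pc_restrict_FF φ hB),
    pc_reflect _ (pc_restrict_FF φ hB) (finite_of_finite_restrict φ) (isZero_of_isZero_restrict φ)⟩

section Flat

variable {B : Type u} [CommRing B] [Algebra A B]

/-- `(B ⊗ X) ⊗_B M = X ⊗ M`. -/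
noncomputable def cancelX (X M : Type u) [AddCommGroup X] [Module A X] [AddCommGroup M] [Module A M]
    [Module B M] [IsScalarTower A B M] : M ⊗[B] (B ⊗[A] X) ≃+ X ⊗[A] M :=
  (TensorProduct.AlgebraTensorModule.cancelBaseChange A B B M X).toAddEquiv.trans
    (TensorProduct.comm A M X).toAddEquiv

theorem cancelX_natural {X Y : Type u} [AddCommGroup X] [Module A X] [AddCommGroup Y] [Module A Y]
    (f : X →ₗ[A] Y) (M : Type u) [AddCommGroup M] [Module A M] [Module B M] [IsScalarTower A B M] :
    (f.rTensor M).toAddMonoidHom.comp (cancelX (B := B) X M).toAddMonoidHom =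
      (cancelX (B := B) Y M).toAddMonoidHom.comp ((f.baseChange B).lTensor M).toAddMonoidHom := by
  refine AddMonoidHom.ext fun z => ?_
  show f.rTensor M (cancelX (B := B) X M z) = cancelX (B := B) Y M ((f.baseChange B).lTensor M z)
  induction z using TensorProduct.induction_on with
  | zero => simp
  | add x y hx hy => simp only [map_add, hx, hy]
  | tmul m w =>
    induction w using TensorProduct.induction_on with
    | zero => simp
    | add x y hx hy => simp only [TensorProduct.tmul_add, map_add, hx, hy]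
    | tmul b x => simp [cancelX]

theorem exT_iff_exact (E : DRing.Cx A) (M : ModuleCat.{u} A) (i : ℤ) :
    ExT E M i ↔ Function.Exact ((E.d (i - 1) i).hom.rTensor M) ((E.d i (i + 1)).hom.rTensor M) := by
  refine ⟨fun h x => ⟨fun hx => h x hx, fun ⟨y, hy⟩ => ?_⟩, fun h x hx => (h x).1 hx⟩
  rw [← hy, ← LinearMap.comp_apply, ← LinearMap.rTensor_comp, ← ModuleCat.hom_comp, E.d_comp_d,
    ModuleCat.hom_zero, LinearMap.rTensor_zero, LinearMap.zero_apply]

theorem exT_of_flat (F : DRing.Cx A) (i : ℤ) (M : Type u) [AddCommGroup M] [Module A M] [Module B M]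
    [IsScalarTower A B M] [Module.Flat B M] (h : ExT F (ModuleCat.of A B) i) :
    ExT F (ModuleCat.of A M) i := by
  rw [exT_iff_exact] at h ⊢
  have hB : Function.Exact ((F.d (i - 1) i).hom.baseChange B) ((F.d i (i + 1)).hom.baseChange B) := by
    refine (Function.Exact.iff_of_ladder_addEquiv (e₁ := (TensorProduct.comm A (F.X (i - 1)) B).toAddEquiv)
      (e₂ := (TensorProduct.comm A (F.X i) B).toAddEquiv)
      (e₃ := (TensorProduct.comm A (F.X (i + 1)) B).toAddEquiv)
      (f₁₂ := ((F.d (i - 1) i).hom.rTensor B).toAddMonoidHom)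
      (f₂₃ := ((F.d i (i + 1)).hom.rTensor B).toAddMonoidHom)
      (g₁₂ := ((F.d (i - 1) i).hom.baseChange B).toAddMonoidHom)
      (g₂₃ := ((F.d i (i + 1)).hom.baseChange B).toAddMonoidHom) ?_ ?_).2 h
    · refine AddMonoidHom.ext fun z => ?_
      induction z using TensorProduct.induction_on with
      | zero => simp
      | tmul x b => simp
      | add x y hx hy => simp only [map_add, hx, hy]
    · refine AddMonoidHom.ext fun z => ?_
      induction z using TensorProduct.induction_on with
      | zero => simp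
      | tmul x b => simp
      | add x y hx hy => simp only [map_add, hx, hy]
  refine (Function.Exact.iff_of_ladder_addEquiv (e₁ := cancelX (B := B) (F.X (i - 1)) M)
    (e₂ := cancelX (B := B) (F.X i) M) (e₃ := cancelX (B := B) (F.X (i + 1)) M)
    (f₁₂ := (((F.d (i - 1) i).hom.baseChange B).lTensor M).toAddMonoidHom)
    (f₂₃ := (((F.d i (i + 1)).hom.baseChange B).lTensor M).toAddMonoidHom)
    (g₁₂ := ((F.d (i - 1) i).hom.rTensor M).toAddMonoidHom)
    (g₂₃ := ((F.d i (i + 1)).hom.rTensor M).toAddMonoidHom) ?_ ?_).2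
      (Module.Flat.lTensor_exact M hB)
  · exact cancelX_natural _ M
  · exact cancelX_natural _ M

end Flat

theorem ta_restrict_flat {B : Type u} [CommRing B] (φ : A →+* B) {a b : ℤ}
    (hB : TA a b (Dual.inD A ((ModuleCat.restrictScalars φ).obj (ModuleCat.of B B))))
    (M : ModuleCat.{u} B) (hM : FLp M) :
    TA a (max b 0) (Dual.inD A ((ModuleCat.restrictScalars φ).obj M)) := by
  have hB' := hB.mono (le_refl a) (le_max_left b 0)
  rw [ta_inD_iff _ _ _ (le_max_right b 0)] at hB' ⊢
  intro N F c hFb hFp eF i hi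
  letI := φ.toAlgebra
  letI : Module A M := Module.compHom M φ
  haveI : IsScalarTower A B M := ⟨fun a b m => by
    show (φ a * b) • m = φ a • b • m
    rw [mul_smul]⟩
  haveI : Module.Flat B M := hM
  rw [isZero_tensorCx_iff]
  have h1 := (isZero_tensorCx_iff _ _ _).1 (hB' N F c hFb hFp eF i hi)
  have h2 : ExT F (ModuleCat.of A B) i := h1
  exact exT_of_flat F i M h2

theorem ta_restrict {B : Type u} [CommRing B] (φ : A →+* B) {p q : ℤ}
    (hB : TA p q (Dual.inD A ((ModuleCat.restrictScalars φ).obj (ModuleCat.of B B))))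
    {K : Dual.D B} {a b : ℤ} (hK : TA a b K) :
    TA (a + p) (b + max q 0) ((DRing.restrictD φ).obj K) := by
  obtain ⟨E, hv, hE, ⟨e⟩⟩ := hK
  refine TA.of_iso (ta_of_terms ((DRing.restrictCx φ).obj E) a b
    (fun i hi => (ModuleCat.restrictScalars φ).map_isZero (hv i hi)) fun i => ?_)
    ((restrictDIso φ E).symm ≪≫ (DRing.restrictD φ).mapIso e)
  by_cases hi : a ≤ i ∧ i ≤ b
  · exact (ta_restrict_flat φ hB _ (hE i)).mono (by omega) (by omega)
  · exact ta_of_isZero _ _ (Functor.map_isZero _
      ((ModuleCat.restrictScalars φ).map_isZero (hv i (by omega))))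

theorem perfect_restrict {B : Type u} [CommRing B] (φ : A →+* B)
    (hB : DRing.IsPerfect A (Dual.inD A ((ModuleCat.restrictScalars φ).obj (ModuleCat.of B B))))
    {K : Dual.D B} (hK : DRing.IsPerfect B K) : DRing.IsPerfect A ((DRing.restrictD φ).obj K) := by
  obtain ⟨hpc, p, q, hta⟩ := (perfect_iff _).1 hB
  obtain ⟨hKpc, a, b, hKta⟩ := (perfect_iff K).1 hK
  exact (perfect_iff _).2 ⟨(pc'_iff_forall_pc _).2 fun n =>
    (pc_restrict_iff φ (fun n => pc_of_pc' hpc n) K n).1 (pc_of_pc' hKpc n),
    _, _, ta_restrict φ hta hKta⟩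

end Groth.Agent.DR39
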