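import Groth.Agent.DR39.Perf
import Mathlib.Algebra.Homology.DerivedCategory.ExactFunctor
import Mathlib.Algebra.Homology.ShortComplex.ExactFunctor
import Mathlib.CategoryTheory.Abelian.Exact
import Mathlib.Algebra.Category.ModuleCat.ChangeOfRings

/-! Exact functors between module categories and pseudo-coherence, tor amplitude. -/

set_option autoImplicit false
set_option linter.style.haveILetI false
set_option linter.unusedSectionVars false

universe u

open CategoryTheory CategoryTheory.Limits CategoryTheory.Pretriangulated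

attribute [local instance] HasDerivedCategory.standard

namespace Groth.Agent.DR39

variable {A B : Type u} [CommRing A] [CommRing B]

section Generic

variable (F : ModuleCat.{u} A ⥤ ModuleCat.{u} B) [F.Additive] [PreservesFiniteLimits F]
  [PreservesFiniteColimits F]

/-- The functor on derived categories. -/
noncomputable abbrev DF : Dual.D A ⥤ Dual.D B := F.mapDerivedCategory

/-- The value on the class of a complex. -/
noncomputable def DFQ (E : DRing.Cx A) :
    (DF F).obj ((QA A).obj E) ≅ (QA B).obj ((F.mapHomologicalComplex (ComplexShape.up ℤ)).obj E) :=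
  F.mapDerivedCategoryFactors.app E

theorem HF_DF (X : Dual.D A) (i : ℤ) :
    Nonempty ((HF B i).obj ((DF F).obj X) ≅ F.obj ((HF A i).obj X)) := by
  obtain ⟨E, ⟨e⟩⟩ := exists_complex_iso X
  exact ⟨(HF B i).mapIso ((DF F).mapIso e.symm ≪≫ DFQ F E) ≪≫ HQIso _ i ≪≫
    (E.sc i).mapHomologyIso F ≪≫ F.mapIso ((HQIso E i).symm ≪≫ (HF A i).mapIso e)⟩

theorem Acyc.map {m : ℤ} {X : Dual.D A} (h : Acyc m X) : Acyc m ((DF F).obj X) := fun i hi => by
  obtain ⟨e⟩ := HF_DF F X i
  exact (F.map_isZero (h i hi)).of_iso e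

theorem isZero_DF_iff_of_faithful (hF : ∀ M, IsZero (F.obj M) → IsZero M) (X : Dual.D A) (i : ℤ) :
    IsZero ((HF B i).obj ((DF F).obj X)) ↔ IsZero ((HF A i).obj X) := by
  obtain ⟨e⟩ := HF_DF F X i
  exact ⟨fun h => hF _ (h.of_iso e.symm), fun h => (F.map_isZero h).of_iso e⟩

theorem Rep.map {P : ModuleCat.{u} A → Prop} {P' : ModuleCat.{u} B → Prop}
    (hPP : ∀ M, P M → P' (F.obj M)) {S : Set ℤ} {X : Dual.D A} (h : Rep P S X) :
    Rep P' S ((DF F).obj X) := by
  obtain ⟨E, h1, h2, ⟨e⟩⟩ := h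
  exact ⟨(F.mapHomologicalComplex (ComplexShape.up ℤ)).obj E, fun i hi => F.map_isZero (h1 i hi),
    fun i => hPP _ (h2 i), ⟨(DFQ F E).symm ≪≫ (DF F).mapIso e⟩⟩

/-- Compatibility with modules in degree `0`. -/
noncomputable def DFinD (M : ModuleCat.{u} A) :
    (DF F).obj (Dual.inD A M) ≅ Dual.inD B (F.obj M) :=
  (F.mapDerivedCategorySingleFunctor 0).app M

theorem pc_map {m : ℤ} {X : Dual.D A} (hF : ∀ M, FFp M → ∀ n, PC n (Dual.inD B (F.obj M)))
    (h : PC m X) : PC m ((DF F).obj X) := by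
  obtain ⟨X', α, ⟨a, b, E, hE, hFF, ⟨e⟩⟩, hα⟩ := (pc_iff m X).1 h
  have h' : PC m ((DF F).obj X') :=
    ((pc_of_terms ((F.mapHomologicalComplex (ComplexShape.up ℤ)).obj E) b
      (fun i hi => F.map_isZero (hE i fun hm => by rw [Set.mem_Icc] at hm; omega))
      fun i _ => hF _ (hFF i) _).of_iso ((DFQ F E).symm ≪≫ (DF F).mapIso e))
  obtain ⟨Z, g, k, hT⟩ := distinguished_cocone_triangle α
  exact PC.obj₂ ((DF F).map_distinguished _ hT) h'
    (pc_of_acyc (((approx_iff_acyc _ hT m).1 hα).map F))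

theorem pc'_map {X : Dual.D A} (hF : ∀ M, FFp M → ∀ n, PC n (Dual.inD B (F.obj M)))
    (h : DRing.IsPseudoCoherent' A X) : DRing.IsPseudoCoherent' B ((DF F).obj X) :=
  (pc'_iff_forall_pc _).2 fun m => pc_map F hF (pc_of_pc' h m)

theorem exists_surjective_on_top {n : ℤ} {X : Dual.D A} (hfin : Module.Finite A ((HF A n).obj X)) :
    ∃ (P : Dual.D A) (α : P ⟶ X), Rep FFp {n} P ∧ Epi ((HF A n).map α) := by
  obtain ⟨E, ⟨e⟩⟩ := exists_complex_iso X
  haveI : Module.Finite A (E.homology n) :=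
    Module.Finite.equiv ((HF A n).mapIso e.symm ≪≫ HQIso E n).toLinearEquiv
  obtain ⟨k, g, hg⟩ := Module.Finite.exists_fin' A (E.homology n)
  obtain ⟨γ, hγ⟩ := Module.projective_lifting_property (hcls E n) g (hcls_surjective E n)
  let P := (HomologicalComplex.single (ModuleCat.{u} A) (ComplexShape.up ℤ) n).obj
    (ModuleCat.of A (Fin k → A))
  let φ : P ⟶ E := HomologicalComplex.mkHomFromSingle (ModuleCat.ofHom ((Zd E n).subtype ∘ₗ γ))
    fun j hj => by
      change n + 1 = j at hj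
      subst hj
      exact ModuleCat.hom_ext (LinearMap.ext fun x => (γ x).2)
  refine ⟨(QA A).obj P, (QA A).map φ ≫ e.hom,
    Rep.single isModClass_FF n ⟨inferInstance, inferInstance⟩, ?_⟩
  rw [Functor.map_comp]
  haveI : Epi ((HF A n).map ((QA A).map φ)) := by
    rw [epi_HF_Q_map_iff, surjective_homologyMap_iff]
    intro z hz
    obtain ⟨x, hx⟩ := hg (hcls E n ⟨z, hz⟩)
    have h1 : hcls E n (γ x) = hcls E n ⟨z, hz⟩ := (LinearMap.congr_fun hγ x).trans hx
    refine ⟨(HomologicalComplex.singleObjXSelf (ComplexShape.up ℤ) n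
      (ModuleCat.of A (Fin k → A))).inv.hom x, ?_, ?_⟩
    · rw [HomologicalComplex.single_obj_d]; rfl
    · have e2 : (φ.f n).hom ((HomologicalComplex.singleObjXSelf (ComplexShape.up ℤ) n
          (ModuleCat.of A (Fin k → A))).inv.hom x) = (γ x : E.X n) := by
        rw [← LinearMap.comp_apply, ← ModuleCat.hom_comp]
        simp [φ]
      rw [e2]
      exact (hcls_eq_iff E n _ _).1 h1
  exact epi_comp _ _

theorem pc_reflect_of_rel {Φ : ℤ → Dual.D A → Prop}
    (hfin : ∀ (n : ℤ) (X : Dual.D A), Acyc (n + 1) X → Φ n X → Module.Finite A ((HF A n).obj X))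
    (hmono : ∀ (n n' : ℤ) (X : Dual.D A), n ≤ n' → Φ n X → Φ n' X)
    (hcone : ∀ (T : Triangle (Dual.D A)), T ∈ distinguishedTriangles → ∀ n : ℤ,
      BFF T.obj₁ → Φ n T.obj₂ → Φ n T.obj₃)
    {m : ℤ} {X : Dual.D A} {b : ℤ} (hb : Acyc b X) (h : Φ m X) : PC m X := by
  suffices key : ∀ (k : ℕ) (Y : Dual.D A), Acyc (m + k) Y → Φ m Y → PC m Y from
    key (b - m).toNat X (hb.mono (by omega)) h
  intro k
  induction k with
  | zero => exact fun Y hY _ => pc_of_acyc (by simpa using hY)
  | succ k ih =>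
    intro Y hY hY'
    push_cast at hY
    have hY1 : Acyc (m + k + 1) Y := by rwa [add_assoc]
    obtain ⟨P, α, hP, hα⟩ := exists_surjective_on_top (n := m + k)
      (hfin _ Y hY1 (hmono m (m + k) Y (by omega) hY'))
    obtain ⟨C, g, w, hT⟩ := distinguished_cocone_triangle α
    have hbff : BFF P := ⟨m + k, m + k, hP.mono (by simp)⟩
    have hC : Acyc (m + k) C := by
      refine (acyc_obj₃_iff _ hT _).2 ⟨fun i hi => ?_, hα⟩
      exact ⟨0, ((hP.acyc (m := i) fun j hj => by rw [Set.mem_singleton_iff] at hj; omega) i le_rfl).eq_of_src _ _,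
        (hY1 i (by omega)).eq_of_src _ _⟩
    exact PC.obj₂ hT (pc_of_bff hbff) (ih C hC (hcone _ hT m hbff hY'))

theorem pc_reflect {m : ℤ} {X : Dual.D A} (hF : ∀ M, FFp M → ∀ n, PC n (Dual.inD B (F.obj M)))
    (hfin : ∀ M : ModuleCat.{u} A, Module.Finite B (F.obj M) → Module.Finite A M)
    (hzero : ∀ M, IsZero (F.obj M) → IsZero M)
    (h : PC m ((DF F).obj X)) : PC m X := by
  obtain ⟨b, hb⟩ := acyc_of_pc h
  refine pc_reflect_of_rel (Φ := fun n Y => PC n ((DF F).obj Y)) (fun n Y hY hn => ?_)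
    (fun _ _ _ hnn hn => hn.mono hnn)
    (fun T hT n h1 h2 => PC.obj₃ ((DF F).map_distinguished _ hT) (pc_map F hF (pc_of_bff h1)) h2)
    (b := b) (fun i hi => (isZero_DF_iff_of_faithful F hzero X i).1 (hb i hi)) h
  obtain ⟨e⟩ := HF_DF F Y n
  haveI := finite_HF_top hn (hY.map F)
  exact hfin _ (Module.Finite.equiv e.toLinearEquiv)

theorem pc'_reflect {X : Dual.D A} (hF : ∀ M, FFp M → ∀ n, PC n (Dual.inD B (F.obj M)))
    (hfin : ∀ M : ModuleCat.{u} A, Module.Finite B (F.obj M) → Module.Finite A M)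
    (hzero : ∀ M, IsZero (F.obj M) → IsZero M)
    (h : DRing.IsPseudoCoherent' B ((DF F).obj X)) : DRing.IsPseudoCoherent' A X :=
  (pc'_iff_forall_pc X).2 fun m => pc_reflect F hF hfin hzero (pc_of_pc' h m)

end Generic

section Change

variable (φ : A →+* B)

theorem preservesFiniteLimits_extendScalars (hφ : φ.Flat) :
    PreservesFiniteLimits (ModuleCat.extendScalars.{u, u, u} φ) := by
  haveI : (ModuleCat.extendScalars.{u, u, u} φ).PreservesMonomorphisms := ⟨fun {M N} f hf => by
    letI := φ.toAlgebra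
    haveI : Module.Flat A B := hφ
    rw [ModuleCat.mono_iff_injective] at hf ⊢
    exact Module.Flat.lTensor_preserves_injective_linearMap f.hom hf⟩
  haveI := (ModuleCat.extendScalars.{u, u, u} φ).preservesHomology_of_preservesMonos_and_cokernels
  exact (ModuleCat.extendScalars.{u, u, u} φ).preservesFiniteLimits_of_preservesHomology

theorem flat_extendScalars {M : ModuleCat.{u} A} (h : FLp M) :
    FLp ((ModuleCat.extendScalars.{u, u, u} φ).obj M) := by
  letI := φ.toAlgebra
  haveI : Module.Flat A M := h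
  exact Module.Flat.baseChange A B M

theorem fp_extendScalars {M : ModuleCat.{u} A} (h : FPp M) :
    FPp ((ModuleCat.extendScalars.{u, u, u} φ).obj M) := by
  letI := φ.toAlgebra
  haveI := h.1; haveI := h.2
  exact ⟨(inferInstance : Module.Finite B (TensorProduct A B M)),
    (inferInstance : Module.Projective B (TensorProduct A B M))⟩

theorem pc_extendScalars_FF (M : ModuleCat.{u} A) (h : FFp M) (n : ℤ) :
    PC n (Dual.inD B ((ModuleCat.extendScalars.{u, u, u} φ).obj M)) := by
  obtain ⟨h1, h2⟩ := fp_extendScalars φ (FP_of_FF h)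
  exact pc_inD_of_FP _ n

end Change

end Groth.Agent.DR39
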