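import Groth.Agent.DR39.Resolution
import Groth.Agent.DR39.TensorSymm
import Mathlib.RingTheory.Flat.EquationalCriterion
import Mathlib.LinearAlgebra.TensorProduct.RightExactness
import Mathlib.Algebra.Homology.Embedding.CochainComplex

/-! Tor amplitude. -/

set_option autoImplicit false
set_option linter.style.haveILetI false
set_option linter.unusedSectionVars false

universe u

open CategoryTheory CategoryTheory.Limits CategoryTheory.Pretriangulated

attribute [local instance] HasDerivedCategory.standard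

namespace Groth.Agent.DR39

variable {A : Type u} [CommRing A]

/-- Tor amplitude. -/
abbrev TA (a b : ℤ) (X : Dual.D A) : Prop := DRing.HasTorAmplitudeIn A a b X

theorem ta_iff_rep (a b : ℤ) (X : Dual.D A) : TA a b X ↔ Rep FLp (Set.Icc a b) X :=
  ⟨fun ⟨E, h1, h2, h3⟩ => ⟨E, (vanishesOutside_iff E a b).1 h1, h2, h3⟩,
    fun ⟨E, h1, h2, h3⟩ => ⟨E, (vanishesOutside_iff E a b).2 h1, h2, h3⟩⟩

theorem flat_of_PR {M : ModuleCat.{u} A} (h : PRp M) : FLp M :=
  haveI : Module.Projective A M := h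
  (inferInstance : Module.Flat A M)

theorem flat_of_FR {M : ModuleCat.{u} A} (h : FRp M) : FLp M :=
  haveI : Module.Free A M := h
  (inferInstance : Module.Flat A M)

theorem proj_of_FR {M : ModuleCat.{u} A} (h : FRp M) : Module.Projective A M :=
  haveI : Module.Free A M := h
  Module.Projective.of_free

theorem isModClass_FR : IsModClass (FRp (A := A)) where
  of_iso e h := by haveI : Module.Free A _ := h; exact Module.Free.of_equiv e.toLinearEquiv
  of_isZero h := free_of_isZero h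
  prod M N hM hN := by
    haveI : Module.Free A M := hM; haveI : Module.Free A N := hN
    exact (inferInstance : Module.Free A (M × N))

theorem isKFlat_of_rep {P : ModuleCat.{u} A → Prop} (hP : ∀ M, P M → FLp M) {E : DRing.Cx A} {b : ℤ}
    (h1 : ∀ i, i ∉ Set.Iic b → IsZero (E.X i)) (h2 : ∀ i, P (E.X i)) : DRing.IsKFlat A E :=
  isKFlat_of_flat b (fun i hi => h1 i fun h => absurd (Set.mem_Iic.1 h) (by omega)) fun i => hP _ (h2 i)

open scoped TensorProduct in
/-- Exactness of `E ⊗ M` in degree `i`. -/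
def ExT (E : DRing.Cx A) (M : ModuleCat.{u} A) (i : ℤ) : Prop :=
  ∀ x : E.X i ⊗[A] M, (E.d i (i + 1)).hom.rTensor M x = 0 →
    x ∈ LinearMap.range ((E.d (i - 1) i).hom.rTensor M)

theorem isZero_tensorCx_iff (E : DRing.Cx A) (M : ModuleCat.{u} A) (i : ℤ) :
    IsZero ((DRing.tensorCx E M).homology i) ↔ ExT E M i := isZero_homology_iff _ i

theorem exT_self_iff (E : DRing.Cx A) (i : ℤ) :
    ExT E (ModuleCat.of A A) i ↔ IsZero (E.homology i) := by
  rw [isZero_homology_iff]
  have key : ∀ (j k : ℤ) (x : TensorProduct A (E.X j) A),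
      TensorProduct.rid A (E.X k) ((E.d j k).hom.rTensor A x) =
        (E.d j k).hom (TensorProduct.rid A (E.X j) x) := by
    intro j k x
    induction x using TensorProduct.induction_on with
    | zero => simp
    | tmul p r => simp
    | add x y hx hy => simp [map_add, hx, hy]
  constructor
  · intro h x hx
    obtain ⟨y, hy⟩ := h ((TensorProduct.rid A (E.X i)).symm x) ((TensorProduct.rid A _).injective (by
      erw [key]
      simp [hx]))
    refine ⟨TensorProduct.rid A _ y, ?_⟩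
    rw [← key]
    exact (congrArg (TensorProduct.rid A (E.X i)) hy).trans (LinearEquiv.apply_symm_apply _ _)
  · intro h x hx
    obtain ⟨y, hy⟩ := h (TensorProduct.rid A (E.X i) x) (by
      rw [← key]
      exact (congrArg (TensorProduct.rid A (E.X (i + 1))) hx).trans (map_zero _))
    refine ⟨(TensorProduct.rid A _).symm y, (TensorProduct.rid A (E.X i)).injective ?_⟩
    erw [key]
    simpa using hy

open scoped TensorProduct in
/-- Flatness of a cokernel. -/
theorem flat_coker (E : DRing.Cx A) (a : ℤ) [Module.Flat A (E.X a)]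
    (h : ∀ M : ModuleCat.{u} A, ExT E M (a - 1)) :
    Module.Flat A ((E.X a) ⧸ LinearMap.range (E.d (a - 1) a).hom) := by
  obtain ⟨d, hd⟩ : ∃ d, (E.d (a - 1) a).hom = d := ⟨_, rfl⟩
  rw [hd, Module.Flat.iff_lTensor_injective']
  intro I
  rw [injective_iff_map_eq_zero]
  intro z hz
  obtain ⟨q, hq⟩ : ∃ q, (LinearMap.range d).mkQ = q := ⟨_, rfl⟩
  obtain ⟨x, hxz⟩ := LinearMap.rTensor_surjective I (g := q) (hq ▸ Submodule.mkQ_surjective _) z
  rw [← hxz] at hz ⊢
  rw [← LinearMap.comp_apply, LinearMap.lTensor_comp_rTensor, ← LinearMap.rTensor_comp_lTensor,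
    LinearMap.comp_apply] at hz
  rw [← hq] at hz
  obtain ⟨y, hy⟩ := ((rTensor_exact A (LinearMap.exact_map_mkQ_range d)
    (Submodule.mkQ_surjective _)) _).1 hz
  set p := (Submodule.mkQ I) with hp
  have hp0 : p ∘ₗ I.subtype = 0 := LinearMap.ext fun r => (Submodule.Quotient.mk_eq_zero _).2 r.2
  let M'' : ModuleCat.{u} A := ModuleCat.of A (A ⧸ I)
  have hy0 : d.rTensor M'' (p.lTensor (E.X (a - 1)) y) = 0 := by
    rw [← LinearMap.comp_apply, LinearMap.rTensor_comp_lTensor, ← LinearMap.lTensor_comp_rTensor,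
      LinearMap.comp_apply, hy, ← LinearMap.comp_apply, ← LinearMap.lTensor_comp, hp0,
      LinearMap.lTensor_zero, LinearMap.zero_apply]
  have hy1 : (E.d (a - 1) (a - 1 + 1)).hom.rTensor M'' (p.lTensor (E.X (a - 1)) y) = 0 := by
    have e : E.d (a - 1) (a - 1 + 1) =
        E.d (a - 1) a ≫ (E.XIsoOfEq (show a = a - 1 + 1 by omega)).hom := by
      rw [HomologicalComplex.d_comp_XIsoOfEq_hom]
    rw [e, ModuleCat.hom_comp, LinearMap.rTensor_comp, LinearMap.comp_apply, hd, hy0, map_zero]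
  obtain ⟨w'', hw''⟩ := h M'' _ hy1
  obtain ⟨w, rfl⟩ := LinearMap.lTensor_surjective (E.X (a - 1 - 1)) (g := p)
    (Submodule.mkQ_surjective _) w''
  have hker : p.lTensor (E.X (a - 1)) (y - (E.d (a - 1 - 1) (a - 1)).hom.rTensor A w) = 0 := by
    rw [map_sub, ← hw'', sub_eq_zero, ← LinearMap.comp_apply, ← LinearMap.comp_apply,
      LinearMap.lTensor_comp_rTensor, LinearMap.rTensor_comp_lTensor]
  obtain ⟨y', hy'⟩ := ((lTensor_exact (E.X (a - 1)) (LinearMap.exact_subtype_mkQ I)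
    (Submodule.mkQ_surjective _)) _).1 hker
  have hx : d.rTensor I y' = x := by
    apply Module.Flat.lTensor_preserves_injective_linearMap (M := E.X a) I.subtype Subtype.val_injective
    rw [← hy, ← LinearMap.comp_apply, LinearMap.lTensor_comp_rTensor, ← LinearMap.rTensor_comp_lTensor,
      LinearMap.comp_apply, hy', map_sub, sub_eq_self, ← LinearMap.comp_apply, ← LinearMap.rTensor_comp,
      ← hd, ← ModuleCat.hom_comp, HomologicalComplex.d_comp_d]
    simp
  rw [← hx, ← LinearMap.comp_apply, ← LinearMap.rTensor_comp, ← hq, LinearMap.range_mkQ_comp,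
    LinearMap.rTensor_zero]
  rfl

/-- `H^i(E ⊗ M) = 0` for `i < a`. -/
def LowEx (E : DRing.Cx A) (a : ℤ) : Prop :=
  ∀ (M : ModuleCat.{u} A) (i : ℤ), i < a → IsZero ((DRing.tensorCx E M).homology i)

theorem tensor_iso {E E' : DRing.Cx A} (hE : DRing.IsKFlat A E) (hE' : DRing.IsKFlat A E')
    (e : (QA A).obj E ≅ (QA A).obj E') (M : ModuleCat.{u} A) (i : ℤ) :
    Nonempty ((DRing.tensorCx E M).homology i ≅ (DRing.tensorCx E' M).homology i) := by
  haveI : QuasiIso (SF.aug E) := inferInstance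
  obtain ⟨f, hf⟩ := Q_map_surjective (SF.res E) E' ((QA A).map (SF.aug E) ≫ e.hom)
  haveI : QuasiIso f := by
    rw [← DerivedCategory.isIso_Q_map_iff_quasiIso, hf]
    infer_instance
  have hP : DRing.IsKFlat A (SF.res E) := isKFlat_of_isKProjective
  haveI := quasiIso_tensorRight_of_kflat hP hE (SF.aug E) M
  haveI := quasiIso_tensorRight_of_kflat hP hE' f M
  exact ⟨(isoOfQuasiIsoAt (((MonoidalCategory.tensorRight M).mapHomologicalComplex (ComplexShape.up ℤ)).map (SF.aug E)) i).symm ≪≫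
    isoOfQuasiIsoAt (((MonoidalCategory.tensorRight M).mapHomologicalComplex (ComplexShape.up ℤ)).map f) i⟩

theorem LowEx.of_iso {E E' : DRing.Cx A} {a : ℤ} (h : LowEx E a) (hE : DRing.IsKFlat A E)
    (hE' : DRing.IsKFlat A E') (e : (QA A).obj E ≅ (QA A).obj E') : LowEx E' a := fun M i hi => by
  obtain ⟨f⟩ := tensor_iso hE hE' e M i
  exact (h M i hi).of_iso f.symm

theorem TA.lowEx {a b : ℤ} {X : Dual.D A} (h : TA a b X) {E : DRing.Cx A}
    (hE : DRing.IsKFlat A E) (e : (QA A).obj E ≅ X) : LowEx E a := by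
  obtain ⟨F, hv, hF, ⟨f⟩⟩ := h
  refine LowEx.of_iso (fun M i hi => ?_) (isKFlat_of_flat b (fun i hi => hv i (Or.inr hi)) hF) hE
    (f ≪≫ e.symm)
  rw [isZero_tensorCx_iff]
  haveI := ModuleCat.subsingleton_of_isZero (hv i (Or.inl hi))
  intro x _
  exact ⟨0, Subsingleton.elim _ _⟩

theorem TA.acyc {a b : ℤ} {X : Dual.D A} (h : TA a b X) : Acyc (b + 1) X :=
  ((ta_iff_rep a b X).1 h).acyc fun i hi => by rw [Set.mem_Icc] at hi; omega

theorem TA.isZero_low {a b : ℤ} {X : Dual.D A} (h : TA a b X) (i : ℤ) (hi : i < a) :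
    IsZero ((HF A i).obj X) := by
  obtain ⟨F, hv, hF, ⟨f⟩⟩ := h
  refine IsZero.of_iso ((isZero_HF_Q_iff F i).2 ((isZero_homology_iff F i).2 fun x _ => ?_))
    ((HF A i).mapIso f.symm)
  haveI := ModuleCat.subsingleton_of_isZero (hv i (Or.inl hi))
  exact ⟨0, Subsingleton.elim _ _⟩

theorem exT_of_lowEx {E : DRing.Cx A} {a : ℤ} (h : LowEx E a) (M : ModuleCat.{u} A) {i : ℤ}
    (hi : i < a) : ExT E M i := (isZero_tensorCx_iff E M i).1 (h M i hi)

theorem isGE_of_lowEx {E : DRing.Cx A} {a : ℤ} (h : LowEx E a) : E.IsGE a := by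
  rw [CochainComplex.isGE_iff]
  intro i hi
  rw [HomologicalComplex.exactAt_iff_isZero_homology]
  exact (exT_self_iff E i).1 (exT_of_lowEx h _ hi)

/-- `opcycles` as a quotient. -/
noncomputable def opcyclesQuotIso (E : DRing.Cx A) (a : ℤ) :
    E.opcycles a ≅ ModuleCat.of A ((E.X a) ⧸ LinearMap.range (E.d (a - 1) a).hom) :=
  IsColimit.coconePointUniqueUpToIso (E.opcyclesIsCokernel (a - 1) a (by simp))
    (ModuleCat.cokernelIsColimit (E.d (a - 1) a))

theorem cls_truncGE {P : ModuleCat.{u} A → Prop} (hP : IsModClass P) (E : DRing.Cx A) (a : ℤ)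
    (hX : ∀ i, a < i → P (E.X i))
    (hc : P (ModuleCat.of A ((E.X a) ⧸ LinearMap.range (E.d (a - 1) a).hom))) (i : ℤ) :
    P ((E.truncGE a).X i) := by
  rcases lt_trichotomy i a with h | rfl | h
  · exact hP.of_isZero ((E.truncGE a).isZero_of_isStrictlyGE a i h)
  · exact hP.of_iso (E.truncGEXIsoOpcycles i ≪≫ opcyclesQuotIso E i).symm hc
  · exact hP.of_iso (E.truncGEXIso a i h).symm (hX i h)

theorem vanishesOutside_truncGE (E : DRing.Cx A) (a b : ℤ) (hb : DRing.VanishesAbove E b) :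
    DRing.VanishesOutside (E.truncGE a) a b := by
  rintro i (h | h)
  · exact (E.truncGE a).isZero_of_isStrictlyGE a i h
  · haveI : E.IsStrictlyLE b := by rw [CochainComplex.isStrictlyLE_iff]; exact hb
    exact (E.truncGE a).isZero_of_isStrictlyLE b i h

/-- Truncation of a bounded above flat representative. -/
theorem ta_of_lowEx {X : Dual.D A} (E : DRing.Cx A) (a b : ℤ) (hb : DRing.VanishesAbove E b)
    (hF : DRing.TermwiseFlat E) (e : (QA A).obj E ≅ X) (h : LowEx E a) : TA a b X := by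
  haveI := isGE_of_lowEx h
  haveI := hF a
  exact ⟨E.truncGE a, vanishesOutside_truncGE E a b hb,
    cls_truncGE isModClass_FL E a (fun i _ => hF i)
      (flat_coker E a fun M => exT_of_lowEx h M (by omega)),
    ⟨(asIso ((QA A).map (E.πTruncGE a))).symm ≪≫ e⟩⟩

theorem ta_iff {X : Dual.D A} (a b : ℤ) (E : DRing.Cx A) (hE : DRing.IsKFlat A E)
    (e : (QA A).obj E ≅ X) : TA a b X ↔ Acyc (b + 1) X ∧ LowEx E a := by
  refine ⟨fun h => ⟨h.acyc, h.lowEx hE e⟩, fun ⟨hb, h⟩ => ?_⟩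
  obtain ⟨F, hFv, hF, ⟨f⟩⟩ := rep_free_of_acyc hb
  exact ta_of_lowEx F a b ((vanishesAbove_iff F b).2 hFv) (fun i => flat_of_FR (hF i)) f
    (h.of_iso hE (isKFlat_of_rep (fun M => flat_of_FR) hFv hF) (e ≪≫ f.symm))

theorem TA.of_iso {a b : ℤ} {X Y : Dual.D A} (h : TA a b X) (e : X ≅ Y) : TA a b Y :=
  (ta_iff_rep a b Y).2 (((ta_iff_rep a b X).1 h).of_iso e)

theorem TA.mono {a b a' b' : ℤ} {X : Dual.D A} (h : TA a b X) (ha : a' ≤ a) (hb : b ≤ b') :
    TA a' b' X :=
  (ta_iff_rep a' b' X).2 (((ta_iff_rep a b X).1 h).mono (Set.Icc_subset_Icc ha hb))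

theorem ta_of_isZero (a b : ℤ) {X : Dual.D A} (h : IsZero X) : TA a b X :=
  (ta_iff_rep a b X).2 (Rep.of_isZero isModClass_FL h)

theorem TA.shift {a b : ℤ} {X : Dual.D A} (h : TA a b X) (n a' b' : ℤ) (ha : a' + n = a)
    (hb : b' + n = b) : TA a' b' (X⟦n⟧) :=
  (ta_iff_rep a' b' _).2 (((ta_iff_rep a b X).1 h).shift n fun i hi => by
    simp only [Set.mem_Icc] at hi ⊢; omega)

theorem ta_shift_iff {a b : ℤ} (X : Dual.D A) (n a' b' : ℤ) (ha : a' + n = a) (hb : b' + n = b) :
    TA a' b' (X⟦n⟧) ↔ TA a b X :=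
  ⟨fun h => (h.shift (-n) a b (by omega) (by omega)).of_iso ((shiftEquiv (Dual.D A) n).unitIso.symm.app X),
    fun h => h.shift n a' b' ha hb⟩

theorem ta_single_iff (M : ModuleCat.{u} A) (n a b : ℤ) :
    TA a b ((DerivedCategory.singleFunctor (ModuleCat.{u} A) n).obj M) ↔
      TA (a - n) (b - n) (Dual.inD A M) := by
  rw [← ta_shift_iff (a := a - n) (b := b - n) (Dual.inD A M) (-n) a b (by omega) (by omega)]
  exact ⟨fun h => h.of_iso (singleShiftIso M n (-n) (by omega)).symm,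
    fun h => h.of_iso (singleShiftIso M n (-n) (by omega))⟩

theorem ta_inD_of_flat (M : Type u) [AddCommGroup M] [Module A M] [Module.Flat A M] :
    TA 0 0 (Dual.inD A M) :=
  (ta_iff_rep 0 0 _).2 ((Rep.single isModClass_FL 0 (M := ModuleCat.of A M)
    (inferInstance : Module.Flat A M)).mono (by simp))

open MonoidalCategory in
theorem TA.obj₃ {T : Triangle (Dual.D A)} (hT : T ∈ distinguishedTriangles) {a b : ℤ}
    (h₁ : TA (a + 1) (b + 1) T.obj₁) (h₂ : TA a b T.obj₂) : TA a b T.obj₃ := by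
  obtain ⟨E, hEv, hE, ⟨e₁⟩⟩ := rep_free_of_acyc h₁.acyc
  obtain ⟨F, hFv, hF, ⟨e₂⟩⟩ := rep_free_of_acyc h₂.acyc
  haveI := isKProjective_of_bddAbove E (b + 1) ((vanishesAbove_iff E _).2 hEv) fun i => proj_of_FR (hE i)
  obtain ⟨f, hf⟩ := Q_map_surjective E F (e₁.hom ≫ T.mor₁ ≫ e₂.inv)
  let iso := isoTriangleOfIso₁₂ _ T (DerivedCategory.mappingCone_triangle_distinguished f) hT e₁ e₂ (by
    change (QA A).map f ≫ e₂.hom = e₁.hom ≫ T.mor₁
    erw [hf]
    simp)
  refine ta_of_lowEx (CochainComplex.mappingCone f) a b (fun i hi => ?_) (fun i => ?_)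
    (Triangle.π₃.mapIso iso) fun M i hi => ?_
  · refine IsZero.of_iso ?_ (HomologicalComplex.homotopyCofiber.XIsoBiprod f i (i + 1) rfl)
    exact (biprod_isZero_iff _ _).2 ⟨hEv _ fun h => absurd (Set.mem_Iic.1 h) (by omega),
      hFv _ fun h => absurd (Set.mem_Iic.1 h) (by omega)⟩
  · exact isModClass_FL.of_iso ((ModuleCat.biprodIsoProd _ _).symm ≪≫
      (HomologicalComplex.homotopyCofiber.XIsoBiprod f i (i + 1) rfl).symm)
      (isModClass_FL.prod _ _ (flat_of_FR (hE (i + 1))) (flat_of_FR (hF i)))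
  · have hz₁ := h₁.lowEx (isKFlat_of_rep (fun _ => flat_of_FR) hEv hE) e₁ M (i + 1) (by omega)
    have hz₂ := h₂.lowEx (isKFlat_of_rep (fun _ => flat_of_FR) hFv hF) e₂ M i hi
    let fM := ((tensorRight M).mapHomologicalComplex (ComplexShape.up ℤ)).map f
    have hT' := DerivedCategory.mappingCone_triangle_distinguished fM
    have : IsZero ((HF A i).obj ((QA A).obj (CochainComplex.mappingCone fM))) :=
      (DerivedCategory.HomologySequence.exact₃ _ hT' i (i + 1) rfl).isZero_of_both_zeros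
        (((isZero_HF_Q_iff _ i).2 hz₂).eq_of_src _ _) (((isZero_HF_Q_iff _ (i + 1)).2 hz₁).eq_of_tgt _ _)
    exact ((isZero_HF_Q_iff _ i).1 this).of_iso ((HomologicalComplex.homologyFunctor _ _ i).mapIso
      (CochainComplex.mappingCone.mapHomologicalComplexIso f (tensorRight M)))

theorem TA.obj₂ {T : Triangle (Dual.D A)} (hT : T ∈ distinguishedTriangles) {a b : ℤ}
    (h₁ : TA a b T.obj₁) (h₃ : TA a b T.obj₃) : TA a b T.obj₂ :=
  TA.obj₃ (inv_rot_of_distTriang T hT) (h₃.shift (-1) (a + 1) (b + 1) (by omega) (by omega)) h₁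

theorem TA.obj₁ {T : Triangle (Dual.D A)} (hT : T ∈ distinguishedTriangles) {a b : ℤ}
    (h₂ : TA (a + 1) (b + 1) T.obj₂) (h₃ : TA a b T.obj₃) : TA (a + 1) (b + 1) T.obj₁ :=
  (ta_shift_iff T.obj₁ 1 a b rfl rfl).1 (TA.obj₃ (rot_of_distTriang T hT) h₂ h₃)

open MonoidalCategory in
theorem TA.of_retract {a b : ℤ} {X Y : Dual.D A} (h : TA a b Y) (i : X ⟶ Y) (p : Y ⟶ X)
    (hip : i ≫ p = 𝟙 X) : TA a b X := by
  have hb : Acyc (b + 1) X := fun j hj => by
    haveI : Mono ((HF A j).map i) :=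
      (SplitMono.mk ((HF A j).map p) (by rw [← Functor.map_comp, hip, CategoryTheory.Functor.map_id])).mono
    exact (h.acyc j hj).of_mono ((HF A j).map i)
  obtain ⟨E, hEv, hE, ⟨e⟩⟩ := rep_free_of_acyc hb
  obtain ⟨F, hFv, hF, ⟨e'⟩⟩ := rep_free_of_acyc h.acyc
  haveI := isKProjective_of_bddAbove E b ((vanishesAbove_iff E _).2 hEv) fun i => proj_of_FR (hE i)
  haveI := isKProjective_of_bddAbove F b ((vanishesAbove_iff F _).2 hFv) fun i => proj_of_FR (hF i)
  obtain ⟨f, hf⟩ := Q_map_surjective E F (e.hom ≫ i ≫ e'.inv)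
  obtain ⟨g, hg⟩ := Q_map_surjective F E (e'.hom ≫ p ≫ e.inv)
  obtain ⟨H⟩ := (Q_map_eq_iff (f ≫ g) (𝟙 E)).1 (by
    rw [Functor.map_comp, hf, hg, CategoryTheory.Functor.map_id]
    simp [reassoc_of% hip])
  refine ta_of_lowEx E a b ((vanishesAbove_iff E _).2 hEv) (fun j => flat_of_FR (hE j)) e fun M j hj => ?_
  have hz := h.lowEx (isKFlat_of_rep (fun _ => flat_of_FR) hFv hF) e' M j hj
  let G := (tensorRight M).mapHomologicalComplex (ComplexShape.up ℤ)
  have hid : HomologicalComplex.homologyMap (G.map f) j ≫ HomologicalComplex.homologyMap (G.map g) j = 𝟙 _ := by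
    rw [← HomologicalComplex.homologyMap_comp, ← G.map_comp,
      ((tensorRight M).mapHomotopy H).homologyMap_eq, G.map_id, HomologicalComplex.homologyMap_id]
  exact @IsZero.of_mono _ _ _ _ _ (HomologicalComplex.homologyMap (G.map f) j)
    (SplitMono.mk _ hid).mono hz

theorem isZero_of_forall {X : Dual.D A} (h : ∀ i, IsZero ((HF A i).obj X)) : IsZero X := by
  haveI : IsIso (0 : X ⟶ X) := (DerivedCategory.isIso_iff (ModuleCat.{u} A) _).2 fun i =>
    ⟨0, (h i).eq_of_src _ _, (h i).eq_of_src _ _⟩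
  exact (IsZero.iff_id_eq_zero X).2 (by
    rw [← IsIso.hom_inv_id (0 : X ⟶ X), zero_comp])

theorem ta_of_homology {a b : ℤ} {X : Dual.D A} {c d : ℤ} (hd : Acyc (d + 1) X)
    (hc : ∀ i, i < c → IsZero ((HF A i).obj X))
    (h : ∀ i, TA (a - i) (b - i) (Dual.inD A ((HF A i).obj X))) : TA a b X := by
  refine induction_homology (P := TA a b) (fun e hX => hX.of_iso e) (fun _ hT h1 h3 => TA.obj₂ hT h1 h3)
    c X (fun Y hY hlow => ta_of_isZero a b (isZero_of_forall fun i => ?_))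
    (fun i _ => (ta_single_iff _ i a b).2 (h i)) (d + 1) hd
  by_cases hi : c ≤ i
  · exact hY i hi
  · obtain ⟨e⟩ := hlow i (by omega)
    exact (hc i (by omega)).of_iso e

theorem cutι_isIso_of_vanishesOutside (E : DRing.Cx A) (c d : ℤ) (h : DRing.VanishesOutside E c d) :
    IsIso (cutι E c) := by
  haveI : ∀ i, IsIso ((cutι E c).f i) := fun i => by
    by_cases hi : c ≤ i
    · exact (isIso_iff_bijective _).2 (cutι_bijective E hi)
    · exact ⟨0, (isZero_cutGE E (by omega)).eq_of_src _ _, (h i (Or.inl (by omega))).eq_of_src _ _⟩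
  exact HomologicalComplex.Hom.isIso_of_components _

theorem ta_of_terms {a b : ℤ} (E : DRing.Cx A) (c d : ℤ) (hE : DRing.VanishesOutside E c d)
    (h : ∀ i, TA (a - i) (b - i) (Dual.inD A (E.X i))) : TA a b ((QA A).obj E) := by
  haveI := cutι_isIso_of_vanishesOutside E c d hE
  exact TA.of_iso (induction_terms (P := TA a b) (fun _ hT h1 h3 => TA.obj₂ hT h1 h3)
    (fun _ hX => ta_of_isZero a b hX) E d (fun i hi => hE i (Or.inr hi)) c
    fun i _ => (ta_single_iff _ i a b).2 (h i)) ((QA A).mapIso (asIso (cutι E c)))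

end Groth.Agent.DR39
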