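import Mathlib.Algebra.Homology.DerivedCategory.KProjective
import Mathlib.Algebra.Homology.DerivedCategory.Ext.EnoughProjectives
import Mathlib.Algebra.Homology.DerivedCategory.HomologySequence
import Mathlib.Algebra.Homology.SingleHomology

/-! Morphisms out of K-projective complexes and out of projective objects in a derived category. -/

set_option autoImplicit false
set_option linter.style.haveILetI false
set_option linter.unusedSectionVars false

universe w v u

open CategoryTheory CategoryTheory.Limits CategoryTheory.Category CategoryTheory.Pretriangulated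

namespace Groth.Agent.DR39

variable {C : Type u} [Category.{v} C] [Abelian C] [HasDerivedCategory.{w} C]

/-- Morphisms in the derived category out of a K-projective complex lift to complexes. -/
theorem Q_map_surjective (K L : CochainComplex C ℤ) [K.IsKProjective] :
    Function.Surjective (DerivedCategory.Q.map : (K ⟶ L) → _) := by
  intro α
  obtain ⟨β, hβ⟩ := (CochainComplex.IsKProjective.Qh_map_bijective K _).2
    ((DerivedCategory.quotientCompQhIso C).hom.app K ≫ α ≫
      (DerivedCategory.quotientCompQhIso C).inv.app L)
  obtain ⟨f, rfl⟩ := (HomotopyCategory.quotient C (ComplexShape.up ℤ)).map_surjective β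
  refine ⟨f, ?_⟩
  rw [← cancel_epi ((DerivedCategory.quotientCompQhIso C).hom.app K),
    ← NatIso.naturality_1 (DerivedCategory.quotientCompQhIso C) f]
  simp [hβ]

theorem Q_map_eq_iff {K L : CochainComplex C ℤ} [K.IsKProjective] (f g : K ⟶ L) :
    DerivedCategory.Q.map f = DerivedCategory.Q.map g ↔ Nonempty (Homotopy f g) := by
  refine ⟨fun h => ⟨HomotopyCategory.homotopyOfEq _ _ ?_⟩,
    fun ⟨h⟩ => DerivedCategory.Q_map_eq_of_homotopy (C := C) h⟩
  apply (CochainComplex.IsKProjective.Qh_map_bijective K _).1
  have e1 := NatIso.naturality_2 (DerivedCategory.quotientCompQhIso C) f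
  have e2 := NatIso.naturality_2 (DerivedCategory.quotientCompQhIso C) g
  rw [h] at e1
  exact e1.symm.trans e2

theorem isKProjective_single (P : C) [Projective P] (i : ℤ) :
    CochainComplex.IsKProjective ((HomologicalComplex.single C (ComplexShape.up ℤ) i).obj P) := by
  haveI : ∀ n : ℤ, Projective
      (((HomologicalComplex.single C (ComplexShape.up ℤ) i).obj P).X n) := fun n => by
    by_cases h : n = i
    · subst h
      exact Projective.of_iso (HomologicalComplex.singleObjXSelf _ n P).symm inferInstance
    · haveI : IsZero (((HomologicalComplex.single C (ComplexShape.up ℤ) i).obj P).X n) :=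
        HomologicalComplex.isZero_single_obj_X _ _ _ _ h
      exact this.projective
  haveI : CochainComplex.IsStrictlyLE
      ((HomologicalComplex.single C (ComplexShape.up ℤ) i).obj P) i := by
    rw [CochainComplex.isStrictlyLE_iff]
    exact fun n hn => HomologicalComplex.isZero_single_obj_X _ _ _ _ hn.ne'
  exact CochainComplex.isKProjective_of_projective _ i

/-- `H⁰` of a single object. -/
noncomputable def singleH0Iso (P : C) :
    (DerivedCategory.homologyFunctor C 0).obj ((DerivedCategory.singleFunctor C 0).obj P) ≅ P :=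
  (DerivedCategory.homologyFunctorFactors C 0).app
      ((HomologicalComplex.single C (ComplexShape.up ℤ) 0).obj P) ≪≫
    HomologicalComplex.singleObjHomologySelfIso _ 0 P

theorem singleH0Iso_inv_naturality {P P' : C} (g : P ⟶ P') :
    g ≫ (singleH0Iso P').inv = (singleH0Iso P).inv ≫
      (DerivedCategory.homologyFunctor C 0).map ((DerivedCategory.singleFunctor C 0).map g) := by
  rw [← cancel_mono (singleH0Iso P').hom, assoc, assoc, Iso.inv_hom_id, comp_id,
    ← cancel_epi (singleH0Iso P).hom, Iso.hom_inv_id_assoc]
  have h1 := DerivedCategory.homologyFunctorFactors_hom_naturality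
    (C := C) ((HomologicalComplex.single C (ComplexShape.up ℤ) 0).map g) 0
  have h2 := (HomologicalComplex.homologyFunctorSingleIso C (ComplexShape.up ℤ) 0).hom.naturality g
  dsimp [singleH0Iso]
  erw [reassoc_of% h1]
  refine (assoc _ _ _).trans (Eq.trans ?_ (assoc _ _ _).symm)
  exact congrArg ((DerivedCategory.homologyFunctorFactors C 0).hom.app _ ≫ ·) h2.symm

/-- `Hom(P[0], L) → Hom(P, H⁰ L)`. -/
noncomputable def homToH0 (P : C) (L : DerivedCategory C)
    (α : (DerivedCategory.singleFunctor C 0).obj P ⟶ L) :
    P ⟶ (DerivedCategory.homologyFunctor C 0).obj L :=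
  (singleH0Iso P).inv ≫ (DerivedCategory.homologyFunctor C 0).map α

theorem homToH0_precomp {P P' : C} (g : P ⟶ P') (L : DerivedCategory C)
    (α : (DerivedCategory.singleFunctor C 0).obj P' ⟶ L) :
    homToH0 P L ((DerivedCategory.singleFunctor C 0).map g ≫ α) = g ≫ homToH0 P' L α := by
  simp [homToH0, reassoc_of% singleH0Iso_inv_naturality g]

theorem homToH0_postcomp (P : C) {L L' : DerivedCategory C}
    (α : (DerivedCategory.singleFunctor C 0).obj P ⟶ L) (g : L ⟶ L') :
    homToH0 P L' (α ≫ g) = homToH0 P L α ≫ (DerivedCategory.homologyFunctor C 0).map g := by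
  simp [homToH0]

theorem homToH0_Q_map (P : C) {X : CochainComplex C ℤ}
    (f : (HomologicalComplex.single C (ComplexShape.up ℤ) 0).obj P ⟶ X) :
    homToH0 P (DerivedCategory.Q.obj X) (DerivedCategory.Q.map f) ≫
        (DerivedCategory.homologyFunctorFactors C 0).hom.app X =
      (HomologicalComplex.singleObjCyclesSelfIso (ComplexShape.up ℤ) 0 P).inv ≫
        HomologicalComplex.cyclesMap f 0 ≫ X.homologyπ 0 := by
  have h1 := DerivedCategory.homologyFunctorFactors_hom_naturality f 0
  dsimp [homToH0, singleH0Iso]
  erw [assoc, assoc, h1]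
  erw [Iso.inv_hom_id_app_assoc]
  rw [← HomologicalComplex.homologyπ_naturality,
    HomologicalComplex.singleObjCyclesSelfIso_inv_homologyπ_assoc]
  rfl

theorem homToH0_bijective (P : C) [Projective P] (L : DerivedCategory C) :
    Function.Bijective (homToH0 P L) := by
  suffices key : ∀ X : CochainComplex C ℤ, Function.Bijective (homToH0 P (DerivedCategory.Q.obj X)) by
    let e := DerivedCategory.Q.objObjPreimageIso L
    let H := DerivedCategory.homologyFunctor C 0
    have : homToH0 P L = (fun α => α ≫ H.map e.hom) ∘
        homToH0 P (DerivedCategory.Q.obj _) ∘ (fun α => α ≫ e.inv) := by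
      funext α
      simp [H, ← homToH0_postcomp]
    rw [this]
    exact ((Iso.homToEquiv (H.mapIso e)).bijective.comp (key _)).comp (Iso.homToEquiv e.symm).bijective
  intro X
  haveI := isKProjective_single P 0
  refine ⟨fun α β hαβ => ?_, fun g => ?_⟩
  · obtain ⟨a, rfl⟩ := Q_map_surjective ((HomologicalComplex.single C (ComplexShape.up ℤ) 0).obj P) X α
    obtain ⟨b, rfl⟩ := Q_map_surjective ((HomologicalComplex.single C (ComplexShape.up ℤ) 0).obj P) X β
    have h0 := (homToH0_Q_map P a).symm.trans
      ((congrArg (· ≫ (DerivedCategory.homologyFunctorFactors C 0).hom.app X) hαβ).trans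
        (homToH0_Q_map P b))
    let z := (HomologicalComplex.singleObjCyclesSelfIso (ComplexShape.up ℤ) 0 P).inv ≫
      (HomologicalComplex.cyclesMap a 0 - HomologicalComplex.cyclesMap b 0)
    have hz : z ≫ X.homologyπ 0 = 0 := by
      simp only [z, assoc, Preadditive.comp_sub, Preadditive.sub_comp, h0, sub_self]
    have hex : (ShortComplex.mk (X.toCycles (-1) 0) (X.homologyπ 0) (by simp)).Exact :=
      ShortComplex.exact_of_g_is_cokernel _ (X.homologyIsCokernel (-1) 0 (by simp))
    let w := hex.liftFromProjective z hz
    have hw : w ≫ X.toCycles (-1) 0 = z := hex.liftFromProjective_comp z hz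
    let h : ∀ i j : ℤ,
        ((HomologicalComplex.single C (ComplexShape.up ℤ) 0).obj P).X i ⟶ X.X j := fun i j =>
      if hij : i = 0 ∧ j = -1 then
        (HomologicalComplex.singleObjXIsoOfEq (ComplexShape.up ℤ) 0 P i hij.1).hom ≫ w ≫
          (X.XIsoOfEq hij.2).inv else 0
    have hh : ∀ i j, ¬(ComplexShape.up ℤ).Rel j i → h i j = 0 := fun i j hij => by
      refine dif_neg fun hc => hij ?_
      obtain ⟨rfl, rfl⟩ := hc
      simp
    have hab : a - b = Homotopy.nullHomotopicMap h := by
      apply HomologicalComplex.from_single_hom_ext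
      rw [Homotopy.nullHomotopicMap_f (k₂ := -1) (k₀ := 1) (by simp) (by simp)]
      have e1 : h 0 (-1) = (HomologicalComplex.singleObjXSelf (ComplexShape.up ℤ) 0 P).hom ≫ w := by
        simp [h, HomologicalComplex.singleObjXSelf]
      have e2 : h 1 0 = 0 := dif_neg (by simp)
      rw [e2, comp_zero, zero_add, e1, assoc, ← X.toCycles_i, reassoc_of% hw]
      simp only [z, assoc, Preadditive.comp_sub, Preadditive.sub_comp,
        HomologicalComplex.cyclesMap_i, HomologicalComplex.singleObjCyclesSelfIso_inv_iCycles_assoc,
        Iso.hom_inv_id_assoc]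
      simp
    exact (Q_map_eq_iff a b).2
      ⟨Homotopy.equivSubZero.symm (by rw [hab]; exact Homotopy.nullHomotopy h hh)⟩
  · let g' : P ⟶ X.homology 0 := g ≫ (DerivedCategory.homologyFunctorFactors C 0).hom.app X
    haveI : Epi (X.homologyπ 0) :=
      Cofork.IsColimit.epi (X.homologyIsCokernel (-1) 0 (by simp))
    let z := Projective.factorThru g' (X.homologyπ 0)
    have hz : (z ≫ X.iCycles 0) ≫ X.d 0 1 = 0 := by simp
    let f := HomologicalComplex.mkHomFromSingle (j := (0 : ℤ)) (c := ComplexShape.up ℤ)
      (z ≫ X.iCycles 0) (fun k hk => by simp)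
    refine ⟨DerivedCategory.Q.map f, ?_⟩
    rw [← cancel_mono ((DerivedCategory.homologyFunctorFactors C 0).hom.app X)]
    erw [homToH0_Q_map]
    have : (HomologicalComplex.singleObjCyclesSelfIso (ComplexShape.up ℤ) 0 P).inv ≫
        HomologicalComplex.cyclesMap f 0 = z := by
      rw [← cancel_mono (X.iCycles 0), assoc, HomologicalComplex.cyclesMap_i,
        HomologicalComplex.singleObjCyclesSelfIso_inv_iCycles_assoc,
        HomologicalComplex.mkHomFromSingle_f]
      simp
    rw [reassoc_of% this]
    exact Projective.factorThru_comp g' (X.homologyπ 0)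

end Groth.Agent.DR39
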