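import Groth.Prelude.Def_DRing2
import Groth.Agent.DR39.Hom
import Groth.Agent.DR39.Elem
import Mathlib.Algebra.Homology.DerivedCategory.TStructure
import Mathlib.Algebra.Category.ModuleCat.Projective
import Mathlib.Algebra.Category.ModuleCat.Biproducts

/-! Basic tools in `D(A)`: cohomology, cones, orthogonality for projective complexes, truncations of complexes. -/

set_option autoImplicit false
set_option linter.style.haveILetI false
set_option linter.unusedSectionVars false

universe u

open CategoryTheory CategoryTheory.Limits CategoryTheory.Pretriangulated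

attribute [local instance] HasDerivedCategory.standard

namespace Groth.Agent.DR39

variable {A : Type u} [CommRing A]

/-- Cohomology on `D(A)`. -/
noncomputable abbrev HF (A : Type u) [CommRing A] (i : ℤ) : Dual.D A ⥤ ModuleCat.{u} A :=
  DerivedCategory.homologyFunctor (ModuleCat.{u} A) i

/-- `Q` on complexes of modules. -/
noncomputable abbrev QA (A : Type u) [CommRing A] : DRing.Cx A ⥤ Dual.D A := DerivedCategory.Q

/-- Cohomology of the class of a complex. -/
noncomputable def HQIso (K : DRing.Cx A) (i : ℤ) : (HF A i).obj ((QA A).obj K) ≅ K.homology i :=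
  (DerivedCategory.homologyFunctorFactors (ModuleCat.{u} A) i).app K

theorem HQIso_naturality {K L : DRing.Cx A} (f : K ⟶ L) (i : ℤ) :
    (HF A i).map ((QA A).map f) ≫ (HQIso L i).hom =
      (HQIso K i).hom ≫ HomologicalComplex.homologyMap f i :=
  DerivedCategory.homologyFunctorFactors_hom_naturality f i

theorem epi_HF_Q_map_iff {K L : DRing.Cx A} (f : K ⟶ L) (i : ℤ) :
    Epi ((HF A i).map ((QA A).map f)) ↔ Function.Surjective (HomologicalComplex.homologyMap f i).hom := by
  rw [← ModuleCat.epi_iff_surjective]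
  constructor
  · intro h
    have : HomologicalComplex.homologyMap f i =
        (HQIso K i).inv ≫ (HF A i).map ((QA A).map f) ≫ (HQIso L i).hom := by
      rw [HQIso_naturality, Iso.inv_hom_id_assoc]
    rw [this]
    infer_instance
  · intro h
    have : (HF A i).map ((QA A).map f) =
        (HQIso K i).hom ≫ HomologicalComplex.homologyMap f i ≫ (HQIso L i).inv := by
      rw [← Category.assoc, ← HQIso_naturality, Category.assoc, Iso.hom_inv_id, Category.comp_id]
    rw [this]
    infer_instance

theorem isIso_HF_Q_map_iff {K L : DRing.Cx A} (f : K ⟶ L) (i : ℤ) :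
    IsIso ((HF A i).map ((QA A).map f)) ↔ IsIso (HomologicalComplex.homologyMap f i) :=
  NatIso.isIso_map_iff (DerivedCategory.homologyFunctorFactors (ModuleCat.{u} A) i) f

/-- Vanishing of cohomology in degrees `≥ m`. -/
def Acyc (m : ℤ) (X : Dual.D A) : Prop := ∀ i, m ≤ i → IsZero ((HF A i).obj X)

theorem isZero_HF_iff (X : Dual.D A) (i : ℤ) :
    IsZero ((HF A i).obj X) ↔ Subsingleton (Dual.HD A X i) := ModuleCat.isZero_iff_subsingleton

theorem isZero_HF_Q_iff (K : DRing.Cx A) (i : ℤ) :
    IsZero ((HF A i).obj ((QA A).obj K)) ↔ IsZero (K.homology i) := (HQIso K i).isZero_iff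

theorem acyc_iff_isLE (m : ℤ) (X : Dual.D A) : Acyc m X ↔ X.IsLE (m - 1) := by
  rw [DerivedCategory.isLE_iff]
  exact ⟨fun h i hi => h i (by omega), fun h i hi => h i (by omega)⟩

theorem Acyc.mono {m m' : ℤ} {X : Dual.D A} (h : Acyc m X) (hm : m ≤ m') : Acyc m' X :=
  fun i hi => h i (by omega)

theorem Acyc.of_iso {m : ℤ} {X Y : Dual.D A} (h : Acyc m X) (e : X ≅ Y) : Acyc m Y :=
  fun i hi => (h i hi).of_iso ((HF A i).mapIso e.symm)

theorem acyc_shift (X : Dual.D A) (n m : ℤ) (h : Acyc (m + n) X) : Acyc m (X⟦n⟧) :=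
  fun i hi => (h (n + i) (by omega)).of_iso
    ((((HF A 0).shiftIso n i (n + i) rfl)).app X)

theorem exists_complex_iso (X : Dual.D A) : ∃ K : DRing.Cx A, Nonempty ((QA A).obj K ≅ X) :=
  ⟨_, ⟨DerivedCategory.Q.objObjPreimageIso X⟩⟩

/-- Cone criterion. -/
theorem acyc_obj₃_iff (T : Triangle (Dual.D A)) (hT : T ∈ distinguishedTriangles) (m : ℤ) :
    Acyc m T.obj₃ ↔ (∀ i, m < i → IsIso ((HF A i).map T.mor₁)) ∧ Epi ((HF A m).map T.mor₁) := by
  constructor
  · intro h
    have he : ∀ i, m ≤ i → Epi ((HF A i).map T.mor₁) := fun i hi =>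
      (DerivedCategory.HomologySequence.epi_homologyMap_mor₁_iff T hT i).2 ((h i hi).eq_of_tgt _ _)
    refine ⟨fun i hi => ?_, he m le_rfl⟩
    haveI := he i hi.le
    haveI : Mono ((HF A i).map T.mor₁) :=
      (DerivedCategory.HomologySequence.mono_homologyMap_mor₁_iff T hT (i - 1) i (by omega)).2
        ((h (i - 1) (by omega)).eq_of_src _ _)
    exact isIso_of_mono_of_epi _
  · rintro ⟨hi, he⟩ i him
    refine (DerivedCategory.HomologySequence.exact₃ T hT i (i + 1) rfl).isZero_of_both_zeros
      ((DerivedCategory.HomologySequence.epi_homologyMap_mor₁_iff T hT i).1 ?_)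
      ((DerivedCategory.HomologySequence.mono_homologyMap_mor₁_iff T hT i (i + 1) rfl).1 ?_)
    · rcases eq_or_lt_of_le him with rfl | hlt
      · exact he
      · haveI := hi i hlt; infer_instance
    · haveI := hi (i + 1) (by omega); infer_instance

theorem isKProjective_of_bddAbove (P : DRing.Cx A) (b : ℤ) (hb : DRing.VanishesAbove P b)
    (hp : ∀ i, Module.Projective A (P.X i)) : P.IsKProjective := by
  haveI : P.IsStrictlyLE b := by rw [CochainComplex.isStrictlyLE_iff]; exact hb
  haveI : ∀ i, Projective (P.X i) := fun i => by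
    haveI := hp i
    exact (IsProjective.iff_projective (R := A) (P.X i)).1 inferInstance
  exact CochainComplex.isKProjective_of_projective P b

/-- A complex of projectives in degrees `≥ a` has no maps to objects with cohomology in degrees `< a`. -/
theorem hom_eq_zero_of_projective (P : DRing.Cx A) (a b : ℤ) (hab : DRing.VanishesOutside P a b)
    (hp : ∀ i, Module.Projective A (P.X i)) {X : Dual.D A} (hX : Acyc a X)
    (f : (QA A).obj P ⟶ X) : f = 0 := by
  haveI := isKProjective_of_bddAbove P b (fun i hi => hab i (Or.inr hi)) hp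
  haveI : X.IsLE (a - 1) := (acyc_iff_isLE a X).1 hX
  obtain ⟨L, hL, ⟨e⟩⟩ := DerivedCategory.exists_iso_Q_obj_of_isLE X (a - 1)
  obtain ⟨g, hg⟩ := Q_map_surjective P L (f ≫ e.hom)
  have : g = 0 := by
    ext i : 1
    rcases lt_or_ge i a with h | h
    · exact (hab i (Or.inl h)).eq_of_src _ _
    · exact (L.isZero_of_isStrictlyLE (a - 1) i (by omega)).eq_of_tgt _ _
  rw [← cancel_mono e.hom, ← hg, this, Functor.map_zero]
  exact (zero_comp).symm

theorem isZero_of_subsingleton' (M : ModuleCat.{u} A) (h : Subsingleton M) : IsZero M :=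
  ModuleCat.isZero_of_subsingleton M

/-- The part in degrees `≥ m`. -/
noncomputable def cutSub (E : DRing.Cx A) (m i : ℤ) : Submodule A (E.X i) := if m ≤ i then ⊤ else ⊥

theorem cutSub_of_le (E : DRing.Cx A) {m i : ℤ} (h : m ≤ i) : cutSub E m i = ⊤ := if_pos h

theorem cutSub_of_lt (E : DRing.Cx A) {m i : ℤ} (h : i < m) : cutSub E m i = ⊥ := if_neg (by omega)

theorem d_mem_cutSub (E : DRing.Cx A) (m : ℤ) {i j : ℤ} (hij : i + 1 = j) (x : E.X i)
    (hx : x ∈ cutSub E m i) : (E.d i j).hom x ∈ cutSub E m j := by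
  by_cases h : m ≤ j
  · rw [cutSub_of_le E h]; trivial
  · rw [cutSub_of_lt E (by omega)] at hx
    rw [(Submodule.mem_bot A).1 hx, map_zero]
    exact Submodule.zero_mem _

/-- Brutal truncation in degrees `≥ m`. -/
noncomputable def cutGE (E : DRing.Cx A) (m : ℤ) : DRing.Cx A where
  X i := ModuleCat.of A (cutSub E m i)
  d i j := if h : i + 1 = j then
      ModuleCat.ofHom ((E.d i j).hom.restrict (d_mem_cutSub E m h)) else 0
  shape i j h := dif_neg h
  d_comp_d' i j k hij hjk := by
    change i + 1 = j at hij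
    change j + 1 = k at hjk
    rw [dif_pos hij, dif_pos hjk]
    exact ModuleCat.hom_ext (LinearMap.ext fun x => Subtype.ext (d_apply_d E i j k _))

/-- The inclusion of the brutal truncation. -/
noncomputable def cutι (E : DRing.Cx A) (m : ℤ) : cutGE E m ⟶ E where
  f i := ModuleCat.ofHom (cutSub E m i).subtype
  comm' i j hij := by
    change i + 1 = j at hij
    have : (cutGE E m).d i j =
        ModuleCat.ofHom ((E.d i j).hom.restrict (d_mem_cutSub E m hij)) := dif_pos hij
    rw [this]
    rfl

theorem isZero_cutGE (E : DRing.Cx A) {m i : ℤ} (h : i < m) : IsZero ((cutGE E m).X i) := by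
  haveI : Subsingleton (cutSub E m i) := by rw [cutSub_of_lt E h]; infer_instance
  exact isZero_of_subsingleton' (ModuleCat.of A (cutSub E m i)) this

theorem isZero_cutGE_of_isZero (E : DRing.Cx A) {m i : ℤ} (h : IsZero (E.X i)) :
    IsZero ((cutGE E m).X i) := by
  haveI := ModuleCat.subsingleton_of_isZero h
  exact isZero_of_subsingleton' (ModuleCat.of A (cutSub E m i)) inferInstance

theorem cutι_bijective (E : DRing.Cx A) {m i : ℤ} (h : m ≤ i) :
    Function.Bijective ((cutι E m).f i).hom :=
  ⟨Subtype.val_injective, fun x => ⟨⟨x, by rw [cutSub_of_le E h]; trivial⟩, rfl⟩⟩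

theorem acyc_cone_cutι (E : DRing.Cx A) (m : ℤ) (T : Triangle (Dual.D A))
    (hT : T ∈ distinguishedTriangles) (e1 : T.obj₁ ≅ (QA A).obj (cutGE E m))
    (e2 : T.obj₂ ≅ (QA A).obj E) (hcomm : T.mor₁ ≫ e2.hom = e1.hom ≫ (QA A).map (cutι E m)) :
    Acyc m T.obj₃ := by
  rw [acyc_obj₃_iff T hT]
  have hm : T.mor₁ = e1.hom ≫ (QA A).map (cutι E m) ≫ e2.inv := by
    rw [← reassoc_of% hcomm, Iso.hom_inv_id, Category.comp_id]
  have hs : ∀ i, m ≤ i → Function.Surjective (HomologicalComplex.homologyMap (cutι E m) i).hom := by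
    intro i hi
    rw [surjective_homologyMap_iff]
    intro z hz
    obtain ⟨x, rfl⟩ := (cutι_bijective E hi).2 z
    refine ⟨x, ?_, by simp⟩
    apply (cutι_bijective E (show m ≤ i + 1 by omega)).1
    rw [f_apply_d, hz, map_zero]
  refine ⟨fun i hi => ?_, ?_⟩
  · rw [hm, Functor.map_comp, Functor.map_comp]
    haveI : IsIso ((HF A i).map ((QA A).map (cutι E m))) := by
      rw [isIso_HF_Q_map_iff, isIso_iff_bijective]
      refine ⟨(injective_homologyMap_iff _ _).2 fun x hx y hy => ?_, hs i hi.le⟩
      obtain ⟨w, rfl⟩ := (cutι_bijective E (show m ≤ i - 1 by omega)).2 y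
      exact ⟨w, (cutι_bijective E hi.le).1 (by rw [f_apply_d, hy])⟩
    infer_instance
  · rw [hm, Functor.map_comp, Functor.map_comp]
    haveI : Epi ((HF A m).map ((QA A).map (cutι E m))) := (epi_HF_Q_map_iff _ _).2 (hs m le_rfl)
    infer_instance

end Groth.Agent.DR39
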