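import Groth.Agent.DR39.LocalDual2
import Groth.Agent.EGA4Alg4.DepthChange

/-! Cohomology of a dualizing complex as `Hom(A[0], ω[i])`; Cohen–Macaulay modules. -/

set_option autoImplicit false
set_option linter.style.haveILetI false
set_option linter.unusedSectionVars false

universe u

open CategoryTheory CategoryTheory.Limits CategoryTheory.Pretriangulated TensorProduct

attribute [local instance] HasDerivedCategory.standard

namespace Groth.Agent.DR39

variable {A : Type u} [CommRing A]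

/-- `Hom(A[0], X[i]) = Hⁱ(X)` -/
noncomputable def gmSelfEquiv (X : Dual.D A) (i : ℤ) :
    (Dual.inD A A ⟶ X⟦i⟧) ≃ₗ[A] Dual.HD A X i :=
  haveI : Projective (ModuleCat.of A A) := (IsProjective.iff_projective _).1 inferInstance
  LinearEquiv.ofBijective (LC17.homToH0Lin (ModuleCat.of A A) (X⟦i⟧)) (homToH0_bijective _ _) ≪≫ₗ
    ModuleCat.homLinearEquiv ≪≫ₗ LinearMap.ringLmapEquivSelf A A _ ≪≫ₗ
    (LC17.shiftH X i).toLinearEquiv

variable {ω : Dual.D A} (hω : Dual.IsDualizing A ω)
include hω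

theorem nontrivial_localized_HD_iff (i : ℤ) (q : PrimeSpectrum A) :
    Nontrivial (LocalizedModule q.asIdeal.primeCompl (Dual.HD A ω i)) ↔
      LC17.gAnn ω (ModuleCat.of A A) i ≤ q.asIdeal := by
  rw [← Module.mem_support_iff, ← (gmSelfEquiv ω i).support_eq, mem_support_gm hω A i q]

variable [IsLocalRing A] (hn : Dual.IsNormalized A ω)
include hn

theorem bounds_of_nontrivial (M : Type u) [AddCommGroup M] [Module A M] [Module.Finite A M] {d : ℕ}
    (hd : Module.supportDim A M = (d : ℕ∞)) {i : ℤ} (h : Nontrivial (Dual.inD A M ⟶ ω⟦i⟧)) :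
    -(d : ℤ) ≤ i ∧ i ≤ 0 := by
  haveI := hω.isNoetherianRing
  rw [← not_subsingleton_iff_nontrivial, subsingleton_gm_iff] at h
  refine ⟨?_, ?_⟩
  · by_contra hlt
    exact h (gAnn_top_of_lt hω hn d M hd.le i (by omega))
  · by_contra hlt
    exact h (LC17.gAnn_pos hω hn M (by omega))

theorem nontrivial_top (M : Type u) [AddCommGroup M] [Module A M] [Module.Finite A M] {d : ℕ}
    (hd : Module.supportDim A M = (d : ℕ∞)) : Nontrivial (Dual.inD A M ⟶ ω⟦(-(d : ℤ))⟧) := by
  haveI := hω.isNoetherianRing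
  obtain ⟨q, hq, hqd⟩ := exists_mem_support_dim M hd
  have hmin : Minimal (· ∈ Module.support A M) q := by
    refine ⟨hq, fun q' hq' hle => ?_⟩
    by_contra hne
    have hlt : q'.asIdeal < q.asIdeal := lt_of_le_of_ne hle fun h => hne h.ge
    have h1 := (EGA4Alg4.ringKrullDim_quotient_lt hlt).trans_le
      (EGA4Alg4.ringKrullDim_quotient_le_supportDim hq')
    rw [hd, hqd] at h1
    exact absurd h1 (lt_irrefl _)
  rw [← not_subsingleton_iff_nontrivial, subsingleton_gm_iff]
  intro htop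
  exact q.2.ne_top (top_le_iff.1 (htop ▸ gAnn_le_of_minimal hω hn M q hmin hqd))

theorem supportDim_gm_le (M : Type u) [AddCommGroup M] [Module A M] [Module.Finite A M] (i : ℤ) :
    Module.supportDim A (Dual.inD A M ⟶ ω⟦i⟧) ≤ ((-i).toNat : WithBot ℕ∞) := by
  refine le_supportDim_quotient fun q hq => ?_
  obtain ⟨e, he⟩ := exists_dim_quotient hω hn q.asIdeal
  have := dim_le_of_gAnn_le hω hn M ((mem_support_gm hω M i q).1 hq) he
  rw [he]
  exact_mod_cast (show e ≤ (-i).toNat by omega)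

theorem cm_iff (M : Type u) [AddCommGroup M] [Module A M] [Module.Finite A M] [Nontrivial M] {d : ℕ}
    (hd : Module.supportDim A M = (d : ℕ∞)) :
    LocCoh.IsCohenMacaulayModule A M ↔ ∀ i : ℤ, i ≠ d → Subsingleton (Dual.inD A M ⟶ ω⟦(-i)⟧) := by
  haveI := hω.isNoetherianRing
  rw [LocCoh.IsCohenMacaulayModule, hd]
  constructor
  · intro h i hi
    have hdep : LocCoh.depth A M = d := (WithBot.coe_inj.1 h).symm
    obtain ⟨h1, -⟩ := (depth_eq_iff hω hn M d).1 hdep
    by_contra hne
    rw [not_subsingleton_iff_nontrivial] at hne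
    obtain ⟨h3, h4⟩ := bounds_of_nontrivial hω hn M hd hne
    lift i to ℕ using (by omega) with δ
    exact not_subsingleton (Dual.inD A M ⟶ ω⟦(-(δ : ℤ))⟧) (h1 δ (by omega))
  · intro h
    have hdep : LocCoh.depth A M = d := (depth_eq_iff hω hn M d).2
      ⟨fun δ hδ => h δ (by exact_mod_cast hδ.ne), nontrivial_top hω hn M hd⟩
    rw [hdep]

theorem mem_support_le_iff (M : Type u) [AddCommGroup M] [Module A M] [Module.Finite A M] (i : ℕ)
    (p : PrimeSpectrum A) :
    (∃ j : ℕ, j ≤ i ∧ p ∈ Module.support A (Dual.inD A M ⟶ ω⟦(-(j : ℤ))⟧)) ↔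
      ((LocCoh.depth (Localization.AtPrime p.asIdeal) (LocalizedModule p.asIdeal.primeCompl M) : ℕ∞) :
        WithBot ℕ∞) + ringKrullDim (A ⧸ p.asIdeal) ≤ (i : WithBot ℕ∞) := by
  haveI := hω.isNoetherianRing
  haveI : IsNoetherianRing (Localization.AtPrime p.asIdeal) :=
    IsLocalization.isNoetherianRing p.asIdeal.primeCompl _ inferInstance
  obtain ⟨e, he⟩ := exists_dim_quotient hω hn p.asIdeal
  have hω' := isDualizing_shift (isDualizing_atPrime hω p.asIdeal) (-(e : ℤ))
  have hn' := isNormalized_atPrime hω hn p.asIdeal he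
  have key : ∀ j : ℕ, p ∈ Module.support A (Dual.inD A M ⟶ ω⟦(-(j : ℤ))⟧) ↔
      Nontrivial (Dual.inD (Localization.AtPrime p.asIdeal) (Localization.AtPrime p.asIdeal ⊗[A] M) ⟶
        (((DF (extA A (Localization.AtPrime p.asIdeal))).obj ω)⟦-(e : ℤ)⟧)⟦(-(j : ℤ) + e)⟧) := fun j => by
    rw [mem_support_gm hω M _ p, gAnn_le_iff_normalized hω hn M _ p.asIdeal (e := e),
      ← not_subsingleton_iff_nontrivial, subsingleton_gm_iff]
  simp only [key]
  let eM := LocalizedModule.equivTensorProduct p.asIdeal.primeCompl M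
  rw [EGA4Alg4.depth_eq_of_equiv eM, he]
  rcases subsingleton_or_nontrivial (Localization.AtPrime p.asIdeal ⊗[A] M) with hM | hM
  · rw [EGA4Alg4.depth_of_subsingleton]
    refine ⟨fun ⟨j, _, hj⟩ => ?_, fun h => ?_⟩
    · exfalso
      obtain ⟨f, g, hfg⟩ := hj
      exact hfg (((DerivedCategory.singleFunctor _ 0).map_isZero (ModuleCat.isZero_of_subsingleton
        (ModuleCat.of (Localization.AtPrime p.asIdeal) _))).eq_of_src f g)
    · exfalso
      rw [show ((⊤ : ℕ∞) : WithBot ℕ∞) + ((e : ℕ∞) : WithBot ℕ∞) = ((⊤ : ℕ∞) : WithBot ℕ∞) by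
        rw [← WithBot.coe_add, top_add]] at h
      exact absurd h (by exact_mod_cast ENat.coe_ne_top i ∘ top_le_iff.1)
  obtain ⟨n, hn0⟩ := EGA4Alg4.exists_depth_eq (A := Localization.AtPrime p.asIdeal)
    (M := Localization.AtPrime p.asIdeal ⊗[A] M)
  obtain ⟨h1, h2⟩ := (depth_eq_iff hω' hn' _ n).1 hn0
  rw [hn0]
  constructor
  · rintro ⟨j, hji, hj⟩
    have hje : (e : ℤ) ≤ j := by
      by_contra hlt
      rw [← not_subsingleton_iff_nontrivial, subsingleton_gm_iff] at hj
      exact hj (LC17.gAnn_pos hω' hn' _ (by omega))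
    have hnj : n ≤ j - e := by
      by_contra hlt
      have := h1 (j - e) (by omega)
      rw [show -((j - e : ℕ) : ℤ) = -(j : ℤ) + e by omega] at this
      exact (not_subsingleton_iff_nontrivial.2 hj) this
    exact_mod_cast (show n + e ≤ i by omega)
  · intro h
    have hne : n + e ≤ i := by exact_mod_cast h
    exact ⟨n + e, hne, by rw [show -((n + e : ℕ) : ℤ) + e = -(n : ℤ) by omega]; exact h2⟩

end Groth.Agent.DR39
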