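import Groth.Agent.DR39.Resolution
import Mathlib.RingTheory.Noetherian.Basic

/-! Pseudo-coherence over coherent rings. -/

set_option autoImplicit false
set_option linter.style.haveILetI false
set_option linter.unusedSectionVars false

universe u

open CategoryTheory CategoryTheory.Limits CategoryTheory.Pretriangulated

attribute [local instance] HasDerivedCategory.standard

namespace Groth.Agent.DR39

variable {A : Type u} [CommRing A]

open DerivedCategory DerivedCategory.TStructure in
/-- The triangle splitting off the top cohomology. -/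
theorem exists_triangle_top (X : Dual.D A) (n : ℤ) (h : Acyc (n + 1) X) :
    ∃ T : Triangle (Dual.D A), T ∈ distinguishedTriangles ∧ T.obj₂ = X ∧ Acyc n T.obj₁ ∧
      (∀ i, i < n → Nonempty ((HF A i).obj T.obj₁ ≅ (HF A i).obj X)) ∧
      Nonempty (T.obj₃ ≅ (DerivedCategory.singleFunctor (ModuleCat.{u} A) n).obj ((HF A n).obj X)) := by
  let T := ((t : Triangulated.TStructure (Dual.D A)).triangleLTGE n).obj X
  have hT : T ∈ distinguishedTriangles := t.triangleLTGE_distinguished n X
  haveI hLE : T.obj₁.IsLE (n - 1) := inferInstanceAs (t.IsLE _ (n - 1))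
  haveI hGE : T.obj₃.IsGE n := inferInstanceAs (t.IsGE _ n)
  have hlow : ∀ i, i < n → IsIso ((HF A i).map T.mor₁) := fun i hi => by
    haveI : Epi ((HF A i).map T.mor₁) := (HomologySequence.epi_homologyMap_mor₁_iff T hT i).2
      ((T.obj₃.isZero_of_isGE n i hi).eq_of_tgt _ _)
    haveI : Mono ((HF A i).map T.mor₁) :=
      (HomologySequence.mono_homologyMap_mor₁_iff T hT (i - 1) i (by omega)).2
        ((T.obj₃.isZero_of_isGE n (i - 1) (by omega)).eq_of_src _ _)
    exact isIso_of_mono_of_epi _
  have hhigh : ∀ i, n ≤ i → IsIso ((HF A i).map T.mor₂) := fun i hi => by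
    haveI : Mono ((HF A i).map T.mor₂) := (HomologySequence.mono_homologyMap_mor₂_iff T hT i).2
      ((T.obj₁.isZero_of_isLE (n - 1) i (by omega)).eq_of_src _ _)
    haveI : Epi ((HF A i).map T.mor₂) :=
      (HomologySequence.epi_homologyMap_mor₂_iff T hT i (i + 1) rfl).2
        ((T.obj₁.isZero_of_isLE (n - 1) (i + 1) (by omega)).eq_of_tgt _ _)
    exact isIso_of_mono_of_epi _
  refine ⟨T, hT, rfl, fun i hi => T.obj₁.isZero_of_isLE (n - 1) i (by omega), fun i hi => ?_, ?_⟩
  ·
    exact ⟨@asIso _ _ _ _ _ (hlow i hi)⟩
  · obtain ⟨e⟩ := exists_iso_single_homology T.obj₃ n fun i hi => by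
      rcases lt_or_gt_of_ne hi with h' | h'
      · exact T.obj₃.isZero_of_isGE n i h'
      · haveI := hhigh i h'.le
        exact (h i (by omega)).of_iso (asIso ((HF A i).map T.mor₂)).symm
    haveI := hhigh n le_rfl
    exact ⟨e ≪≫ (DerivedCategory.singleFunctor _ n).mapIso (asIso ((HF A n).map T.mor₂)).symm⟩

theorem acyc_single_add (M : ModuleCat.{u} A) (n m : ℤ) (h : n < m) :
    PC m ((DerivedCategory.singleFunctor (ModuleCat.{u} A) n).obj M) := pc_of_acyc (acyc_single M n m h)

/-- Over a coherent ring, the cohomology of a pseudo-coherent object is finitely presented. -/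
theorem homology_of_pc (hcoh : ∀ (M : Type u) [AddCommGroup M] [Module A M],
      Module.FinitePresentation A M → ∀ m, PC m (Dual.inD A M))
    {m : ℤ} {X : Dual.D A} (hX : PC m X) :
    Module.Finite A ((HF A m).obj X) ∧
      ∀ i, m < i → Module.FinitePresentation A ((HF A i).obj X) := by
  suffices key : ∀ (k : ℕ) (Y : Dual.D A), Acyc (m + k) Y → PC m Y →
      Module.Finite A ((HF A m).obj Y) ∧ ∀ i, m < i → Module.FinitePresentation A ((HF A i).obj Y) by
    obtain ⟨b, hb⟩ := acyc_of_pc hX
    exact key (b - m).toNat X (hb.mono (by omega)) hX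
  intro k
  induction k with
  | zero =>
    intro Y hY _
    refine ⟨finite_of_isZero (hY m (by simp)), fun i hi => ?_⟩
    haveI := ModuleCat.subsingleton_of_isZero (hY i (by simp; omega))
    exact Module.finitePresentation_of_projective A _
  | succ k ih =>
    intro Y hY hpc
    push_cast at hY
    obtain ⟨T, hT, rfl, h1, hlow, ⟨e⟩⟩ := exists_triangle_top Y (m + k) (by rwa [add_assoc])
    have hfpc : ∀ (M : Type u) [AddCommGroup M] [Module A M], Module.FinitePresentation A M →
        PC (m - 1) ((DerivedCategory.singleFunctor (ModuleCat.{u} A) (m + k)).obj (ModuleCat.of A M)) :=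
      fun M _ _ hM => (pc_single_iff _ _ _).2 (hcoh M hM _)
    have hzero : ∀ i, m + k < i → IsZero ((HF A i).obj T.obj₂) := fun i hi => hY i (by omega)
    have htop : k ≠ 0 → Module.FinitePresentation A ((HF A (m + k)).obj T.obj₂) := fun hk => by
      have h3 : PC (m + k - 1) ((DerivedCategory.singleFunctor (ModuleCat.{u} A) (m + k)).obj
          ((HF A (m + k)).obj T.obj₂)) :=
        (PC.obj₃ hT (pc_of_acyc (h1.mono (by omega))) (hpc.mono (by omega))).of_iso e
      have := (pc_single_iff _ _ _).1 h3
      rw [show m + (k : ℤ) - 1 - (m + k) = -1 by omega] at this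
      exact (pcModule_negOne_iff _).1 this
    rcases Nat.eq_zero_or_pos k with rfl | hk
    · simp only [Nat.cast_zero, add_zero] at hzero hY
      refine ⟨finite_HF_top hpc hY, fun i hi => ?_⟩
      haveI := ModuleCat.subsingleton_of_isZero (hzero i hi)
      exact Module.finitePresentation_of_projective A _
    · have h3 : PC (m - 1) T.obj₃ := (hfpc _ (htop (by omega))).of_iso e.symm
      have hT1 := PC.obj₁ hT (by rwa [sub_add_cancel]) h3
      rw [sub_add_cancel] at hT1
      obtain ⟨h0, hi'⟩ := ih T.obj₁ h1 hT1
      obtain ⟨e0⟩ := hlow m (by omega)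
      refine ⟨Module.Finite.equiv e0.toLinearEquiv, fun i hi => ?_⟩
      rcases lt_trichotomy i (m + k) with h | rfl | h
      · obtain ⟨ei⟩ := hlow i h
        haveI := hi' i hi
        exact Module.FinitePresentation.of_equiv ei.toLinearEquiv
      · exact htop (by omega)
      · haveI := ModuleCat.subsingleton_of_isZero (hzero i h)
        exact Module.finitePresentation_of_projective A _

theorem pc_inD_of_coherent {P : ∀ (M : Type u) [AddCommGroup M] [Module A M], Prop}
    (h : ∀ (M : Type u) [AddCommGroup M] [Module A M], P M →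
      ∃ (n : ℕ) (g : (Fin n → A) →ₗ[A] M), Function.Surjective g ∧ P (LinearMap.ker g))
    (M : Type u) [AddCommGroup M] [Module A M] (hM : P M) (m : ℤ) : PC m (Dual.inD A M) := by
  suffices key : ∀ (k : ℕ) (M : Type u) [AddCommGroup M] [Module A M], P M → PC (1 - k) (Dual.inD A M) from
    (key (1 - m).toNat M hM).mono (by omega)
  intro k
  induction k with
  | zero => exact fun M _ _ _ => pc_of_acyc (acyc_inD M (by omega))
  | succ k ih =>
    intro M _ _ hM
    obtain ⟨n, g, hg, hker⟩ := h M hM
    obtain ⟨T, hT, e1, e2, e3⟩ := exists_triangle_of_surjective g hg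
    rw [← e3]
    refine PC.obj₃ hT ?_ (by rw [e2]; exact pc_of_bff (bff_inD_of_free _))
    rw [e1]
    exact (ih _ hker).mono (by omega)

theorem finitePresentation_submodule_pi (hR : ∀ I : Ideal A, I.FG → Module.FinitePresentation A I)
    (n : ℕ) (N : Submodule A (Fin n → A)) (hN : N.FG) : Module.FinitePresentation A N := by
  haveI := Module.Finite.iff_fg.2 hN
  induction n with
  | zero => exact Module.finitePresentation_of_projective A _
  | succ n ih =>
    let p : N →ₗ[A] A := (LinearMap.proj 0) ∘ₗ N.subtype
    have hI : (LinearMap.range p).FG := by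
      rw [LinearMap.range_eq_map]
      exact Module.Finite.fg_top.map p
    have hIp : Module.FinitePresentation A (LinearMap.range p) := hR _ hI
    have hk : (LinearMap.ker p.rangeRestrict).FG :=
      haveI := hIp; Module.FinitePresentation.fg_ker p.rangeRestrict p.surjective_rangeRestrict
    let q : LinearMap.ker p.rangeRestrict →ₗ[A] (Fin n → A) :=
      LinearMap.funLeft A A Fin.succ ∘ₗ N.subtype ∘ₗ (LinearMap.ker p.rangeRestrict).subtype
    have hq : Function.Injective q := by
      intro x y h
      refine Subtype.ext (Subtype.ext (funext fun i => ?_))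
      refine Fin.cases ?_ (fun j => congrFun h j) i
      have hx := congrArg Subtype.val (LinearMap.mem_ker.1 x.2)
      have hy := congrArg Subtype.val (LinearMap.mem_ker.1 y.2)
      exact hx.trans hy.symm
    haveI := Module.Finite.iff_fg.2 hk
    have hr : (LinearMap.range q).FG := by
      rw [LinearMap.range_eq_map]
      exact Module.Finite.fg_top.map q
    have hrp := ih _ hr (Module.Finite.iff_fg.2 hr)
    have key : ∀ (V : Type u) [AddCommGroup V] [Module A V] 
        (W : Type u) [AddCommGroup W] [Module A W] (l : V →ₗ[A] W), Function.Bijective l →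
        Module.FinitePresentation A V → Module.FinitePresentation A W := fun V _ _ W _ _ l hl _ =>
      Module.finitePresentation_of_surjective l hl.2
        (by rw [LinearMap.ker_eq_bot.2 hl.1]; exact Submodule.fg_bot)
    have hkp : Module.FinitePresentation A (LinearMap.ker p.rangeRestrict) :=
      key (LinearMap.range q) (LinearMap.ker p.rangeRestrict) ((LinearEquiv.ofInjective q hq).symm : LinearMap.range q →ₗ[A] _)
        (LinearEquiv.ofInjective q hq).symm.bijective hrp
    exact @Module.finitePresentation_of_ker A _ _ _ _ _ _ _ hIp p.rangeRestrict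
      p.surjective_rangeRestrict hkp

theorem pc_inD_of_fp_of_coherent (hR : ∀ I : Ideal A, I.FG → Module.FinitePresentation A I)
    (M : Type u) [AddCommGroup M] [Module A M] (hM : Module.FinitePresentation A M) (m : ℤ) :
    PC m (Dual.inD A M) := by
  refine pc_inD_of_coherent (P := fun M _ _ => Module.FinitePresentation A M) ?_ M hM m
  intro M _ _ hM
  obtain ⟨n, g, hg⟩ := Module.Finite.exists_fin' A M
  exact ⟨n, g, hg, finitePresentation_submodule_pi hR n _ (Module.FinitePresentation.fg_ker g hg)⟩

end Groth.Agent.DR39
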