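import Groth.Agent.DR39.TA
import Groth.Agent.DR39.PC3
import Mathlib.CategoryTheory.Abelian.Projective.Dimension

/-! Perfect objects. -/

set_option autoImplicit false
set_option linter.style.haveILetI false
set_option linter.unusedSectionVars false

universe u

open CategoryTheory CategoryTheory.Limits CategoryTheory.Pretriangulated

attribute [local instance] HasDerivedCategory.standard

namespace Groth.Agent.DR39

variable {A : Type u} [CommRing A]

theorem perfect_iff_rep (X : Dual.D A) :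
    DRing.IsPerfect A X ↔ ∃ a b : ℤ, Rep FPp (Set.Icc a b) X :=
  ⟨fun ⟨E, a, b, h1, h2, h3⟩ => ⟨a, b, E, (vanishesOutside_iff E a b).1 h1, h2, h3⟩,
    fun ⟨a, b, E, h1, h2, h3⟩ => ⟨E, a, b, (vanishesOutside_iff E a b).2 h1, h2, h3⟩⟩

theorem pc_inD_of_FP (M : Type u) [AddCommGroup M] [Module A M] [Module.Finite A M]
    [Module.Projective A M] (m : ℤ) : PC m (Dual.inD A M) := by
  refine pc_inD_of_coherent (P := fun M _ _ => Module.Finite A M ∧ Module.Projective A M) ?_ M
    ⟨inferInstance, inferInstance⟩ m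
  intro M _ _ hM
  haveI := hM.1; haveI := hM.2
  obtain ⟨n, g, hg⟩ := Module.Finite.exists_fin' A M
  obtain ⟨s, hs⟩ := Module.projective_lifting_property g LinearMap.id hg
  have hr : ∀ x, (LinearMap.id - s ∘ₗ g : (Fin n → A) →ₗ[A] _) x ∈ LinearMap.ker g := fun x => by
    rw [LinearMap.mem_ker, LinearMap.sub_apply, map_sub, sub_eq_zero]
    exact (LinearMap.congr_fun hs (g x)).symm
  let r : (Fin n → A) →ₗ[A] LinearMap.ker g := LinearMap.codRestrict _ _ hr
  have hr' : ∀ x : LinearMap.ker g, r x = x := fun x => Subtype.ext (by simp [r])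
  exact ⟨n, g, hg, Module.Finite.of_surjective r fun x => ⟨x, hr' x⟩,
    Module.Projective.of_split (LinearMap.ker g).subtype r (LinearMap.ext hr')⟩

theorem pc_of_rep_FP {X : Dual.D A} {b : ℤ} (h : Rep FPp (Set.Iic b) X) (m : ℤ) : PC m X := by
  obtain ⟨E, hE, hFP, ⟨e⟩⟩ := h
  refine (pc_of_terms E b ((vanishesAbove_iff E b).2 hE) fun i _ => ?_).of_iso e
  haveI := (hFP i).1; haveI := (hFP i).2
  exact pc_inD_of_FP (E.X i) _

theorem pc'_of_rep_FP {X : Dual.D A} {b : ℤ} (h : Rep FPp (Set.Iic b) X) :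
    DRing.IsPseudoCoherent' A X := (pc'_iff_forall_pc X).2 (pc_of_rep_FP h)

theorem flat_of_FP {M : ModuleCat.{u} A} (h : FPp M) : FLp M := flat_of_PR h.2

theorem rep_FP_of_pc_of_ta {X : Dual.D A} {a b : ℤ} (hpc : PC (a - 1) X) (h : TA a b X) :
    Rep FPp (Set.Icc a b) X := by
  obtain ⟨E, hEv, hfree, hfin, ⟨e⟩⟩ := exists_finite_free_above h.acyc hpc
  have hflat : ∀ i, Module.Flat A (E.X i) := fun i => flat_of_FR (hfree i)
  have hlow := h.lowEx (isKFlat_of_flat b hEv hflat) e
  haveI := isGE_of_lowEx hlow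
  haveI := hflat a
  haveI := flat_coker E a fun M => exT_of_lowEx hlow M (by omega)
  haveI := hfin a (by omega); haveI := hfin (a - 1) le_rfl; haveI := hfree a
  haveI : Module.FinitePresentation A (E.X a ⧸ LinearMap.range (E.d (a - 1) a).hom) :=
    Module.finitePresentation_of_free_of_surjective _ (Submodule.mkQ_surjective _)
      (by rw [Submodule.ker_mkQ, LinearMap.range_eq_map]; exact Module.Finite.fg_top.map _)
  haveI : Module.Projective A (E.X a ⧸ LinearMap.range (E.d (a - 1) a).hom) :=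
    Module.Flat.projective_of_finitePresentation
  refine ⟨E.truncGE a, (vanishesOutside_iff _ a b).1 (vanishesOutside_truncGE E a b hEv),
    cls_truncGE isModClass_FP E a (fun i hi => ⟨hfin i (by omega), proj_of_FR (hfree i)⟩)
      ⟨inferInstance, inferInstance⟩, ⟨(asIso ((QA A).map (E.πTruncGE a))).symm ≪≫ e⟩⟩

theorem perfect_iff (X : Dual.D A) :
    DRing.IsPerfect A X ↔ DRing.IsPseudoCoherent' A X ∧ DRing.HasFiniteTorDimCx A X := by
  rw [perfect_iff_rep]
  constructor
  · rintro ⟨a, b, h⟩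
    exact ⟨pc'_of_rep_FP (h.mono Set.Icc_subset_Iic_self),
      a, b, (ta_iff_rep a b X).2 (h.weaken fun _ => flat_of_FP)⟩
  · rintro ⟨hpc, a, b, h⟩
    exact ⟨a, b, rep_FP_of_pc_of_ta (pc_of_pc' hpc _) h⟩

theorem finiteTorDim_of_iso {X Y : Dual.D A} (h : DRing.HasFiniteTorDimCx A X) (e : X ≅ Y) :
    DRing.HasFiniteTorDimCx A Y := by
  obtain ⟨a, b, h⟩ := h; exact ⟨a, b, TA.of_iso h e⟩

theorem perfect_of_iso {X Y : Dual.D A} (h : DRing.IsPerfect A X) (e : X ≅ Y) :
    DRing.IsPerfect A Y := by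
  obtain ⟨a, b, h⟩ := (perfect_iff_rep X).1 h
  exact (perfect_iff_rep Y).2 ⟨a, b, h.of_iso e⟩

theorem perfect_of_isZero {X : Dual.D A} (h : IsZero X) : DRing.IsPerfect A X :=
  (perfect_iff_rep X).2 ⟨0, 0, Rep.of_isZero isModClass_FP h⟩

theorem perfect_shift {X : Dual.D A} (h : DRing.IsPerfect A X) (n : ℤ) :
    DRing.IsPerfect A (X⟦n⟧) := by
  obtain ⟨a, b, h⟩ := (perfect_iff_rep X).1 h
  exact (perfect_iff_rep _).2 ⟨a - n, b - n, h.shift n fun i hi => by
    simp only [Set.mem_Icc] at hi ⊢; omega⟩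

theorem perfect_obj₃ {T : Triangle (Dual.D A)} (hT : T ∈ distinguishedTriangles)
    (h₁ : DRing.IsPerfect A T.obj₁) (h₂ : DRing.IsPerfect A T.obj₂) : DRing.IsPerfect A T.obj₃ := by
  obtain ⟨a, b, h₁⟩ := (perfect_iff_rep _).1 h₁
  obtain ⟨a', b', h₂⟩ := (perfect_iff_rep _).1 h₂
  refine (perfect_iff_rep _).2 ⟨min (a - 1) a', max (b - 1) b', Rep.cone isModClass_FP
    Set.Icc_subset_Iic_self hT h₁ (fun M hM => proj_of_FP hM) h₂ fun i hi => ?_⟩
  simp only [Set.mem_Icc] at hi ⊢
  omega

theorem perfect_obj₂ {T : Triangle (Dual.D A)} (hT : T ∈ distinguishedTriangles)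
    (h₁ : DRing.IsPerfect A T.obj₁) (h₃ : DRing.IsPerfect A T.obj₃) : DRing.IsPerfect A T.obj₂ :=
  perfect_obj₃ (inv_rot_of_distTriang T hT) (perfect_shift h₃ (-1)) h₁

theorem perfect_obj₁ {T : Triangle (Dual.D A)} (hT : T ∈ distinguishedTriangles)
    (h₂ : DRing.IsPerfect A T.obj₂) (h₃ : DRing.IsPerfect A T.obj₃) : DRing.IsPerfect A T.obj₁ :=
  perfect_of_iso (perfect_shift (perfect_obj₃ (rot_of_distTriang T hT) h₂ h₃) (-1))
    ((shiftEquiv (Dual.D A) (1 : ℤ)).unitIso.symm.app T.obj₁)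

theorem perfect_single {M : ModuleCat.{u} A} (n : ℤ) (h : DRing.IsPerfect A (Dual.inD A M)) :
    DRing.IsPerfect A ((DerivedCategory.singleFunctor (ModuleCat.{u} A) n).obj M) :=
  perfect_of_iso (perfect_shift h (-n)) (singleShiftIso M n (-n) (by omega))

theorem perfect_of_terms (E : DRing.Cx A) (c d : ℤ) (hE : DRing.VanishesOutside E c d)
    (h : ∀ i, DRing.IsPerfect A (Dual.inD A (E.X i))) : DRing.IsPerfect A ((QA A).obj E) := by
  haveI := cutι_isIso_of_vanishesOutside E c d hE
  exact perfect_of_iso (induction_terms (P := DRing.IsPerfect A) (fun _ hT h1 h3 => perfect_obj₂ hT h1 h3)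
    (fun _ hX => perfect_of_isZero hX) E d (fun i hi => hE i (Or.inr hi)) c
    fun i _ => perfect_single i (h i)) ((QA A).mapIso (asIso (cutι E c)))

theorem perfect_of_homology {X : Dual.D A} {c d : ℤ} (hd : Acyc (d + 1) X)
    (hc : ∀ i, i < c → IsZero ((HF A i).obj X))
    (h : ∀ i, DRing.IsPerfect A (Dual.inD A ((HF A i).obj X))) : DRing.IsPerfect A X := by
  refine induction_homology (P := DRing.IsPerfect A) (fun e hX => perfect_of_iso hX e)
    (fun _ hT h1 h3 => perfect_obj₂ hT h1 h3)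
    c X (fun Y hY hlow => perfect_of_isZero (isZero_of_forall fun i => ?_))
    (fun i _ => perfect_single i (h i)) (d + 1) hd
  by_cases hi : c ≤ i
  · exact hY i hi
  · obtain ⟨e⟩ := hlow i (by omega)
    exact (hc i (by omega)).of_iso e

theorem perfect_of_retract {X Y : Dual.D A} [HasBinaryBiproduct X Y]
    (h : DRing.IsPerfect A (X ⊞ Y)) : DRing.IsPerfect A X := by
  obtain ⟨hpc, a, b, hta⟩ := (perfect_iff _).1 h
  exact (perfect_iff X).2 ⟨(pc'_iff_forall_pc X).2 fun m => PC.of_biprod (pc_of_pc' hpc m),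
    a, b, TA.of_retract hta biprod.inl biprod.fst biprod.inl_fst⟩

theorem acyc_of_hb {X : Dual.D A}
    (hb : ∃ a b : ℤ, ∀ i : ℤ, (i < a ∨ b < i) → Subsingleton (Dual.HD A X i)) :
    ∃ c d : ℤ, Acyc (d + 1) X ∧ ∀ i, i < c → IsZero ((HF A i).obj X) := by
  obtain ⟨a, b, hab⟩ := hb
  exact ⟨a, b, acyc_of_subsingleton fun i hi => hab i (Or.inr hi),
    fun i hi => (isZero_HF_iff X i).2 (hab i (Or.inl hi))⟩

theorem pd_ker {F M : Type u} [AddCommGroup F] [Module A F] [AddCommGroup M] [Module A M]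
    [Module.Projective A F] (g : F →ₗ[A] M) (hg : Function.Surjective g) (d : ℕ)
    (h : HasProjectiveDimensionLT (ModuleCat.of A M) (d + 1 + 1)) :
    HasProjectiveDimensionLT (ModuleCat.of A (LinearMap.ker g)) (d + 1) := by
  let S : ShortComplex (ModuleCat.{u} A) :=
    ShortComplex.mk (ModuleCat.ofHom (LinearMap.ker g).subtype) (ModuleCat.ofHom g)
      (ModuleCat.hom_ext (LinearMap.ext fun x => x.2))
  have hS : S.ShortExact :=
    { exact := by rw [ShortComplex.moduleCat_exact_iff]; exact fun x hx => ⟨⟨x, hx⟩, rfl⟩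
      mono_f := (ModuleCat.mono_iff_injective _).2 Subtype.val_injective
      epi_g := (ModuleCat.epi_iff_surjective _).2 hg }
  haveI : Projective S.X₂ := (IsProjective.iff_projective (R := A) F).1 inferInstance
  exact hS.hasProjectiveDimensionLT_X₁ (d + 1)
    (hasProjectiveDimensionLT_of_ge _ 1 (d + 1) (by omega)) h

theorem ta_inD_of_projDim (d : ℕ) (M : Type u) [AddCommGroup M] [Module A M]
    (h : HasProjectiveDimensionLT (ModuleCat.of A M) (d + 1)) : TA (-(d : ℤ)) 0 (Dual.inD A M) := by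
  induction d generalizing M with
  | zero =>
    haveI : Projective (ModuleCat.of A M) :=
      projective_iff_hasProjectiveDimensionLT_one.2 h
    haveI : Module.Projective A M :=
      (IsProjective.iff_projective (R := A) M).2 inferInstance
    simpa using ta_inD_of_flat (A := A) M
  | succ d ih =>
    obtain ⟨T, hT, e1, e2, e3⟩ := exists_triangle_of_surjective
      (Finsupp.linearCombination A (id : M → M)) (Finsupp.linearCombination_surjective A Function.surjective_id)
    have hk : HasProjectiveDimensionLT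
        (ModuleCat.of A (LinearMap.ker (Finsupp.linearCombination A (id : M → M)))) (d + 1) := by
      exact pd_ker _ (Finsupp.linearCombination_surjective A Function.surjective_id) d h
    rw [← e3]
    refine TA.obj₃ hT ?_ ?_
    · rw [e1]
      exact (ih _ hk).mono (by omega) (by omega)
    · rw [e2]
      exact (ta_inD_of_flat (A := A) (M →₀ A)).mono (by omega) le_rfl

end Groth.Agent.DR39
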