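import Groth.Agent.DR39.Split
import Groth.Agent.DR39.Perf
import Groth.Agent.EGA4H10.Serre
import Groth.Agent.S5804
import Groth.Agent.S5791

/-! Vanishing of morphisms over rings of finite global dimension. -/

set_option autoImplicit false
set_option linter.style.haveILetI false
set_option linter.unusedSectionVars false

universe u

open CategoryTheory CategoryTheory.Limits CategoryTheory.Pretriangulated

attribute [local instance] HasDerivedCategory.standard

namespace Groth.Agent.DR39

variable {A : Type u} [CommRing A]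

theorem gldim_of_regular [IsNoetherianRing A]
    (hreg : ∀ p : PrimeSpectrum A, IsRegularLocalRing (Localization.AtPrime p.asIdeal)) (d : ℕ)
    (hd : ringKrullDim A ≤ d) (M : Type u) [AddCommGroup M] [Module A M] :
    HasProjectiveDimensionLT (ModuleCat.of A M) (d + 1) := by
  refine Groth.Agent.S5804.result A d (fun I => ?_) M
  refine (Groth.Agent.S5791.result A (A ⧸ I) d).2 fun p => ?_
  haveI := hreg p
  let R := Localization.AtPrime p.asIdeal
  let dp := (IsLocalRing.maximalIdeal R).spanFinrank
  have hdp : ringKrullDim R = dp := (IsRegularLocalRing.spanFinrank_maximalIdeal (R := R)).symm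
  have hle : dp ≤ d := by
    have h1 : ringKrullDim R = p.asIdeal.height := IsLocalization.AtPrime.ringKrullDim_eq_height p.asIdeal R
    have h2 : ringKrullDim R ≤ (d : WithBot ℕ∞) := by
      rw [h1]; exact Ideal.height_le_ringKrullDim_of_isPrime.trans hd
    rw [hdp] at h2
    exact_mod_cast h2
  haveI := Groth.Agent.EGA4H10.hasPD_of_regular R dp hdp (LocalizedModule p.asIdeal.primeCompl (A ⧸ I))
  exact hasProjectiveDimensionLT_of_ge _ (dp + 1) (d + 1) (by omega)

theorem extVanish_shift {X : Dual.D A} {q : ℤ} (h : ExtVanish X (q + 1)) : ExtVanish (X⟦(1 : ℤ)⟧) q := by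
  intro N f
  let e : (sngl (q + 1) N)⟦(1 : ℤ)⟧ ≅ sngl q N :=
    ((DerivedCategory.singleFunctors (ModuleCat.{u} A)).shiftIso 1 q (q + 1) (by omega)).app N
  obtain ⟨g, hg⟩ := (shiftFunctor (Dual.D A) (1 : ℤ)).map_surjective (f ≫ e.inv)
  rw [← cancel_mono e.inv, zero_comp, ← hg, h N g]
  exact Functor.map_zero _ _ _

theorem extVanish_obj₂ {T : Triangle (Dual.D A)} (hT : T ∈ distinguishedTriangles) {n : ℤ}
    (h₁ : ExtVanish T.obj₁ n) (h₃ : ExtVanish T.obj₃ n) : ExtVanish T.obj₂ n := fun N f => by
  obtain ⟨g, rfl⟩ := Triangle.yoneda_exact₂ T hT f (h₁ N _)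
  rw [h₃ N g, comp_zero]

theorem extVanish_inD (d : ℕ) (M : Type u) [AddCommGroup M] [Module A M]
    (h : HasProjectiveDimensionLT (ModuleCat.of A M) (d + 1)) (q : ℤ) (hq : q < -(d : ℤ)) :
    ExtVanish (Dual.inD A M) q := by
  induction d generalizing M q with
  | zero =>
    haveI : Projective (ModuleCat.of A M) := projective_iff_hasProjectiveDimensionLT_one.2 h
    intro N f
    refine hom_eq_zero_of_projective
      ((HomologicalComplex.single (ModuleCat.{u} A) (ComplexShape.up ℤ) 0).obj (ModuleCat.of A M)) 0 0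
      (fun i hi => HomologicalComplex.isZero_single_obj_X _ _ _ _ (by omega)) (fun i => ?_)
      (acyc_single N q 0 (by simpa using hq)) f
    refine (IsProjective.iff_projective (R := A) _).2 ?_
    by_cases hi : i = 0
    · subst hi
      exact Projective.of_iso (HomologicalComplex.singleObjXSelf (ComplexShape.up ℤ) 0 (ModuleCat.of A M)).symm inferInstance
    · exact (HomologicalComplex.isZero_single_obj_X (ComplexShape.up ℤ) 0 (ModuleCat.of A M) i hi).projective
  | succ d ih =>
    obtain ⟨T, hT, e1, e2, e3⟩ := exists_triangle_of_surjective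
      (Finsupp.linearCombination A (id : M → M)) (Finsupp.linearCombination_surjective A Function.surjective_id)
    have hk : HasProjectiveDimensionLT
        (ModuleCat.of A (LinearMap.ker (Finsupp.linearCombination A (id : M → M)))) (d + 1) :=
      pd_ker _ (Finsupp.linearCombination_surjective A Function.surjective_id) d h
    rw [← e3]
    have hF : ExtVanish T.obj₂ q := by
      rw [e2]
      intro N f
      refine hom_eq_zero_of_projective
        ((HomologicalComplex.single (ModuleCat.{u} A) (ComplexShape.up ℤ) 0).obj (ModuleCat.of A (M →₀ A))) 0 0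
        (fun i hi => HomologicalComplex.isZero_single_obj_X _ _ _ _ (by omega)) (fun i => ?_)
        (acyc_single N q 0 (by omega)) f
      refine (IsProjective.iff_projective (R := A) _).2 ?_
      haveI : Projective (ModuleCat.of A (M →₀ A)) := (IsProjective.iff_projective (R := A) _).1 inferInstance
      by_cases hi : i = 0
      · subst hi
        exact Projective.of_iso (HomologicalComplex.singleObjXSelf (ComplexShape.up ℤ) 0 (ModuleCat.of A (M →₀ A))).symm inferInstance
      · exact (HomologicalComplex.isZero_single_obj_X (ComplexShape.up ℤ) 0 (ModuleCat.of A (M →₀ A)) i hi).projective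
    have hK : ExtVanish (T.obj₁⟦(1 : ℤ)⟧) q := by
      refine extVanish_shift ?_
      rw [e1]
      exact ih _ hk (q + 1) (by push_cast at hq; omega)
    intro N f
    obtain ⟨g, rfl⟩ := Triangle.yoneda_exact₃ T hT f (hF N _)
    rw [hK N g, comp_zero]

theorem hom_eq_zero_gap {d : ℕ} (hgl : ∀ (M : Type u) [AddCommGroup M] [Module A M],
      HasProjectiveDimensionLT (ModuleCat.of A M) (d + 1))
    {K L : Dual.D A} {b k : ℤ} (hb : Acyc b K) (hK : ∀ i, i ≤ k → IsZero ((HF A i).obj K))
    (hL : Acyc (k - d + 1) L) (f : K ⟶ L) : f = 0 := by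
  let b' := max b (k + 1)
  have hv : ExtVanish K (k - d) := by
    refine induction_homology (P := fun X => ExtVanish X (k - d)) (fun e h => h.of_iso e)
      (fun T hT h1 h3 => extVanish_obj₂ hT h1 h3) (k + 1) K (fun Y hY hlow N g => ?_) (fun i hi => ?_) b hb
    · have : IsZero Y := isZero_of_forall fun i => by
        by_cases hi : k + 1 ≤ i
        · exact hY i hi
        · obtain ⟨e⟩ := hlow i (by omega)
          exact (hK i (by omega)).of_iso e
      exact this.eq_of_src _ _
    · intro N g
      let e := singleShiftIso ((HF A i).obj K) i (-i) (by omega)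
      have h0 : ExtVanish (Dual.inD A ((HF A i).obj K)) (k - d - i) :=
        extVanish_inD d _ (hgl _) _ (by omega)
      let e2 : (sngl (k - d - i) N)⟦-i⟧ ≅ sngl (k - d) N :=
        ((DerivedCategory.singleFunctors (ModuleCat.{u} A)).shiftIso (-i) (k - d) (k - d - i) (by omega)).app N
      obtain ⟨g', hg'⟩ := (shiftFunctor (Dual.D A) (-i)).map_surjective (e.hom ≫ g ≫ e2.inv)
      rw [h0 N g', Functor.map_zero] at hg'
      have h1 : e.hom ≫ g = 0 := (cancel_mono e2.inv).1 (by rw [Category.assoc, zero_comp]; exact hg'.symm)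
      exact (cancel_epi e.hom).1 (h1.trans comp_zero.symm)
  obtain ⟨E, hE, hp, ⟨e⟩⟩ := rep_PR_of_extVanish (a := k - d + 1) (b := b') (hb.mono (by omega))
    (fun i hi => hK i (by omega)) (by rwa [add_sub_cancel_right])
  rw [← cancel_epi e.hom, comp_zero]
  exact hom_eq_zero_of_projective E (k - d + 1) b' ((vanishesOutside_iff E _ _).2 hE) hp hL _

/-- If the cohomology vanishes in `[a, c)` the truncations at `a` and `c` fit in a triangle. -/
theorem exists_triangle_wide_gap (K : Dual.D A) (a c : ℤ) (hac : a ≤ c)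
    (h : ∀ i, a ≤ i → i < c → IsZero ((HF A i).obj K)) :
    ∃ w, Triangle.mk (((tA A).truncLTι a).app K) (((tA A).truncGEπ c).app K) w ∈
      distinguishedTriangles := by
  let ν := ((tA A).natTransTruncGEOfLE a c hac).app K
  haveI : IsIso ν := by
    rw [DerivedCategory.isIso_iff]
    intro i
    by_cases hi : c ≤ i
    · haveI := isIso_HF_truncGEπ K a i (by omega)
      haveI := isIso_HF_truncGEπ K c i hi
      have hcomp : (HF A i).map (((tA A).truncGEπ a).app K) ≫ (HF A i).map ν =
          (HF A i).map (((tA A).truncGEπ c).app K) := by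
        rw [← Functor.map_comp]
        congr 1
        exact (tA A).π_natTransTruncGEOfLE_app a c hac K
      haveI : IsIso ((HF A i).map (((tA A).truncGEπ a).app K) ≫ (HF A i).map ν) := by
        rw [hcomp]; infer_instance
      exact IsIso.of_isIso_comp_left ((HF A i).map (((tA A).truncGEπ a).app K)) _
    · have h2 := isZero_HF_truncGE_low K c i (by omega)
      have h1 : IsZero ((HF A i).obj (((tA A).truncGE a).obj K)) := by
        by_cases hai : i < a
        · exact isZero_HF_truncGE_low K a i hai
        · haveI := isIso_HF_truncGEπ K a i (by omega)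
          exact (h i (by omega) (by omega)).of_iso (asIso ((HF A i).map (((tA A).truncGEπ a).app K))).symm
      exact ⟨0, h1.eq_of_src _ _, h2.eq_of_src _ _⟩
  refine ⟨inv ν ≫ ((tA A).truncGEδLT a).app K,
    isomorphic_distinguished _ ((tA A).triangleLTGE_distinguished a K) _ ?_⟩
  exact Triangle.isoMk _ _ (Iso.refl _) (Iso.refl _) (asIso ν).symm
    ((Category.comp_id _).trans (Category.id_comp _).symm) (by
      show ((tA A).truncGEπ c).app K ≫ inv ν = 𝟙 _ ≫ ((tA A).truncGEπ a).app K
      rw [Category.id_comp, IsIso.comp_inv_eq]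
      exact ((tA A).π_natTransTruncGEOfLE_app a c hac K).symm) (by
      show (inv ν ≫ ((tA A).truncGEδLT a).app K) ≫ (𝟙 (((tA A).truncLT a).obj K))⟦(1 : ℤ)⟧' =
        inv ν ≫ ((tA A).truncGEδLT a).app K
      exact (congrArg ((inv ν ≫ ((tA A).truncGEδLT a).app K) ≫ ·)
        ((shiftFunctor (Dual.D A) (1 : ℤ)).map_id (((tA A).truncLT a).obj K))).trans (Category.comp_id _))

theorem split_gap {d : ℕ} (hgl : ∀ (M : Type u) [AddCommGroup M] [Module A M],
      HasProjectiveDimensionLT (ModuleCat.of A M) (d + 1))
    (hd : 1 ≤ d) (K : Dual.D A) (b k : ℤ) (hb : Acyc (b + 1) K)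
    (hgap : ∀ i, k - d + 2 ≤ i → i ≤ k → IsZero ((HF A i).obj K))
    [HasBinaryBiproduct (((tA A).truncLT (k - d + 2)).obj K) (((tA A).truncGE (k + 1)).obj K)] :
    ∃ e : K ≅ ((tA A).truncLT (k - d + 2)).obj K ⊞ ((tA A).truncGE (k + 1)).obj K,
      ((tA A).truncLTι (k - d + 2)).app K ≫ e.hom = biprod.inl ∧
        e.hom ≫ biprod.snd = ((tA A).truncGEπ (k + 1)).app K := by
  obtain ⟨w, hT⟩ := exists_triangle_wide_gap K (k - d + 2) (k + 1) (by omega) (fun i h1 h2 => hgap i h1 (by omega))
  have hle : Acyc (k - d + 2) (((tA A).truncLT (k - d + 2)).obj K) :=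
    (acyc_iff_isLE _ _).2 (isLE_truncLT K (k - d + 2))
  have hz : w = 0 := hom_eq_zero_gap hgl (b := b + 1) (k := k) (acyc_truncGE hb _)
    (fun i hi => isZero_HF_truncGE_low K _ i (by omega))
    (acyc_shift _ 1 _ (hle.mono (by omega))) w
  obtain ⟨e, h1, h2⟩ := exists_iso_binaryBiproduct_of_distTriang _ hT hz
  exact ⟨e, h1, h2.symm⟩

end Groth.Agent.DR39
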