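import Groth.Agent.DR39.Dualizing
import Groth.Agent.DR39.Gldim
import Groth.Agent.LC17.DualG

/-! Dualizing complexes: invariance, regular rings, bounds. -/

set_option autoImplicit false
set_option linter.style.haveILetI false
set_option linter.unusedSectionVars false

universe u

open CategoryTheory CategoryTheory.Limits CategoryTheory.Pretriangulated TensorProduct

attribute [local instance] HasDerivedCategory.standard

namespace Groth.Agent.DR39

variable {A : Type u} [CommRing A]

theorem isDualizing_of_iso {ω ω' : Dual.D A} (h : Dual.IsDualizing A ω) (e : ω ≅ ω') :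
    Dual.IsDualizing A ω' := by
  refine ⟨h.isNoetherianRing, ?_, fun i => ?_, ?_, fun i hi => ?_⟩
  · obtain ⟨a, b, hab⟩ := h.finite_injective_dimension
    exact ⟨a, b, fun M _ _ i hi => @Equiv.subsingleton _ _
      (Iso.homToEquiv ((shiftFunctor (Dual.D A) i).mapIso e.symm)) (hab M i hi)⟩
  · haveI := h.finite_cohomology i
    exact Module.Finite.equiv ((DerivedCategory.homologyFunctor _ i).mapIso e).toLinearEquiv
  · have : (fun a : A => a • 𝟙 ω') = (fun f => e.inv ≫ f ≫ e.hom) ∘ (fun a : A => a • 𝟙 ω) := by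
      funext a; simp [e.inv_hom_id]
    rw [this]
    refine Function.Bijective.comp ⟨fun f g hfg => ?_, fun g => ⟨e.hom ≫ g ≫ e.inv, by simp⟩⟩ h.toEnd_bijective
    exact (cancel_mono _).1 ((cancel_epi _).1 hfg)
  · exact @Equiv.subsingleton _ _
      ((Iso.homFromEquiv e.symm).trans (Iso.homToEquiv ((shiftFunctor (Dual.D A) i).mapIso e.symm)))
      (h.ext_self_subsingleton i hi)

theorem isDualizing_shift {ω : Dual.D A} (h : Dual.IsDualizing A ω) (n : ℤ) :
    Dual.IsDualizing A (ω⟦n⟧) := by
  refine ⟨h.isNoetherianRing, ?_, fun i => ?_, ?_, fun i hi => ?_⟩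
  · obtain ⟨a, b, hab⟩ := h.finite_injective_dimension
    exact ⟨a - n, b - n, fun M _ _ i hi => @Equiv.subsingleton _ _
      (Iso.homToEquiv ((shiftFunctorAdd' (Dual.D A) n i (n + i) rfl).app ω).symm)
      (hab M (n + i) (by omega))⟩
  · exact @Module.Finite.equiv _ _ _ _ _ _ _ _ (h.finite_cohomology (i + n))
      (((DerivedCategory.homologyFunctor _ 0).shiftIso n i (i + n) (by omega)).app ω).symm.toLinearEquiv
  · have : (fun a : A => a • 𝟙 (ω⟦n⟧)) = (shiftFunctor (Dual.D A) n).map ∘ (fun a : A => a • 𝟙 ω) := by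
      funext a; simp [Functor.map_smul]
    rw [this]
    exact ((Functor.FullyFaithful.ofFullyFaithful (shiftFunctor (Dual.D A) n)).map_bijective _ _).comp
      h.toEnd_bijective
  · refine @Equiv.subsingleton _ _
      ((Iso.homCongr (Iso.refl (ω⟦n⟧)) ((shiftFunctorComm (Dual.D A) n i).app ω)).trans
        (Equiv.ofBijective _ ((Functor.FullyFaithful.ofFullyFaithful
          (shiftFunctor (Dual.D A) n)).map_bijective ω (ω⟦i⟧))).symm) (h.ext_self_subsingleton i hi)

theorem subsingleton_inD_inD_neg (M N : Type u) [AddCommGroup M] [Module A M] [AddCommGroup N]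
    [Module A N] (i : ℤ) (hi : i < 0) : Subsingleton (Dual.inD A M ⟶ (Dual.inD A N)⟦i⟧) := by
  haveI : DerivedCategory.TStructure.t.IsGE ((Dual.inD A N)⟦i⟧) (-i) :=
    DerivedCategory.TStructure.t.isGE_shift _ 0 i (-i) (by omega)
  exact subsingleton_of_forall_eq 0 fun f =>
    DerivedCategory.TStructure.t.zero_of_isLE_of_isGE f 0 (-i) (by omega) inferInstance inferInstance

theorem isDualizing_self_of_gldim [IsNoetherianRing A] (d : ℕ)
    (hgl : ∀ (M : Type u) [AddCommGroup M] [Module A M],
      HasProjectiveDimensionLT (ModuleCat.of A M) (d + 1)) :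
    Dual.IsDualizing A (Dual.inD A A) := by
  have hne : ∀ i : ℤ, i ≠ 0 → IsZero ((HF A i).obj (Dual.inD A A)) := fun i hi => by
    rcases lt_or_gt_of_ne hi with h | h
    · exact DerivedCategory.isZero_of_isGE _ 0 i h
    · exact DerivedCategory.isZero_of_isLE _ 0 i h
  refine ⟨inferInstance, ⟨0, d, fun M _ _ i hi => ?_⟩, fun i => ?_, ?_, fun i hi => ?_⟩
  · rcases hi with hi | hi
    · exact subsingleton_inD_inD_neg M A i hi
    · refine subsingleton_of_forall_eq 0 fun f => ?_
      exact @Subsingleton.elim _ ((extVanish_iff (Dual.inD A M) (-i) i (by omega)).1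
        (extVanish_inD d M (hgl M) (-i) (by omega)) A) f 0
  · by_cases hi : i = 0
    · subst hi
      exact @Module.Finite.equiv _ _ _ _ _ _ _ _ (inferInstanceAs (Module.Finite A A))
        ((DerivedCategory.singleFunctorCompHomologyFunctorIso (ModuleCat.{u} A) 0).app
          (ModuleCat.of A A)).toLinearEquiv.symm
    · haveI : Subsingleton (Dual.HD A (Dual.inD A A) i) := ModuleCat.subsingleton_of_isZero (hne i hi)
      exact Module.Finite.of_surjective (0 : A →ₗ[A] Dual.HD A (Dual.inD A A) i)
        (fun y => ⟨0, Subsingleton.elim _ _⟩)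
  · have he : Function.Bijective (fun a : A => a • 𝟙 (ModuleCat.of A A)) := by
      refine ⟨fun a b hab => ?_, fun f => ⟨f.hom 1, ?_⟩⟩
      · simpa using congrArg (fun f : ModuleCat.of A A ⟶ ModuleCat.of A A => f.hom 1) hab
      · ext
        simp
    have heq : (fun a : A => a • 𝟙 (Dual.inD A A)) =
        (DerivedCategory.singleFunctor (ModuleCat.{u} A) 0).map ∘
          (fun a : A => a • 𝟙 (ModuleCat.of A A)) := by
      funext a
      simp [Functor.map_smul]
    rw [heq]
    exact ((Functor.FullyFaithful.ofFullyFaithful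
      (DerivedCategory.singleFunctor (ModuleCat.{u} A) 0)).map_bijective _ _).comp he
  · refine subsingleton_of_forall_eq 0 fun f => (homToH0_bijective (ModuleCat.of A A) _).1 ?_
    exact ((hne i hi).of_iso
      (((DerivedCategory.homologyFunctor _ 0).shiftIso i 0 i (by omega)).app (Dual.inD A A))).eq_of_tgt _ _

theorem hom_normalized_pos {ω : Dual.D A} [IsLocalRing A] (hω : Dual.IsDualizing A ω)
    (hn : Dual.IsNormalized A ω) {N : Dual.D A} (hfin : ∀ i : ℤ, Module.Finite A (Dual.HD A N i))
    {b : ℤ} (hb : ∀ i, b < i → IsZero ((HF A i).obj N)) (hge : ∀ i, i < 0 → IsZero ((HF A i).obj N))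
    {i : ℤ} (hi : 0 < i) : Subsingleton (N ⟶ ω⟦i⟧) := by
  haveI := hω.isNoetherianRing
  refine subsingleton_of_forall_eq 0 fun f => ?_
  refine hom_eq_zero_of_homology (c := 0) (d := b) (fun j hj => hb j (by omega)) hge
    (fun j hj _ g => hom_sngl_eq_zero ?_ g) f
  haveI := hfin j
  exact subsingleton_of_forall_eq 0 fun q =>
    (LC17.gAnn_eq_top_iff ω).1 (LC17.gAnn_pos hω hn ((HF A j).obj N) (show 0 < j + i by omega)) q

end Groth.Agent.DR39
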