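import Groth.Agent.DR39.Derived

/-! Derived base change exists. -/

set_option autoImplicit false
set_option linter.style.haveILetI false
set_option linter.unusedSectionVars false

universe u

open CategoryTheory CategoryTheory.Limits

namespace Groth.Agent.DR39

section Generic

variable {C D E : Type*} [Category C] [Category D] [Category E] {L : C ⥤ D} {F : C ⥤ E}
variable (W : MorphismProperty C) [L.IsLocalization W] (dd : Deformation L F)
include W

/-- An adapted class produces the left derived functor. -/
theorem Deformation.hasLeftDerivedFunctor (dd : Deformation L F) : F.HasLeftDerivedFunctor W := by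
  choose P hP e' using dd.exists_rep W
  let e : ∀ Y, L.obj (P Y) ≅ Y := fun Y => (e' Y).some
  choose lift hlift using fun (Q : C) (Z : C) (hQ : dd.cls Q) (u : L.obj Q ⟶ L.obj Z) => dd.surj Q Z hQ u
  let G : D ⥤ E :=
    { obj := fun Y => F.obj (P Y)
      map := fun {Y Y'} u => F.map (lift (P Y) (P Y') (hP Y) ((e Y).hom ≫ u ≫ (e Y').inv))
      map_id := fun Y => by
        rw [← F.map_id]
        exact dd.inj _ _ (hP Y) _ _ (by simp [hlift])
      map_comp := fun {Y Y' Y''} u v => by
        rw [← F.map_comp]
        exact dd.inj _ _ (hP Y) _ _ (by simp [hlift]) }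
  let a : L ⋙ G ⟶ F :=
    { app := fun Z => F.map (lift (P (L.obj Z)) Z (hP _) (e (L.obj Z)).hom)
      naturality := fun Z Z' f => by
        show F.map _ ≫ F.map _ = F.map _ ≫ F.map f
        rw [← F.map_comp, ← F.map_comp]
        exact dd.inj _ _ (hP _) _ _ (by simp [hlift]) }
  have ha : ∀ Y, a.app (P Y) = G.map (e Y).hom := fun Y =>
    dd.inj _ _ (hP _) _ _ (by simp [hlift])
  have key : ∀ (s : Functor.RightExtension L F) (η : s.left ⟶ G) (Y : D),
      η.app Y = s.left.map (e Y).inv ≫ η.app (L.obj (P Y)) ≫ a.app (P Y) := fun s η Y => by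
    rw [ha, ← η.naturality, ← s.left.map_comp_assoc, Iso.inv_hom_id, s.left.map_id, Category.id_comp]
  haveI : G.IsRightKanExtension a := ⟨⟨IsTerminal.ofUniqueHom (fun s => CostructuredArrow.homMk
    { app := fun Y => s.left.map (e Y).inv ≫ s.hom.app (P Y)
      naturality := fun Y Y' u => by
        show s.left.map u ≫ s.left.map _ ≫ s.hom.app (P Y') = (s.left.map _ ≫ s.hom.app (P Y)) ≫ F.map _
        rw [Category.assoc]
        erw [← s.hom.naturality]
        show _ = _ ≫ s.left.map (L.map _) ≫ _
        rw [hlift, ← s.left.map_comp_assoc, ← s.left.map_comp_assoc]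
        simp }
    (NatTrans.ext (funext fun Z => by
      show (s.left.map (e (L.obj Z)).inv ≫ s.hom.app (P (L.obj Z))) ≫ F.map _ = s.hom.app Z
      rw [Category.assoc]
      erw [← s.hom.naturality]
      show _ ≫ s.left.map (L.map _) ≫ _ = _
      rw [hlift, ← s.left.map_comp_assoc, Iso.inv_hom_id, s.left.map_id, Category.id_comp])))
    fun s m => ?_⟩⟩
  · rw [Functor.hasLeftDerivedFunctor_iff F L W]
    exact Functor.HasRightKanExtension.mk G a
  · refine CostructuredArrow.hom_ext _ _ (NatTrans.ext (funext fun Y => ?_))
    show m.left.app Y = s.left.map (e Y).inv ≫ s.hom.app (P Y)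
    refine (key s m.left Y).trans ?_
    erw [show m.left.app (L.obj (P Y)) ≫ a.app (P Y) = s.hom.app (P Y) from
      congrArg (fun t => NatTrans.app t (P Y)) (CostructuredArrow.w m)]

end Generic

attribute [local instance] HasDerivedCategory.standard

/-- Derived base change exists. -/
theorem hasLBaseChange {A B : Type u} [CommRing A] [CommRing B] (φ : A →+* B) : DRing.HasLBaseChange φ :=
  Deformation.hasLeftDerivedFunctor (L := DerivedCategory.Qh (C := ModuleCat.{u} A))
    (HomotopyCategory.quasiIso (ModuleCat.{u} A) (ComplexShape.up ℤ))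
    (khDeformation (ModuleCat.extendScalars.{u, u, u} φ))

end Groth.Agent.DR39
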