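import Groth.Agent.DR39.Dualizing2
import Mathlib.RingTheory.Flat.FaithfullyFlat.Algebra
import Mathlib.RingTheory.Nakayama

/-! Finite injective dimension is detected at closed points; descent of dualizing complexes. -/

set_option autoImplicit false
set_option linter.style.haveILetI false
set_option linter.unusedSectionVars false

universe u

open CategoryTheory CategoryTheory.Limits CategoryTheory.Pretriangulated TensorProduct

attribute [local instance] HasDerivedCategory.standard

namespace Groth.Agent.DR39

variable {A : Type u} [CommRing A]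

section Residue

variable [IsNoetherianRing A] {R : Dual.D A} {a : ℤ}
  (hlow : ∀ i, i < a → IsZero ((HF A i).obj R))
  (hfin : ∀ i : ℤ, Module.Finite A (Dual.HD A R i))

include hlow in
theorem subsingleton_hom_low (M : Type u) [AddCommGroup M] [Module A M] {i : ℤ} (hi : i < a) :
    Subsingleton (Dual.inD A M ⟶ R⟦i⟧) := by
  haveI : R.IsGE a := (DerivedCategory.isGE_iff R a).2 fun j hj => hlow j hj
  haveI : DerivedCategory.TStructure.t.IsGE (R⟦i⟧) (a - i) :=
    DerivedCategory.TStructure.t.isGE_shift _ a i (a - i) (by omega)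
  exact subsingleton_of_forall_eq 0 fun f =>
    DerivedCategory.TStructure.t.zero_of_isLE_of_isGE f 0 (a - i) (by omega) inferInstance inferInstance

include hlow hfin in
theorem finite_hom_inD : ∀ (n : ℤ) (M : Type u) [AddCommGroup M] [Module A M] [Module.Finite A M],
    Module.Finite A (LC17.GM R (ModuleCat.of A M) n) := by
  suffices H : ∀ (j : ℕ) (n : ℤ), n < a + j → ∀ (M : Type u) [AddCommGroup M] [Module A M]
      [Module.Finite A M], Module.Finite A (LC17.GM R (ModuleCat.of A M) n) by
    intro n M _ _ _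
    exact H (n + 1 - a).toNat n (by omega) M
  intro j
  induction j with
  | zero =>
    intro n hn M _ _ _
    haveI : Subsingleton (LC17.GM R (ModuleCat.of A M) n) :=
      subsingleton_hom_low hlow M (i := n) (by omega)
    exact Module.Finite.of_surjective (0 : A →ₗ[A] _) fun y => ⟨0, Subsingleton.elim _ _⟩
  | succ j ih =>
    intro n hn M _ _ _
    obtain ⟨r, g, hg⟩ := Module.Finite.exists_fin' A M
    obtain hS := LC17.shortExact_of_exact (LinearMap.ker g).subtype g (Submodule.subtype_injective _) hg
      (LinearMap.exact_subtype_ker_map g)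
    haveI : Projective (ModuleCat.of A (Fin r → A)) := (IsProjective.iff_projective _).1 inferInstance
    haveI hfree : Module.Finite A (LC17.GM R (ModuleCat.of A (Fin r → A)) n) := by
      haveI : Module.Finite A ((DerivedCategory.homologyFunctor (ModuleCat.{u} A) 0).obj (R⟦n⟧)) :=
        @Module.Finite.equiv _ _ _ _ _ _ _ _ (hfin n) (LC17.shiftH R n).symm.toLinearEquiv
      haveI : Module.Finite A (ModuleCat.of A (Fin r → A) ⟶
          (DerivedCategory.homologyFunctor (ModuleCat.{u} A) 0).obj (R⟦n⟧)) :=
        Module.Finite.equiv (ModuleCat.homLinearEquiv (R := A) (S := A)).symm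
      exact Module.Finite.of_injective (LC17.homToH0Lin _ (R⟦n⟧)) (homToH0_bijective _ _).1
    haveI : IsNoetherian A (LC17.GM R (ModuleCat.of A (Fin r → A)) n) :=
      isNoetherian_of_isNoetherianRing_of_finite A _
    haveI hker : Module.Finite A (LC17.GM R (ModuleCat.of A (LinearMap.ker g)) (n - 1)) :=
      ih (n - 1) (by omega) (LinearMap.ker g)
    let φ : LC17.GM R (ModuleCat.of A M) n →ₗ[A] LC17.GM R (ModuleCat.of A (Fin r → A)) n :=
      LC17.pre R (ModuleCat.ofHom g) n
    let ψ : LC17.GM R (ModuleCat.of A (LinearMap.ker g)) (n - 1) →ₗ[A] LC17.GM R (ModuleCat.of A M) n :=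
      LC17.conn R hS (n - 1) n (by omega)
    have hex : LinearMap.ker φ ≤ LinearMap.range ψ := fun f hf =>
      LC17.exact₃ R hS (n - 1) n (by omega) f hf
    haveI : Module.Finite A (LinearMap.ker φ) := by
      haveI : IsNoetherian A (LinearMap.range ψ) := isNoetherian_of_isNoetherianRing_of_finite A _
      exact Module.Finite.of_injective (Submodule.inclusion hex) (Submodule.inclusion_injective hex)
    haveI : Module.Finite A (LC17.GM R (ModuleCat.of A M) n ⧸ LinearMap.ker φ) :=
      Module.Finite.of_injective (Submodule.liftQ _ φ le_rfl)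
        (LinearMap.ker_eq_bot.1 (Submodule.ker_liftQ_eq_bot' _ _ rfl))
    exact Module.Finite.of_submodule_quotient (LinearMap.ker φ)

include hlow hfin in
/-- vanishing on residue fields of closed points propagates to all finite modules -/
theorem gAnn_top_of_residue (b : ℤ)
    (hres : ∀ (M : Ideal A), M.IsMaximal → ∀ i, b < i → LC17.gAnn R (ModuleCat.of A (A ⧸ M)) i = ⊤)
    (M : Type u) [AddCommGroup M] [Module A M] [Module.Finite A M] {n : ℤ} (hn : b < n) :
    LC17.gAnn R (ModuleCat.of A M) n = ⊤ := by
  suffices hp : ∀ (P : Ideal A), P.IsPrime → ∀ n, b < n → LC17.gAnn R (ModuleCat.of A (A ⧸ P)) n = ⊤ from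
    LC17.gAnn_eq_top_of_support R n M fun p _ => hp p.asIdeal p.2 n hn
  intro P
  induction P using IsWellFounded.induction (· > · : Ideal A → Ideal A → Prop) with
  | ind P ih =>
    intro hP n hn
    by_cases hm : P.IsMaximal
    · exact hres P hm n hn
    obtain ⟨M', hM', hPM⟩ := P.exists_le_maximal hP.ne_top
    by_contra hne
    obtain ⟨N, hN, hHN⟩ := (LC17.gAnn R (ModuleCat.of A (A ⧸ P)) n).exists_le_maximal hne
    have hPN : P ≤ N := by
      refine le_trans ?_ hHN
      intro x hx
      rw [LC17.mem_gAnn]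
      intro f
      have h0 : x • 𝟙 (ModuleCat.of A (A ⧸ P)) = 0 := by
        ext y
        simp [Algebra.smul_def, Ideal.Quotient.eq_zero_iff_mem.2 hx]
      rw [← LC17.pre_smul_id R x n f, h0]
      show (DerivedCategory.singleFunctor _ 0).map 0 ≫ f = 0
      rw [Functor.map_zero, zero_comp]
    have hlt : P < N := lt_of_le_of_ne hPN fun h => hm (h ▸ hN)
    obtain ⟨x, hxN, hxP⟩ := SetLike.exists_of_lt hlt
    let f : (A ⧸ P) →ₗ[A] A ⧸ P := x • LinearMap.id
    have hfinj : Function.Injective f := by
      rw [injective_iff_map_eq_zero]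
      intro y hy
      obtain ⟨y, rfl⟩ := Ideal.Quotient.mk_surjective y
      rw [LinearMap.smul_apply, LinearMap.id_apply, ← Ideal.Quotient.mkₐ_eq_mk A, ← map_smul,
        Ideal.Quotient.mkₐ_eq_mk, Ideal.Quotient.eq_zero_iff_mem] at hy
      exact Ideal.Quotient.eq_zero_iff_mem.2 ((hP.mem_or_mem hy).resolve_left hxP)
    have hS := LC17.shortExact_of_exact f (LinearMap.range f).mkQ hfinj (Submodule.mkQ_surjective _)
      (LinearMap.exact_map_mkQ_range f)
    have hC : LC17.gAnn R (ModuleCat.of A ((A ⧸ P) ⧸ LinearMap.range f)) (n + 1) = ⊤ := by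
      refine LC17.gAnn_eq_top_of_support R (n + 1) _ fun Q hQ => ?_
      refine ih Q.asIdeal ?_ Q.2 (n + 1) (by omega)
      have hann := Module.mem_support_iff_of_finite.1 hQ
      refine lt_of_le_of_ne (le_trans (fun a ha => Module.mem_annihilator.2 fun y => ?_) hann)
        fun heq => hxP (heq ▸ hann (Module.mem_annihilator.2 fun y => ?_))
      · obtain ⟨y, rfl⟩ := Submodule.Quotient.mk_surjective _ y
        obtain ⟨y, rfl⟩ := Ideal.Quotient.mk_surjective y
        rw [← Submodule.Quotient.mk_smul, ← Ideal.Quotient.mkₐ_eq_mk A, ← map_smul,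
          Ideal.Quotient.mkₐ_eq_mk, smul_eq_mul,
          Ideal.Quotient.eq_zero_iff_mem.2 (Ideal.mul_mem_right _ _ ha), Submodule.Quotient.mk_zero]
      · obtain ⟨y, rfl⟩ := Submodule.Quotient.mk_surjective _ y
        exact (Submodule.Quotient.mk_eq_zero _).2 ⟨y, rfl⟩
    haveI := finite_hom_inD hlow hfin n (A ⧸ P)
    have htop : (⊤ : Submodule A (LC17.GM R (ModuleCat.of A (A ⧸ P)) n)) ≤
        Ideal.span {x} • ⊤ := fun g _ => by
      obtain ⟨h, hh⟩ := LC17.pre_surjective_of_gAnn_eq_top R hS n (n + 1) rfl hC g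
      rw [← hh, show LC17.pre R (ModuleCat.ofHom f) n h = x • h from LC17.pre_smul_id R x n h]
      exact Submodule.smul_mem_smul (Ideal.mem_span_singleton_self x) trivial
    obtain ⟨r, hr, hr0⟩ := Submodule.exists_sub_one_mem_and_smul_eq_zero_of_fg_of_le_smul
      (Ideal.span {x}) ⊤ Module.Finite.fg_top htop
    have hrN : r ∈ N := hHN ((LC17.mem_gAnn R).2 fun g => hr0 g trivial)
    have hspan : Ideal.span {x} ≤ N := (Ideal.span_singleton_le_iff_mem _).2 hxN
    exact hN.ne_top ((Ideal.eq_top_iff_one _).2 (by simpa using N.sub_mem hrN (hspan hr)))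

include hlow hfin in
theorem ia_of_residue (b : ℤ) (hab : ∀ i, b < i → IsZero ((HF A i).obj R))
    (hres : ∀ (M : Ideal A), M.IsMaximal → ∀ i, b < i → Subsingleton (Dual.inD A (A ⧸ M) ⟶ R⟦i⟧))
    (M : Type u) [AddCommGroup M] [Module A M] (i : ℤ) (hi : i < a ∨ b < i) :
    Subsingleton (Dual.inD A M ⟶ R⟦i⟧) := by
  refine subsingleton_hom_of_ia (ia_of_ext a b fun I j hj => ?_) M hi
  rcases hj with hj | hj
  · exact subsingleton_hom_low hlow (A ⧸ I) hj
  · have := gAnn_top_of_residue hlow hfin b
      (fun N hN k hk => (LC17.gAnn_eq_top_iff R).2 fun f => @Subsingleton.elim _ (hres N hN k hk) f 0)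
      (A ⧸ I) hj
    exact subsingleton_of_forall_eq 0 fun f => (LC17.gAnn_eq_top_iff R).1 this f

end Residue

section Family

theorem bijective_of_family {ι : Type*} (B : ι → Type u) [∀ i, CommRing (B i)] [∀ i, Algebra A (B i)]
    [∀ i, Module.Flat A (B i)]
    (hB : ∀ (M : Type (u + 1)) [AddCommGroup M] [Module A M],
      (∀ i, Subsingleton (B i ⊗[A] M)) → Subsingleton M)
    {M N : Type (u + 1)} [AddCommGroup M] [Module A M] [AddCommGroup N] [Module A N] (f : M →ₗ[A] N)
    (h : ∀ i, Function.Bijective (f.baseChange (B i))) : Function.Bijective f := by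
  have h1 : Subsingleton (LinearMap.ker f) := hB _ fun i => subsingleton_of_forall_eq 0 fun x => by
    apply Module.Flat.lTensor_preserves_injective_linearMap (M := B i) (LinearMap.ker f).subtype Subtype.val_injective
    apply (h i).1
    rw [map_zero]
    show f.baseChange (B i) ((LinearMap.ker f).subtype.lTensor (B i) x) = f.baseChange (B i) 0
    rw [map_zero]
    show (f.lTensor (B i)) ((LinearMap.ker f).subtype.lTensor (B i) x) = 0
    rw [← LinearMap.lTensor_comp_apply, LinearMap.comp_ker_subtype]
    simp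
  have h2 : Subsingleton (N ⧸ LinearMap.range f) := hB _ fun i => subsingleton_of_forall_eq 0 fun x => by
    obtain ⟨y, rfl⟩ := LinearMap.lTensor_surjective (B i) (LinearMap.range f).mkQ_surjective x
    obtain ⟨z, rfl⟩ := (h i).2 y
    show (LinearMap.range f).mkQ.lTensor (B i) (f.lTensor (B i) z) = 0
    rw [← LinearMap.lTensor_comp_apply, LinearMap.range_mkQ_comp]
    simp
  refine ⟨?_, ?_⟩
  · rw [← LinearMap.ker_eq_bot]
    exact Submodule.eq_bot_of_subsingleton
  · rw [← LinearMap.range_eq_top]
    exact Submodule.Quotient.subsingleton_iff.1 h2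

/-- Descent along a finite jointly faithfully flat family. -/
theorem isDualizing_of_family [IsNoetherianRing A] {ι : Type} [Finite ι] [Nonempty ι] (B : ι → Type u)
    [∀ i, CommRing (B i)] [∀ i, Algebra A (B i)] [∀ i, Module.Flat A (B i)]
    (hB : ∀ (M : Type (u + 1)) [AddCommGroup M] [Module A M],
      (∀ i, Subsingleton (B i ⊗[A] M)) → Subsingleton M)
    (hB' : ∀ M : ModuleCat.{u} A, (∀ i, IsZero ((extA A (B i)).obj M)) → IsZero M)
    (hBf : ∀ M : ModuleCat.{u} A, (∀ i, Module.Finite (B i) ((extA A (B i)).obj M)) → Module.Finite A M)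
    {K : Dual.D A} (h : ∀ i, Dual.IsDualizing (B i) ((DF (extA A (B i))).obj K)) :
    Dual.IsDualizing A K := by
  classical
  cases nonempty_fintype ι
  choose a b hab hid using fun i => exists_bounds (h i)
  let a0 := (Finset.univ : Finset ι).inf' Finset.univ_nonempty a
  let b0 := (Finset.univ : Finset ι).sup' Finset.univ_nonempty b
  have ha : ∀ i, a0 ≤ a i := fun i => Finset.inf'_le _ (Finset.mem_univ i)
  have hb : ∀ i, b i ≤ b0 := fun i => Finset.le_sup' _ (Finset.mem_univ i)
  have hH : ∀ j, (j < a0 ∨ b0 < j) → IsZero ((HF A j).obj K) := fun j hj => hB' _ fun i => by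
    obtain ⟨e⟩ := HF_DF (extA A (B i)) K j
    exact (hab i j (by have := ha i; have := hb i; omega)).of_iso e.symm
  have hfin : ∀ j : ℤ, Module.Finite A (Dual.HD A K j) := fun j => hBf _ fun i => by
    obtain ⟨e⟩ := HF_DF (extA A (B i)) K j
    haveI := (h i).finite_cohomology j
    exact Module.Finite.equiv e.toLinearEquiv
  have hpc : ∀ m, PC m K := pc_of_noetherian (b := b0 + 1) (fun j hj => hH j (Or.inr (by omega))) hfin
  have hlow : ∀ j, j < a0 → IsZero ((HF A j).obj K) := fun j hj => hH j (Or.inl hj)
  refine ⟨inferInstance, ⟨a0, b0, fun M _ _ j hj => ?_⟩, hfin, ?_, fun j hj => hB _ fun i => ?_⟩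
  · refine subsingleton_hom_of_ia (ia_of_ext a0 b0 fun I k hk => hB _ fun i => ?_) M hj
    obtain ⟨e⟩ := exists_inD_quotient_iso (B i) I
    haveI : Subsingleton ((DF (extA A (B i))).obj (Dual.inD A (A ⧸ I)) ⟶
        (DF (extA A (B i))).obj (K⟦k⟧)) :=
      @Equiv.subsingleton _ _
        (Iso.homCongr e (((DF (extA A (B i))).commShiftIso k).app K))
        (hid i _ k (by have := ha i; have := hb i; omega))
    exact (good_shift (B i) (pc_inD (A ⧸ I)) hlow k).1.subsingleton
  · show Function.Bijective (LinearMap.toSpanSingleton A _ (𝟙 K))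
    let u : ULift.{u + 1} A →ₗ[A] (K ⟶ K) :=
      LinearMap.toSpanSingleton A _ (𝟙 K) ∘ₗ ULift.moduleEquiv.toLinearMap
    suffices Function.Bijective u from
      (Function.Bijective.of_comp_iff _ ULift.moduleEquiv.bijective).1 this
    refine bijective_of_family B hB u fun i => ?_
    refine (Function.Bijective.of_comp_iff' (good_of_pc (B i) (hpc _) hlow) _).1 ?_
    have : thetaBar (B i) K K ∘ (u.baseChange (B i)) =
        (fun x : B i => x • 𝟙 ((DF (extA A (B i))).obj K)) ∘
          ((LinearEquiv.baseChange A (B i) _ _ ULift.moduleEquiv) ≪≫ₗ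
            AlgebraTensorModule.rid A (B i) (B i)) := by
      funext w
      induction w using TensorProduct.induction_on with
      | zero => simp
      | tmul x r =>
        obtain ⟨r⟩ := r
        simp only [u, Function.comp_apply, LinearMap.baseChange_tmul, LinearMap.comp_apply,
          LinearMap.toSpanSingleton_apply, LinearEquiv.coe_coe, LinearEquiv.trans_apply,
          LinearEquiv.baseChange_tmul, ULift.moduleEquiv_apply,
          thetaBar_tmul, DF_map_smul, CategoryTheory.Functor.map_id, smul_smul,
          AlgebraTensorModule.rid_tmul, Algebra.smul_def, mul_comm]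
      | add x y hx hy =>
        simp only [Function.comp_apply] at hx hy ⊢
        simp only [map_add, add_smul, hx, hy]
    rw [this]
    exact (h i).toEnd_bijective.comp (LinearEquiv.bijective _)
  · haveI : Subsingleton ((DF (extA A (B i))).obj K ⟶ (DF (extA A (B i))).obj (K⟦j⟧)) :=
      @Equiv.subsingleton _ _ (Iso.homToEquiv (((DF (extA A (B i))).commShiftIso j).app K))
        ((h i).ext_self_subsingleton j hj)
    exact (good_shift (B i) hpc hlow j).1.subsingleton

end Family

end Groth.Agent.DR39
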