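import Groth.Agent.DR39.Residue
import Groth.Agent.DR39.LocalDual3
import Groth.Agent.EGA4H10.FCatenary
import Groth.Agent.EGA4H10.CMCompletion
import Groth.Agent.EGA4H10.Ratliff
import Groth.Agent.CAlg1.Complete
import Groth.Agent.CAlg1.Catenary

/-! Normalizing shifts, the dimension function, catenarity. -/

set_option autoImplicit false
set_option linter.style.haveILetI false
set_option linter.unusedSectionVars false

universe u v

open CategoryTheory CategoryTheory.Limits CategoryTheory.Pretriangulated TensorProduct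

attribute [local instance] HasDerivedCategory.standard

namespace Groth.Agent.DR39

theorem mem_support_tensor_univ {A C : Type u} [CommRing A] [CommRing C] [Algebra A C] [Module.Flat A C] (M : Type v) [AddCommGroup M] [Module A M]
    (Q : PrimeSpectrum C) (h : PrimeSpectrum.comap (algebraMap A C) Q ∈ Module.support A M) :
    Q ∈ Module.support C (C ⊗[A] M) := by
  rw [Module.mem_support_iff'] at h
  obtain ⟨m, hm⟩ := h
  let f : A →ₗ[A] M := LinearMap.toSpanSingleton A M m
  let g : (A ⧸ LinearMap.ker f) →ₗ[A] M := (LinearMap.ker f).liftQ f le_rfl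
  have hg : Function.Injective g := LinearMap.ker_eq_bot.mp (Submodule.ker_liftQ_eq_bot' _ _ rfl)
  refine Module.support_subset_of_injective (g.baseChange C)
    (Module.Flat.lTensor_preserves_injective_linearMap g hg) ?_
  let e : (C ⊗[A] (A ⧸ LinearMap.ker f)) ≃ₗ[C] (C ⧸ Ideal.map (algebraMap A C) (LinearMap.ker f)) :=
    (Algebra.TensorProduct.quotIdealMapEquivTensorQuot C (LinearMap.ker f)).symm.toLinearEquiv
  rw [e.support_eq, Module.support_eq_zeroLocus, Ideal.annihilator_quotient]
  refine SetLike.coe_subset_coe.mpr (Ideal.map_le_iff_le_comap.mpr fun a ha => ?_)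
  by_contra hc
  exact hm a hc ha

variable {A : Type u} [CommRing A] {ω : Dual.D A}

instance flat_cpl [IsNoetherianRing A] (I : Ideal A) : Module.Flat A (AdicCompletion I A) :=
  AdicCompletion.flat_of_isNoetherian I

variable (hω : Dual.IsDualizing A ω)
include hω

/-- Over a local ring some shift of a dualizing complex is normalized. -/
theorem exists_normalized [IsLocalRing A] : ∃ n : ℤ, Dual.IsNormalized A (ω⟦n⟧) := by
  haveI := hω.isNoetherianRing
  obtain ⟨n, h, -⟩ := ext_residue_single (IsLocalRing.maximalIdeal A) hω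
  refine ⟨n, fun i hi => ?_⟩
  refine @Equiv.subsingleton _ _ (Iso.homToEquiv ((CategoryTheory.shiftFunctorAdd' (Dual.D A)
    n i (n + i) rfl).app ω).symm) (h (n + i) (by omega))

theorem mu_unique_maximalIdeal [IsLocalRing A] {i j : ℤ} (hi : Mu ω (IsLocalRing.maximalIdeal A) i)
    (hj : Mu ω (IsLocalRing.maximalIdeal A) j) : i = j := by
  haveI := hω.isNoetherianRing
  obtain ⟨n, h, -⟩ := ext_residue_single (IsLocalRing.maximalIdeal A) hω
  have key : ∀ k, Mu ω (IsLocalRing.maximalIdeal A) k → k = n := fun k hk => by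
    by_contra hne
    have hk' : LC17.gAnn ω (ModuleCat.of A (A ⧸ IsLocalRing.maximalIdeal A)) k ≤ _ := hk
    rw [subsingleton_gm_iff.1 (h k hne)] at hk'
    exact (IsLocalRing.maximalIdeal.isMaximal A).ne_top (top_le_iff.1 hk')
  rw [key i hi, key j hj]

theorem mu_unique (p : Ideal A) [p.IsPrime] {i j : ℤ} (hi : Mu ω p i) (hj : Mu ω p j) : i = j :=
  haveI := hω.isNoetherianRing
  mu_unique_maximalIdeal (isDualizing_atPrime hω p) ((mu_iff_atPrime hω p i).1 hi)
    ((mu_iff_atPrime hω p j).1 hj)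

/-- the dimension function of a dualizing complex -/
theorem exists_dimension_function :
    ∃ δ : PrimeSpectrum A → ℤ, (∀ (p : PrimeSpectrum A) (i : ℤ),
      Nontrivial (LocalizedModule p.asIdeal.primeCompl (Dual.inD A (A ⧸ p.asIdeal) ⟶ ω⟦i⟧)) ↔ i = -δ p) ∧
      ∀ p q : PrimeSpectrum A, p ⋖ q → δ p = δ q + 1 := by
  haveI := hω.isNoetherianRing
  choose μ hμ using fun p : PrimeSpectrum A => exists_mu hω p.asIdeal
  refine ⟨fun p => -μ p, fun p i => ?_, fun p q hpq => ?_⟩
  · rw [nontrivial_localized_iff hω (A ⧸ p.asIdeal) i p, neg_neg]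
    exact ⟨fun h => mu_unique hω p.asIdeal h (hμ p), fun h => h ▸ hμ p⟩
  · have h := mu_unique hω q.asIdeal (Mu.exists_succ hω (hμ p) hpq) (hμ q)
    show -μ p = -μ q + 1
    omega

theorem HD_minimalPrime_single_degree (P : PrimeSpectrum A) (hP : IsMin P) :
    ∃! i : ℤ, Nontrivial (LocalizedModule P.asIdeal.primeCompl (Dual.HD A ω i)) := by
  haveI := hω.isNoetherianRing
  have h1 : ∀ i, LC17.gAnn ω (ModuleCat.of A A) i ≤ P.asIdeal → Mu ω P.asIdeal i := fun i h => by
    obtain ⟨q, -, hq, hqp⟩ := exists_prime_of_gAnn_le hω P.asIdeal i A h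
    obtain rfl : q = P := le_antisymm hqp (hP hqp)
    exact hq
  suffices hex : ∃ i, LC17.gAnn ω (ModuleCat.of A A) i ≤ P.asIdeal by
    obtain ⟨i, hi⟩ := hex
    exact ⟨i, (nontrivial_localized_HD_iff hω i P).2 hi,
      fun j hj => mu_unique hω P.asIdeal (h1 j ((nontrivial_localized_HD_iff hω j P).1 hj)) (h1 i hi)⟩
  by_contra hno
  push Not at hno
  have hd := isDualizing_atPrime hω P.asIdeal
  set B := Localization.AtPrime P.asIdeal
  set ω' := (DF (extA A B)).obj ω
  have hz : IsZero ω' := isZero_of_forall fun n => by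
    refine isZero_HF_of_ext_ring (X := ω') (n := n) (subsingleton_gm_iff.2 ?_)
    have := not_not.1 ((gAnn_le_iff_atPrime hω A n P.asIdeal).not.1 (hno n))
    rwa [LC17.gAnn_congr ω' (AlgebraTensorModule.rid A B B).toModuleIso n] at this
  exact one_ne_zero (hd.toEnd_bijective.1 (show (1 : B) • 𝟙 ω' = (0 : B) • 𝟙 ω' from hz.eq_of_src _ _))

section Completion

variable [IsLocalRing A] [IsNoetherianRing A]

local notation "B" => AdicCompletion (IsLocalRing.maximalIdeal A) A

theorem isDualizing_cpl :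
    Dual.IsDualizing B ((DF (extA A B)).obj ω) ∧
      (Dual.IsNormalized A ω → Dual.IsNormalized B ((DF (extA A B)).obj ω)) := by
  haveI := hω.isNoetherianRing
  haveI : IsNoetherianRing B := EGA4H10.isNoetherianRing_cpl
  haveI : Module.Flat A B := AdicCompletion.flat_of_isNoetherian _
  obtain ⟨a, b, hab, hid⟩ := exists_bounds hω
  have hres : ∀ i : ℤ, Subsingleton (Dual.inD A (A ⧸ IsLocalRing.maximalIdeal A) ⟶ ω⟦i⟧) →
      Subsingleton (Dual.inD B (B ⧸ IsLocalRing.maximalIdeal B) ⟶ ((DF (extA A B)).obj ω)⟦i⟧) := by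
    intro i h
    obtain ⟨e'⟩ := exists_inD_quotient_iso B (IsLocalRing.maximalIdeal A)
    rw [AdicCompletion.maximalIdeal_eq_map]
    exact @Equiv.subsingleton _ _ (Iso.homFromEquiv e').symm
      (subsingleton_hom_DF B (pc_inD (A ⧸ IsLocalRing.maximalIdeal A)) (c := a)
        (fun k hk => hab k (Or.inl hk)) i h)
  refine ⟨isDualizing_DF B hω ?_, fun hn i hi => hres i (hn i hi)⟩
  have hH : ∀ i, (i < a ∨ b < i) → IsZero ((HF B i).obj ((DF (extA A B)).obj ω)) := fun i hi => by
    obtain ⟨e⟩ := HF_DF (extA A B) ω i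
    exact ((extA A B).map_isZero (hab i hi)).of_iso e
  refine ⟨a, b, ia_of_residue (fun i hi => hH i (Or.inl hi)) (fun i => ?_) b (fun i hi => hH i (Or.inr hi))
    fun P hP i hi => ?_⟩
  · haveI := hω.finite_cohomology i
    exact finite_HF_DF B
  · rw [IsLocalRing.eq_maximalIdeal hP]
    exact hres i (hid _ i (Or.inr hi))

/-- A local ring with a dualizing complex is formally catenary. -/
theorem isFormallyCatenary : EGA4.IsFormallyCatenary A := by
  haveI := hω.isNoetherianRing
  obtain ⟨n, hn0⟩ := exists_normalized hω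
  have hω0 := isDualizing_shift hω n
  set ω0 := ω⟦n⟧
  obtain ⟨hω', hn'⟩ := isDualizing_cpl hω0
  have hn1 := hn' hn0
  haveI : IsNoetherianRing B := EGA4H10.isNoetherianRing_cpl
  haveI : Module.Flat A B := AdicCompletion.flat_of_isNoetherian _
  intro p hp
  let q0 : PrimeSpectrum A := ⟨p, hp⟩
  obtain ⟨e, he⟩ := exists_dim_quotient hω0 hn0 p
  haveI : IsNoetherianRing (AdicCompletion (IsLocalRing.maximalIdeal (A ⧸ p)) (A ⧸ p)) :=
    EGA4H10.isNoetherianRing_cpl
  have hs : Function.Surjective (algebraMap A (A ⧸ p)) := Ideal.Quotient.mk_surjective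
  let J := (RingHom.ker (algebraMap A (A ⧸ p))).map (algebraMap A B)
  have hJ : J = p.map (algebraMap A B) := by
    show (RingHom.ker (Ideal.Quotient.mk p)).map _ = _
    rw [Ideal.mk_ker]
  let eq' : (B ⧸ J) ≃+* AdicCompletion (IsLocalRing.maximalIdeal (A ⧸ p)) (A ⧸ p) :=
    EGA4H10.cplQuotEquiv A (A ⧸ p) hs
  let f : B →+* AdicCompletion (IsLocalRing.maximalIdeal (A ⧸ p)) (A ⧸ p) :=
    eq'.toRingHom.comp (Ideal.Quotient.mk J)
  have hf : Function.Surjective f := eq'.surjective.comp Ideal.Quotient.mk_surjective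
  have hkf : RingHom.ker f = J := by
    ext x
    simp [f, RingHom.mem_ker, Ideal.Quotient.eq_zero_iff_mem]
  intro Q hQ
  haveI : Q.IsPrime := hQ.1.1
  rw [EGA4H10.ringKrullDim_cpl, he]
  set P := Q.comap f with hPdef
  haveI : P.IsPrime := inferInstance
  have eQ : ringKrullDim (B ⧸ P) =
      ringKrullDim (AdicCompletion (IsLocalRing.maximalIdeal (A ⧸ p)) (A ⧸ p) ⧸ Q) :=
    ringKrullDim_eq_of_ringEquiv (RingEquiv.ofBijective
      (Ideal.quotientMap Q f le_rfl) ⟨Ideal.quotientMap_injective, Ideal.quotientMap_surjective hf⟩)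
  have hPmin : P ∈ J.minimalPrimes := by
    rw [← hkf]
    exact Ideal.minimal_primes_comap_of_surjective hf (by simpa using hQ)
  have hpP : p ≤ P.comap (algebraMap A B) := Ideal.map_le_iff_le_comap.1 (hJ ▸ hPmin.1.2)
  have hcomap : P.comap (algebraMap A B) = p := by
    refine le_antisymm ?_ hpP
    haveI : P.LiesOver (P.comap (algebraMap A B)) := ⟨rfl⟩
    obtain ⟨P', hP'le, hP'p, hP'o⟩ := Ideal.exists_ideal_le_liesOver_of_le
      (p := p) (q := Ideal.comap (algebraMap A (B)) P) P hpP
    have : P' = P := le_antisymm hP'le (hPmin.2 ⟨hP'p, hJ ▸ Ideal.map_le_iff_le_comap.2 hP'o.over.le⟩ hP'le)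
    rw [← this]
    exact hP'o.over.ge
  have hM : LC17.gAnn ((DF (extA A B)).obj ω0) (ModuleCat.of B (B ⧸ J)) (-(e : ℤ)) ≤ P := by
    intro b hb
    by_contra hbP
    haveI : Module.Finite A (LC17.GM ω0 (ModuleCat.of A (A ⧸ p)) (-(e : ℤ))) := LC17.finite_GM hω0 _ _
    obtain ⟨a0, b0, hab0, -⟩ := exists_bounds hω0
    have hg : Good B (Dual.inD A (A ⧸ p)) (ω0⟦-(e : ℤ)⟧) :=
      good_shift B (pc_inD (A ⧸ p)) (c := a0) (fun j hj => hab0 j (Or.inl hj)) _
    have hmu : Mu ω0 p (-(e : ℤ)) := by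
      obtain ⟨i, hi⟩ := exists_mu hω0 p
      rwa [Mu.eq_neg_dim hω0 hn0 hi he] at hi
    have hP0 : (⟨P, inferInstance⟩ : PrimeSpectrum B) ∈
        Module.support B (B ⊗[A] LC17.GM ω0 (ModuleCat.of A (A ⧸ p)) (-(e : ℤ))) := by
      refine mem_support_tensor_univ _ _ ?_
      show PrimeSpectrum.comap (algebraMap A B) ⟨P, inferInstance⟩ ∈ _
      rw [Module.mem_support_iff_of_finite]
      exact hmu.trans (show p ≤ P.comap (algebraMap A B) from hpP)
    refine hbP (Module.mem_support_iff_of_finite.1 hP0 (Module.mem_annihilator.2 fun x => hg.1 ?_))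
    rw [map_smul, map_zero]
    obtain ⟨e'⟩ := exists_inD_quotient_iso B p
    rw [LC17.mem_gAnn] at hb
    subst J
    rw [hJ] at hb
    let c := CategoryTheory.Linear.homCongr B e' (((DF (extA A B)).commShiftIso (-(e : ℤ))).app ω0)
    refine c.injective ?_
    rw [map_smul, map_zero]
    exact hb _
  obtain ⟨R, hR, hRle, hRP⟩ := exists_prime_of_gAnn_le hω' P (-(e : ℤ)) (B ⧸ J) hM
  have hJR : J ≤ R.asIdeal := by
    have := Module.mem_support_iff_of_finite.1 hR
    rwa [Ideal.annihilator_quotient] at this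
  have hRP' : R.asIdeal = P := le_antisymm hRP (hPmin.2 ⟨R.2, hJR⟩ hRP)
  rw [← hRP'] at eQ hRle
  obtain ⟨e1, he1⟩ := exists_dim_quotient hω' hn1 R.asIdeal
  have heq := Mu.eq_neg_dim hω' hn1 (p := R.asIdeal) hRle he1
  rw [← eQ, he1, show e1 = e by omega]

end Completion

/-- A ring with a dualizing complex is universally catenary. -/
theorem isUniversallyCatenary : CAlg.IsUniversallyCatenary A := by
  haveI := hω.isNoetherianRing
  rw [CAlg1.isUniversallyCatenary_iff_localization_maximal]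
  intro m _
  have hm := isDualizing_atPrime hω m
  haveI := hm.isNoetherianRing
  exact EGA4H10.isUniversallyCatenary_of_quotients _ fun P _ n =>
    EGA4H10.isCatenary_mvPolynomial_of_formallyEquidim _ (isFormallyCatenary hm P) _

end Groth.Agent.DR39
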