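import Groth.Agent.DR39.Elem
import Groth.Prelude.Def_DRing4

/-! `Hom•(K, Hom•(L, M)) ≅ Hom•(K ⊗ L, M)`. -/

set_option autoImplicit false
set_option linter.style.haveILetI false
set_option linter.unusedSectionVars false

universe u

open CategoryTheory CategoryTheory.Limits MonoidalCategory HomologicalComplex CochainComplex.HomComplex
open scoped TensorProduct

namespace Groth.Agent.DR39

variable {A : Type u} [CommRing A] {K L M : DRing.Cx A}

/-- A degree `q` element of the Hom complex as a cochain. -/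
noncomputable def cv (q : ℤ) : (DRing.homCx L M).X q →ₗ[A] Cochain L M q := LinearMap.id

/-- The bilinear map attached to a component. -/
noncomputable def bil {n : ℤ} (z : Cochain K (DRing.homCx L M) n) (p a r : ℤ) (h : p + a + n = r) :
    K.X p →ₗ[A] L.X a →ₗ[A] M.X r where
  toFun x := ((cv (p + n) ((z.v p (p + n) rfl).hom x)).v a r (by omega)).hom
  map_add' x x' := by rw [map_add, map_add, Cochain.add_v]; rfl
  map_smul' c x := by rw [map_smul, map_smul, Cochain.smul_v]; rfl

theorem bil_eq {n : ℤ} (z : Cochain K (DRing.homCx L M) n) (p q a r : ℤ) (hq : p + n = q)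
    (h : p + a + n = r) (x : K.X p) :
    bil z p a r h x = ((cv q ((z.v p q hq).hom x)).v a r (by omega)).hom := by
  subst hq; rfl

/-- The associated cochain on the tensor product. -/
noncomputable def psi {n : ℤ} (z : Cochain K (DRing.homCx L M) n) : Cochain (K ⊗ L) M n :=
  Cochain.mk fun m r h => mapBifunctorDesc fun p a hpa =>
    ModuleCat.ofHom (TensorProduct.lift (bil z p a r (by change p + a = m at hpa; omega)))

theorem psi_ι {n : ℤ} (z : Cochain K (DRing.homCx L M) n) (p a m r : ℤ) (hpa : p + a = m)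
    (h : m + n = r) : ιTensorObj K L p a m hpa ≫ (psi z).v m r h =
      ModuleCat.ofHom (TensorProduct.lift (bil z p a r (by omega))) := by
  rw [psi, Cochain.mk_v, ιTensorObj]
  erw [ι_mapBifunctorDesc]

theorem psi_apply {n : ℤ} (z : Cochain K (DRing.homCx L M) n) (p a m r : ℤ) (hpa : p + a = m)
    (h : m + n = r) (x : K.X p) (y : L.X a) :
    ((psi z).v m r h).hom ((ιTensorObj K L p a m hpa).hom (x ⊗ₜ[A] y)) = bil z p a r (by omega) x y :=
  (LinearMap.congr_fun (congrArg ModuleCat.Hom.hom (psi_ι z p a m r hpa h)) (x ⊗ₜ[A] y)).trans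
    (TensorProduct.lift.tmul x y)

theorem cochain_ext {n : ℤ} {w w' : Cochain (K ⊗ L) M n}
    (h : ∀ p a m r (hpa : p + a = m) (hr : m + n = r) (x : K.X p) (y : L.X a),
      (w.v m r hr).hom ((ιTensorObj K L p a m hpa).hom (x ⊗ₜ[A] y)) =
        (w'.v m r hr).hom ((ιTensorObj K L p a m hpa).hom (x ⊗ₜ[A] y))) : w = w' := by
  refine Cochain.ext _ _ fun m r hr => mapBifunctor.hom_ext fun p a hpa => ?_
  exact ModuleCat.hom_ext (TensorProduct.ext' fun x y => h p a m r hpa hr x y)

/-- `psi` as a linear map. -/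
noncomputable def psiL (n : ℤ) : Cochain K (DRing.homCx L M) n →ₗ[A] Cochain (K ⊗ L) M n where
  toFun := psi
  map_add' z z' := cochain_ext fun p a m r hpa hr x y => by
    rw [Cochain.add_v, ModuleCat.hom_add, LinearMap.add_apply, psi_apply, psi_apply, psi_apply]
    show ((cv _ (((z + z').v _ _ _).hom x)).v _ _ _).hom y = _
    rw [Cochain.add_v, ModuleCat.hom_add, LinearMap.add_apply, map_add, Cochain.add_v]
    rfl
  map_smul' c z := cochain_ext fun p a m r hpa hr x y => by
    rw [RingHom.id_apply, Cochain.smul_v, ModuleCat.hom_smul, LinearMap.smul_apply, psi_apply, psi_apply]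
    show ((cv _ (((c • z).v _ _ _).hom x)).v _ _ _).hom y = _
    rw [Cochain.smul_v, ModuleCat.hom_smul, LinearMap.smul_apply, map_smul, Cochain.smul_v]
    rfl

theorem psi_bijective (n : ℤ) : Function.Bijective (psiL (K := K) (L := L) (M := M) n) := by
  constructor
  · intro z z' h
    refine Cochain.ext _ _ fun p q hq => ModuleCat.hom_ext (LinearMap.ext fun x => ?_)
    show cv q ((z.v p q hq).hom x) = cv q ((z'.v p q hq).hom x)
    refine Cochain.ext _ _ fun a r hr => ModuleCat.hom_ext (LinearMap.ext fun y => ?_)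
    have := congrArg (fun w : Cochain (K ⊗ L) M n => (w.v (p + a) r (by omega)).hom
      ((ιTensorObj K L p a (p + a) rfl).hom (x ⊗ₜ[A] y))) h
    simp only [psiL, LinearMap.coe_mk, AddHom.coe_mk, psi_apply] at this
    rw [bil_eq z p q a r hq, bil_eq z' p q a r hq] at this
    exact this
  · intro w
    let g : ∀ p a r, p + a + n = r → (K.X p →ₗ[A] L.X a →ₗ[A] M.X r) := fun p a r h =>
      TensorProduct.curry (ιTensorObj K L p a (p + a) rfl ≫ w.v (p + a) r h).hom
    let z : Cochain K (DRing.homCx L M) n := Cochain.mk fun p q hq =>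
      ModuleCat.ofHom (Y := (DRing.homCx L M).X q)
        { toFun := fun x => (Cochain.mk fun a r hr => ModuleCat.ofHom (g p a r (by omega) x) : Cochain L M q)
          map_add' := fun x x' => Cochain.ext _ _ fun a r hr => by
            show ModuleCat.ofHom (g p a r _ (x + x')) = _
            rw [map_add]; rfl
          map_smul' := fun c x => Cochain.ext _ _ fun a r hr => by
            show ModuleCat.ofHom (g p a r _ (c • x)) = _
            rw [map_smul]; rfl }
    refine ⟨z, cochain_ext fun p a m r hpa hr x y => ?_⟩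
    obtain rfl := hpa
    exact (psi_apply z p a (p + a) r rfl hr x y).trans rfl

theorem d_ι_tmul (p a m : ℤ) (hpa : p + a = m) (x : K.X p) (y : L.X a) :
    ((K ⊗ L).d m (m + 1)).hom ((ιTensorObj K L p a m hpa).hom (x ⊗ₜ[A] y)) =
      (ιTensorObj K L (p + 1) a (m + 1) (by omega)).hom ((K.d p (p + 1)).hom x ⊗ₜ[A] y) +
        p.negOnePow • (ιTensorObj K L p (a + 1) (m + 1) (by omega)).hom (x ⊗ₜ[A] (L.d a (a + 1)).hom y) := by
  have e : ιTensorObj K L p a m hpa ≫ (K ⊗ L).d m (m + 1) =
      (K.d p (p + 1) ▷ L.X a) ≫ ιTensorObj K L (p + 1) a (m + 1) (by omega) +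
        p.negOnePow • ((K.X p ◁ L.d a (a + 1)) ≫ ιTensorObj K L p (a + 1) (m + 1) (by omega)) := by
    show ιTensorObj K L p a m hpa ≫ (mapBifunctor K L (curriedTensor _) _).d m (m + 1) = _
    rw [mapBifunctor.d_eq, Preadditive.comp_add, mapBifunctor.ι_D₁, mapBifunctor.ι_D₂,
      mapBifunctor.d₁_eq K L (curriedTensor _) (ComplexShape.up ℤ)
        (show (ComplexShape.up ℤ).Rel p (p + 1) by simp) a (m + 1) (show p + 1 + a = m + 1 by omega),
      mapBifunctor.d₂_eq K L (curriedTensor _) (ComplexShape.up ℤ) p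
        (show (ComplexShape.up ℤ).Rel a (a + 1) by simp) (m + 1) (show p + (a + 1) = m + 1 by omega)]
    rw [show ComplexShape.ε₁ (ComplexShape.up ℤ) (ComplexShape.up ℤ) (ComplexShape.up ℤ) (p, a) = 1 from rfl,
      one_smul]
    rfl
  exact LinearMap.congr_fun (congrArg ModuleCat.Hom.hom e) (x ⊗ₜ[A] y)

theorem homCx_assoc (K L M : DRing.Cx A) :
    Nonempty (DRing.homCx K (DRing.homCx L M) ≅ DRing.homCx (K ⊗ L) M) := by
  refine ⟨HomologicalComplex.Hom.isoOfComponents
    (fun n => (LinearEquiv.ofBijective (psiL n) (psi_bijective n)).toModuleIso) fun n n' hn => ?_⟩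
  change n + 1 = n' at hn
  subst hn
  refine ModuleCat.hom_ext (LinearMap.ext fun (z : Cochain K (DRing.homCx L M) n) => ?_)
  show δ n (n + 1) (psi z) = psi (δ n (n + 1) z)
  refine cochain_ext fun p a m r hpa hr x y => ?_
  rw [δ_v n (n + 1) rfl _ m r hr (m + n) (m + 1) (by omega) rfl, psi_apply,
    bil_eq _ p (p + (n + 1)) a r rfl,
    δ_v n (n + 1) rfl z p (p + (n + 1)) rfl (p + n) (p + 1) (by omega) rfl]
  show ((psi z).v m (m + n) rfl ≫ M.d (m + n) r).hom _ +
      (n + 1).negOnePow • ((psi z).v (m + 1) r _).hom (((K ⊗ L).d m (m + 1)).hom _) = _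
  rw [d_ι_tmul, map_add, LinearMap.map_smul_of_tower, psi_apply, psi_apply, ModuleCat.hom_comp,
    LinearMap.comp_apply, psi_apply, bil_eq z (p + 1) (p + (n + 1)) a r (by omega),
    bil_eq z p (p + n) a (m + n) rfl, bil_eq z p (p + n) (a + 1) r rfl]
  show _ = ((δ (p + n) (p + (n + 1)) (cv (p + n) ((z.v p (p + n) rfl).hom x)) +
    (n + 1).negOnePow • cv (p + (n + 1)) ((z.v (p + 1) (p + (n + 1)) _).hom ((K.d p (p + 1)).hom x)) :
      Cochain L M (p + (n + 1))).v a r _).hom y
  rw [Cochain.add_v, Cochain.units_smul_v,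
    δ_v (p + n) (p + (n + 1)) (by omega) _ a r (by omega) (m + n) (a + 1) (by omega) rfl]
  simp only [ModuleCat.hom_add, ModuleCat.hom_comp, LinearMap.add_apply, LinearMap.comp_apply]
  rw [smul_add, smul_smul, ← Int.negOnePow_add, show n + 1 + p = p + (n + 1) by omega]
  exact (add_assoc _ _ _).symm.trans (by rw [add_right_comm]; rfl)

end Groth.Agent.DR39
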