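import Groth.Agent.DR39.Nilpotent
import Groth.Agent.DR39.Perf
import Mathlib.RingTheory.LocalRing.Module
import Mathlib.LinearAlgebra.Dimension.Constructions
import Mathlib.LinearAlgebra.FiniteDimensional.Lemmas

/-! Minimal complexes over local rings. -/

set_option autoImplicit false
set_option linter.style.haveILetI false
set_option linter.unusedSectionVars false

universe u

open CategoryTheory CategoryTheory.Limits CategoryTheory.Pretriangulated
open scoped TensorProduct

attribute [local instance] HasDerivedCategory.standard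

namespace Groth.Agent.DR39

/-- Formality over a field. -/
theorem exists_formal {k : Type u} [Field k] (X : DRing.Cx k) :
    ∃ (H : DRing.Cx k) (f : H ⟶ X), QuasiIso f ∧ ∀ i, H.X i = X.homology i := by
  haveI : ∀ i, Module.Projective k (X.homology i) := fun i =>
    @Module.Projective.of_free k _ (X.homology i) _ _ (Module.Free.of_divisionRing k _)
  choose s hs using fun i => (hcls X i).exists_rightInverse_of_surjective
    (LinearMap.range_eq_top.2 (hcls_surjective X i))
  let H : DRing.Cx k := CochainComplex.of (fun i => X.homology i) (fun _ => 0) (fun _ => zero_comp)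
  have hd : ∀ i j, H.d i j = 0 := fun i j => by
    by_cases h : i + 1 = j
    · subst h; simp [H]
    · exact H.shape i j h
  let f : H ⟶ X :=
    { f := fun i => ModuleCat.ofHom (X := X.homology i) (Y := X.X i) ((Zd X i).subtype ∘ₗ s i)
      comm' := fun i j hij => by
        obtain rfl : i + 1 = j := hij
        rw [hd, zero_comp]
        exact ModuleCat.hom_ext (LinearMap.ext fun x => (s i x).2) }
  have hs' : ∀ i x, hcls X i (s i x) = x := fun i => LinearMap.congr_fun (hs i)
  refine ⟨H, f, ⟨fun i => quasiIsoAt_of_elements f i (fun x _ y hy => ⟨0, ?_⟩) fun z hz => ?_⟩, fun _ => rfl⟩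
  · rw [map_zero]
    refine ((hs' i x).symm.trans ((hcls_eq_zero_iff X i _).2 ⟨y, hy⟩)).symm
  · refine ⟨hcls X i ⟨z, hz⟩, by rw [hd]; rfl, ?_⟩
    exact (hcls_eq_iff X i _ ⟨z, hz⟩).1 (hs' i _)

theorem finite_homology_field {k : Type u} [Field k] (X : DRing.Cx k) (i : ℤ)
    [Module.Finite k (X.X i)] : Module.Finite k (X.homology i) :=
  Module.Finite.of_surjective _ (hcls_surjective X i)

theorem d_eq_zero_of_finrank {k : Type u} [Field k] (X : DRing.Cx k) (i : ℤ) [Module.Finite k (X.X i)]
    (h : Module.finrank k (X.X i) = Module.finrank k (X.homology i)) (x : X.X i) :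
    (X.d i (i + 1)).hom x = 0 := by
  have : Zd X i = ⊤ := Submodule.eq_top_of_finrank_eq (le_antisymm (Submodule.finrank_le _)
    (h.le.trans (LinearMap.finrank_le_finrank_of_surjective (f := hcls X i) (hcls_surjective X i))))
  exact LinearMap.mem_ker.1 (Submodule.eq_top_iff'.1 this x)

variable {R B : Type u} [CommRing R] [CommRing B] {φ : R →+* B}

theorem oneL_d (P : DRing.Cx R) (i j : ℤ) (x : P.X i) :
    (oneL φ (P.X j)).hom ((P.d i j).hom x) =
      ((extCx φ P).d i j).hom ((oneL φ (P.X i)).hom x) := rfl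

/-- Minimal complexes which are quasi-isomorphic are isomorphic. -/
theorem iso_of_minimal {m : Ideal R} (hm : m ≤ Ideal.jacobson ⊥) (P Q : DRing.Cx R) {b c : ℤ}
    (hPb : DRing.VanishesAbove P b) (hQb : DRing.VanishesAbove Q c)
    (hP : ∀ i, FPp (P.X i)) (hQ : ∀ i, FPp (Q.X i))
    (hPd : ∀ i j x, (P.d i j).hom x ∈ m • (⊤ : Submodule R (P.X j)))
    (hQd : ∀ i j x, (Q.d i j).hom x ∈ m • (⊤ : Submodule R (Q.X j)))
    (e : (QA R).obj P ≅ (QA R).obj Q) : Nonempty (P ≅ Q) := by
  haveI := isKProjective_of_bddAbove P b hPb fun i => (hP i).2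
  haveI := isKProjective_of_bddAbove Q c hQb fun i => (hQ i).2
  obtain ⟨f, hf⟩ := Q_map_surjective P Q e.hom
  obtain ⟨g, hg⟩ := Q_map_surjective Q P e.inv
  have key : ∀ (X Y : DRing.Cx R), (∀ i, FPp (X.X i)) →
      (∀ i j x, (X.d i j).hom x ∈ m • (⊤ : Submodule R (X.X j))) → ∀ (f : X ⟶ Y) (g : Y ⟶ X),
      Nonempty (Homotopy (f ≫ g) (𝟙 X)) → ∀ i, Function.Surjective ((g.f i).hom ∘ₗ (f.f i).hom) := by
    intro X Y hX hXd f g ⟨H⟩ i
    refine (liftClass_FP hm).surjective (hX i) (hX i) _ fun x => ⟨x, ?_⟩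
    have h1 := congrArg (fun t : X.X i ⟶ X.X i => t.hom x) (H.comm i)
    rw [dNext_eq H.hom (show (ComplexShape.up ℤ).Rel i (i + 1) from rfl),
      prevD_eq H.hom (show (ComplexShape.up ℤ).Rel (i - 1) i from sub_add_cancel i 1)] at h1
    simp only [HomologicalComplex.comp_f, ModuleCat.hom_comp, LinearMap.comp_apply, ModuleCat.hom_add,
      LinearMap.add_apply, HomologicalComplex.id_f, ModuleCat.hom_id, LinearMap.id_apply] at h1
    rw [LinearMap.comp_apply, h1]
    rw [show ∀ a b : X.X i, x - (a + b + x) = -(a + b) from fun a b => by abel]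
    exact neg_mem (add_mem (map_mem_smul_top _ _ (hXd _ _ x)) (hXd _ _ _))
  have h1 := key P Q hP hPd f g ((Q_map_eq_iff (f ≫ g) (𝟙 P)).1 (by
    rw [Functor.map_comp, hf, hg, e.hom_inv_id]; exact ((QA R).map_id P).symm))
  have h2 := key Q P hQ hQd g f ((Q_map_eq_iff (g ≫ f) (𝟙 Q)).1 (by
    rw [Functor.map_comp, hf, hg, e.inv_hom_id]; exact ((QA R).map_id Q).symm))
  haveI : ∀ i, IsIso (f.f i) := fun i => by
    haveI := (hP i).1
    rw [isIso_iff_bijective]
    refine ⟨fun x y hxy => ?_, fun y => ?_⟩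
    · refine (OrzechProperty.bijective_of_surjective_endomorphism _ (h1 i)).1 ?_
      simp [hxy]
    · obtain ⟨x, hx⟩ := h2 i y
      exact ⟨_, hx⟩
  exact ⟨@asIso _ _ _ _ f (HomologicalComplex.Hom.isIso_of_components f)⟩

end Groth.Agent.DR39

namespace Groth.Agent.DR39

variable {R : Type u} [CommRing R] [IsLocalRing R] [DRing.HasLBaseChange (IsLocalRing.residue R)]

open IsLocalRing

theorem finite_extCx_residue (E : DRing.Cx R) (i : ℤ) (h : Module.Finite R (E.X i)) :
    Module.Finite (ResidueField R) ((extCx (residue R) E).X i) :=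
  Module.Finite.base_change R (ResidueField R) (E.X i)

theorem finrank_extCx_residue (E : DRing.Cx R) (i : ℤ) (h : Module.Free R (E.X i)) :
    Module.finrank (ResidueField R) ((extCx (residue R) E).X i) = Module.finrank R (E.X i) :=
  Module.finrank_baseChange

/-- Cohomology of the residue base change. -/
noncomputable def fibreHomologyIso (E : DRing.Cx R) (hk : DRing.IsKFlat R E) {K : Dual.D R}
    (e : (QA R).obj E ≅ K) (i : ℤ) :
    (HF (ResidueField R) i).obj ((DRing.LBaseChange (residue R)).obj K) ≅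
      (extCx (residue R) E).homology i :=
  (HF (ResidueField R) i).mapIso
    ((DRing.LBaseChange (residue R)).mapIso e.symm ≪≫ LBaseChangeIso (residue R) E hk) ≪≫ HQIso _ i

/-- The minimality condition forces differentials into the maximal ideal. -/
theorem d_mem_of_finrank (E : DRing.Cx R) (hk : DRing.IsKFlat R E) {K : Dual.D R}
    (e : (QA R).obj E ≅ K) (hE : ∀ i, Module.Free R (E.X i) ∧ Module.Finite R (E.X i) ∧
      Module.finrank R (E.X i) = Module.finrank (ResidueField R)
        (Dual.HD (ResidueField R) ((DRing.LBaseChange (residue R)).obj K) i))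
    (i j : ℤ) (x : E.X i) : (E.d i j).hom x ∈ maximalIdeal R • (⊤ : Submodule R (E.X j)) := by
  by_cases h : i + 1 = j
  · subst h
    haveI := finite_extCx_residue E i (hE i).2.1
    have h0 := d_eq_zero_of_finrank (extCx (residue R) E) i ((finrank_extCx_residue E i (hE i).1).trans
      ((hE i).2.2.trans (fibreHomologyIso E hk e i).toLinearEquiv.finrank_eq))
      ((oneL (residue R) (E.X i)).hom x)
    have h1 : (oneL (residue R) (E.X (i + 1))).hom ((E.d i (i + 1)).hom x) = 0 := by
      rw [oneL_d]; exact h0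
    have h2 := ((red_oneL Ideal.Quotient.mk_surjective (E.X (i + 1))).mem _).1 h1
    rwa [Ideal.mk_ker] at h2
  · rw [E.shape i j h]
    exact Submodule.zero_mem _

theorem minimal_main (K : Dual.D R) (E : DRing.Cx R) (d : ℤ) (hv : DRing.VanishesAbove E d)
    (hE : ∀ i, FFp (E.X i)) (e : (QA R).obj E ≅ K) :
    (∀ i, Module.Finite (ResidueField R) (Dual.HD (ResidueField R) ((DRing.LBaseChange (residue R)).obj K) i)) ∧
    (∀ i, d < i → Subsingleton (Dual.HD (ResidueField R) ((DRing.LBaseChange (residue R)).obj K) i)) ∧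
    ∃ P : DRing.Cx R, DRing.VanishesAbove P d ∧ (∀ i, Module.Free R (P.X i) ∧ Module.Finite R (P.X i) ∧
      Module.finrank R (P.X i) = Module.finrank (ResidueField R)
        (Dual.HD (ResidueField R) ((DRing.LBaseChange (residue R)).obj K) i)) ∧ Nonempty ((QA R).obj P ≅ K) := by
  have hk : DRing.IsKFlat R E := isKFlat_of_flat d hv fun i => flat_of_PR (proj_of_FF (hE i))
  let X := extCx (residue R) E
  haveI : ∀ i, Module.Finite (ResidueField R) (X.X i) := fun i => finite_extCx_residue E i (hE i).1
  haveI : ∀ i, Module.Finite (ResidueField R) (X.homology i) := fun i => finite_homology_field X i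
  have hXv : DRing.VanishesAbove X d := fun i hi => (ModuleCat.extendScalars (residue R)).map_isZero (hv i hi)
  have hXs : ∀ i, d < i → IsZero (X.homology i) := fun i hi => (isZero_homology_iff X i).2 fun x _ => by
    haveI := ModuleCat.subsingleton_of_isZero (hXv i hi)
    exact ⟨0, Subsingleton.elim _ _⟩
  refine ⟨fun i => Module.Finite.equiv (fibreHomologyIso E hk e i).toLinearEquiv.symm, fun i hi =>
    (isZero_HF_iff _ i).1 ((hXs i hi).of_iso (fibreHomologyIso E hk e i)), ?_⟩
  obtain ⟨H, f, hf, hH⟩ := exists_formal X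
  haveI : IsIso ((QA (ResidueField R)).map f) :=
    (DerivedCategory.isIso_Q_map_iff_quasiIso (ModuleCat.{u} (ResidueField R)) _).2 hf
  have hker : RingHom.ker (residue R) = maximalIdeal R := Ideal.mk_ker
  have hjac : RingHom.ker (residue R) ≤ Ideal.jacobson ⊥ := by
    rw [hker]; exact (IsLocalRing.jacobson_eq_maximalIdeal ⊥ bot_ne_top).ge
  haveI : ∀ i, Module.Finite (ResidueField R) (H.X i) := fun i => by rw [hH]; infer_instance
  haveI : ∀ i, Module.Free (ResidueField R) (H.X i) := fun i => Module.Free.of_divisionRing _ _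
  choose π hπ using fun i => exists_red_free (φ := residue R) Ideal.Quotient.mk_surjective (H.X i)
    (Module.finBasis (ResidueField R) (H.X i)).equivFun.symm
  obtain ⟨P, h1, h2, h3, ⟨eP⟩⟩ := exists_lift_rep' (φ := residue R) Ideal.Quotient.mk_surjective
    (liftClass_FP hjac) (fun A C hA hC => isModClass_FP.prod A C hA hC) K
    ⟨E, d, hv, fun i => FP_of_FF (hE i), ⟨e⟩⟩ H d
    (fun i hi => by rw [hH]; exact hXs i hi) _ (fun i => ⟨inferInstanceAs (Module.Finite R (Fin _ → R)),
      inferInstanceAs (Module.Projective R (Fin _ → R))⟩) π hπ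
    ⟨asIso ((QA (ResidueField R)).map f) ≪≫ (LBaseChangeIso (residue R) E hk).symm ≪≫
      (DRing.LBaseChange (residue R)).mapIso e⟩
  refine ⟨P, h1, fun i => ?_, h3⟩
  haveI := (h2 i).1; haveI := (h2 i).2
  haveI : Module.Free R (P.X i) := Module.free_of_flat_of_isLocalRing
  refine ⟨inferInstance, inferInstance, ?_⟩
  rw [← finrank_extCx_residue P i inferInstance]
  refine Eq.trans ((HomologicalComplex.eval _ _ i).mapIso eP).toLinearEquiv.finrank_eq ?_
  refine Eq.trans ?_ (fibreHomologyIso E hk e i).toLinearEquiv.finrank_eq.symm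
  exact (eqToIso (hH i)).toLinearEquiv.finrank_eq

end Groth.Agent.DR39
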