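import Groth.Agent.DR39.PC
import Mathlib.CategoryTheory.Triangulated.TStructure.TruncLTGE
import Mathlib.Algebra.Module.FinitePresentation
import Mathlib.RingTheory.Finiteness.Cardinality

/-! Pseudo-coherence: modules, induction on cohomology and on terms. -/

set_option autoImplicit false
set_option linter.style.haveILetI false
set_option linter.unusedSectionVars false

universe u

open CategoryTheory CategoryTheory.Limits CategoryTheory.Pretriangulated ZeroObject

attribute [local instance] HasDerivedCategory.standard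

namespace Groth.Agent.DR39

variable {A : Type u} [CommRing A]

/-- Bounded above complexes of finite free modules. -/
def BAFF (X : Dual.D A) : Prop := ∃ b : ℤ, Rep FFp (Set.Iic b) X

theorem pc'_iff (X : Dual.D A) : DRing.IsPseudoCoherent' A X ↔ BAFF X := by
  constructor
  · rintro ⟨E, b, hb, hE, he⟩
    exact ⟨b, E, (vanishesAbove_iff E b).1 hb, hE, he⟩
  · rintro ⟨b, E, hb, hE, he⟩
    exact ⟨E, b, (vanishesAbove_iff E b).2 hb, hE, he⟩

theorem BAFF.of_iso {X Y : Dual.D A} (h : BAFF X) (e : X ≅ Y) : BAFF Y := by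
  obtain ⟨b, h⟩ := h; exact ⟨b, h.of_iso e⟩

theorem BAFF.shift {X : Dual.D A} (h : BAFF X) (n : ℤ) : BAFF (X⟦n⟧) := by
  obtain ⟨b, h⟩ := h
  exact ⟨b - n, h.shift n fun i hi => by simp only [Set.mem_Iic] at hi ⊢; omega⟩

theorem BAFF.obj₃ {T : Triangle (Dual.D A)} (hT : T ∈ distinguishedTriangles)
    (h₁ : BAFF T.obj₁) (h₂ : BAFF T.obj₂) : BAFF T.obj₃ := by
  obtain ⟨b, h₁⟩ := h₁
  obtain ⟨b', h₂⟩ := h₂
  exact ⟨max b b', Rep.cone isModClass_FF le_rfl hT h₁ (fun M hM => proj_of_FF hM) h₂
    fun i hi => by simp only [Set.mem_Iic] at hi ⊢; omega⟩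

theorem BAFF.obj₂ {T : Triangle (Dual.D A)} (hT : T ∈ distinguishedTriangles)
    (h₁ : BAFF T.obj₁) (h₃ : BAFF T.obj₃) : BAFF T.obj₂ :=
  BAFF.obj₃ (inv_rot_of_distTriang T hT) (h₃.shift (-1)) h₁

theorem BAFF.obj₁ {T : Triangle (Dual.D A)} (hT : T ∈ distinguishedTriangles)
    (h₂ : BAFF T.obj₂) (h₃ : BAFF T.obj₃) : BAFF T.obj₁ :=
  ((BAFF.obj₃ (rot_of_distTriang T hT) h₂ h₃).shift (-1)).of_iso
    ((shiftEquiv (Dual.D A) (1 : ℤ)).unitIso.symm.app T.obj₁)

theorem approx_cutι (E : DRing.Cx A) (m : ℤ) : Approx m ((QA A).map (cutι E m)) := by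
  obtain ⟨Z, g, k, hT⟩ := distinguished_cocone_triangle ((QA A).map (cutι E m))
  exact (approx_iff_acyc _ hT m).2 (acyc_cone_cutι E m _ hT (Iso.refl _) (Iso.refl _)
    ((Category.comp_id _).trans (Category.id_comp _).symm))

theorem pc_of_pc' {X : Dual.D A} (h : DRing.IsPseudoCoherent' A X) (m : ℤ) : PC m X := by
  obtain ⟨E, b, hb, hE, ⟨e⟩⟩ := h
  refine (pc_iff m X).2 ⟨_, (QA A).map (cutι E m) ≫ e.hom, ⟨m, b, cutGE E m, fun i hi => ?_,
    fun i => ?_, ⟨Iso.refl _⟩⟩, (approx_cutι E m).comp (Approx.of_isIso m e.hom)⟩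
  · rw [Set.mem_Icc, not_and_or, not_le, not_le] at hi
    rcases hi with hi | hi
    · exact isZero_cutGE E hi
    · exact isZero_cutGE_of_isZero E (hb i hi)
  · by_cases hi : m ≤ i
    · haveI : IsIso ((cutι E m).f i) := (isIso_iff_bijective _).2 (cutι_bijective E hi)
      exact isModClass_FF.of_iso (asIso ((cutι E m).f i)).symm (hE i)
    · exact isModClass_FF.of_isZero (isZero_cutGE E (by omega))

/-- Cycles of a bounded above complex of projectives in its exact range. -/
theorem cycles_split (E : DRing.Cx A) (b : ℤ) (hb : DRing.VanishesAbove E b)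
    (hp : ∀ i, Module.Projective A (E.X i)) (m : ℤ) (hz : ∀ i, m < i → IsZero (E.homology i)) :
    ∀ i, m ≤ i → ∃ r : E.X i →ₗ[A] Zd E i, ∀ z : Zd E i, r z = z := by
  suffices key : ∀ (k : ℕ) (i : ℤ), m ≤ i → b < i + k → ∃ r : E.X i →ₗ[A] Zd E i, ∀ z : Zd E i, r z = z from
    fun i hi => key (b - i + 1).toNat i hi (by omega)
  intro k
  induction k with
  | zero =>
    intro i _ hi
    haveI := ModuleCat.subsingleton_of_isZero (hb i (by omega))
    exact ⟨0, fun z => Subsingleton.elim _ _⟩
  | succ k ih =>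
    intro i hmi hi
    obtain ⟨r, hr⟩ := ih (i + 1) (by omega) (by omega)
    haveI := hp (i + 1)
    haveI : Module.Projective A (Zd E (i + 1)) :=
      Module.Projective.of_split (Zd E (i + 1)).subtype r (LinearMap.ext hr)
    let d' : E.X i →ₗ[A] Zd E (i + 1) :=
      LinearMap.codRestrict _ (E.d i (i + 1)).hom fun x => d_apply_d E _ _ _ x
    have hd' : Function.Surjective d' := by
      intro z
      have := (isZero_homology_iff E (i + 1)).1 (hz (i + 1) (by omega)) z z.2
      obtain ⟨x, hx⟩ := this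
      refine ⟨(E.XIsoOfEq (show i + 1 - 1 = i by omega)).hom x, Subtype.ext ?_⟩
      show (E.d i (i + 1)).hom ((E.XIsoOfEq _).hom x) = _
      rw [← LinearMap.comp_apply, ← ModuleCat.hom_comp, HomologicalComplex.XIsoOfEq_hom_comp_d]
      exact hx
    obtain ⟨s, hs⟩ := Module.projective_lifting_property d' LinearMap.id hd'
    refine ⟨LinearMap.codRestrict _ (LinearMap.id - s ∘ₗ d') fun x => ?_, fun z => ?_⟩
    · have := congrArg Subtype.val (LinearMap.congr_fun hs (d' x))
      rw [LinearMap.mem_ker, LinearMap.sub_apply, map_sub, sub_eq_zero]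
      exact this.symm
    · have hz' : d' z = 0 := Subtype.ext z.2
      exact Subtype.ext (by simp [hz'])

theorem finite_homology_of_bddAbove (E : DRing.Cx A) (b : ℤ) (hb : DRing.VanishesAbove E b)
    (hp : DRing.TermwiseFiniteProjective E) (m : ℤ) (hz : ∀ i, m < i → IsZero (E.homology i)) :
    Module.Finite A (E.homology m) := by
  obtain ⟨r, hr⟩ := cycles_split E b hb (fun i => (hp i).2) m hz m le_rfl
  haveI := (hp m).1
  haveI : Module.Finite A (Zd E m) := Module.Finite.of_surjective r fun z => ⟨z, hr z⟩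
  exact Module.Finite.of_surjective (hcls E m) (hcls_surjective E m)

theorem finite_HF_top {m : ℤ} {X : Dual.D A} (h : PC m X) (hz : Acyc (m + 1) X) :
    Module.Finite A ((HF A m).obj X) := by
  obtain ⟨X', α, ⟨a, b, E, hE, hFF, ⟨e⟩⟩, hα⟩ := (pc_iff m X).1 h
  haveI : Module.Finite A (E.homology m) := by
    refine finite_homology_of_bddAbove E b (fun i hi => hE i fun h => by rw [Set.mem_Icc] at h; omega)
      (fun i => FP_of_FF (hFF i)) m fun i hi => ?_
    haveI := hα.1 i hi
    exact (isZero_HF_Q_iff E i).1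
      (((hz i (by omega)).of_iso (asIso ((HF A i).map α))).of_iso ((HF A i).mapIso e))
  haveI : Module.Finite A ((HF A m).obj X') :=
    Module.Finite.equiv ((HQIso E m).symm ≪≫ (HF A m).mapIso e).toLinearEquiv
  exact Module.Finite.of_surjective ((HF A m).map α).hom ((ModuleCat.epi_iff_surjective _).1 hα.2)

theorem acyc_inD (M : Type u) [AddCommGroup M] [Module A M] {m : ℤ} (h : 0 < m) :
    Acyc m (Dual.inD A M) := acyc_single _ 0 m h

/-- `H⁰(M[0]) = M`. -/
noncomputable def inDH0 (M : Type u) [AddCommGroup M] [Module A M] :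
    (HF A 0).obj (Dual.inD A M) ≅ ModuleCat.of A M := singleH0Iso _

theorem bff_inD_of_free (F : Type u) [AddCommGroup F] [Module A F] [Module.Finite A F]
    [Module.Free A F] : BFF (Dual.inD A F) :=
  ⟨0, 0, (Rep.single isModClass_FF 0 (M := ModuleCat.of A F) ⟨inferInstance, inferInstance⟩).mono
    (by simp)⟩

/-- The triangle of a surjection of modules. -/
theorem exists_triangle_of_surjective {F M : Type u} [AddCommGroup F] [Module A F] [AddCommGroup M]
    [Module A M] (g : F →ₗ[A] M) (hg : Function.Surjective g) :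
    ∃ T : Triangle (Dual.D A), T ∈ distinguishedTriangles ∧ T.obj₁ = Dual.inD A (LinearMap.ker g) ∧
      T.obj₂ = Dual.inD A F ∧ T.obj₃ = Dual.inD A M := by
  let S : ShortComplex (ModuleCat.{u} A) :=
    ShortComplex.mk (ModuleCat.ofHom (LinearMap.ker g).subtype) (ModuleCat.ofHom g)
      (ModuleCat.hom_ext (LinearMap.ext fun x => x.2))
  have hS : S.ShortExact :=
    { exact := by
        rw [ShortComplex.moduleCat_exact_iff]
        exact fun x hx => ⟨⟨x, hx⟩, rfl⟩
      mono_f := (ModuleCat.mono_iff_injective _).2 Subtype.val_injective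
      epi_g := (ModuleCat.epi_iff_surjective _).2 hg }
  exact ⟨_, hS.singleTriangle_distinguished, rfl, rfl, rfl⟩

theorem pcModule_zero_iff (M : Type u) [AddCommGroup M] [Module A M] :
    PC 0 (Dual.inD A M) ↔ Module.Finite A M := by
  constructor
  · intro h
    haveI := finite_HF_top h (acyc_inD M (by omega))
    exact Module.Finite.equiv (inDH0 (A := A) M).toLinearEquiv
  · intro h
    obtain ⟨n, g, hg⟩ := Module.Finite.exists_fin' A M
    obtain ⟨T, hT, e1, e2, e3⟩ := exists_triangle_of_surjective g hg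
    rw [← e3]
    refine PC.obj₃ hT ?_ (by rw [e2]; exact pc_of_bff (bff_inD_of_free _))
    rw [e1]
    exact pc_of_acyc (acyc_inD _ (by omega))

theorem pcModule_negOne_iff (M : Type u) [AddCommGroup M] [Module A M] :
    PC (-1) (Dual.inD A M) ↔ Module.FinitePresentation A M := by
  constructor
  · intro h
    haveI := (pcModule_zero_iff M).1 (h.mono (by omega))
    obtain ⟨n, g, hg⟩ := Module.Finite.exists_fin' A M
    obtain ⟨T, hT, e1, e2, e3⟩ := exists_triangle_of_surjective g hg
    have hker : PC (-1 + 1) T.obj₁ := PC.obj₁ hT (by rw [e2]; exact pc_of_bff (bff_inD_of_free _)) (by rw [e3]; exact h)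
    rw [e1] at hker
    exact Module.finitePresentation_of_surjective g hg
      (Module.Finite.iff_fg.1 ((pcModule_zero_iff _).1 hker))
  · intro h
    obtain ⟨n, g, hg⟩ := Module.Finite.exists_fin' A M
    obtain ⟨T, hT, e1, e2, e3⟩ := exists_triangle_of_surjective g hg
    rw [← e3]
    refine PC.obj₃ hT ?_ (by rw [e2]; exact pc_of_bff (bff_inD_of_free _))
    rw [e1]
    exact (pcModule_zero_iff _).2 (Module.Finite.iff_fg.2 (Module.FinitePresentation.fg_ker g hg))

theorem pc_single_iff (M : ModuleCat.{u} A) (n m : ℤ) :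
    PC m ((DerivedCategory.singleFunctor (ModuleCat.{u} A) n).obj M) ↔ PC (m - n) (Dual.inD A M) := by
  rw [← pc_shift_iff (Dual.inD A M) (-n) m (show m + -n = m - n by omega)]
  exact ⟨fun h => h.of_iso (singleShiftIso M n (-n) (by omega)).symm,
    fun h => h.of_iso (singleShiftIso M n (-n) (by omega))⟩

open DerivedCategory DerivedCategory.TStructure in
/-- Dévissage by the top cohomology. -/
theorem induction_homology {P : Dual.D A → Prop} (hiso : ∀ {X Y : Dual.D A}, (X ≅ Y) → P X → P Y)
    (hext : ∀ T : Triangle (Dual.D A), T ∈ distinguishedTriangles → P T.obj₁ → P T.obj₃ → P T.obj₂)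
    (a : ℤ) (X : Dual.D A) (hbase : ∀ (Y : Dual.D A), Acyc a Y →
      (∀ i, i < a → Nonempty ((HF A i).obj Y ≅ (HF A i).obj X)) → P Y)
    (hsingle : ∀ i, a ≤ i → P ((DerivedCategory.singleFunctor (ModuleCat.{u} A) i).obj ((HF A i).obj X)))
    (b : ℤ) (hb : Acyc b X) : P X := by
  suffices key : ∀ (k : ℕ) (Y : Dual.D A), Acyc (a + k) Y →
      (∀ i, i < a + k → Nonempty ((HF A i).obj Y ≅ (HF A i).obj X)) → P Y from
    key (b - a).toNat X (hb.mono (by omega)) (fun i _ => ⟨Iso.refl _⟩)
  intro k
  induction k with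
  | zero =>
    intro Y h1 h2
    simp only [Nat.cast_zero, add_zero] at h1 h2
    exact hbase Y h1 h2
  | succ k ih =>
    intro Y h1 h2
    push_cast at h1 h2
    let n := a + (k : ℤ)
    let T := ((t : Triangulated.TStructure (Dual.D A)).triangleLTGE n).obj Y
    have hT : T ∈ distinguishedTriangles := t.triangleLTGE_distinguished n Y
    haveI hLE : T.obj₁.IsLE (n - 1) := inferInstanceAs (t.IsLE _ (n - 1))
    haveI hGE : T.obj₃.IsGE n := inferInstanceAs (t.IsGE _ n)
    have hlow : ∀ i, i < n → IsIso ((HF A i).map T.mor₁) := fun i hi => by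
      haveI : Epi ((HF A i).map T.mor₁) := (HomologySequence.epi_homologyMap_mor₁_iff T hT i).2
        ((T.obj₃.isZero_of_isGE n i hi).eq_of_tgt _ _)
      haveI : Mono ((HF A i).map T.mor₁) :=
        (HomologySequence.mono_homologyMap_mor₁_iff T hT (i - 1) i (by omega)).2
          ((T.obj₃.isZero_of_isGE n (i - 1) (by omega)).eq_of_src _ _)
      exact isIso_of_mono_of_epi _
    have hhigh : ∀ i, n ≤ i → IsIso ((HF A i).map T.mor₂) := fun i hi => by
      haveI : Mono ((HF A i).map T.mor₂) := (HomologySequence.mono_homologyMap_mor₂_iff T hT i).2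
        ((T.obj₁.isZero_of_isLE (n - 1) i (by omega)).eq_of_src _ _)
      haveI : Epi ((HF A i).map T.mor₂) :=
        (HomologySequence.epi_homologyMap_mor₂_iff T hT i (i + 1) rfl).2
          ((T.obj₁.isZero_of_isLE (n - 1) (i + 1) (by omega)).eq_of_tgt _ _)
      exact isIso_of_mono_of_epi _
    refine hext T hT (ih _ (fun i hi => T.obj₁.isZero_of_isLE (n - 1) i (by omega)) fun i hi => ?_) ?_
    · haveI := hlow i hi
      obtain ⟨e⟩ := h2 i (by omega)
      exact ⟨asIso ((HF A i).map T.mor₁) ≪≫ e⟩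
    · obtain ⟨e⟩ := exists_iso_single_homology T.obj₃ n fun i hi => by
        rcases lt_or_gt_of_ne hi with h | h
        · exact T.obj₃.isZero_of_isGE n i h
        · haveI := hhigh i h.le
          exact (h1 i (by omega)).of_iso (asIso ((HF A i).map T.mor₂)).symm
      haveI := hhigh n le_rfl
      obtain ⟨f⟩ := h2 n (by omega)
      exact hiso (e ≪≫ (DerivedCategory.singleFunctor _ n).mapIso
        ((asIso ((HF A n).map T.mor₂)).symm ≪≫ f)).symm (hsingle n (by omega))

theorem pc_of_homology {m : ℤ} {X : Dual.D A} {b : ℤ} (hb : Acyc b X)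
    (h : ∀ i, m ≤ i → PC (m - i) (Dual.inD A ((HF A i).obj X))) : PC m X :=
  induction_homology (P := PC m) (fun e hX => hX.of_iso e) (fun _ hT h1 h3 => PC.obj₂ hT h1 h3) m X
    (fun _ hY _ => pc_of_acyc hY) (fun i hi => (pc_single_iff _ i m).2 (h i hi)) b hb

theorem acyc_of_pc {m : ℤ} {X : Dual.D A} (h : PC m X) : ∃ b : ℤ, Acyc b X := by
  obtain ⟨X', α, ⟨a, b, hX'⟩, hα⟩ := (pc_iff m X).1 h
  refine ⟨max (m + 1) (b + 1), fun i hi => ?_⟩
  haveI := hα.1 i (by omega)
  exact ((hX'.acyc (m := b + 1) fun j hj => by rw [Set.mem_Icc] at hj; omega) i (by omega)).of_iso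
    (asIso ((HF A i).map α)).symm

theorem acyc_of_subsingleton {X : Dual.D A} {b : ℤ}
    (h : ∀ i, b < i → Subsingleton (Dual.HD A X i)) : Acyc (b + 1) X :=
  fun i hi => (isZero_HF_iff X i).2 (h i (by omega))

/-- The quotient `cutGE E n → E^n[-n]`. -/
noncomputable def cutπ (E : DRing.Cx A) (n : ℤ) :
    cutGE E n ⟶ (HomologicalComplex.single (ModuleCat.{u} A) (ComplexShape.up ℤ) n).obj (E.X n) :=
  HomologicalComplex.mkHomToSingle ((cutι E n).f n) fun i hi => by
    change i + 1 = n at hi
    exact (isZero_cutGE E (by omega)).eq_of_src _ _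

theorem cutSub_mono (E : DRing.Cx A) (n i : ℤ) : cutSub E (n + 1) i ≤ cutSub E n i := by
  by_cases h : n ≤ i
  · rw [cutSub_of_le E h]; exact le_top
  · rw [cutSub_of_lt E (by omega : i < n + 1)]; exact bot_le

/-- The inclusion `cutGE E (n+1) → cutGE E n`. -/
noncomputable def cutIncl (E : DRing.Cx A) (n : ℤ) : cutGE E (n + 1) ⟶ cutGE E n where
  f i := ModuleCat.ofHom (Submodule.inclusion (cutSub_mono E n i))
  comm' i j hij := by
    change i + 1 = j at hij
    have e : ∀ k, (cutGE E k).d i j =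
        ModuleCat.ofHom ((E.d i j).hom.restrict (d_mem_cutSub E k hij)) := fun k => dif_pos hij
    rw [e, e]
    rfl

/-- The short exact sequence of brutal truncations. -/
noncomputable def cutSeq (E : DRing.Cx A) (n : ℤ) : ShortComplex (DRing.Cx A) :=
  ShortComplex.mk (cutIncl E n) (cutπ E n) (by
    apply HomologicalComplex.to_single_hom_ext
    exact (isZero_cutGE E (by omega)).eq_of_src _ _)

theorem shortExact_cutSeq (E : DRing.Cx A) (n : ℤ) : (cutSeq E n).ShortExact := by
  refine HomologicalComplex.shortExact_of_degreewise_shortExact _ fun i => ?_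
  have hf : Function.Injective ((cutIncl E n).f i).hom := Submodule.inclusion_injective (cutSub_mono E n i)
  by_cases hi : i = n
  · subst hi
    haveI := ModuleCat.subsingleton_of_isZero (isZero_cutGE E (show i < i + 1 by omega))
    haveI : IsIso ((cutι E i).f i) := (isIso_iff_bijective _).2 (cutι_bijective E le_rfl)
    have hb : Function.Bijective ((cutπ E i).f i).hom := by
      rw [← isIso_iff_bijective]
      simp only [cutπ, HomologicalComplex.mkHomToSingle_f]
      infer_instance
    exact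
      { exact := (ShortComplex.moduleCat_exact_iff _).2 fun x hx =>
          ⟨0, ((map_zero _).trans (hb.1 (hx.trans (map_zero _).symm)).symm)⟩
        mono_f := (ModuleCat.mono_iff_injective _).2 hf
        epi_g := (ModuleCat.epi_iff_surjective _).2 hb.2 }
  · have hz : IsZero (((HomologicalComplex.single (ModuleCat.{u} A) (ComplexShape.up ℤ) n).obj
        (E.X n)).X i) := HomologicalComplex.isZero_single_obj_X _ _ _ _ hi
    exact
      { exact := (ShortComplex.moduleCat_exact_iff _).2 fun x _ => by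
          refine ⟨⟨x.1, ?_⟩, rfl⟩
          by_cases h : n + 1 ≤ i
          · rw [cutSub_of_le E h]; trivial
          · exact (show cutSub E n i ≤ cutSub E (n + 1) i by
              rw [cutSub_of_lt E (show i < n by omega)]; exact bot_le) x.2
        mono_f := (ModuleCat.mono_iff_injective _).2 hf
        epi_g := hz.epi _ }

/-- Dévissage by the terms of a complex bounded above. -/
theorem induction_terms {P : Dual.D A → Prop}
    (hext : ∀ T : Triangle (Dual.D A), T ∈ distinguishedTriangles → P T.obj₁ → P T.obj₃ → P T.obj₂)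
    (hzero : ∀ X : Dual.D A, IsZero X → P X)
    (E : DRing.Cx A) (b : ℤ) (hb : DRing.VanishesAbove E b) (a : ℤ)
    (hterm : ∀ i, a ≤ i → P ((DerivedCategory.singleFunctor (ModuleCat.{u} A) i).obj (E.X i))) :
    P ((QA A).obj (cutGE E a)) := by
  suffices key : ∀ (k : ℕ) (n : ℤ), a ≤ n → b < n + k → P ((QA A).obj (cutGE E n)) from
    key (b + 1 - a).toNat a le_rfl (by omega)
  intro k
  induction k with
  | zero =>
    intro n _ hn
    refine hzero _ ((QA A).map_isZero ?_)
    refine (IsZero.iff_id_eq_zero _).2 (HomologicalComplex.hom_ext _ _ fun i => ?_)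
    by_cases h : n ≤ i
    · exact (isZero_cutGE_of_isZero E (hb i (by omega))).eq_of_src _ _
    · exact (isZero_cutGE E (by omega)).eq_of_src _ _
  | succ k ih =>
    intro n han hn
    exact hext _ (DerivedCategory.triangleOfSES_distinguished (shortExact_cutSeq E n))
      (ih (n + 1) (by omega) (by omega)) (hterm n han)

theorem pc_of_terms {m : ℤ} (E : DRing.Cx A) (b : ℤ) (hb : DRing.VanishesAbove E b)
    (h : ∀ i, m ≤ i → PC (m - i) (Dual.inD A (E.X i))) : PC m ((QA A).obj E) := by
  obtain ⟨X', α, hX', hα⟩ := (pc_iff m _).1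
    (induction_terms (P := PC m) (fun _ hT h1 h3 => PC.obj₂ hT h1 h3)
      (fun X hX => pc_of_bff ⟨0, 0, Rep.of_isZero isModClass_FF hX⟩) E b hb m
      fun i hi => (pc_single_iff _ i m).2 (h i hi))
  exact (pc_iff m _).2 ⟨X', _, hX', hα.comp (approx_cutι E m)⟩

end Groth.Agent.DR39
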