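import Groth.Agent.DR39.Bidual3

/-! A dualizing complex has `Ext(κ(m), ω)` in a single degree, one-dimensional. -/

set_option autoImplicit false
set_option linter.style.haveILetI false
set_option linter.unusedSectionVars false

universe u

open CategoryTheory CategoryTheory.Limits
open CategoryTheory.Pretriangulated

attribute [local instance] HasDerivedCategory.standard

namespace Groth.Agent.DR39

variable {A : Type u} [CommRing A]

/-- `Hom(M[-n], X⟦k⟧) = Hom(M, X⟦n+k⟧)` -/
noncomputable def snglGMEquiv (X : Dual.D A) (M : ModuleCat.{u} A) (n k : ℤ) :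
    (sngl n M ⟶ X⟦k⟧) ≃ₗ[A] LC17.GM X M (n + k) :=
  (LinearEquiv.ofBijective ((CategoryTheory.shiftFunctor (Dual.D A) n).mapLinearMap A
      (X := sngl n M) (Y := X⟦k⟧))
    ⟨(CategoryTheory.shiftFunctor (Dual.D A) n).map_injective,
      (CategoryTheory.shiftFunctor (Dual.D A) n).map_surjective⟩).trans
    (CategoryTheory.Linear.homCongr A
      (((DerivedCategory.singleFunctors (ModuleCat.{u} A)).shiftIso n 0 n (add_zero n)).app M)
      ((CategoryTheory.shiftFunctorAdd' (Dual.D A) k n (n + k) (by omega)).app X).symm)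

/-- `Q(single M) = M[0]` -/
noncomputable def sglQIso (M : ModuleCat.{u} A) :
    (QA A).obj (sgl M) ≅ (DerivedCategory.singleFunctor (ModuleCat.{u} A) 0).obj M :=
  ((DerivedCategory.singleFunctorIsoCompQ (ModuleCat.{u} A) 0).app M).symm

variable (m : Ideal A)

theorem smul_gm_eq_zero (X : Dual.D A) (i : ℤ) {a : A} (ha : a ∈ m)
    (f : LC17.GM X (ModuleCat.of A (A ⧸ m)) i) : a • f = 0 := by
  have h0 : a • 𝟙 (ModuleCat.of A (A ⧸ m)) = 0 := by
    ext y
    simp [Algebra.smul_def, Ideal.Quotient.eq_zero_iff_mem.2 ha]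
  rw [← LC17.pre_smul_id X a i f, h0]
  show (DerivedCategory.singleFunctor _ 0).map 0 ≫ f = 0
  rw [Functor.map_zero, zero_comp]

variable [m.IsMaximal]

/-- a nonzero finite module killed by `m` surjects to `A/m` -/
theorem exists_surjective_residue (M : Type u) [AddCommGroup M] [Module A M] [Module.Finite A M]
    [Nontrivial M] (hm : m ≤ Module.annihilator A M) :
    ∃ g : M →ₗ[A] A ⧸ m, Function.Surjective g := by
  obtain ⟨N, hN, -⟩ := (eq_top_or_exists_le_coatom (⊥ : Submodule A M)).resolve_left bot_ne_top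
  obtain ⟨x, hx⟩ : ∃ x, x ∉ N := by
    by_contra h
    push Not at h
    exact hN.1 (eq_top_iff.2 fun y _ => h y)
  let φ : A →ₗ[A] M ⧸ N := LinearMap.toSpanSingleton A _ (N.mkQ x)
  have hs : Function.Surjective φ := fun y => by
    obtain ⟨y, rfl⟩ := N.mkQ_surjective y
    have hy : y ∈ N ⊔ Submodule.span A {x} := by
      rw [hN.2 (N ⊔ Submodule.span A {x}) (lt_of_le_of_ne le_sup_left fun h =>
        hx (h ▸ Submodule.mem_sup_right (Submodule.mem_span_singleton_self x)))]
      trivial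
    obtain ⟨y', hy', z, hz, rfl⟩ := Submodule.mem_sup.1 hy
    obtain ⟨c, rfl⟩ := Submodule.mem_span_singleton.1 hz
    exact ⟨c, by simp [φ, (Submodule.Quotient.mk_eq_zero N).2 hy']⟩
  have hk : LinearMap.ker φ = m := by
    refine (Ideal.IsMaximal.eq_of_le ‹m.IsMaximal› ?_ fun a ha => ?_).symm
    · intro h
      have h1 : φ 1 = 0 := LinearMap.mem_ker.1 (by rw [h]; trivial)
      exact hx ((Submodule.Quotient.mk_eq_zero N).1 (by simpa [φ] using h1))
    · show a • N.mkQ x = 0
      rw [← map_smul, Module.mem_annihilator.1 (hm ha) x, map_zero]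
  exact ⟨(Submodule.quotEquivOfEq _ _ hk).toLinearMap ∘ₗ
    (LinearMap.quotKerEquivOfSurjective φ hs).symm.toLinearMap ∘ₗ N.mkQ,
    (Submodule.quotEquivOfEq _ _ hk).surjective.comp
      ((LinearMap.quotKerEquivOfSurjective φ hs).symm.surjective.comp N.mkQ_surjective)⟩

variable [IsNoetherianRing A]

theorem subsingleton_gm_of_residue (X : Dual.D A) {i : ℤ}
    (h : Subsingleton (LC17.GM X (ModuleCat.of A (A ⧸ m)) i))
    (M : Type u) [AddCommGroup M] [Module A M] [Module.Finite A M] (hm : m ≤ Module.annihilator A M) :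
    Subsingleton (LC17.GM X (ModuleCat.of A M) i) := by
  refine subsingleton_of_forall_eq 0 ((LC17.gAnn_eq_top_iff X).1 (LC17.gAnn_eq_top_of_support X i M
    fun p hp => ?_))
  have hpm : p.asIdeal = m :=
    (Ideal.IsMaximal.eq_of_le ‹m.IsMaximal› p.2.ne_top (hm.trans (Module.mem_support_iff_of_finite.1 hp))).symm
  rw [hpm]
  exact (LC17.gAnn_eq_top_iff X).2 fun f => Subsingleton.elim f 0

theorem nontrivial_gm_of_residue (X : Dual.D A) {i : ℤ}
    (h : Nontrivial (LC17.GM X (ModuleCat.of A (A ⧸ m)) i))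
    (hlow : Subsingleton (LC17.GM X (ModuleCat.of A (A ⧸ m)) (i - 1)))
    (M : Type u) [AddCommGroup M] [Module A M] [Module.Finite A M] [Nontrivial M]
    (hm : m ≤ Module.annihilator A M) : Nontrivial (LC17.GM X (ModuleCat.of A M) i) := by
  obtain ⟨g, hg⟩ := exists_surjective_residue m M hm
  have hS := LC17.shortExact_of_exact (LinearMap.ker g).subtype g (Submodule.subtype_injective _) hg
    (LinearMap.exact_subtype_ker_map g)
  haveI : Subsingleton (LC17.GM X (ModuleCat.of A (LinearMap.ker g)) (i - 1)) :=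
    subsingleton_gm_of_residue m X hlow _ fun a ha => Module.mem_annihilator.2 fun y =>
      Subtype.ext (Module.mem_annihilator.1 (hm ha) y.1)
  have hinj : Function.Injective (LC17.pre X (ModuleCat.ofHom g) i) := by
    rw [injective_iff_map_eq_zero]
    intro f hf
    obtain ⟨q, hq⟩ := LC17.exact₃ X hS (i - 1) i (by omega) f hf
    rw [← hq, show q = 0 from Subsingleton.elim (α := LC17.GM X (ModuleCat.of A (LinearMap.ker g)) (i - 1)) _ _,
      map_zero]
  exact hinj.nontrivial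

omit [m.IsMaximal] in
theorem exists_residue_degree (D : DualModel A) [m.IsMaximal] :
    ∃ n : ℤ, (∀ i, i ≠ n → Subsingleton (LC17.GM ((QA A).obj D.I) (ModuleCat.of A (A ⧸ m)) i)) ∧
      Nonempty (LC17.GM ((QA A).obj D.I) (ModuleCat.of A (A ⧸ m)) n ≃ₗ[A] (A ⧸ m)) := by
  set ω := (QA A).obj D.I with hω
  set k := ModuleCat.of A (A ⧸ m) with hk
  haveI := D.isKInjective
  let V := DRing.homCx (sgl k) D.I
  set W := (QA A).obj V with hW
  haveI : Nontrivial (A ⧸ m) := Ideal.Quotient.nontrivial_iff.2 (Ideal.IsMaximal.ne_top ‹_›)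
  -- the cohomology of W
  let eH : ∀ i, (HF A i).obj W ≃ₗ[A] LC17.GM ω k i := fun i =>
    (HQIso V i).toLinearEquiv.trans ((homologyHomCxEquiv (sgl k) D.I i).trans
      (CategoryTheory.Linear.homCongr A (sglQIso k) (((QA A).commShiftIso i).app D.I)))
  have hfk : ∀ j : ℤ, Module.Finite A (Dual.HD A ((QA A).obj (sgl k)) j) := fun j => by
    haveI : Module.Finite A (Dual.HD A (Dual.inD A (A ⧸ m)) j) := by
      by_cases hj : j = 0
      · subst hj
        exact Module.Finite.equiv (inDH0 (A ⧸ m)).symm.toLinearEquiv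
      · haveI := ModuleCat.subsingleton_of_isZero (M := (HF A j).obj (Dual.inD A (A ⧸ m))) (by
          rcases lt_or_gt_of_ne hj with h | h
          · haveI : (Dual.inD A (A ⧸ m)).IsGE 0 :=
              inferInstanceAs (((DerivedCategory.singleFunctor (ModuleCat.{u} A) 0).obj k).IsGE 0)
            exact DerivedCategory.isZero_of_isGE _ 0 j h
          · exact acyc_inD (A ⧸ m) h j le_rfl)
        exact Module.Finite.of_surjective (0 : A →ₗ[A] _) fun y => ⟨0, Subsingleton.elim _ _⟩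
    exact Module.Finite.equiv ((HF A j).mapIso (sglQIso k)).symm.toLinearEquiv
  have hfW : ∀ i, Module.Finite A ((HF A i).obj W) := fun i => finite_HF_homCx D (sgl k) hfk i
  have hmW : ∀ i, m ≤ Module.annihilator A ((HF A i).obj W) := fun i a ha =>
    Module.mem_annihilator.2 fun x => (eH i).injective (by rw [map_smul, map_zero, smul_gm_eq_zero m ω i ha])
  -- maps out of W
  obtain ⟨bd⟩ := bidual_iso D (sgl k) hfk
  let eW : ∀ j, (W ⟶ ω⟦j⟧) ≃ₗ[A] (HF A j).obj (Dual.inD A (A ⧸ m)) := fun j =>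
    (CategoryTheory.Linear.homCongr A (Iso.refl W) (((QA A).commShiftIso j).app D.I)).symm.trans
      ((homologyHomCxEquiv V D.I j).symm.trans
        ((HQIso (DRing.homCx V D.I) j).symm ≪≫ (HF A j).mapIso (bd ≪≫ sglQIso k)).toLinearEquiv)
  have hW0 : ∀ j : ℤ, j ≠ 0 → Subsingleton (W ⟶ ω⟦j⟧) := fun j hj => by
    refine @Equiv.subsingleton _ _ (eW j).toEquiv (ModuleCat.subsingleton_of_isZero ?_)
    rcases lt_or_gt_of_ne hj with h | h
    · haveI : (Dual.inD A (A ⧸ m)).IsGE 0 :=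
        inferInstanceAs (((DerivedCategory.singleFunctor (ModuleCat.{u} A) 0).obj k).IsGE 0)
      exact DerivedCategory.isZero_of_isGE _ 0 j h
    · exact acyc_inD (A ⧸ m) h j le_rfl
  let eW0 : (W ⟶ ω⟦(0 : ℤ)⟧) ≃ₗ[A] (A ⧸ m) := (eW 0).trans (inDH0 (A ⧸ m)).toLinearEquiv
  -- the range of degrees
  let S : ℤ → Prop := fun i => Nontrivial (LC17.GM ω k i)
  have hbd : ∀ i, S i → D.a ≤ i ∧ i ≤ D.b := fun i hi => by
    by_contra h
    exact (not_subsingleton_iff_nontrivial.2 hi) (subsingleton_hom_of_ia (X := ω) (a := D.a) (b := D.b)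
      ⟨D.I, (vanishesOutside_iff _ _ _).2 fun j hj => D.zero j (by rw [Set.mem_Icc] at hj; omega), D.inj,
        ⟨Iso.refl _⟩⟩ (A ⧸ m) (i := i) (by omega))
  have hne : ∃ i, S i := by
    by_contra h
    push Not at h
    have hz : IsZero W := isZero_of_forall fun i => ModuleCat.isZero_iff_subsingleton.2
      (@Equiv.subsingleton _ _ (eH i).toEquiv (not_nontrivial_iff_subsingleton.1 (h i)))
    haveI : Subsingleton (W ⟶ ω⟦(0 : ℤ)⟧) := ⟨fun f g => hz.eq_of_src f g⟩
    exact not_subsingleton (A ⧸ m) eW0.symm.toEquiv.subsingleton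
  obtain ⟨n1, hn1, hmax⟩ := Int.exists_greatest_of_bdd ⟨D.b, fun i hi => (hbd i hi).2⟩ hne
  obtain ⟨n0, hn0, hmin⟩ := Int.exists_least_of_bdd ⟨D.a, fun i hi => (hbd i hi).1⟩ hne
  have hlo : ∀ i, i < n0 → Subsingleton (LC17.GM ω k i) := fun i hi =>
    not_nontrivial_iff_subsingleton.1 fun h => absurd (hmin i h) (by omega)
  have hhi : ∀ i, n1 < i → Subsingleton (LC17.GM ω k i) := fun i hi =>
    not_nontrivial_iff_subsingleton.1 fun h => absurd (hmax i h) (by omega)
  set M := (HF A n1).obj W with hM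
  haveI : Module.Finite A M := hfW n1
  haveI : Nontrivial M := @Equiv.nontrivial _ _ (eH n1).toEquiv hn1
  have hnM : Nontrivial (LC17.GM ω M n0) :=
    nontrivial_gm_of_residue m ω hn0 (hlo _ (by omega)) M (hmW n1)
  have hacyc : Acyc (n1 + 1) W := fun i hi => ModuleCat.isZero_iff_subsingleton.2
    (@Equiv.subsingleton _ _ (eH i).toEquiv (hhi i (by omega)))
  obtain ⟨T, hT, hT2, hT1, hTlow, ⟨e3⟩⟩ := exists_triangle_top W n1 hacyc
  have hn01 : n0 = n1 := by
    have hle : n0 ≤ n1 := hmin n1 hn1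
    by_contra hne'
    have hq : ∀ q : T.obj₁⟦(1 : ℤ)⟧ ⟶ ω⟦n0 - n1⟧, q = 0 := fun q => by
      have hs : ∀ i, (HF A i).obj (T.obj₁⟦(1 : ℤ)⟧) ≅ (HF A (i + 1)).obj T.obj₁ := fun i =>
        ((HF A 0).shiftIso 1 i (i + 1) (by omega)).app T.obj₁
      refine hom_eq_zero_of_homology (c := n0 - 1) (d := n1 - 2) ?_ ?_ ?_ q
      · exact fun i hi => (hT1 (i + 1) (by omega)).of_iso (hs i)
      · intro i hi
        obtain ⟨e⟩ := hTlow (i + 1) (by omega)
        exact (ModuleCat.isZero_iff_subsingleton.2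
          (@Equiv.subsingleton _ _ (eH (i + 1)).toEquiv (hlo _ (by omega)))).of_iso (hs i ≪≫ e)
      · intro i hi1 hi2 f
        obtain ⟨e⟩ := hTlow (i + 1) (by omega)
        let e' := hs i ≪≫ e
        haveI : Subsingleton (LC17.GM ω ((HF A i).obj (T.obj₁⟦(1 : ℤ)⟧)) (i + (n0 - n1))) := by
          haveI : Module.Finite A ((HF A i).obj (T.obj₁⟦(1 : ℤ)⟧)) :=
            @Module.Finite.equiv _ _ _ _ _ _ _ _ (hfW (i + 1)) e'.symm.toLinearEquiv
          refine subsingleton_gm_of_residue m ω (hlo _ (by omega)) _ ?_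
          exact (hmW (i + 1)).trans (LinearEquiv.annihilator_eq e'.toLinearEquiv).ge
        exact (snglGMEquiv ω _ i (n0 - n1)).injective (Subsingleton.elim _ _)
    have h0 : ∀ f : T.obj₃ ⟶ ω⟦n0 - n1⟧, f = 0 := fun f => by
      haveI : Subsingleton (T.obj₂ ⟶ ω⟦n0 - n1⟧) := by rw [hT2]; exact hW0 _ (by omega)
      obtain ⟨q, rfl⟩ := Triangle.yoneda_exact₃ T hT f (Subsingleton.elim _ _)
      rw [hq q, comp_zero]
    haveI : Subsingleton (sngl n1 M ⟶ ω⟦n0 - n1⟧) := subsingleton_of_forall_eq 0 fun f => by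
      rw [← cancel_epi e3.hom, comp_zero]
      exact h0 _
    have := (snglGMEquiv ω M n1 (n0 - n1)).symm.toEquiv.subsingleton
    rw [show n1 + (n0 - n1) = n0 by omega] at this
    exact not_subsingleton _ this
  subst hn01
  obtain ⟨eS⟩ := exists_iso_single_homology W n0 fun i hi => ModuleCat.isZero_iff_subsingleton.2
    (@Equiv.subsingleton _ _ (eH i).toEquiv ((lt_or_gt_of_ne hi).elim (hlo i) (hhi i)))
  have hadd : n0 + 0 = n0 := add_zero n0
  let eM : LC17.GM ω M n0 ≃ₗ[A] (A ⧸ m) :=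
    have e : LC17.GM ω M n0 ≃ₗ[A] (sngl n0 M ⟶ ω⟦(0 : ℤ)⟧) :=
      by have e := (snglGMEquiv ω M n0 0).symm; rwa [hadd] at e
    (e.trans (CategoryTheory.Linear.homCongr A eS.symm (Iso.refl (ω⟦(0 : ℤ)⟧)))).trans eW0
  refine ⟨n0, fun i hi => (lt_or_gt_of_ne hi).elim (hlo i) (hhi i), ?_⟩
  haveI : IsSimpleModule A (A ⧸ m) := isSimpleModule_iff_isCoatom.2 (Ideal.isMaximal_def.1 ‹_›)
  have hsimple : ∀ x : M, x ≠ 0 → Submodule.span A {x} = ⊤ := fun x hx => by
    by_contra htop
    let N := Submodule.span A {x}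
    haveI : Nontrivial N := ⟨⟨⟨x, Submodule.mem_span_singleton_self x⟩, 0, fun h => hx (congrArg Subtype.val h)⟩⟩
    haveI : Nontrivial (M ⧸ N) := Submodule.Quotient.nontrivial_iff.2 htop
    have hS := LC17.shortExact_of_exact N.subtype N.mkQ (Submodule.subtype_injective _)
      N.mkQ_surjective (LinearMap.exact_subtype_mkQ N)
    have hN : m ≤ Module.annihilator A N := fun a ha => Module.mem_annihilator.2 fun y =>
      Subtype.ext (Module.mem_annihilator.1 (hmW n0 ha) y.1)
    have hQ : m ≤ Module.annihilator A (M ⧸ N) := fun a ha => Module.mem_annihilator.2 fun y => by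
      obtain ⟨y, rfl⟩ := N.mkQ_surjective y
      rw [← map_smul, Module.mem_annihilator.1 (hmW n0 ha) y, map_zero]
    haveI hQn := nontrivial_gm_of_residue m ω hn0 (hlo _ (by omega)) (M ⧸ N) hQ
    haveI hNn := nontrivial_gm_of_residue m ω hn0 (hlo _ (by omega)) N hN
    haveI hlowN := subsingleton_gm_of_residue m ω (hlo (n0 - 1) (by omega)) N hN
    haveI hhighQ := subsingleton_gm_of_residue m ω (hhi (n0 + 1) (by omega)) (M ⧸ N) hQ
    let g := LC17.pre ω (ModuleCat.ofHom N.mkQ) n0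
    let f := LC17.pre ω (ModuleCat.ofHom N.subtype) n0
    have hg : Function.Injective g := by
      rw [injective_iff_map_eq_zero]
      intro y hy
      obtain ⟨q, hq⟩ := LC17.exact₃ ω hS (n0 - 1) n0 (by omega) y hy
      rw [← hq, show q = 0 from hlowN.elim _ _, map_zero]
    have hf : Function.Surjective f := fun y =>
      LC17.exact₁ ω hS n0 (n0 + 1) rfl y (hhighQ.elim _ _)
    obtain ⟨z, hz⟩ := exists_ne (0 : LC17.GM ω (ModuleCat.of A (M ⧸ N)) n0)
    have hr : (LinearMap.range g).map eM.toLinearMap = ⊤ := by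
      refine (IsSimpleOrder.eq_bot_or_eq_top _).resolve_left fun h => ?_
      have h' : eM (g z) ∈ (LinearMap.range g).map eM.toLinearMap := Submodule.mem_map_of_mem ⟨z, rfl⟩
      rw [h, Submodule.mem_bot, eM.map_eq_zero_iff] at h'
      exact hz (hg (h'.trans (map_zero g).symm))
    obtain ⟨w, hw⟩ := exists_ne (0 : LC17.GM ω (ModuleCat.of A N) n0)
    obtain ⟨v, hv⟩ := hf w
    have : eM v ∈ (LinearMap.range g).map eM.toLinearMap := by rw [hr]; trivial
    obtain ⟨v', ⟨y, rfl⟩, hy⟩ := this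
    apply hw
    rw [← hv, ← eM.injective hy]
    show LC17.pre ω (ModuleCat.ofHom N.subtype) n0 (LC17.pre ω (ModuleCat.ofHom N.mkQ) n0 y) = 0
    rw [LC17.pre_pre, show ModuleCat.ofHom N.subtype ≫ ModuleCat.ofHom N.mkQ = 0 from
      ModuleCat.hom_ext (LinearMap.exact_subtype_mkQ N).linearMap_comp_eq_zero]
    show (DerivedCategory.singleFunctor _ 0).map 0 ≫ _ = 0
    rw [Functor.map_zero, zero_comp]
  have ex : ∃ x : M, x ≠ 0 := exists_ne 0
  let x := ex.choose
  have hs : Function.Surjective (LinearMap.toSpanSingleton A M x) := fun y => by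
    obtain ⟨c, hc⟩ := Submodule.mem_span_singleton.1 (hsimple x ex.choose_spec ▸ Submodule.mem_top (x := y))
    exact ⟨c, hc⟩
  have hker : LinearMap.ker (LinearMap.toSpanSingleton A M x) = m := by
    refine (Ideal.IsMaximal.eq_of_le ‹m.IsMaximal› ?_ fun a ha => ?_).symm
    · intro h
      have h1 : (1 : A) • x = 0 := LinearMap.mem_ker.1 (by rw [h]; trivial)
      exact ex.choose_spec (by simpa using h1)
    · exact Module.mem_annihilator.1 (hmW n0 ha) x
  exact ⟨(eH n0).symm.trans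
    ((LinearMap.quotKerEquivOfSurjective _ hs).symm.trans (Submodule.quotEquivOfEq _ _ hker))⟩

/-- `Hom(κ(m), ω⟦i⟧)` is `κ(m)` in one degree and zero otherwise -/
theorem ext_residue_single {ω : Dual.D A} (hω : Dual.IsDualizing A ω) :
    ∃ n : ℤ, (∀ i : ℤ, i ≠ n → Subsingleton (Dual.inD A (A ⧸ m) ⟶ ω⟦i⟧)) ∧
      Nonempty ((Dual.inD A (A ⧸ m) ⟶ ω⟦n⟧) ≃ₗ[A] (A ⧸ m)) := by
  obtain ⟨D, ⟨e⟩⟩ := exists_dualModel hω
  obtain ⟨n, h1, ⟨h2⟩⟩ := exists_residue_degree m D
  let c : ∀ i, (Dual.inD A (A ⧸ m) ⟶ ω⟦i⟧) ≃ₗ[A] LC17.GM ((QA A).obj D.I) (ModuleCat.of A (A ⧸ m)) i :=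
    fun i => CategoryTheory.Linear.homCongr A (Iso.refl _) ((CategoryTheory.shiftFunctor (Dual.D A) i).mapIso e.symm)
  exact ⟨n, fun i hi => @Equiv.subsingleton _ _ (c i).toEquiv (h1 i hi), ⟨(c n).trans h2⟩⟩

end Groth.Agent.DR39
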