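import Groth.Agent.DR39.Bidual3
import Groth.Agent.DR39.Residue
import Groth.Agent.DR39.Minimal
import Groth.Agent.DR39.Existence
import Groth.Agent.DR39.HomAssoc
import Groth.Agent.DR39.TensorSymm
import Groth.Agent.DR39.PC2
import Groth.Agent.DR39.LocalDual3

/-! Uniqueness of dualizing complexes over a local ring. -/

set_option autoImplicit false
set_option linter.style.haveILetI false
set_option linter.unusedSectionVars false
set_option backward.isDefEq.respectTransparency false

universe u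

open CategoryTheory CategoryTheory.Limits MonoidalCategory IsLocalRing
open CochainComplex CochainComplex.HomComplex HomologicalComplex

attribute [local instance] HasDerivedCategory.standard

namespace Groth.Agent.DR39

variable {A : Type u} [CommRing A]

section KProj

variable (P X : DRing.Cx A)

/-- the class of a cycle, first variable projective -/
noncomputable def clsP (n : ℤ) : Zd (DRing.homCx P X) n →ₗ[A] ((QA A).obj P ⟶ (QA A).obj (X⟦n⟧)) :=
  clsLin P X n

variable [P.IsKProjective]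

theorem clsP_surjective (n : ℤ) : Function.Surjective (clsP P X n) := fun u => by
  obtain ⟨g, rfl⟩ := Q_map_surjective P _ u
  refine ⟨⟨(Cocycle.equivHomShift g).1, Cocycle.δ_eq_zero _ (n + 1)⟩, ?_⟩
  show (QA A).map _ = (QA A).map g
  exact congrArg (QA A).map (Cocycle.equivHomShift.symm_apply_apply g)

theorem clsP_ker (n : ℤ) : LinearMap.ker (clsP P X n) = LinearMap.ker (hcls (DRing.homCx P X) n) := by
  ext z
  rw [LinearMap.mem_ker, LinearMap.mem_ker, hcls_eq_zero_iff]
  exact (theta_eq_zero_iff P (zToCocycle P X n z)).trans (mem_coboundaries_iff _ (n - 1) (by omega))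

/-- homology of the Hom complex out of a K-projective complex -/
noncomputable def homologyEquivP (n : ℤ) :
    ((QA A).obj P ⟶ ((QA A).obj X)⟦n⟧) ≃ₗ[A] (HF A n).obj ((QA A).obj (DRing.homCx P X)) :=
  (CategoryTheory.Linear.homCongr A (Iso.refl _) (((QA A).commShiftIso n).app X)).symm.trans
    (((LinearMap.quotKerEquivOfSurjective _ (clsP_surjective P X n)).symm.trans
      ((Submodule.quotEquivOfEq _ _ (clsP_ker P X n)).trans
        (LinearMap.quotKerEquivOfSurjective _ (hcls_surjective (DRing.homCx P X) n)))).trans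
      (HQIso (DRing.homCx P X) n).toLinearEquiv.symm)

end KProj

/-- the symmetry of the tensor product -/
noncomputable def symmIso (M P : DRing.Cx A) : M ⊗ P ≅ P ⊗ M where
  hom := symm' M P
  inv := symm' P M
  hom_inv_id := HomologicalComplex.hom_ext _ _ fun n => symmX_symmX M P n
  inv_hom_id := HomologicalComplex.hom_ext _ _ fun n => symmX_symmX P M n

/-- exchanging the variables -/
theorem hom_swap {I : DRing.Cx A} [I.IsKInjective] (Q F : DRing.Cx A) [Q.IsKProjective] [F.IsKProjective]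
    (n : ℤ) :
    Nonempty (((QA A).obj Q ⟶ ((QA A).obj (DRing.homCx F I))⟦n⟧) ≃ₗ[A]
      ((QA A).obj F ⟶ ((QA A).obj (DRing.homCx Q I))⟦n⟧)) := by
  obtain ⟨e1⟩ := homCx_assoc Q F I
  obtain ⟨e2⟩ := homCx_assoc F Q I
  obtain ⟨e3⟩ := homCx_iso_of_iso I ((QA A).mapIso (symmIso Q F))
  exact ⟨((homologyEquivP Q (DRing.homCx F I) n).trans
    ((HF A n).mapIso ((QA A).mapIso e1 ≪≫ e3 ≪≫ (QA A).mapIso e2.symm)).toLinearEquiv).trans
      (homologyEquivP F (DRing.homCx Q I) n).symm⟩

theorem isZero_homCx_above (K L : DRing.Cx A) {a b a' b' : ℤ} (hK : ∀ i, (i < a ∨ b < i) → IsZero (K.X i))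
    (hL : ∀ i, (i < a' ∨ b' < i) → IsZero (L.X i)) (n : ℤ) (hn : b' - a < n) :
    IsZero ((DRing.homCx K L).X n) := by
  refine @ModuleCat.isZero_of_subsingleton A _ _ ⟨fun (z z' : Cochain K L n) => Cochain.ext _ _ fun p q hpq => ?_⟩
  by_cases hp : p < a
  · exact (hK p (Or.inl hp)).eq_of_src _ _
  · exact (hL q (Or.inr (by omega))).eq_of_tgt _ _

/-- the shift as a complex of homomorphisms -/
theorem homCx_single_iso (p : ℤ) (I : DRing.Cx A) :
    Nonempty (I⟦p⟧ ≅ DRing.homCx ((CochainComplex.singleFunctor (ModuleCat.{u} A) p).obj (ModuleCat.of A A)) I) := by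
  let f : ∀ n, (I.X (n + p)) →ₗ[A] Cochain ((CochainComplex.singleFunctor (ModuleCat.{u} A) p).obj (ModuleCat.of A A)) I n :=
    fun n =>
    { toFun := fun x => (n * p).negOnePow • Cochain.fromSingleMk
        (ModuleCat.ofHom (X := A) (Y := I.X (n + p)) (LinearMap.toSpanSingleton A _ x)) (show p + n = n + p by omega)
      map_add' := fun x y => by
        rw [← smul_add, ← Cochain.fromSingleMk_add]
        congr 2
        refine ModuleCat.hom_ext (LinearMap.ext fun a => ?_)
        exact smul_add a x y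
      map_smul' := fun c x => by
        rw [RingHom.id_apply, smul_comm]
        congr 1
        refine (Cochain.fromSingleEquiv (show p + n = n + p by omega)).injective ?_
        show _ = _ ≫ (c • _ : Cochain _ I n).v p (n + p) _
        rw [Cochain.fromSingleEquiv_fromSingleMk, Cochain.smul_v, Linear.comp_smul, Cochain.fromSingleMk_v,
          Iso.inv_hom_id_assoc]
        refine ModuleCat.hom_ext (LinearMap.ext fun a => ?_)
        exact smul_comm a c x }
  have hf : ∀ n, Function.Bijective (f n) := fun n => by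
    refine ⟨fun x y hxy => ?_, fun z => ?_⟩
    · have h1 : Cochain.fromSingleMk (ModuleCat.ofHom (X := A) (Y := I.X (n + p)) (LinearMap.toSpanSingleton A _ x))
          (show p + n = n + p by omega) = Cochain.fromSingleMk
          (ModuleCat.ofHom (X := A) (Y := I.X (n + p)) (LinearMap.toSpanSingleton A _ y)) (show p + n = n + p by omega) :=
        (MulAction.injective (n * p).negOnePow) hxy
      have h2 := congrArg (Cochain.fromSingleEquiv (show p + n = n + p by omega)) h1
      rw [Cochain.fromSingleEquiv_fromSingleMk, Cochain.fromSingleEquiv_fromSingleMk] at h2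
      simpa using congrArg (fun g : ModuleCat.of A A ⟶ I.X (n + p) => g.hom 1) h2
    · obtain ⟨g, hg⟩ := Cochain.fromSingleMk_surjective ((n * p).negOnePow • z) (n + p) (show p + n = n + p by omega)
      refine ⟨g.hom 1, ?_⟩
      show (n * p).negOnePow • Cochain.fromSingleMk _ _ = z
      rw [show ModuleCat.ofHom (X := A) (Y := I.X (n + p)) (LinearMap.toSpanSingleton A _ (g.hom 1)) = g from
        ModuleCat.hom_ext (LinearMap.ext_ring (one_smul _ _)), hg, smul_smul, Int.units_mul_self, one_smul]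
  refine ⟨HomologicalComplex.Hom.isoOfComponents
    (fun n => ((LinearEquiv.ofBijective (f n) (hf n)).toModuleIso : (I⟦p⟧).X n ≅ _)) fun n n' hn => ?_⟩
  change n + 1 = n' at hn
  subst hn
  refine ModuleCat.hom_ext (LinearMap.ext fun (x : I.X (n + p)) => ?_)
  show δ n (n + 1) (f n x) = f (n + 1) (p.negOnePow • (I.d (n + p) (n + 1 + p)).hom x)
  rw [show f n x = (n * p).negOnePow • _ from rfl, δ_units_smul, Cochain.δ_fromSingleMk _ _ (n + 1) (n + 1 + p) (by omega),
    LinearMap.map_smul_of_tower, show f (n + 1) ((I.d (n + p) (n + 1 + p)).hom x) = ((n + 1) * p).negOnePow • _ from rfl,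
    smul_smul, ← Int.negOnePow_add, show p + (n + 1) * p = n * p + (p + p) by ring, Int.negOnePow_add (n * p),
    Int.negOnePow_add p p, Int.units_mul_self, mul_one]
  congr 2
  refine ModuleCat.hom_ext (LinearMap.ext fun a => ?_)
  exact LinearMap.map_smul (I.d (n + p) (n + 1 + p)).hom a x

section Local

variable [IsLocalRing A]

/-- maps from a minimal complex to the residue field -/
theorem map_residue_eq_zero (P : DRing.Cx A) [P.IsKProjective]
    (hd : ∀ i j x, (P.d i j).hom x ∈ maximalIdeal A • (⊤ : Submodule A (P.X j))) (p : ℤ)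
    (h : Subsingleton ((QA A).obj P ⟶ (Dual.inD A (A ⧸ maximalIdeal A))⟦-p⟧))
    (f : P.X p ⟶ ModuleCat.of A (A ⧸ maximalIdeal A)) : f = 0 := by
  have hkey : ∀ (j : ℤ) (g : P.X j ⟶ ModuleCat.of A (A ⧸ maximalIdeal A)),
      ∀ y ∈ maximalIdeal A • (⊤ : Submodule A (P.X j)), g.hom y = 0 := by
    intro j g y hy
    refine Submodule.smul_induction_on hy (fun a ha y _ => ?_) fun y z hy hz => ?_
    · rw [map_smul]
      obtain ⟨w, hw⟩ := Ideal.Quotient.mk_surjective (g.hom y)
      rw [← hw]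
      exact Ideal.Quotient.eq_zero_iff_mem.2 (Ideal.mul_mem_right w _ ha)
    · rw [map_add, hy, hz, add_zero]
  have hdf : ∀ (i j : ℤ) (g : P.X j ⟶ ModuleCat.of A (A ⧸ maximalIdeal A)), P.d i j ≫ g = 0 :=
    fun i j g => ModuleCat.hom_ext (LinearMap.ext fun x => hkey j g _ (hd i j x))
  let S := (CochainComplex.singleFunctor (ModuleCat.{u} A) 0).obj (ModuleCat.of A (A ⧸ maximalIdeal A))
  let z : Cocycle P S (-p) := Cocycle.toSingleMk f (show p + -p = 0 by omega) (p - 1) (by omega) (hdf _ _ _)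
  have h0 : theta P z = 0 := by
    haveI : Subsingleton ((QA A).obj P ⟶ (QA A).obj (S⟦-p⟧)) := @Equiv.subsingleton _ _
      (Iso.homToEquiv (((QA A).commShiftIso (-p)).app S ≪≫ (CategoryTheory.shiftFunctor (Dual.D A) (-p)).mapIso
        (sglQIso (ModuleCat.of A (A ⧸ maximalIdeal A))))) h
    exact Subsingleton.elim _ _
  obtain ⟨β, hβ⟩ := (mem_coboundaries_iff _ (-p - 1) (by omega)).1 ((theta_eq_zero_iff P z).1 h0)
  obtain ⟨g, rfl⟩ := Cochain.toSingleMk_surjective β (p + 1) (show p + 1 + (-p - 1) = 0 by omega)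
  rw [Cochain.δ_toSingleMk g _ (-p) p (by omega), hdf, Cochain.toSingleMk_zero, smul_zero] at hβ
  have hz : Cochain.toSingleMk f (show p + -p = 0 by omega) = (0 : Cochain P S (-p)) := hβ.symm
  rw [← Cochain.toSingleEquiv_toSingleMk f (show p + -p = 0 by omega), hz, map_zero]

variable [IsNoetherianRing A]

/-- a complex which sees the residue field in a single degree is a shift of the ring -/
theorem exists_iso_free_single {L : Dual.D A} {b : ℤ} (hb : Acyc (b + 1) L)
    (hfin : ∀ i : ℤ, Module.Finite A (Dual.HD A L i)) (t : ℤ)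
    (hv : ∀ i : ℤ, i ≠ t → Subsingleton (L ⟶ (Dual.inD A (A ⧸ maximalIdeal A))⟦i⟧))
    (ht : Nonempty ((L ⟶ (Dual.inD A (A ⧸ maximalIdeal A))⟦t⟧) ≃ₗ[A] (A ⧸ maximalIdeal A))) :
    Nonempty (L ≅ sngl (-t) (ModuleCat.of A A)) := by
  haveI := hasLBaseChange (residue A)
  obtain ⟨E, hEv, hE, ⟨e⟩⟩ := baff_of_forall_pc hb fun m => pc_of_homology hb fun i _ => by
    haveI : Module.Finite A ((HF A i).obj L) := hfin i
    exact pc_inD (A := A) ((HF A i).obj L) _
  obtain ⟨-, -, P, hPv, hP, ⟨eP⟩⟩ := minimal_main L E b ((vanishesAbove_iff E b).2 hEv) hE e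
  haveI hfree : ∀ i, Module.Free A (P.X i) := fun i => (hP i).1
  haveI hfinite : ∀ i, Module.Finite A (P.X i) := fun i => (hP i).2.1
  haveI := isKProjective_of_bddAbove P b hPv fun i => Module.Projective.of_free
  have hmin := d_mem_of_finrank P (isKFlat_of_flat b hPv fun i => Module.Flat.of_free) eP hP
  have hzero : ∀ i, i ≠ -t → IsZero (P.X i) := fun i hi => by
    by_contra hne
    haveI : Nontrivial (P.X i) := not_subsingleton_iff_nontrivial.1 fun h => hne (@ModuleCat.isZero_of_subsingleton A _ _ h)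
    obtain ⟨⟨κ, B⟩⟩ := Module.Free.exists_basis (R := A) (M := P.X i)
    obtain ⟨j⟩ : Nonempty κ := B.index_nonempty
    haveI := hv (-i) (by omega)
    have h0 := map_residue_eq_zero P hmin i
      (@Equiv.subsingleton _ _ (Iso.homFromEquiv eP) inferInstance)
      (ModuleCat.ofHom ((Submodule.mkQ (maximalIdeal A)).comp (B.coord j)))
    have h1 := congrArg (fun g : P.X i ⟶ ModuleCat.of A (A ⧸ maximalIdeal A) => g.hom (B j)) h0
    have h2 : (Submodule.mkQ (maximalIdeal A)) (B.coord j (B j)) = 0 := h1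
    rw [Module.Basis.coord_apply, B.repr_self, Finsupp.single_eq_same, Submodule.mkQ_apply, Submodule.Quotient.mk_eq_zero] at h2
    exact (maximalIdeal.isMaximal A).ne_top ((Ideal.eq_top_iff_one _).2 h2)
  have hHz : ∀ i, i ≠ -t → IsZero ((HF A i).obj L) := fun i hi =>
    (((isZero_homology_iff P i).2 fun x _ => by
      haveI := ModuleCat.subsingleton_of_isZero (hzero i hi)
      exact ⟨0, Subsingleton.elim _ _⟩).of_iso (HQIso P i)).of_iso ((HF A i).mapIso eP.symm)
  obtain ⟨eL⟩ := exists_iso_single_homology L (-t) hHz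
  -- the module is free
  set F := (HF A (-t)).obj L
  have hFfree : Nonempty (F ≅ P.X (-t)) := by
    refine ⟨(HF A (-t)).mapIso eP.symm ≪≫ HQIso P (-t) ≪≫ (LinearEquiv.toModuleIso ?_).symm⟩
    refine LinearEquiv.ofBijective ((hcls P (-t)).comp (LinearMap.codRestrict _ LinearMap.id fun x => ?_)) ⟨?_, ?_⟩
    · haveI := ModuleCat.subsingleton_of_isZero (hzero (-t + 1) (by omega))
      exact Subsingleton.elim _ _
    · rw [injective_iff_map_eq_zero]
      intro x hx
      obtain ⟨y, hy⟩ := (hcls_eq_zero_iff P (-t) _).1 hx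
      haveI := ModuleCat.subsingleton_of_isZero (hzero (-t - 1) (by omega))
      rw [Subsingleton.elim y 0, map_zero] at hy
      exact hy.symm
    · intro y
      obtain ⟨z, rfl⟩ := hcls_surjective P (-t) y
      exact ⟨z.1, congrArg (hcls P (-t)) (Subtype.ext rfl)⟩
  obtain ⟨eF⟩ := hFfree
  haveI : Module.Free A F := Module.Free.of_equiv eF.toLinearEquiv.symm
  haveI : Module.Finite A F := hfin (-t)
  haveI : Projective F := (IsProjective.iff_projective (R := A) F).1 Module.Projective.of_free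
  -- its rank is one
  let k := ModuleCat.of A (A ⧸ maximalIdeal A)
  obtain ⟨ht⟩ := ht
  let h0 : (HF A 0).obj (Dual.inD A (A ⧸ maximalIdeal A)) ≅ k :=
    (DerivedCategory.singleFunctorCompHomologyFunctorIso (ModuleCat.{u} A) 0).app k
  let g : (F →ₗ[A] k) ≃ₗ[A] (A ⧸ maximalIdeal A) :=
    ((((CategoryTheory.Linear.homCongr A eL.symm (Iso.refl _)).symm.trans
      ((snglGMEquiv (Dual.inD A (A ⧸ maximalIdeal A)) F (-t) t).trans
      ((LinearEquiv.ofBijective (LC17.homToH0Lin F ((Dual.inD A (A ⧸ maximalIdeal A))⟦-t + t⟧)) (homToH0_bijective _ _)).trans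
      ((CategoryTheory.Linear.homCongr A (Iso.refl F) ((HF A 0).mapIso
          ((CategoryTheory.shiftFunctorZero' (Dual.D A) (-t + t) (by omega)).app _) ≪≫ h0)).trans
        ModuleCat.homLinearEquiv)))).symm.trans ht))
  obtain ⟨⟨κ, B⟩⟩ := Module.Free.exists_basis (R := A) (M := F)
  have hsub : Subsingleton κ := ⟨fun i j => by
    by_contra hij
    let φ : κ → (F →ₗ[A] k) := fun l => (Submodule.mkQ (maximalIdeal A)).comp (B.coord l)
    have hφ : ∀ l m, φ l (B m) = Submodule.mkQ (maximalIdeal A) (Finsupp.single m (1 : A) l) := fun l m => by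
      show Submodule.mkQ _ (B.coord l (B m)) = _
      rw [Module.Basis.coord_apply, B.repr_self]
    have hone : (Submodule.mkQ (maximalIdeal A) 1 : A ⧸ maximalIdeal A) ≠ 0 := fun h =>
      (maximalIdeal.isMaximal A).ne_top ((Ideal.eq_top_iff_one _).2 ((Submodule.Quotient.mk_eq_zero _).1 h))
    obtain ⟨a, ha⟩ := Ideal.Quotient.mk_surjective (g (φ i))
    obtain ⟨c, hc⟩ := Ideal.Quotient.mk_surjective (g (φ j))
    have hai : φ i = a • g.symm 1 := g.injective (by rw [map_smul, g.apply_symm_apply, ← ha, Algebra.smul_def, mul_one]; rfl)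
    have hcj : φ j = c • g.symm 1 := g.injective (by rw [map_smul, g.apply_symm_apply, ← hc, Algebra.smul_def, mul_one]; rfl)
    have h2 : c • φ i = a • φ j := by rw [hai, hcj, smul_smul, smul_smul, mul_comm]
    have h3 := LinearMap.congr_fun h2 (B i)
    rw [LinearMap.smul_apply, LinearMap.smul_apply, hφ, hφ, Finsupp.single_eq_same,
      Finsupp.single_eq_of_ne (Ne.symm hij), map_zero, smul_zero] at h3
    by_cases hu : IsUnit c
    · exact hone ((hu.smul_eq_zero).1 h3)
    · have hc0 : φ j = 0 := g.injective (by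
        rw [map_zero, ← hc, Ideal.Quotient.eq_zero_iff_mem]
        exact hu)
      have := LinearMap.congr_fun hc0 (B j)
      rw [hφ, Finsupp.single_eq_same] at this
      exact hone this⟩
  have hne : Nonempty κ := by
    by_contra h
    haveI : IsEmpty κ := not_nonempty_iff.1 h
    haveI : Subsingleton F := B.repr.toEquiv.subsingleton
    haveI : Subsingleton (A ⧸ maximalIdeal A) := g.symm.toEquiv.subsingleton
    exact (maximalIdeal.isMaximal A).ne_top (Ideal.Quotient.subsingleton_iff.1 inferInstance)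
  haveI : Unique κ := uniqueOfSubsingleton hne.some
  exact ⟨eL ≪≫ (DerivedCategory.singleFunctor _ (-t)).mapIso
    (B.repr.trans (Finsupp.LinearEquiv.finsuppUnique A A κ)).toModuleIso⟩

/-- two dualizing complexes differ by a shift -/
theorem unique_up_to_shift {ω ω' : Dual.D A} (hω : Dual.IsDualizing A ω) (hω' : Dual.IsDualizing A ω') :
    ∃ n : ℤ, Nonempty (ω' ≅ ω⟦n⟧) := by
  obtain ⟨D, ⟨eD⟩⟩ := exists_dualModel hω
  obtain ⟨D', ⟨eD'⟩⟩ := exists_dualModel hω'
  haveI := D.isKInjective
  have hK : ∀ j : ℤ, Module.Finite A (Dual.HD A ((QA A).obj D'.I) j) := fun j =>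
    D'.dualizing.finite_cohomology j
  let L0 := DRing.homCx D'.I D.I
  have hLfin := finite_HF_homCx D D'.I hK
  have hLb : Acyc (D.b - D'.a + 1) ((QA A).obj L0) := fun i hi => (isZero_HF_Q_iff L0 i).2
    ((isZero_homology_iff L0 i).2 fun x _ => by
      haveI := ModuleCat.subsingleton_of_isZero (isZero_homCx_above D'.I D.I D'.zero D.zero i (by omega))
      exact ⟨0, Subsingleton.elim _ _⟩)
  obtain ⟨E, hEv, hE, ⟨eE⟩⟩ := baff_of_forall_pc hLb fun m => pc_of_homology hLb fun i _ => by
    haveI : Module.Finite A ((HF A i).obj ((QA A).obj L0)) := hLfin i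
    exact pc_inD (A := A) ((HF A i).obj ((QA A).obj L0)) _
  haveI := isKProjective_of_bddAbove E _ ((vanishesAbove_iff E _).2 hEv) fun i => proj_of_FF (hE i)
  obtain ⟨F, hFv, hF, ⟨eF⟩⟩ := rep_free_of_acyc (acyc_inD (A := A) (A ⧸ maximalIdeal A) (m := 0 + 1) one_pos)
  haveI := isKProjective_of_bddAbove F 0 ((vanishesAbove_iff F 0).2 hFv) fun i => by
    haveI : Module.Free A (F.X i) := hF i
    exact Module.Projective.of_free
  obtain ⟨h1⟩ := homCx_iso_of_iso D.I eE
  obtain ⟨h2⟩ := bidual_iso D D'.I hK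
  let eQ : (QA A).obj (DRing.homCx E D.I) ≅ ω' := h1 ≪≫ h2 ≪≫ eD'
  obtain ⟨d, hdv, ⟨hd⟩⟩ := ext_residue_single (maximalIdeal A) hω
  obtain ⟨d', hdv', ⟨hd'⟩⟩ := ext_residue_single (maximalIdeal A) hω'
  let eI : ∀ i, (Dual.inD A (A ⧸ maximalIdeal A) ⟶ ω⟦i⟧) ≃ₗ[A] (HF A i).obj ((QA A).obj (DRing.homCx F D.I)) := fun i =>
    (CategoryTheory.Linear.homCongr A eF.symm ((CategoryTheory.shiftFunctor (Dual.D A) i).mapIso eD.symm)).trans
      (homologyEquivP F D.I i)
  obtain ⟨eW⟩ := exists_iso_single_homology ((QA A).obj (DRing.homCx F D.I)) d fun i hi =>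
    (isZero_HF_iff _ i).2 (@Equiv.subsingleton _ _ (eI i).symm.toEquiv (hdv i hi))
  let eW' : (QA A).obj (DRing.homCx F D.I) ≅ (Dual.inD A (A ⧸ maximalIdeal A))⟦-d⟧ :=
    eW ≪≫ (DerivedCategory.singleFunctor _ d).mapIso (((eI d).symm.trans hd).toModuleIso) ≪≫
      (singleShiftIso _ d (-d) (by omega)).symm
  have hswap : ∀ i : ℤ, Nonempty (((QA A).obj L0 ⟶ (Dual.inD A (A ⧸ maximalIdeal A))⟦i⟧) ≃ₗ[A]
      (Dual.inD A (A ⧸ maximalIdeal A) ⟶ ω'⟦i + d⟧)) := fun i => by
    obtain ⟨s⟩ := hom_swap (I := D.I) E F (i + d)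
    exact ⟨((CategoryTheory.Linear.homCongr A eE.symm
      ((CategoryTheory.shiftFunctorAdd' (Dual.D A) (-d) (i + d) i (by omega)).app _ ≪≫
        (CategoryTheory.shiftFunctor (Dual.D A) (i + d)).mapIso eW'.symm)).trans s).trans
      (CategoryTheory.Linear.homCongr A eF ((CategoryTheory.shiftFunctor (Dual.D A) (i + d)).mapIso eQ))⟩
  obtain ⟨st⟩ := hswap (d' - d)
  obtain ⟨eL⟩ := exists_iso_free_single hLb hLfin (d' - d)
    (fun i hi => by
      obtain ⟨s⟩ := hswap i
      haveI := hdv' (i + d) (by omega)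
      exact s.toEquiv.subsingleton)
    ⟨st.trans (((CategoryTheory.Linear.homCongr A (Iso.refl _)
      (eqToIso (congrArg (fun j => ω'⟦j⟧) (show d' - d + d = d' by omega))))).trans hd')⟩
  obtain ⟨h3⟩ := homCx_iso_of_iso D.I (eL ≪≫ (DerivedCategory.singleFunctorIsoCompQ (ModuleCat.{u} A) _).app _ :
    (QA A).obj L0 ≅ (QA A).obj ((CochainComplex.singleFunctor (ModuleCat.{u} A) (-(d' - d))).obj (ModuleCat.of A A)))
  obtain ⟨h4⟩ := homCx_single_iso (-(d' - d)) D.I
  exact ⟨-(d' - d), ⟨eD'.symm ≪≫ h2.symm ≪≫ h3 ≪≫ (QA A).mapIso h4.symm ≪≫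
    ((QA A).commShiftIso _).app D.I ≪≫ (CategoryTheory.shiftFunctor (Dual.D A) _).mapIso eD⟩⟩

end Local

end Groth.Agent.DR39
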