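import Groth.Agent.DR39.GorFibre
import Groth.Agent.DR39.Unique
import Groth.Agent.DR39.LocalDual4
import Mathlib.RingTheory.Spectrum.Prime.FreeLocus

/-! Gorenstein locus and formal fibres in the presence of a dualizing complex. -/

set_option autoImplicit false
set_option linter.style.haveILetI false
set_option linter.unusedSectionVars false
set_option backward.isDefEq.respectTransparency false

universe u

open CategoryTheory CategoryTheory.Limits IsLocalRing
open scoped TensorProduct

attribute [local instance] HasDerivedCategory.standard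

namespace Groth.Agent.DR39

section Local

variable {A : Type u} [CommRing A] [IsLocalRing A] [IsNoetherianRing A] {ω : Dual.D A}

theorem gor_of_single_free (hω : Dual.IsDualizing A ω) (n : ℤ)
    (hzero : ∀ i, i ≠ n → IsZero ((HF A i).obj ω)) (e : (HF A n).obj ω ≃ₗ[A] A) :
    LocCoh.IsGorensteinLocalRing A := by
  obtain ⟨e1⟩ := exists_iso_single_homology ω n hzero
  let i2 : ω ≅ (Dual.inD A A)⟦-n⟧ := e1 ≪≫
    (DerivedCategory.singleFunctor _ n).mapIso e.toModuleIso ≪≫ (singleShiftIso _ n (-n) (by omega)).symm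
  refine Gor18.gor_iff_isDualizing.2 (isDualizing_of_iso (isDualizing_shift hω n) ?_)
  exact (CategoryTheory.shiftFunctor (Dual.D A) n).mapIso i2 ≪≫
    (CategoryTheory.shiftFunctorCompIsoId (Dual.D A) (-n) n (by omega)).app _

theorem single_free_of_gor (hω : Dual.IsDualizing A ω) (hgor : LocCoh.IsGorensteinLocalRing A) :
    ∃ n : ℤ, (∀ i, i ≠ n → IsZero ((HF A i).obj ω)) ∧ Nonempty ((HF A n).obj ω ≃ₗ[A] A) := by
  obtain ⟨m, ⟨e⟩⟩ := unique_up_to_shift (Gor18.gor_iff_isDualizing.1 hgor) hω
  let e' : ω ≅ sngl (-m) (ModuleCat.of A A) := e.trans (singleShiftIso (ModuleCat.of A A) (-m) m (by omega))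
  refine ⟨-m, fun i hi => ?_, ⟨((HF A (-m)).mapIso e' ≪≫
    (DerivedCategory.singleFunctorCompHomologyFunctorIso (ModuleCat.{u} A) (-m)).app _).toLinearEquiv⟩⟩
  refine IsZero.of_iso ?_ ((HF A i).mapIso e')
  rcases lt_or_gt_of_ne hi with h | h
  · exact DerivedCategory.isZero_of_isGE _ (-m) i h
  · exact DerivedCategory.isZero_of_isLE _ (-m) i h

theorem gor_of_resData {Y : Dual.D A} (hY : Dual.IsDualizing A Y) {J : Ideal A} {c : ℤ} (hJ : J ≠ ⊤)
    (h : ResData Y J c) : LocCoh.IsGorensteinLocalRing (A ⧸ J) := by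
  obtain ⟨hv, ⟨e0⟩⟩ := h
  haveI : Nontrivial (A ⧸ J) := Ideal.Quotient.nontrivial_iff.2 hJ
  haveI : IsLocalRing (A ⧸ J) := IsLocalRing.of_surjective' (Ideal.Quotient.mk J) Ideal.Quotient.mk_surjective
  let adj := Shriek42.rightDAdj (algebraMap A (A ⧸ J))
  have hZ := isDualizing_right adj hY
  obtain ⟨e, he⟩ := exists_gm_right adj (A ⧸ J) Y c
  let f : LC17.GM ((Shriek42.rightD (algebraMap A (A ⧸ J))).obj Y) (ModuleCat.of (A ⧸ J) (A ⧸ J)) c ≃ₗ[A ⧸ J] (A ⧸ J) :=
    { e.symm.trans e0.toAddEquiv with
      map_smul' := fun r g => by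
        obtain ⟨p, rfl⟩ := Ideal.Quotient.mk_surjective r
        show e0 (e.symm (Ideal.Quotient.mk J p • g)) = Ideal.Quotient.mk J p • e0 (e.symm g)
        have : e.symm (Ideal.Quotient.mk J p • g) = p • e.symm g := by
          apply e.injective
          rw [he, AddEquiv.apply_symm_apply, AddEquiv.apply_symm_apply]
          rfl
        rw [this, map_smul]
        exact (algebraMap_smul (A ⧸ J) p _).symm }
  exact gor_of_single_free hZ c
    (fun i hi => isZero_HF_of_ext_ring (subsingleton_gm_right adj (A ⧸ J) Y i (hv i hi)))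
    ((gmSelfEquiv _ c).symm.trans f)

end Local

section Global

variable {A : Type u} [CommRing A] {ω : Dual.D A}

theorem isOpen_gorLocus (hω : Dual.IsDualizing A ω) :
    IsOpen {p : PrimeSpectrum A | LocCoh.IsGorensteinLocalRing (Localization.AtPrime p.asIdeal)} := by
  haveI := hω.isNoetherianRing
  obtain ⟨a, b, hab, -⟩ := exists_bounds hω
  haveI : ∀ i, Module.Finite A ((HF A i).obj ω) := hω.finite_cohomology
  have hC : ∀ (q : PrimeSpectrum A) (i : ℤ), Nonempty ((HF (Localization.AtPrime q.asIdeal) i).obj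
      ((DF (extA A (Localization.AtPrime q.asIdeal))).obj ω) ≃ₗ[Localization.AtPrime q.asIdeal]
        LocalizedModule q.asIdeal.primeCompl ((HF A i).obj ω)) := fun q i => by
    haveI : Module.Flat A (Localization.AtPrime q.asIdeal) := IsLocalization.flat _ q.asIdeal.primeCompl
    obtain ⟨e⟩ := HF_DF (extA A (Localization.AtPrime q.asIdeal)) ω i
    obtain ⟨e'⟩ := ext_tensorIso (Localization.AtPrime q.asIdeal) ((HF A i).obj ω)
    exact ⟨(e ≪≫ e').toLinearEquiv.trans (LocalizedModule.equivTensorProduct q.asIdeal.primeCompl _).symm⟩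
  rw [isOpen_iff_forall_mem_open]
  intro p hp
  haveI hNC : ∀ q : PrimeSpectrum A, IsNoetherianRing (Localization.AtPrime q.asIdeal) := fun q =>
    IsLocalization.isNoetherianRing q.asIdeal.primeCompl _ inferInstance
  obtain ⟨n, hz, ⟨e⟩⟩ := single_free_of_gor (isDualizing_atPrime hω p.asIdeal) hp
  set H := (HF A n).obj ω
  haveI : Module.FinitePresentation A H := Module.finitePresentation_of_finite A H
  let W : Set (PrimeSpectrum A) := ⋂ i ∈ ((Finset.Icc a b).erase n : Set ℤ), (Module.support A ((HF A i).obj ω))ᶜ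
  let R1 : Set (Module.freeLocus A H) := {q | Module.rankAtStalk H q.1 = 1}
  have hR1 : IsOpen (Subtype.val '' R1) := (Module.isOpen_freeLocus (R := A) (M := H)).isOpenMap_subtype_val _
    ((Module.isLocallyConstant_rankAtStalk_freeLocus (R := A) (M := H)).isOpen_fiber 1)
  refine ⟨W ∩ Subtype.val '' R1, ?_, IsOpen.inter (Set.Finite.isOpen_biInter (Finset.finite_toSet _)
    fun i _ => isClosed_compl_iff.1 (by rw [compl_compl]; exact Module.isClosed_support)) hR1, ⟨?_, ?_⟩⟩
  · rintro q ⟨hqW, ⟨q', hrk⟩, hq1, rfl⟩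
    change q' ∈ W at hqW
    show LocCoh.IsGorensteinLocalRing (Localization.AtPrime q'.asIdeal)
    obtain ⟨eq⟩ := hC q' n
    haveI : Module.Free (Localization q'.asIdeal.primeCompl) (LocalizedModule q'.asIdeal.primeCompl H) := hrk
    refine gor_of_single_free (A := Localization.AtPrime q'.asIdeal) (isDualizing_atPrime hω q'.asIdeal) n (fun i hi => ?_) ?_
    · obtain ⟨ei⟩ := hC q' i
      rw [ModuleCat.isZero_iff_subsingleton, ei.toEquiv.subsingleton_congr]
      by_cases hi' : i ∈ Finset.Icc a b
      · have := Set.mem_iInter₂.1 hqW i (Finset.mem_coe.2 (Finset.mem_erase.2 ⟨hi, hi'⟩))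
        rwa [Set.mem_compl_iff, Module.notMem_support_iff] at this
      · rw [Finset.mem_Icc] at hi'
        haveI := ModuleCat.subsingleton_of_isZero (hab i (by omega))
        exact Module.notMem_support_iff.1 fun h => by
          rw [Module.support_eq_empty] at h; exact h
    · exact eq.trans ((Module.finBasisOfFinrankEq (Localization q'.asIdeal.primeCompl)
        (LocalizedModule q'.asIdeal.primeCompl H) hq1).equivFun.trans
        (LinearEquiv.funUnique (Fin 1) (Localization q'.asIdeal.primeCompl) (Localization q'.asIdeal.primeCompl)))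
  · simp only [W, Set.mem_iInter, Finset.mem_coe, Finset.mem_erase, Set.mem_compl_iff, Module.notMem_support_iff]
    rintro i ⟨hi, -⟩
    obtain ⟨ei⟩ := hC p i
    haveI := ModuleCat.subsingleton_of_isZero (hz i hi)
    exact ei.symm.toEquiv.subsingleton
  · obtain ⟨ep⟩ := hC p n
    let f := ep.symm.trans e
    have hfree : Module.Free (Localization p.asIdeal.primeCompl) (LocalizedModule p.asIdeal.primeCompl H) :=
      Module.Free.of_equiv f.symm
    exact ⟨⟨p, hfree⟩, f.finrank_eq.trans (Module.finrank_self _), rfl⟩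

theorem gor_formalFibre [IsLocalRing A] (hω : Dual.IsDualizing A ω) (p : Ideal A) [p.IsPrime] :
    LocCoh.IsGorensteinRing (p.Fiber (AdicCompletion (maximalIdeal A) A)) := by
  haveI := hω.isNoetherianRing
  let B := AdicCompletion (maximalIdeal A) A
  haveI : IsNoetherianRing B := EGA4H10.isNoetherianRing_cpl
  have hB := (isDualizing_cpl hω).1
  refine @LocCoh.IsGorensteinRing.mk _ _ ?_ fun Q _ => ?_
  · letI := Algebra.TensorProduct.rightAlgebra (R := A) (A := p.ResidueField) (B := B)
    exact isNoetherianRing_of_ringEquiv _ (Ideal.Fiber.algEquivQuotient (S := B) p).toRingEquiv.symm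
  let P : Ideal B := Q.comap (Algebra.TensorProduct.includeRight : B →ₐ[A] p.Fiber B)
  haveI hPp : P.LiesOver p := ⟨by
    show p = (Q.comap (Algebra.TensorProduct.includeRight : B →ₐ[A] p.Fiber B).toRingHom).comap (algebraMap A B)
    rw [Ideal.comap_comap, AlgHom.toRingHom_eq_coe, AlgHom.comp_algebraMap]
    exact Ideal.over_def Q p⟩
  let C := Localization.AtPrime P
  haveI : IsNoetherianRing C := IsLocalization.isNoetherianRing P.primeCompl _ inferInstance
  haveI : Module.Flat B C := IsLocalization.flat C P.primeCompl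
  haveI : Module.Flat A C := Module.Flat.trans A B C
  obtain ⟨d, -, hR⟩ := exists_resData_flat hω C p fun s hsp => by
    rw [IsScalarTower.algebraMap_apply A B C]
    exact IsLocalization.map_units C (⟨algebraMap A B s, fun h => hsp ((Ideal.mem_of_liesOver P p s).2 h)⟩ : P.primeCompl)
  obtain ⟨e⟩ := DF_comp B C ω
  have hC := isDualizing_of_iso (isDualizing_atPrime hB P) e
  have hne : p.map (algebraMap A C) ≠ ⊤ := by
    refine ne_top_of_le_ne_top (IsLocalRing.maximalIdeal.isMaximal C).ne_top (Ideal.map_le_iff_le_comap.2 fun x hx => ?_)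
    rw [Ideal.mem_comap, IsScalarTower.algebraMap_apply A B C, IsLocalization.AtPrime.to_map_mem_maximal_iff C P]
    exact (Ideal.mem_of_liesOver P p x).1 hx
  let := Localization.AtPrime.algebraOfLiesOver p P
  have := gor_of_resData hC hne hR
  exact Gor18.gor_of_ringEquiv (Ideal.Fiber.localizationAlgEquivQuotient p Q).toRingEquiv.symm

end Global

end Groth.Agent.DR39
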