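import Groth.Agent.DR39.CMLocus
import Groth.Agent.CAlg1.CMPoly
import Groth.Prelude.Def_DualSch
import Groth.Prelude.Def_DCoh3

/-! The Cohen–Macaulay locus of a scheme with a dualizing complex. -/

set_option autoImplicit false
set_option linter.style.haveILetI false
set_option linter.unusedSectionVars false

universe u v v' w w'

open CategoryTheory CategoryTheory.Limits AlgebraicGeometry TensorProduct

attribute [local instance] HasDerivedCategory.standard

namespace Groth.Agent.DR39

section Ring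

variable {A : Type u} [CommRing A] {ω : Dual.D A} (hω : Dual.IsDualizing A ω)
include hω

theorem exists_gAnn_ne_top_self [IsLocalRing A] : ∃ i, LC17.gAnn ω (ModuleCat.of A A) i ≠ ⊤ := by
  haveI := hω.isNoetherianRing
  obtain ⟨n, hn⟩ := exists_normalized hω
  obtain ⟨d, hd⟩ := EGA4Alg4.exists_supportDim_eq (A := A) (M := A)
  refine ⟨n + -(d : ℤ), ?_⟩
  have h1 := nontrivial_top (isDualizing_shift hω n) hn A (d := d) hd
  rw [← not_subsingleton_iff_nontrivial, subsingleton_gm_iff] at h1
  intro h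
  refine h1 ?_
  rw [← h]
  exact (LinearEquiv.annihilator_eq (CategoryTheory.Linear.homCongr A (Iso.refl _)
    ((CategoryTheory.shiftFunctorAdd' (Dual.D A) n (-(d : ℤ)) (n + -(d : ℤ)) rfl).app ω))).symm

theorem exists_nontrivial_localized_HD (p : PrimeSpectrum A) :
    ∃ i, Nontrivial (LocalizedModule p.asIdeal.primeCompl (Dual.HD A ω i)) := by
  haveI := hω.isNoetherianRing
  obtain ⟨i, hi⟩ := exists_gAnn_ne_top_self (isDualizing_atPrime hω p.asIdeal)
  refine ⟨i, (nontrivial_localized_HD_iff hω i p).2 ?_⟩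
  rw [gAnn_le_iff_atPrime hω A i p.asIdeal]
  rw [LC17.gAnn_congr _ (TensorProduct.AlgebraTensorModule.rid A (Localization.AtPrime p.asIdeal)
    (Localization.AtPrime p.asIdeal)).toModuleIso i]
  exact hi

theorem cm_atPrime_iff_existsUnique (p : PrimeSpectrum A) :
    LocCoh.IsCohenMacaulayLocalRing (Localization.AtPrime p.asIdeal) ↔
      ∃! i : ℤ, Nontrivial (LocalizedModule p.asIdeal.primeCompl (Dual.HD A ω i)) := by
  rw [cm_ring_atPrime_iff hω p.asIdeal]
  constructor
  · intro h
    obtain ⟨i, hi⟩ := exists_nontrivial_localized_HD hω p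
    exact ⟨i, hi, fun j hj => h j i ((nontrivial_localized_HD_iff hω j p).1 hj)
      ((nontrivial_localized_HD_iff hω i p).1 hi)⟩
  · rintro ⟨k, -, hk⟩ i j hi hj
    rw [hk i ((nontrivial_localized_HD_iff hω i p).2 hi), hk j ((nontrivial_localized_HD_iff hω j p).2 hj)]

end Ring

theorem nonempty_homology_mapDerived {C : Type w} [Category.{v} C] [Abelian C] {E : Type w'} [Category.{v'} E]
    [Abelian E] (F : C ⥤ E) [F.Additive] [PreservesFiniteLimits F] [PreservesFiniteColimits F]
    (K : DerivedCategory C) (i : ℤ) :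
    Nonempty ((DerivedCategory.homologyFunctor E i).obj (F.mapDerivedCategory.obj K) ≅
      F.obj ((DerivedCategory.homologyFunctor C i).obj K)) := by
  obtain ⟨X, ⟨e⟩⟩ : ∃ X, Nonempty (DerivedCategory.Q.obj X ≅ K) :=
    ⟨_, ⟨DerivedCategory.Q.objObjPreimageIso K⟩⟩
  exact ⟨(DerivedCategory.homologyFunctor E i).mapIso (F.mapDerivedCategory.mapIso e.symm ≪≫
      F.mapDerivedCategoryFactors.app X) ≪≫
    (DerivedCategory.homologyFunctorFactors E i).app _ ≪≫
    (X.sc i).mapHomologyIso F ≪≫
    F.mapIso ((DerivedCategory.homologyFunctorFactors C i).app X).symm ≪≫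
    F.mapIso ((DerivedCategory.homologyFunctor C i).mapIso e)⟩

theorem nontrivial_stalk_congr {X : Scheme.{u}} {M N : X.Modules} (e : M ≅ N) (x : X) :
    Nontrivial (M.presheaf.stalk x) ↔ Nontrivial (N.presheaf.stalk x) :=
  (((Scheme.Modules.toPresheaf X) ⋙ TopCat.Presheaf.stalkFunctor _ x).mapIso e).addCommGroupIsoToAddEquiv.toEquiv.nontrivial_congr

theorem nontrivial_stalk_restrict {U X : Scheme.{u}} (j : U ⟶ X) [IsOpenImmersion j] (M : X.Modules) (y : U) :
    Nontrivial (((Scheme.Modules.restrictFunctor j).obj M).presheaf.stalk y) ↔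
      Nontrivial (M.presheaf.stalk (j y)) :=
  ((Scheme.Modules.restrictStalkNatIso j y).app M).addCommGroupIsoToAddEquiv.toEquiv.nontrivial_congr

theorem nontrivial_stalk_tilde {R : CommRingCat.{u}} (M : ModuleCat.{u} R) (y : PrimeSpectrum.Top R) :
    Nontrivial ((tilde M).presheaf.stalk y) ↔ Nontrivial (LocalizedModule y.asIdeal.primeCompl M) :=
  (IsLocalizedModule.iso y.asIdeal.primeCompl (tilde.toStalk M y).hom).toEquiv.nontrivial_congr.symm

theorem nonempty_homology_tildeD (R : CommRingCat.{u}) [PreservesFiniteLimits (tilde.functor R)]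
    (K : DerivedCategory (ModuleCat.{u} R)) (i : ℤ) :
    Nonempty (DCoh.HD ((DCoh.tildeD R).obj K) i ≅
      (tilde.functor R).obj ((DerivedCategory.homologyFunctor (ModuleCat.{u} R) i).obj K)) :=
  nonempty_homology_mapDerived (tilde.functor R) K i

theorem nontrivial_stalk_HD_iff {X : Scheme.{u}}
    [∀ (U : Scheme.{u}) (j : U ⟶ X) [IsOpenImmersion j], PreservesFiniteLimits (Scheme.Modules.restrictFunctor j)]
    [∀ (R : CommRingCat.{u}), PreservesFiniteLimits (tilde.functor R)] (K : DCoh.D X)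
    (A : Type u) [CommRing A] (j : Spec (CommRingCat.of A) ⟶ X) [IsOpenImmersion j] (ω : Dual.D A)
    (e : (DCoh.restrictD j).obj K ≅ (DCoh.tildeD (CommRingCat.of A)).obj ω) (y : PrimeSpectrum A) (i : ℤ) :
    Nontrivial ((DCoh.HD K i).presheaf.stalk (j y)) ↔
      Nontrivial (LocalizedModule y.asIdeal.primeCompl (Dual.HD A ω i)) := by
  obtain ⟨e1⟩ := nonempty_homology_mapDerived (Scheme.Modules.restrictFunctor j) K i
  obtain ⟨e2⟩ := nonempty_homology_tildeD (CommRingCat.of A) ω i
  have e3 := e1.symm ≪≫ (DerivedCategory.homologyFunctor _ i).mapIso e ≪≫ e2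
  rw [← nontrivial_stalk_restrict j, nontrivial_stalk_congr e3 y]
  exact nontrivial_stalk_tilde (R := CommRingCat.of A) _ y

theorem stalk_spec_ringEquiv (A : Type u) [CommRing A] (y : PrimeSpectrum A) :
    Nonempty ((Spec (CommRingCat.of A)).presheaf.stalk y ≃+* Localization.AtPrime y.asIdeal) :=
  ⟨(StructureSheaf.stalkIso A y).toRingEquiv.symm⟩

theorem cm_stalk_iff {X : Scheme.{u}}
    [∀ (U : Scheme.{u}) (j : U ⟶ X) [IsOpenImmersion j], PreservesFiniteLimits (Scheme.Modules.restrictFunctor j)]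
    [∀ (R : CommRingCat.{u}), PreservesFiniteLimits (tilde.functor R)] (K : DCoh.D X)
    (A : Type u) [CommRing A] (j : Spec (CommRingCat.of A) ⟶ X) [IsOpenImmersion j] (y : PrimeSpectrum A) :
    LocCoh.IsCohenMacaulayLocalRing (X.presheaf.stalk (j y)) ↔
      LocCoh.IsCohenMacaulayLocalRing (Localization.AtPrime y.asIdeal) := by
  obtain ⟨e⟩ := stalk_spec_ringEquiv A y
  have e' := (asIso (Scheme.Hom.stalkMap j y)).commRingCatIsoToRingEquiv.trans e
  exact ⟨CAlg1.cm_of_ringEquiv e', CAlg1.cm_of_ringEquiv e'.symm⟩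

end Groth.Agent.DR39
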