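import Mathlib.RingTheory.AdicCompletion.Basic
import Mathlib.RingTheory.Henselian
import Mathlib.RingTheory.Nilpotent.Basic
import Mathlib.RingTheory.Finiteness.Basic
import Mathlib.LinearAlgebra.Quotient.Basic
import Mathlib.Algebra.Polynomial.Identities
import Mathlib.Algebra.Polynomial.Div
import Mathlib.RingTheory.Jacobson.Ideal
import Mathlib.Algebra.Module.Submodule.Range
import Mathlib.RingTheory.Ideal.Quotient.Operations

/-! Elementwise criterion for derived completeness of modules and its consequences. -/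

set_option autoImplicit false
set_option linter.unusedSimpArgs false

universe u v

open Submodule Pointwise Polynomial

namespace Groth.Agent.DR39.DCM

variable {A : Type*} [CommRing A] {M : Type*} [AddCommGroup M] [Module A M]
  {N : Type*} [AddCommGroup N] [Module A N]

/-- Shift of sequences. -/
def sh (A : Type*) [CommRing A] (M : Type*) [AddCommGroup M] [Module A M] :
    (ℕ → M) →ₗ[A] (ℕ → M) := LinearMap.funLeft A M (fun i : ℕ => i + 1)

omit [AddCommGroup N] in
@[simp] theorem sh_apply (x : ℕ → M) (i : ℕ) : sh A M x i = x (i + 1) := rfl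

/-- `x ↦ (x i - f • x (i+1))`. -/
def T (f : A) (M : Type*) [AddCommGroup M] [Module A M] : (ℕ → M) →ₗ[A] (ℕ → M) :=
  LinearMap.id - f • sh A M

@[simp] theorem T_apply (f : A) (x : ℕ → M) (i : ℕ) : T f M x i = x i - f • x (i + 1) := rfl

/-- `M` is derived complete with respect to the single element `f`. -/
def Comp (f : A) (M : Type*) [AddCommGroup M] [Module A M] : Prop := Function.Bijective (T f M)

theorem comp_of_equivariant {f : A} (G : (ℕ → M) →ₗ[A] (ℕ → M))
    (hs : ∀ x, G (sh A M x) = sh A M (G x)) (hT : ∀ y, T f M (G y) = y) : Comp f M := by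
  refine ⟨fun x x' h => ?_, fun y => ⟨G y, hT y⟩⟩
  have key : ∀ x, G (T f M x) = x := fun x => by
    have : G (T f M x) = T f M (G x) := by
      change G (x - f • sh A M x) = G x - f • sh A M (G x)
      rw [map_sub, map_smul, hs]
    rw [this, hT]
  rw [← key x, ← key x', h]

variable {f g : A}

/-- The solution operator. -/
noncomputable def S (h : Comp f M) : (ℕ → M) →ₗ[A] (ℕ → M) :=
  (LinearEquiv.ofBijective (T f M) h).symm.toLinearMap

theorem T_S (h : Comp f M) (y : ℕ → M) : T f M (S h y) = y :=
  LinearEquiv.ofBijective_apply (hf := h) _ (x := (LinearEquiv.ofBijective (T f M) h).symm y) ▸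
    (LinearEquiv.ofBijective (T f M) h).apply_symm_apply y

theorem S_rec (h : Comp f M) (y : ℕ → M) (i : ℕ) : S h y i = y i + f • S h y (i + 1) :=
  eq_add_of_sub_eq (congrFun (T_S h y) i)

theorem S_unique (h : Comp f M) (y x : ℕ → M) (hx : ∀ i, x i = y i + f • x (i + 1)) : x = S h y := by
  refine h.1 ?_
  rw [T_S]
  funext i
  simp [sub_eq_iff_eq_add, ← hx i]

theorem S_sh (h : Comp f M) (y : ℕ → M) (i : ℕ) : S h (fun k => y (k + 1)) i = S h y (i + 1) :=
  (congrFun (S_unique h (fun k => y (k + 1)) (fun k => S h y (k + 1))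
    fun k => S_rec h y (k + 1)) i).symm

theorem eq_zero_of_eq_smul (h : Comp f M) (x : ℕ → M) (hx : ∀ i, x i = f • x (i + 1)) : x = 0 := by
  refine h.1 ?_
  rw [map_zero]
  funext i
  simp [← hx i]

theorem eq_zero_of_surjective (h : Comp f M) (hs : ∀ z : M, ∃ y, f • y = z) (m : M) : m = 0 := by
  choose p hp using hs
  have h0 := eq_zero_of_eq_smul h (fun i => p^[i] m) fun i => by
    rw [Function.iterate_succ_apply', hp]
  exact congrFun h0 0

/-! ### Closure properties -/

theorem comp_zero : Comp (0 : A) M :=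
  comp_of_equivariant LinearMap.id (fun _ => rfl) fun y => by funext i; simp

theorem comp_mul (h : Comp f M) (a : A) : Comp (a * f) M := by
  let G : (ℕ → M) →ₗ[A] (ℕ → M) := LinearMap.pi fun i =>
    (LinearMap.proj 0).comp ((S h).comp (LinearMap.pi fun k => a ^ k • LinearMap.proj (i + k)))
  have hG : ∀ y i, G y i = S h (fun k => a ^ k • y (i + k)) 0 := fun y i => rfl
  refine comp_of_equivariant G (fun x => ?_) fun y => ?_
  · funext i
    simp [hG, add_right_comm]
  · funext i
    rw [T_apply, hG, hG, S_rec h (fun k => a ^ k • y (i + k)) 0, ← S_sh h _ 0]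
    have : (fun k => a ^ (k + 1) • y (i + (k + 1))) = a • fun k => a ^ k • y (i + 1 + k) := by
      funext k
      simp [pow_succ', mul_smul, add_assoc, add_comm 1 k]
    rw [this, map_smul]
    simp [smul_smul, mul_comm a f]

theorem comp_add (hf : Comp f M) (hg : Comp g M) : Comp (f + g) M := by
  let Z : (ℕ → M) →ₗ[A] (ℕ → M) := LinearMap.pi fun j =>
    (LinearMap.proj 0).comp ((S hg).comp
      (LinearMap.pi fun k => ((j + k).choose j : A) • LinearMap.proj (j + k)))
  have hZ : ∀ y j, Z y j = S hg (fun k => ((j + k).choose j : A) • y (j + k)) 0 := fun _ _ => rfl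
  let G : (ℕ → M) →ₗ[A] (ℕ → M) := LinearMap.pi fun i =>
    (LinearMap.proj 0).comp ((S hf).comp (Z.comp (LinearMap.funLeft A M fun k => i + k)))
  have hG : ∀ y i, G y i = S hf (Z fun k => y (i + k)) 0 := fun _ _ => rfl
  refine comp_of_equivariant G (fun x => ?_) fun y => ?_
  · funext i
    simp [hG, add_right_comm]
  · funext i
    have Z0 : ∀ w : ℕ → M, Z w 0 = w 0 + g • Z (fun k => w (k + 1)) 0 := fun w => by
      rw [hZ, hZ, S_rec hg _ 0, ← S_sh hg _ 0]
      simp [add_comm 0]
    have Zs : ∀ (w : ℕ → M) j, Z w (j + 1) =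
        Z (fun k => w (k + 1)) j + g • Z (fun k => w (k + 1)) (j + 1) := fun w j => by
      rw [hZ, hZ, hZ]
      have e : (fun k => (((j + 1) + k).choose (j + 1) : A) • w (j + 1 + k)) =
          (fun k => ((j + k).choose j : A) • w (j + k + 1)) +
          (fun k => ((j + k).choose (j + 1) : A) • w (j + k + 1)) := by
        funext k
        rw [Pi.add_apply, ← add_smul, add_right_comm j 1 k, Nat.choose_succ_succ', Nat.cast_add]
      rw [e, map_add, Pi.add_apply, S_rec hg (fun k => ((j + k).choose (j + 1) : A) • w (j + k + 1)) 0,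
        ← S_sh hg (fun k => ((j + k).choose (j + 1) : A) • w (j + k + 1)) 0]
      simp [Nat.choose_succ_self, add_assoc, add_comm 1, add_left_comm 1]
    rw [T_apply, hG, hG, S_rec hf (Z fun k => y (i + k)) 0, ← S_sh hf _ 0]
    set z := Z (fun k => y (i + 1 + k)) with hz
    have e0 : Z (fun k => y (i + k)) 0 = y i + g • z 0 := by
      rw [Z0, hz]; simp [add_assoc, add_comm 1, add_left_comm 1]
    have es : (fun j => Z (fun k => y (i + k)) (j + 1)) = z + g • (fun j => z (j + 1)) := by
      funext j
      rw [Zs, hz]; simp [add_assoc, add_comm 1, add_left_comm 1]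
    rw [e0, es, map_add, map_smul, Pi.add_apply, Pi.smul_apply, S_sh, S_rec hf z 0]
    module

theorem comp_of_pow {k : ℕ} (h : Comp (f ^ k) M) : Comp f M := by
  let G : (ℕ → M) →ₗ[A] (ℕ → M) := LinearMap.pi fun i =>
    (LinearMap.proj 0).comp ((S h).comp
      (LinearMap.pi fun m => ∑ r ∈ Finset.range k, f ^ r • LinearMap.proj (i + m * k + r)))
  have hG : ∀ y i, G y i = S h (fun m => ∑ r ∈ Finset.range k, f ^ r • y (i + m * k + r)) 0 :=
    fun y i => congrArg (fun z => S h z 0) (by funext m; simp)
  refine comp_of_equivariant G (fun x => ?_) fun y => ?_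
  · funext i
    simp [hG, add_assoc, add_comm, add_left_comm]
  · funext i
    rw [T_apply, hG, hG, ← Pi.smul_apply, ← map_smul, ← Pi.sub_apply, ← map_sub]
    have key : S h ((fun m => ∑ r ∈ Finset.range k, f ^ r • y (i + m * k + r)) -
        f • fun m => ∑ r ∈ Finset.range k, f ^ r • y (i + 1 + m * k + r)) = fun m => y (i + m * k) := by
      refine (S_unique h _ _ fun m => ?_).symm
      simp only [Pi.sub_apply, Pi.smul_apply, Finset.smul_sum, smul_smul, ← pow_succ']
      have e : ∀ r, y (i + 1 + m * k + r) = y (i + m * k + (r + 1)) := fun r => by congr 1; omega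
      simp only [e]
      rw [← Finset.sum_sub_distrib, Finset.sum_range_sub' (fun r => f ^ r • y (i + m * k + r))]
      simp [add_mul, add_assoc]
    rw [key]
    simp

theorem comp_equiv (e : M ≃ₗ[A] N) (h : Comp f M) : Comp f N := by
  have : (T f N) = (LinearEquiv.piCongrRight fun _ : ℕ => e).toLinearMap ∘ₗ T f M ∘ₗ
      (LinearEquiv.piCongrRight fun _ : ℕ => e).symm.toLinearMap := by
    ext x i; simp
  rw [Comp, this]
  exact ((LinearEquiv.piCongrRight fun _ : ℕ => e).bijective).comp
    (h.comp (LinearEquiv.piCongrRight fun _ : ℕ => e).symm.bijective)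

theorem comp_ker (u : M →ₗ[A] N) (hM : Comp f M) (hN : Comp f N) : Comp f (LinearMap.ker u) := by
  refine ⟨fun x x' h => funext fun i => Subtype.ext ?_, fun y => ?_⟩
  · exact congrFun (hM.1 (a₁ := fun j => (x j : M)) (a₂ := fun j => (x' j : M))
      (funext fun j => by simpa using congrArg Subtype.val (congrFun h j))) i
  · have h0 := eq_zero_of_eq_smul hN (fun i => u (S hM (fun j => (y j : M)) i)) fun i => by
      conv_lhs => rw [S_rec hM]
      simp [LinearMap.mem_ker.mp (y i).2]
    refine ⟨fun i => ⟨S hM (fun j => (y j : M)) i, congrFun h0 i⟩, funext fun i => Subtype.ext ?_⟩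
    simpa using congrFun (T_S hM fun j => (y j : M)) i

theorem comp_range (u : M →ₗ[A] N) (hM : Comp f M) (hN : Comp f N) : Comp f (LinearMap.range u) := by
  refine ⟨fun x x' h => funext fun i => Subtype.ext ?_, fun y => ?_⟩
  · exact congrFun (hN.1 (a₁ := fun j => (x j : N)) (a₂ := fun j => (x' j : N))
      (funext fun j => by simpa using congrArg Subtype.val (congrFun h j))) i
  · choose z hz using fun i => (y i).2
    refine ⟨fun i => ⟨u (S hM z i), LinearMap.mem_range_self u _⟩, funext fun i => Subtype.ext ?_⟩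
    have := congrArg u (congrFun (T_S hM z) i)
    simpa [hz] using this

theorem comp_quotient (P : Submodule A M) (hP : Comp f P) (hM : Comp f M) : Comp f (M ⧸ P) := by
  refine ⟨(injective_iff_map_eq_zero _).2 fun x hx => ?_, fun y => ?_⟩
  · choose z hz using fun i => P.mkQ_surjective (x i)
    have hmem : ∀ i, z i - f • z (i + 1) ∈ P := fun i => by
      rw [← P.ker_mkQ, LinearMap.mem_ker, map_sub, map_smul, hz, hz]
      exact congrFun hx i
    have := hM.1 (a₁ := z) (a₂ := fun i => ((S hP fun j => ⟨_, hmem j⟩) i : M)) (funext fun i => by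
      have := congrArg Subtype.val (congrFun (T_S hP fun j => ⟨_, hmem j⟩) i)
      simpa using this.symm)
    funext i
    rw [← hz, congrFun this i]
    exact (Submodule.Quotient.mk_eq_zero P).2 (SetLike.coe_mem _)
  · choose z hz using fun i => P.mkQ_surjective (y i)
    refine ⟨fun i => P.mkQ (S hM z i), funext fun i => ?_⟩
    have := congrArg P.mkQ (congrFun (T_S hM z) i)
    rw [← hz i, ← this]
    simp

theorem comp_of_extension (P : Submodule A M) (hP : Comp f P) (hQ : Comp f (M ⧸ P)) : Comp f M := by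
  refine ⟨(injective_iff_map_eq_zero _).2 fun x hx => ?_, fun y => ?_⟩
  · have h0 := eq_zero_of_eq_smul hQ (fun i => P.mkQ (x i)) fun i => by
      rw [← map_smul, ← sub_eq_zero, ← map_sub]
      have := congrFun hx i
      simp only [T_apply, Pi.zero_apply] at this
      rw [this, map_zero]
    have hmem : ∀ i, x i ∈ P := fun i => (Submodule.Quotient.mk_eq_zero P).1 (congrFun h0 i)
    have h1 := eq_zero_of_eq_smul hP (fun i => ⟨x i, hmem i⟩) fun i => Subtype.ext <| by
      have := congrFun hx i
      simpa [sub_eq_zero] using this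
    funext i
    exact congrArg Subtype.val (congrFun h1 i)
  · choose z hz using fun i => P.mkQ_surjective (S hQ (fun j => P.mkQ (y j)) i)
    have hmem : ∀ i, y i - (z i - f • z (i + 1)) ∈ P := fun i => by
      rw [← P.ker_mkQ, LinearMap.mem_ker, map_sub, map_sub, map_smul, hz, hz]
      have := congrFun (T_S hQ (fun j => P.mkQ (y j))) i
      rw [T_apply] at this
      rw [this, sub_self]
    refine ⟨fun i => z i + (S hP (fun j => ⟨_, hmem j⟩) i : M), funext fun i => ?_⟩
    have := congrArg Subtype.val (congrFun (T_S hP fun j => ⟨_, hmem j⟩) i)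
    simp at this ⊢
    rw [add_sub_add_comm, this]
    abel

theorem comp_algebra {B : Type*} [CommRing B] [Algebra A B] [Module B M] [IsScalarTower A B M]
    (f : A) : Comp (algebraMap A B f) M ↔ Comp f M := by
  have : (T (algebraMap A B f) M : (ℕ → M) → (ℕ → M)) = T f M := by
    funext x i; simp
  rw [Comp, Comp, this]

/-! ### Finitely generated ideals -/

theorem span_pow_le [DecidableEq A] (s : Finset A) (n : ℕ) :
    Ideal.span (s : Set A) ^ (s.card * n + 1) ≤ Ideal.span ((fun x => x ^ n) '' (s : Set A)) := by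
  induction s using Finset.induction_on with
  | empty => simp
  | insert a t ha ih =>
    rw [Finset.card_insert_of_notMem ha, Finset.coe_insert, Ideal.span_insert, Set.image_insert_eq,
      Ideal.span_insert, show (t.card + 1) * n + 1 = n + (t.card * n + 1) by ring]
    refine (Ideal.sup_pow_add_le_pow_sup_pow).trans (sup_le_sup ?_ ih)
    rw [Ideal.span_singleton_pow]

theorem mem_span_pow_smul [DecidableEq A] (s : Finset A) (n : ℕ) (z : M)
    (hz : z ∈ Ideal.span ((fun x => x ^ n) '' (s : Set A)) • (⊤ : Submodule A M)) :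
    ∃ y : A → M, z = ∑ x ∈ s, x ^ n • y x := by
  let L : (A → M) →ₗ[A] M := ∑ x ∈ s, x ^ n • LinearMap.proj x
  suffices Ideal.span ((fun x => x ^ n) '' (s : Set A)) • (⊤ : Submodule A M) ≤ LinearMap.range L by
    obtain ⟨y, hy⟩ := this hz
    exact ⟨y, by simp [← hy, L]⟩
  refine Submodule.smul_le.2 fun r hr m _ => ?_
  induction hr using Submodule.span_induction with
  | mem r hr =>
    obtain ⟨x, hx, rfl⟩ := hr
    refine ⟨Pi.single x m, ?_⟩
    rw [LinearMap.sum_apply, Finset.sum_eq_single x (fun b _ hb => by simp [hb])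
      (fun h => absurd hx h)]
    simp
  | zero => simp
  | add a b _ _ ha hb => rw [add_smul]; exact add_mem ha hb
  | smul c a _ ha => rw [smul_assoc]; exact Submodule.smul_mem _ c ha

theorem subsingleton_of_smul_top_eq_top [DecidableEq A] (s : Finset A) {M : Type*} [AddCommGroup M]
    [Module A M] (hs : ∀ x ∈ s, Comp x M)
    (h : Ideal.span (s : Set A) • (⊤ : Submodule A M) = ⊤) : Subsingleton M := by
  induction s using Finset.induction_on generalizing M with
  | empty =>
    simp only [Finset.coe_empty, Ideal.span_empty, Submodule.bot_smul] at h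
    exact ⟨fun x y => by
      have hz : ∀ z : M, z = 0 := fun z => (Submodule.mem_bot A).1 (h ▸ trivial : z ∈ (⊥ : Submodule A M))
      rw [hz x, hz y]⟩
  | insert a t _ ih =>
    have ha : Comp a M := hs a (Finset.mem_insert_self a t)
    let P := LinearMap.range (a • LinearMap.id : M →ₗ[A] M)
    have hP : Comp a P := comp_range _ ha ha
    have hQ : Subsingleton (M ⧸ P) := by
      refine ih (fun x hx => comp_quotient P (comp_range _ (hs x (Finset.mem_insert_of_mem hx))
        (hs x (Finset.mem_insert_of_mem hx))) (hs x (Finset.mem_insert_of_mem hx))) ?_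
      refine eq_top_iff.2 fun q _ => ?_
      obtain ⟨m, rfl⟩ := P.mkQ_surjective q
      have hm : m ∈ Ideal.span ((insert a t : Finset A) : Set A) • (⊤ : Submodule A M) := by rw [h]; trivial
      refine Submodule.smul_induction_on hm (fun r hr w _ => ?_) fun u w hu hw => ?_
      · rw [Finset.coe_insert, Ideal.mem_span_insert] at hr
        obtain ⟨c, z, hz, rfl⟩ := hr
        rw [map_smul, add_smul, mul_smul]
        have : a • P.mkQ w = 0 := (Submodule.Quotient.mk_eq_zero P).2 ⟨w, rfl⟩
        rw [this, smul_zero, zero_add]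
        exact Submodule.smul_mem_smul hz trivial
      · rw [map_add]; exact add_mem hu hw
    have hsurj : ∀ z : M, ∃ y, a • y = z := fun z =>
      (Submodule.Quotient.mk_eq_zero P).1 (Subsingleton.elim _ _)
    exact ⟨fun x y => by rw [eq_zero_of_surjective ha hsurj x, eq_zero_of_surjective ha hsurj y]⟩

theorem adicCompletion_of_surjective [DecidableEq A] (s : Finset A) {M : Type*} [AddCommGroup M]
    [Module A M] (hs : ∀ x ∈ s, Comp x M) :
    Function.Surjective (AdicCompletion.of (Ideal.span (s : Set A)) M) := by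
  set I := Ideal.span (s : Set A)
  intro z
  obtain ⟨x, rfl⟩ := AdicCompletion.mk_surjective I M z
  let φ : ℕ → ℕ := fun n => (s.card + 1) * n + 1
  have hmono : ∀ a b, a ≤ b → φ a ≤ φ b := fun a b h => by dsimp [φ]; gcongr
  have hle : ∀ n, n ≤ φ n := fun n => by dsimp [φ]; nlinarith
  have hex : ∀ n, ∃ y : A → M, x.1 (φ (n + 1)) - x.1 (φ n) = ∑ a ∈ s, a ^ n • y a := fun n => by
    refine mem_span_pow_smul s n _ ?_
    refine Submodule.smul_mono_left (le_trans (Ideal.pow_le_pow_right ?_) (span_pow_le s n))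
      (SModEq.sub_mem.1 (x.2 (hmono n (n + 1) n.le_succ)).symm)
    dsimp [φ]; nlinarith
  choose y hy using hex
  let w : M := x.1 (φ 0) + ∑ a ∈ s.attach, S (hs a.1 a.2) (fun n => y n a.1) 0
  have hw : ∀ N, w = x.1 (φ N) + ∑ a ∈ s.attach, a.1 ^ N • S (hs a.1 a.2) (fun n => y n a.1) N := by
    intro N
    induction N with
    | zero => simp [w]
    | succ N ih =>
      rw [ih, Finset.sum_congr rfl fun a _ => by rw [S_rec (hs a.1 a.2) _ N, smul_add, smul_smul,
        ← pow_succ], Finset.sum_add_distrib, Finset.sum_attach s (fun a => a ^ N • y N a), ← hy N]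
      abel
  refine ⟨w, AdicCompletion.ext fun N => ?_⟩
  rw [AdicCompletion.mk_apply_coe, AdicCompletion.of_apply]
  rw [Submodule.mkQ_apply, Submodule.mkQ_apply, Submodule.Quotient.eq, hw N]
  have h1 : x.1 (φ N) - x.1 N ∈ (I ^ N • ⊤ : Submodule A M) :=
    SModEq.sub_mem.1 (x.2 (hle N)).symm
  have h2 : ∑ a ∈ s.attach, a.1 ^ N • S (hs a.1 a.2) (fun n => y n a.1) N ∈
      (I ^ N • ⊤ : Submodule A M) := Submodule.sum_mem _ fun a _ =>
    Submodule.smul_mem_smul (Ideal.pow_mem_pow (Ideal.subset_span a.2) N) trivial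
  rw [add_sub_right_comm]
  exact add_mem h1 h2

theorem bounded_torsion (h : Comp f M) (ht : ∀ m : M, ∃ n : ℕ, f ^ n • m = 0) :
    ∃ N : ℕ, ∀ m : M, f ^ N • m = 0 := by
  by_contra hcon
  push Not at hcon
  have step : ∀ N, ∃ y : M, ∀ z : M, f ^ N • y ≠ f ^ (N + 1) • z := by
    intro N
    by_contra hN
    push Not at hN
    obtain ⟨m, hm⟩ := hcon N
    let P := LinearMap.range (f ^ N • LinearMap.id : M →ₗ[A] M)
    refine hm (congrArg Subtype.val (eq_zero_of_surjective (comp_range _ h h)
      (fun p => ?_) (⟨f ^ N • m, m, rfl⟩ : P)))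
    obtain ⟨_, y, rfl⟩ := p
    obtain ⟨z, hz⟩ := hN y
    exact ⟨⟨f ^ N • z, z, rfl⟩, Subtype.ext (by simp [smul_smul, ← pow_succ', hz])⟩
  choose Y hY using step
  choose E hE using ht
  -- `st k` is an exponent killing the first `k` chosen elements
  let st : ℕ → ℕ := fun k => k.rec 0 (fun k p => max (k + 1) (max p (E (Y (p + k)))))
  let y : ℕ → M := fun k => Y (st k + k)
  have hst : ∀ k, k ≤ st k := fun k => by
    cases k with
    | zero => exact Nat.le_refl _
    | succ k => exact le_max_left _ _
  have hstep : ∀ k, st k ≤ st (k + 1) ∧ E (y k) ≤ st (k + 1) := fun k =>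
    ⟨le_max_of_le_right (le_max_left _ _), le_max_of_le_right (le_max_right _ _)⟩
  have hkill : ∀ k N, k ≤ N → ∀ j < k, f ^ st N • y j = 0 := by
    intro k N hkN j hj
    have : E (y j) ≤ st N := (hstep j).2.trans (monotone_nat_of_le_succ (fun k => (hstep k).1) (show j + 1 ≤ N by omega))
    rw [← Nat.sub_add_cancel this, pow_add, mul_smul, hE, smul_zero]
  have hsum : ∀ k, S h y 0 = (∑ j ∈ Finset.range k, f ^ j • y j) + f ^ k • S h y k := by
    intro k
    induction k with
    | zero => simp
    | succ k ih =>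
      rw [ih, Finset.sum_range_succ, S_rec h y k, smul_add, smul_smul, ← pow_succ, add_assoc]
  set k := E (S h y 0)
  refine hY (st k + k) (-(S h y (k + 1))) ?_
  have h0 : f ^ st k • S h y 0 = 0 := by
    rw [← Nat.sub_add_cancel (hst k), pow_add, mul_smul, hE, smul_zero]
  rw [hsum (k + 1), Finset.sum_range_succ, smul_add, smul_add, Finset.smul_sum,
    Finset.sum_eq_zero (fun j hj => by
      rw [smul_comm, hkill k k le_rfl j (Finset.mem_range.1 hj), smul_zero]),
    zero_add, smul_smul, smul_smul, ← pow_add, ← pow_add, ← add_assoc] at h0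
  rw [smul_neg]
  exact eq_neg_of_add_eq_zero_left h0

theorem mul_eq_zero_of_mem_iInf {a : A} {m : M} (h : Comp f M)
    (ha : ∀ n : ℕ, ∃ b, a = f ^ n * b) (hm : ∀ n : ℕ, ∃ x, m = f ^ n • x) : a • m = 0 := by
  choose b hb using ha
  choose x hx using hm
  have h0 := eq_zero_of_eq_smul h (fun n => a • x n) fun n => by
    calc a • x n = (f ^ n * b n) • x n := by rw [← hb]
      _ = b n • (f ^ n • x n) := by rw [mul_comm, mul_smul]
      _ = b n • m := by rw [← hx]
      _ = b n • (f ^ (n + 1) • x (n + 1)) := by rw [← hx]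
      _ = (f ^ n * b n) • (f • x (n + 1)) := by
        rw [smul_smul, smul_smul]; congr 1; ring
      _ = f • a • x (n + 1) := by rw [← hb, smul_comm]
  have h1 : a • x 0 = 0 := congrFun h0 0
  rw [hx 0, pow_zero, one_smul, h1]

theorem iInf_pow_pow_eq_bot {A : Type u} [CommRing A] [DecidableEq A] (s : Finset A)
    (hs : ∀ x ∈ s, Comp x A) :
    (⨅ n : ℕ, Ideal.span (s : Set A) ^ n) ^ (2 ^ s.card) = ⊥ := by
  generalize hc : s.card = c
  induction c using Nat.strong_induction_on generalizing A with
  | _ c ih =>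
    cases s using Finset.induction_on with
    | empty =>
      subst hc
      simp only [Finset.coe_empty, Ideal.span_empty, Finset.card_empty, pow_zero, pow_one]
      exact le_bot_iff.1 (iInf_le_of_le 1 (by simp))
    | insert a t hat =>
      rw [Finset.card_insert_of_notMem hat] at hc
      subst hc
      set J := ⨅ n : ℕ, Ideal.span ((insert a t : Finset A) : Set A) ^ n
      have key : ∀ n : ℕ, J ^ (2 ^ t.card) ≤ Ideal.span {a ^ n} := by
        intro n
        let π := Ideal.Quotient.mk (Ideal.span {a ^ n})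
        classical
        have hq : ∀ x ∈ t.image π, Comp x (A ⧸ Ideal.span {a ^ n}) := by
          intro x hx
          obtain ⟨x, hxt, rfl⟩ := Finset.mem_image.1 hx
          have hxA := hs x (Finset.mem_insert_of_mem hxt)
          have e : LinearMap.range (a ^ n • LinearMap.id : A →ₗ[A] A) = Ideal.span {a ^ n} := by
            ext z
            simp [Ideal.mem_span_singleton, dvd_def, eq_comm]
          exact (comp_algebra (B := A ⧸ Ideal.span {a ^ n}) x).2
            (comp_quotient _ (e ▸ comp_range _ hxA hxA) hxA)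
        have h1 := ih (t.image π).card (Nat.lt_succ_of_le Finset.card_image_le) (t.image π) hq rfl
        have hmap : J.map π ≤ ⨅ m : ℕ, Ideal.span ((t.image π : Finset _) : Set _) ^ m := by
          refine le_iInf fun m => (Ideal.map_mono (iInf_le _ (n + m))).trans ?_
          rw [Finset.coe_image, ← Ideal.map_span, Finset.coe_insert, Ideal.span_insert,
            ← Ideal.map_pow π _ m]
          refine (Ideal.map_mono Ideal.sup_pow_add_le_pow_sup_pow).trans ?_
          rw [Ideal.map_sup, Ideal.span_singleton_pow, Ideal.map_quotient_self, bot_sup_eq]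
        have h2 : (J.map π) ^ (2 ^ t.card) = ⊥ := le_bot_iff.1 <| by
          refine le_trans (Ideal.pow_le_pow_right (pow_le_pow_right₀ (by norm_num)
            (Finset.card_image_le (f := π)))) ((Ideal.pow_right_mono hmap _).trans h1.le)
        rw [← Ideal.map_pow, Ideal.map_eq_bot_iff_le_ker, Ideal.mk_ker] at h2
        exact h2
      rw [pow_succ, pow_mul, pow_two, ← le_bot_iff, Ideal.mul_le]
      intro r hr q hq
      rw [Ideal.mem_bot, ← smul_eq_mul]
      refine mul_eq_zero_of_mem_iInf (hs a (Finset.mem_insert_self a t)) (fun n => ?_) fun n => ?_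
      · exact Ideal.mem_span_singleton.1 (key n hr)
      · exact Ideal.mem_span_singleton.1 (key n hq)

theorem isUnit_one_sub {g : A} (h : Comp g A) : IsUnit (1 - g) := by
  refine IsUnit.of_mul_eq_one (S h (fun _ => 1) 0) ?_
  have h1 := S_rec h (fun _ => (1 : A)) 0
  rw [← S_sh h (fun _ => (1 : A)) 0, smul_eq_mul] at h1
  linear_combination h1

theorem henselianRing (I : Ideal A) (hI : ∀ x ∈ I, Comp x A) : HenselianRing A I := by
  have jac : I ≤ Ideal.jacobson (⊥ : Ideal A) := fun x hx => Ideal.mem_jacobson_bot.2 fun y => by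
    have := isUnit_one_sub (hI (-(x * y)) (I.neg_mem (I.mul_mem_right y hx)))
    simpa [add_comm] using this
  refine ⟨jac, fun p _ a₀ ha₀ hd => ?_⟩
  classical
  obtain ⟨g, hgdef⟩ : ∃ g, g = p.eval a₀ := ⟨_, rfl⟩
  have hgI : g ∈ I := hgdef ▸ ha₀
  have hcomp := hI g hgI
  have hunit : ∀ a, g ∣ a - a₀ → IsUnit (p.derivative.eval a) := by
    intro a ha
    have : g ∣ p.derivative.eval a - p.derivative.eval a₀ := ha.trans (sub_dvd_eval_sub a a₀ _)
    have he : Ideal.Quotient.mk I (p.derivative.eval a) = Ideal.Quotient.mk I (p.derivative.eval a₀) :=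
      Ideal.Quotient.eq.2 (I.mem_of_dvd this hgI)
    have := isLocalHom_of_le_jacobson_bot I jac
    exact IsUnit.of_map (Ideal.Quotient.mk I) _ (he ▸ hd)
  let nw : A → A := fun a => a - Ring.inverse (p.derivative.eval a) * p.eval a
  have hnw : ∀ a, g ∣ a - a₀ → (p.eval a) ^ 2 ∣ p.eval (nw a) := by
    intro a ha
    obtain ⟨c, hc⟩ := p.binomExpansion a (-(Ring.inverse (p.derivative.eval a) * p.eval a))
    refine ⟨c * Ring.inverse (p.derivative.eval a) ^ 2, ?_⟩
    have hu := Ring.mul_inverse_cancel _ (hunit a ha)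
    show p.eval (a - _) = _
    rw [sub_eq_add_neg, hc]
    linear_combination -(p.eval a) * hu
  let a : ℕ → A := fun n => nw^[n] a₀
  have hsucc : ∀ n, a (n + 1) = nw (a n) := fun n => Function.iterate_succ_apply' nw n a₀
  have hind : ∀ n, g ∣ a n - a₀ ∧ g ^ (n + 1) ∣ p.eval (a n) := by
    intro n
    induction n with
    | zero => exact ⟨by simp [a], by simp [a, ← hgdef]⟩
    | succ n ih =>
      rw [hsucc]
      refine ⟨?_, ?_⟩
      · have : g ∣ p.eval (a n) := (dvd_pow_self g n.succ_ne_zero).trans ih.2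
        show g ∣ a n - _ - a₀
        rw [sub_right_comm]
        exact dvd_sub ih.1 (dvd_mul_of_dvd_right this _)
      · refine dvd_trans ?_ ((pow_dvd_pow_of_dvd ih.2 2).trans (hnw _ ih.1))
        rw [← pow_mul]
        exact pow_dvd_pow g (by omega)
  choose e he using fun n => (hind n).2
  let c : ℕ → A := fun n => -(Ring.inverse (p.derivative.eval (a n)) * e n)
  obtain ⟨r, hr⟩ : ∃ r, r = a₀ + g * S hcomp c 0 := ⟨_, rfl⟩
  have hrN : ∀ N, r = a N + g ^ (N + 1) * S hcomp c N := by
    intro N
    induction N with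
    | zero => simp [a, hr]
    | succ N ih =>
      have h1 : a (N + 1) = a N - Ring.inverse (p.derivative.eval (a N)) * p.eval (a N) := hsucc N
      rw [ih, h1, S_rec hcomp c N, smul_eq_mul, he N]
      simp only [c]; ring
  have hrI : g ∣ r - a₀ := ⟨S hcomp c 0, by rw [hr]; ring⟩
  have hinf : ∀ n : ℕ, g ^ n ∣ p.eval r := fun n => by
    have h1 : g ^ (n + 1) ∣ p.eval r - p.eval (a n) :=
      dvd_trans ⟨S hcomp c n, by rw [hrN n]; ring⟩ (sub_dvd_eval_sub r (a n) p)
    have := dvd_add h1 (hind n).2
    rw [sub_add_cancel] at this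
    exact (pow_dvd_pow g n.le_succ).trans this
  have hsq : (p.eval r) ^ 2 = 0 := by
    rw [pow_two, ← smul_eq_mul]
    exact mul_eq_zero_of_mem_iInf hcomp hinf hinf
  refine ⟨nw r, zero_dvd_iff.1 (hsq ▸ hnw r hrI), ?_⟩
  show r - _ - a₀ ∈ I
  rw [sub_right_comm]
  exact sub_mem (I.mem_of_dvd hrI hgI)
    (I.mul_mem_left _ (I.mem_of_dvd (by simpa using hinf 1) hgI))

theorem comp_of_isAdicComplete (I : Ideal A) [IsAdicComplete I M] (hf : f ∈ I) : Comp f M := by
  have hmem : ∀ (n : ℕ) (m : M), f ^ n • m ∈ (I ^ n • ⊤ : Submodule A M) := fun n m =>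
    Submodule.smul_mem_smul (Ideal.pow_mem_pow hf n) trivial
  refine ⟨(injective_iff_map_eq_zero _).2 fun x hx => ?_, fun y => ?_⟩
  · have h : ∀ n i, x i = f ^ n • x (i + n) := by
      intro n
      induction n with
      | zero => simp
      | succ n ih =>
        intro i
        have := congrFun hx (i + n)
        rw [T_apply, Pi.zero_apply, sub_eq_zero] at this
        rw [ih i, this, smul_smul, ← pow_succ]; rfl
    funext i
    exact IsHausdorff.haus ‹IsAdicComplete I M›.1 (x i) fun n => by
      rw [SModEq.zero, h n i]; exact hmem _ _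
  · let σ : ℕ → ℕ → M := fun i n => ∑ j ∈ Finset.range n, f ^ j • y (i + j)
    have hc : ∀ i, ∀ {m n}, m ≤ n → σ i m ≡ σ i n [SMOD (I ^ m • ⊤ : Submodule A M)] := by
      intro i m n hmn
      rw [SModEq.sub_mem, ← neg_mem_iff, neg_sub]
      show (∑ j ∈ Finset.range n, f ^ j • y (i + j)) - ∑ j ∈ Finset.range m, f ^ j • y (i + j) ∈ _
      rw [← Finset.sum_Ico_eq_sub _ hmn]
      refine Submodule.sum_mem _ fun j hj => ?_
      rw [← Nat.add_sub_cancel' (Finset.mem_Ico.1 hj).1, pow_add, mul_smul]
      exact hmem _ _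
    choose L hL using fun i => IsPrecomplete.prec ‹IsAdicComplete I M›.2 (hc i)
    refine ⟨L, funext fun i => ?_⟩
    rw [T_apply, ← sub_eq_zero]
    refine IsHausdorff.haus ‹IsAdicComplete I M›.1 _ fun n => ?_
    rw [SModEq.zero]
    have h1 : σ i (n + 1) = y i + f • σ (i + 1) n := by
      simp only [σ, Finset.sum_range_succ', Finset.smul_sum, smul_smul, ← pow_succ']
      rw [add_comm]
      simp [add_assoc, add_comm 1]
    have a1 := Submodule.smul_mono_left (Ideal.pow_le_pow_right n.le_succ)
      (SModEq.sub_mem.1 (hL i (n + 1)))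
    have a2 := Submodule.smul_mem _ f (SModEq.sub_mem.1 (hL (i + 1) n))
    have := sub_mem a2 a1
    rw [h1] at this
    convert this using 1
    rw [smul_sub]; abel

end Groth.Agent.DR39.DCM
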