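import Groth.Agent.DR39.Perf
import Mathlib.CategoryTheory.Abelian.Projective.Extend
import Mathlib.Algebra.Category.ModuleCat.Monoidal.Symmetric

/-! Balancing of the derived tensor product of two modules. -/

set_option autoImplicit false
set_option linter.style.haveILetI false
set_option linter.unusedSectionVars false

universe u

open CategoryTheory CategoryTheory.Limits MonoidalCategory

attribute [local instance] HasDerivedCategory.standard

namespace Groth.Agent.DR39

variable {A : Type u} [CommRing A]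

theorem exists_free_res (M : Type u) [AddCommGroup M] [Module A M] :
    ∃ E : DRing.Cx A, DRing.VanishesAbove E 0 ∧ (∀ i, Module.Free A (E.X i)) ∧
      Nonempty ((QA A).obj E ≅ Dual.inD A M) := by
  obtain ⟨E, hEv, hE, he⟩ := rep_free_of_acyc (b := 0) (acyc_inD (A := A) M (m := 0 + 1) (by omega))
  exact ⟨E, (vanishesAbove_iff E 0).2 hEv, hE, he⟩

theorem exists_qis_to_sgl {E : DRing.Cx A} {b : ℤ} (hb : DRing.VanishesAbove E b)
    (hp : ∀ i, Module.Projective A (E.X i)) (M : ModuleCat.{u} A)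
    (e : (QA A).obj E ≅ Dual.inD A M) : ∃ f : E ⟶ sgl M, QuasiIso f := by
  haveI := isKProjective_of_bddAbove E b hb hp
  obtain ⟨f, hf⟩ := Q_map_surjective E (sgl M) e.hom
  refine ⟨f, ?_⟩
  rw [← DerivedCategory.isIso_Q_map_iff_quasiIso, hf]
  infer_instance

/-- Balancing. -/
theorem balance {M N : ModuleCat.{u} A} {E F : DRing.Cx A} {b c : ℤ}
    (hEb : DRing.VanishesAbove E b) (hEp : ∀ i, Module.Projective A (E.X i))
    (eE : (QA A).obj E ≅ Dual.inD A M)
    (hFb : DRing.VanishesAbove F c) (hFp : ∀ i, Module.Projective A (F.X i))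
    (eF : (QA A).obj F ≅ Dual.inD A N) (i : ℤ) :
    Nonempty ((DRing.tensorCx E N).homology i ≅ (DRing.tensorCx F M).homology i) := by
  obtain ⟨f, hf⟩ := exists_qis_to_sgl hEb hEp M eE
  obtain ⟨g, hg⟩ := exists_qis_to_sgl hFb hFp N eF
  have hE : DRing.IsKFlat A E := isKFlat_of_flat b hEb fun i => flat_of_PR (hEp i)
  have hF : DRing.IsKFlat A F := isKFlat_of_flat c hFb fun i => flat_of_PR (hFp i)
  have sy : ∀ (X Y : DRing.Cx A), IsIso (symm' X Y) := fun X Y => by
    haveI : ∀ n, IsIso ((symm' X Y).f n) := fun n =>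
      ⟨(symm' Y X).f n, symmX_symmX X Y n, symmX_symmX Y X n⟩
    exact HomologicalComplex.Hom.isIso_of_components _
  haveI := sy E F; haveI := sy E (sgl N); haveI := sy F (sgl M)
  haveI h1 : QuasiIso (g ▷ E) := quasiIso_whiskerRight hE g
  haveI h2 : QuasiIso (f ▷ F) := quasiIso_whiskerRight hF f
  let H := fun (X : DRing.Cx A) => X.homology i
  let e1 : (DRing.tensorCx E N).homology i ≅ (F ⊗ E).homology i :=
    (HomologicalComplex.homologyFunctor _ _ i).mapIso (@asIso _ _ _ _ (toSingleTensor E N) (isIso_toSingleTensor E N) ≪≫ asIso (symm' E (sgl N))) ≪≫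
      (isoOfQuasiIsoAt (g ▷ E) i).symm
  let e2 : (DRing.tensorCx F M).homology i ≅ (E ⊗ F).homology i :=
    (HomologicalComplex.homologyFunctor _ _ i).mapIso (@asIso _ _ _ _ (toSingleTensor F M) (isIso_toSingleTensor F M) ≪≫ asIso (symm' F (sgl M))) ≪≫
      (isoOfQuasiIsoAt (f ▷ F) i).symm
  exact ⟨e1 ≪≫ ((HomologicalComplex.homologyFunctor _ _ i).mapIso (asIso (symm' E F))).symm ≪≫ e2.symm⟩

/-- Tor amplitude of a module tested by resolutions of the other variable. -/
theorem ta_inD_iff (M : Type u) [AddCommGroup M] [Module A M] (a b : ℤ) (hb : 0 ≤ b) :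
    TA a b (Dual.inD A M) ↔ ∀ (N : ModuleCat.{u} A) (F : DRing.Cx A) (c : ℤ), DRing.VanishesAbove F c →
      (∀ i, Module.Projective A (F.X i)) → ∀ (_ : (QA A).obj F ≅ Dual.inD A N) (i : ℤ), i < a →
        IsZero ((DRing.tensorCx F (ModuleCat.of A M)).homology i) := by
  obtain ⟨E, hEv, hE, ⟨e⟩⟩ := exists_free_res (A := A) M
  have hEk := isKFlat_of_flat 0 hEv fun i => flat_of_FR (hE i)
  rw [ta_iff a b E hEk e]
  constructor
  · rintro ⟨-, h⟩ N F c hFb hFp eF i hi
    obtain ⟨f⟩ := balance (M := ModuleCat.of A M) hEv (fun i => proj_of_FR (hE i)) e hFb hFp eF i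
    exact (h N i hi).of_iso f.symm
  · intro h
    refine ⟨(acyc_inD M (m := 1) one_pos).mono (by omega), fun N i hi => ?_⟩
    obtain ⟨F, hFv, hF, ⟨eF⟩⟩ := exists_free_res (A := A) N
    obtain ⟨f⟩ := balance (M := ModuleCat.of A M) hEv (fun i => proj_of_FR (hE i)) e hFv
      (fun i => proj_of_FR (hF i)) eF i
    exact (h N F 0 hFv (fun i => proj_of_FR (hF i)) eF i hi).of_iso f

theorem isZero_Tor_iff (M N : ModuleCat.{u} A) (p : ℕ) :
    ∃ F : DRing.Cx A, DRing.VanishesAbove F 0 ∧ (∀ i, Module.Projective A (F.X i)) ∧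
      Nonempty ((QA A).obj F ≅ Dual.inD A N) ∧
      (IsZero (((CategoryTheory.Tor (ModuleCat.{u} A) p).obj M).obj N) ↔
        IsZero ((DRing.tensorCx F M).homology (-(p : ℤ)))) := by
  let P : ProjectiveResolution N := (HasProjectiveResolution.out (Z := N)).some
  haveI : P.cochainComplex.IsStrictlyLE 0 := inferInstance
  refine ⟨P.cochainComplex, fun i hi => CochainComplex.isZero_of_isStrictlyLE _ 0 i hi, fun i => ?_,
    ⟨@asIso _ _ _ _ (DerivedCategory.Q.map P.π')
      ((DerivedCategory.isIso_Q_map_iff_quasiIso _ P.π').2 inferInstance)⟩, ?_⟩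
  · have hP : Projective (P.cochainComplex.X i) := inferInstance
    exact (IsProjective.iff_projective (R := A) (P.cochainComplex.X i)).2 hP
  · let e := P.isoLeftDerivedObj ((tensoringLeft (ModuleCat.{u} A)).obj M) p
    refine e.isZero_iff.trans ?_
    let G := tensorRight M
    let C := (G.mapHomologicalComplex _).obj P.complex
    let sIso : (((tensoringLeft (ModuleCat.{u} A)).obj M).mapHomologicalComplex _).obj P.complex ≅ C :=
      (NatIso.mapHomologicalComplex (NatIso.ofComponents (fun X => β_ M X)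
        (fun {X Y} f => BraidedCategory.braiding_naturality_right M f) :
          (tensoringLeft (ModuleCat.{u} A)).obj M ≅ G) _).app P.complex
    refine ((HomologicalComplex.homologyFunctor _ _ p).mapIso sIso).isZero_iff.trans ?_
    let D : DRing.Cx A := DRing.tensorCx P.cochainComplex M
    let eX : ∀ k : ℕ, (C.X k) ≅ D.X (-(k : ℤ)) := fun k => G.mapIso (P.cochainComplexXIso (-(k : ℤ)) k rfl).symm
    let rIso : C ≅ D.restriction ComplexShape.embeddingDownNat :=
      HomologicalComplex.Hom.isoOfComponents eX fun k l _ => by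
        change G.map _ ≫ G.map (P.cochainComplex.d (-(k : ℤ)) (-(l : ℤ))) = G.map (P.complex.d k l) ≫ G.map _
        rw [P.cochainComplex_d (-(k : ℤ)) (-(l : ℤ)) k l rfl rfl, ← G.map_comp, ← G.map_comp,
          Iso.symm_hom, Iso.symm_hom, Iso.inv_hom_id_assoc]
    refine ((HomologicalComplex.homologyFunctor _ _ p).mapIso rIso).isZero_iff.trans ?_
    rcases p with _ | q
    · have hz : IsZero (D.X 1) :=
        G.map_isZero (CochainComplex.isZero_of_isStrictlyLE _ 0 1 one_pos)
      constructor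
      · intro h
        rw [isZero_homology_iff]
        intro x hx
        rw [HomologicalComplex.homologyFunctor_obj, ← HomologicalComplex.exactAt_iff_isZero_homology,
          HomologicalComplex.exactAt_iff' _ 1 0 0 (by simp) (by simp), ShortComplex.moduleCat_exact_iff] at h
        obtain ⟨y, hy⟩ := h x (by
          show ((D.restriction ComplexShape.embeddingDownNat).d 0 0).hom x = 0
          rw [HomologicalComplex.shape _ 0 0 (by simp)]; rfl)
        exact ⟨y, hy⟩
      · intro h
        rw [isZero_homology_iff] at h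
        rw [HomologicalComplex.homologyFunctor_obj, ← HomologicalComplex.exactAt_iff_isZero_homology,
          HomologicalComplex.exactAt_iff' _ 1 0 0 (by simp) (by simp), ShortComplex.moduleCat_exact_iff]
        intro x _
        haveI := ModuleCat.subsingleton_of_isZero hz
        exact h x (Subsingleton.elim (α := D.X 1) _ _)
    · exact (D.restrictionHomologyIso ComplexShape.embeddingDownNat (q + 2) (q + 1) q (by simp) (by simp)
        (i' := -((q + 2 : ℕ) : ℤ)) (j' := -((q + 1 : ℕ) : ℤ)) (k' := -((q : ℕ) : ℤ))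
        rfl rfl rfl (by simp; omega) (by simp)).isZero_iff

theorem hasTorDimLE_iff (M : Type u) [AddCommGroup M] [Module A M] (d : ℕ) :
    DRing.HasTorDimLE A d M ↔ TA (-(d : ℤ)) 0 (Dual.inD A M) := by
  rw [ta_inD_iff M _ 0 le_rfl]
  constructor
  · intro h N F c hFb hFp eF i hi
    obtain ⟨p, rfl⟩ : ∃ p : ℕ, i = -(p : ℤ) := ⟨(-i).toNat, by omega⟩
    obtain ⟨F', hF'b, hF'p, ⟨eF'⟩, hiff⟩ := isZero_Tor_iff (ModuleCat.of A M) N p
    obtain ⟨f⟩ := tensor_iso (isKFlat_of_flat 0 hF'b fun j => flat_of_PR (hF'p j))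
      (isKFlat_of_flat c hFb fun j => flat_of_PR (hFp j)) (eF' ≪≫ eF.symm) (ModuleCat.of A M) (-(p : ℤ))
    exact (hiff.1 (ModuleCat.isZero_iff_subsingleton.2 (h N p (by omega)))).of_iso f.symm
  · intro h N _ _ p hp
    obtain ⟨F', hF'b, hF'p, ⟨eF'⟩, hiff⟩ := isZero_Tor_iff (ModuleCat.of A M) (ModuleCat.of A N) p
    exact ModuleCat.subsingleton_of_isZero
      (hiff.2 (h (ModuleCat.of A N) F' 0 hF'b hF'p eF' _ (by omega)))

end Groth.Agent.DR39
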