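import Groth.Agent.DR39.TA
import Groth.Agent.DR39.KFlatBC
import Groth.Agent.DR39.TensorCx
import Groth.Agent.DR39.Balance
import Groth.Agent.DR39.Derived
import Groth.Agent.DR39.HomAssoc
import Groth.Agent.DR39.BC

/-! Tor amplitude after restriction of scalars, via resolutions of the coefficient module. -/

set_option autoImplicit false
set_option linter.style.haveILetI false
set_option linter.unusedSectionVars false

universe u

open CategoryTheory CategoryTheory.Limits MonoidalCategory HomologicalComplex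
open scoped TensorProduct

attribute [local instance] HasDerivedCategory.standard

namespace Groth.Agent.DR39

variable {A B : Type u} [CommRing A] [CommRing B] (φ : A →+* B)

/-- Restriction of scalars of a complex. -/
noncomputable abbrev resCx (X : DRing.Cx B) : DRing.Cx A := (DRing.restrictCx φ).obj X

/-- `x ⊗ f ↦ x ⊗ (1 ⊗ f)` on a component. -/
noncomputable def jLin (X : DRing.Cx B) (F : DRing.Cx A) (p q n : ℤ) (h : p + q = n) :
    (resCx φ X).X p →ₗ[A] F.X q →ₗ[A] (resCx φ (X ⊗ extCx φ F)).X n where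
  toFun x :=
    { toFun := fun f => (show (resCx φ (X ⊗ extCx φ F)).X n from
        (ιTensorObj X (extCx φ F) p q n h).hom
          ((show X.X p from x) ⊗ₜ[B] (show (extCx φ F).X q from (oneL φ (F.X q)).hom f)))
      map_add' := fun f f' => by
        show (ιTensorObj X (extCx φ F) p q n h).hom ((show X.X p from x) ⊗ₜ[B]
          (show (extCx φ F).X q from (oneL φ (F.X q)).hom (f + f'))) = _
        rw [map_add]
        exact (congrArg (ιTensorObj X (extCx φ F) p q n h).hom (TensorProduct.tmul_add _ _ _)).trans (map_add _ _ _)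
      map_smul' := fun a f => by
        show (ιTensorObj X (extCx φ F) p q n h).hom ((show X.X p from x) ⊗ₜ[B]
          (show (extCx φ F).X q from (oneL φ (F.X q)).hom (a • f))) = φ a • _
        rw [map_smul]
        exact (congrArg (ιTensorObj X (extCx φ F) p q n h).hom (TensorProduct.tmul_smul (φ a) _ _)).trans
          (map_smul _ _ _) }
  map_add' x x' := LinearMap.ext fun f =>
    (congrArg (ιTensorObj X (extCx φ F) p q n h).hom (TensorProduct.add_tmul _ _ _)).trans (map_add _ _ _)
  map_smul' a x := LinearMap.ext fun f =>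
    (congrArg (ιTensorObj X (extCx φ F) p q n h).hom
      (TensorProduct.smul_tmul' (φ a) (show X.X p from x) (show (extCx φ F).X q from (oneL φ (F.X q)).hom f)).symm).trans
      (map_smul _ _ _)

/-- The comparison in degree `n`. -/
noncomputable def jX (X : DRing.Cx B) (F : DRing.Cx A) (n : ℤ) :
    (resCx φ X ⊗ F).X n ⟶ (resCx φ (X ⊗ extCx φ F)).X n :=
  mapBifunctorDesc fun p q h => ModuleCat.ofHom (Y := (resCx φ (X ⊗ extCx φ F)).X n) (TensorProduct.lift (jLin φ X F p q n h))

theorem jX_ι (X : DRing.Cx B) (F : DRing.Cx A) (p q n : ℤ) (h : p + q = n) (x : X.X p) (f : F.X q) :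
    (jX φ X F n).hom ((ιTensorObj (resCx φ X) F p q n h).hom ((show (resCx φ X).X p from x) ⊗ₜ[A] f)) =
      jLin φ X F p q n h x f := by
  have e : ιTensorObj (resCx φ X) F p q n h ≫ jX φ X F n =
      ModuleCat.ofHom (Y := (resCx φ (X ⊗ extCx φ F)).X n) (TensorProduct.lift (jLin φ X F p q n h)) := by
    rw [jX, ιTensorObj]
    erw [ι_mapBifunctorDesc]
    rfl
  exact (LinearMap.congr_fun (congrArg ModuleCat.Hom.hom e) _).trans (TensorProduct.lift.tmul _ _)

/-- `res X ⊗_A F → res (X ⊗_B (B ⊗_A F))`. -/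
noncomputable def jCx (X : DRing.Cx B) (F : DRing.Cx A) :
    resCx φ X ⊗ F ⟶ resCx φ (X ⊗ extCx φ F) where
  f n := jX φ X F n
  comm' n n' hn := by
    change n + 1 = n' at hn
    subst hn
    refine mapBifunctor.hom_ext fun p q hpq => ModuleCat.hom_ext (TensorProduct.ext' fun x f => ?_)
    change p + q = n at hpq
    show ((resCx φ (X ⊗ extCx φ F)).d n (n + 1)).hom ((jX φ X F n).hom
        ((ιTensorObj (resCx φ X) F p q n hpq).hom (x ⊗ₜ[A] f))) =
      (jX φ X F (n + 1)).hom (((resCx φ X ⊗ F).d n (n + 1)).hom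
        ((ιTensorObj (resCx φ X) F p q n hpq).hom (x ⊗ₜ[A] f)))
    rw [jX_ι, d_ι_tmul, map_add, LinearMap.map_smul_of_tower, jX_ι, jX_ι]
    exact d_ι_tmul (K := X) (L := extCx φ F) p q n hpq x ((oneL φ (F.X q)).hom f)

instance isIso_jCx (X : DRing.Cx B) (F : DRing.Cx A) : IsIso (jCx φ X F) := by
  haveI : ∀ n, IsIso ((jCx φ X F).f n) := fun n => by
    refine isIso_of_functionals _ (fun θ => ?_) fun θ hθ => ?_
    · let c : ∀ p q, p + q = n → X.X p → F.X q → CharacterModule A := fun p q h x f =>
        θ.hom ((ιTensorObj (resCx φ X) F p q n h).hom ((show (resCx φ X).X p from x) ⊗ₜ[A] f))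
      have hg : ∀ p q (h : p + q = n), ∃ g : X.X p →ₗ[B] (extCx φ F).X q →ₗ[B] CharacterModule B,
          ∀ x f b, (g x ((oneL φ (F.X q)).hom f) : CharacterModule B) b = c p q h (b • x) f (1 : A) := by
        intro p q h
        have hadd : ∀ x x' f, c p q h (x + x') f = c p q h x f + c p q h x' f := fun x x' f =>
          (congrArg θ.hom (congrArg (ιTensorObj (resCx φ X) F p q n h).hom
            (TensorProduct.add_tmul _ _ _))).trans (by rw [map_add, map_add])
        have hfadd : ∀ x f f', c p q h x (f + f') = c p q h x f + c p q h x f' := fun x f f' =>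
          (congrArg θ.hom (congrArg (ιTensorObj (resCx φ X) F p q n h).hom
            (TensorProduct.tmul_add _ _ _))).trans (by rw [map_add, map_add])
        have hsmul : ∀ x f a, c p q h x (a • f) = c p q h (φ a • x) f := fun x f a =>
          congrArg θ.hom (congrArg (ιTensorObj (resCx φ X) F p q n h).hom
            (TensorProduct.smul_tmul a (show (resCx φ X).X p from x) f).symm)
        let χ0 : X.X p → F.X q → CharacterModule B := fun x f =>
          AddMonoidHom.mk' (fun b => (c p q h (b • x) f : CharacterModule A) (1 : A)) fun b b' => by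
            show (c p q h ((b + b') • x) f : CharacterModule A) (1 : A) = _
            rw [add_smul, hadd]; rfl
        have χadd : ∀ x f f', χ0 x (f + f') = χ0 x f + χ0 x f' := fun x f f' => DFunLike.ext _ _ fun b => by
          show (c p q h (b • x) (f + f') : CharacterModule A) (1 : A) = _
          rw [hfadd]; rfl
        have χsmul : ∀ x f a, χ0 x (a • f) = φ a • χ0 x f := fun x f a => DFunLike.ext _ _ fun b => by
          show (c p q h (b • x) (a • f) : CharacterModule A) (1 : A) = (c p q h ((φ a • b) • x) f : CharacterModule A) (1 : A)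
          rw [hsmul, smul_assoc]
        let χ : X.X p → (F.X q ⟶ (ModuleCat.restrictScalars φ).obj (EA B)) := fun x =>
          ModuleCat.ofHom (Y := (ModuleCat.restrictScalars φ).obj (EA B))
            { toFun := fun f => χ0 x f
              map_add' := χadd x
              map_smul' := fun a f => χsmul x f a }
        let g : X.X p → ((extCx φ F).X q →ₗ[B] CharacterModule B) := fun x =>
          (ModuleCat.ExtendRestrictScalarsAdj.HomEquiv.fromExtendScalars φ (χ x)).hom
        have hg1 : ∀ x f b, (g x ((oneL φ (F.X q)).hom f) : CharacterModule B) b = c p q h (b • x) f (1 : A) :=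
          fun x f b => congrArg (fun t : CharacterModule B => t b) (LinearMap.congr_fun (congrArg ModuleCat.Hom.hom
            ((ModuleCat.ExtendRestrictScalarsAdj.homEquiv φ).apply_symm_apply (χ x))) f)
        have hext : ∀ u v : (extCx φ F).X q →ₗ[B] CharacterModule B,
            (∀ f b, (u ((oneL φ (F.X q)).hom f) : CharacterModule B) b = (v ((oneL φ (F.X q)).hom f) : CharacterModule B) b) →
            u = v := fun u v huv => congrArg ModuleCat.Hom.hom
          (ModuleCat.ExtendScalars.hom_ext
            (α := (ModuleCat.ofHom (X := (extCx φ F).X q) (Y := CharacterModule B) u :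
              (ModuleCat.extendScalars.{u, u, u} φ).obj (F.X q) ⟶ EA B))
            (β := ModuleCat.ofHom (X := (extCx φ F).X q) (Y := CharacterModule B) v)
            fun f => DFunLike.ext _ _ (huv f))
        refine ⟨{ toFun := g, map_add' := fun x x' => hext _ _ fun f b => ?_,
                  map_smul' := fun r x => hext _ _ fun f b => ?_ }, hg1⟩
        · show _ = (g x _ : CharacterModule B) b + (g x' _ : CharacterModule B) b
          rw [hg1, hg1, hg1, smul_add, hadd]
          rfl
        · rw [RingHom.id_apply, LinearMap.smul_apply, CharacterModule.smul_apply, hg1, hg1, smul_smul,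
            smul_eq_mul, mul_comm r b]
      choose g hg' using hg
      let Φ : (resCx φ (X ⊗ extCx φ F)).X n →ₗ[A] CharacterModule A :=
        toE (A := A) (N := (resCx φ (X ⊗ extCx φ F)).X n)
          (show CharacterModule ((resCx φ (X ⊗ extCx φ F)).X n) from
            ofE (A := B) (N := (X ⊗ extCx φ F).X n) (mkφ X (extCx φ F) g).hom)
      refine ⟨ModuleCat.ofHom (X := (resCx φ (X ⊗ extCx φ F)).X n) Φ, cmp_ext (resCx φ X) F fun p q h => LinearMap.ext fun x => LinearMap.ext fun f =>
        DFunLike.ext _ _ fun a => ?_⟩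
      show (Φ ((jX φ X F n).hom ((ιTensorObj (resCx φ X) F p q n h).hom (x ⊗ₜ[A] f))) : CharacterModule A) a =
        (θ.hom ((ιTensorObj (resCx φ X) F p q n h).hom (x ⊗ₜ[A] f)) : CharacterModule A) a
      rw [jX_ι]
      show (mkφ X (extCx φ F) g).hom (φ a • (ιTensorObj X (extCx φ F) p q n h).hom
        ((show X.X p from x) ⊗ₜ[B] (show (extCx φ F).X q from (oneL φ (F.X q)).hom f))) (1 : B) = _
      rw [← map_smul (ιTensorObj X (extCx φ F) p q n h).hom, TensorProduct.smul_tmul']
      refine (congrArg (fun t : CharacterModule B => t (1 : B)) (LinearMap.congr_fun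
        (LinearMap.congr_fun (cmp_mkφ X (extCx φ F) g p q h) _) _)).trans ?_
      rw [hg', one_smul]
      simp only [c]
      rw [show (θ.hom ((ιTensorObj (resCx φ X) F p q n h).hom (x ⊗ₜ[A] f)) : CharacterModule A) a =
        (a • θ.hom ((ιTensorObj (resCx φ X) F p q n h).hom (x ⊗ₜ[A] f)) : CharacterModule A) (1 : A) by
          rw [CharacterModule.smul_apply, smul_eq_mul, mul_one], ← map_smul, ← map_smul, TensorProduct.smul_tmul']
      rfl
    · let Θ : (X ⊗ extCx φ F).X n ⟶ EA B :=
        ModuleCat.ofHom (toE (A := B) (N := (X ⊗ extCx φ F).X n)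
          (ofE (N := (resCx φ (X ⊗ extCx φ F)).X n) θ.hom))
      have hΘ : Θ = 0 := cmp_ext X (extCx φ F) fun p q h => by
        rw [cmp_zero]
        refine LinearMap.ext fun x => ?_
        refine congrArg ModuleCat.Hom.hom (ModuleCat.ExtendScalars.hom_ext
            (α := (ModuleCat.ofHom (X := (extCx φ F).X q) (Y := CharacterModule B) (cmp X (extCx φ F) Θ p q h x) :
              (ModuleCat.extendScalars.{u, u, u} φ).obj (F.X q) ⟶ EA B))
            (β := 0) fun f => DFunLike.ext _ _ fun b => ?_)
        show θ.hom (b • (ιTensorObj X (extCx φ F) p q n h).hom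
          (x ⊗ₜ[B] (show (extCx φ F).X q from (oneL φ (F.X q)).hom f))) (1 : A) = 0
        rw [← map_smul, TensorProduct.smul_tmul']
        have := congrArg (fun t => (t.hom ((ιTensorObj (resCx φ X) F p q n h).hom
          ((show (resCx φ X).X p from b • x) ⊗ₜ[A] f)) : CharacterModule A) (1 : A)) hθ
        simp only [ModuleCat.hom_comp, LinearMap.comp_apply] at this
        erw [jX_ι] at this
        exact this
      refine ModuleCat.hom_ext (LinearMap.ext fun y => ?_)
      show θ.hom y = 0
      rw [← toE_ofE θ.hom]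
      refine DFunLike.ext _ _ fun a => ?_
      let z : (X ⊗ extCx φ F).X n := (a • y : (resCx φ (X ⊗ extCx φ F)).X n)
      have h1 := congrArg (fun t : (X ⊗ extCx φ F).X n ⟶ EA B => (t.hom z : CharacterModule B) (1 : B)) hΘ
      let χ : CharacterModule ((X ⊗ extCx φ F).X n) := ofE (N := (resCx φ (X ⊗ extCx φ F)).X n) θ.hom
      exact (toE_apply_one (A := B) χ z).symm.trans h1
  exact Hom.isIso_of_components _

variable {φ}

/-- Tor against `M` is computed by a free resolution of `M`. -/
theorem tor_iso (Y P F : DRing.Cx A) (hP : DRing.IsKFlat A P) (hF : DRing.IsKFlat A F)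
    (eP : (QA A).obj P ≅ (QA A).obj Y) [P.IsKProjective] [F.IsKProjective] (M : ModuleCat.{u} A)
    (eF : (QA A).obj F ≅ Dual.inD A M) (i : ℤ) :
    Nonempty ((DRing.tensorCx P M).homology i ≅ (Y ⊗ F).homology i) := by
  obtain ⟨p, hp⟩ := Q_map_surjective P Y eP.hom
  obtain ⟨f, hf⟩ := Q_map_surjective F (sgl M) eF.hom
  haveI : QuasiIso p := (DerivedCategory.isIso_Q_map_iff_quasiIso _ p).1 (by rw [hp]; infer_instance)
  haveI : QuasiIso f := (DerivedCategory.isIso_Q_map_iff_quasiIso _ f).1 (by rw [hf]; infer_instance)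
  haveI := quasiIso_whiskerRight hF p
  haveI := quasiIso_whiskerRight hP f
  haveI := isIso_toSingleTensor P M
  exact ⟨(HomologicalComplex.homologyFunctor _ _ i).mapIso
      (@asIso _ _ _ _ (toSingleTensor P M) (isIso_toSingleTensor P M) ≪≫ asIso (symm' P (sgl M))) ≪≫ (isoOfQuasiIsoAt (f ▷ P) i).symm ≪≫
    (HomologicalComplex.homologyFunctor _ _ i).mapIso (asIso (symm' F P)) ≪≫ isoOfQuasiIsoAt (p ▷ F) i⟩

/-- Tor amplitude through resolutions of the coefficient modules. -/
theorem ta_iff_resolution (Y : DRing.Cx A) (a b : ℤ) :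
    TA a b ((QA A).obj Y) ↔ ∀ (M : ModuleCat.{u} A) (F : DRing.Cx A), DRing.VanishesAbove F 0 →
      (∀ i, Module.Free A (F.X i)) → ∀ (_ : (QA A).obj F ≅ Dual.inD A M) (i : ℤ), (i < a ∨ b < i) →
        IsZero ((Y ⊗ F).homology i) := by
  haveI := SF.isKProjective_res Y
  haveI : IsIso ((QA A).map (SF.aug Y)) :=
    (DerivedCategory.isIso_Q_map_iff_quasiIso (ModuleCat.{u} A) _).2 inferInstance
  let eP : (QA A).obj (SF.res Y) ≅ (QA A).obj Y := asIso ((QA A).map (SF.aug Y))
  have hP : DRing.IsKFlat A (SF.res Y) := isKFlat_of_isKProjective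
  have key : ∀ (M : ModuleCat.{u} A) (F : DRing.Cx A), DRing.VanishesAbove F 0 →
      (∀ i, Module.Free A (F.X i)) → ∀ (_ : (QA A).obj F ≅ Dual.inD A M) (i : ℤ),
      Nonempty ((DRing.tensorCx (SF.res Y) M).homology i ≅ (Y ⊗ F).homology i) := fun M F hv hF eF i => by
    haveI := isKProjective_of_bddAbove F 0 hv fun i => proj_of_FR (hF i)
    exact tor_iso Y _ F hP (isKFlat_of_flat 0 hv fun i => flat_of_FR (hF i)) eP M eF i
  constructor
  · intro h M F hv hF eF i hi
    obtain ⟨G, hGv, hG, ⟨g⟩⟩ := (ta_iff_rep a b _).1 h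
    obtain ⟨t⟩ := tensor_iso hP (isKFlat_of_flat b (fun j hj => hGv j fun hm => absurd hm.2 (by omega)) hG)
      (eP ≪≫ g.symm) M i
    obtain ⟨s⟩ := key M F hv hF eF i
    refine IsZero.of_iso (IsZero.of_iso ?_ t) s.symm
    haveI := ModuleCat.subsingleton_of_isZero (hGv i fun hm => by obtain ⟨h1, h2⟩ := hm; omega)
    exact (isZero_tensorCx_iff G M i).2 fun x _ => ⟨0, Subsingleton.elim _ _⟩
  · intro h
    have h' : ∀ (M : ModuleCat.{u} A) i, (i < a ∨ b < i) → IsZero ((DRing.tensorCx (SF.res Y) M).homology i) :=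
      fun M i hi => by
        obtain ⟨F, hv, hF, ⟨eF⟩⟩ := exists_free_res (A := A) M
        obtain ⟨s⟩ := key M F hv hF eF i
        exact (h M F hv hF eF i hi).of_iso s
    refine (ta_iff a b (SF.res Y) hP eP).2 ⟨fun i hi => ?_, fun M i hi => h' M i (Or.inl hi)⟩
    exact IsZero.of_iso ((isZero_HF_Q_iff (SF.res Y) i).2 ((exT_self_iff _ i).1
      ((isZero_tensorCx_iff _ _ i).1 (h' _ i (Or.inr (by omega)))))) ((HF A i).mapIso eP).symm

theorem isZero_res_homology_iff (φ : A →+* B) (X : DRing.Cx B) (i : ℤ) :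
    IsZero ((resCx φ X).homology i) ↔ IsZero (X.homology i) :=
  (((X.sc i).mapHomologyIso (ModuleCat.restrictScalars φ))).isZero_iff.trans
    ⟨isZero_of_isZero_restrict' φ _, fun h => (ModuleCat.restrictScalars φ).map_isZero h⟩
where
  isZero_of_isZero_restrict' (φ : A →+* B) (M : ModuleCat.{u} B)
      (h : IsZero ((ModuleCat.restrictScalars φ).obj M)) : IsZero M := by
    haveI h' : Subsingleton ((ModuleCat.restrictScalars φ).obj M) := ModuleCat.subsingleton_of_isZero h
    haveI : Subsingleton M := h'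
    exact ModuleCat.isZero_of_subsingleton M

theorem isZero_res_tensor_iff (φ : A →+* B) (X : DRing.Cx B) (F : DRing.Cx A) (i : ℤ) :
    IsZero ((resCx φ X ⊗ F).homology i) ↔ IsZero ((X ⊗ extCx φ F).homology i) :=
  ((HomologicalComplex.homologyFunctor _ _ i).mapIso (asIso (jCx φ X F))).isZero_iff.trans
    (isZero_res_homology_iff φ _ i)

/-- A complex of flat modules in `[a, b]` shifts a cohomological window by `[a, b]`. -/
theorem isZero_tensor_of_window (F W : DRing.Cx A) (a b c d : ℤ) (hFv : DRing.VanishesOutside F a b)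
    (hF : ∀ i, Module.Flat A (F.X i)) (hW : ∀ i, (i < c ∨ d < i) → IsZero (W.homology i))
    (i : ℤ) (hi : i < a + c ∨ b + d < i) : IsZero ((F ⊗ W).homology i) := by
  have hFk : DRing.IsKFlat A F := isKFlat_of_flat b (fun j hj => hFv j (Or.inr hj)) hF
  have hex : ∀ j, (j < c ∨ d < j) → W.ExactAt j := fun j hj => (W.exactAt_iff_isZero_homology j).2 (hW j hj)
  haveI : W.IsLE d := (CochainComplex.isLE_iff _ _).2 fun j hj => hex j (Or.inr hj)
  haveI : W.IsGE c := (CochainComplex.isGE_iff _ _).2 fun j hj => hex j (Or.inl hj)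
  haveI : (W.truncLE d).IsGE c := (CochainComplex.isGE_iff _ _).2 fun j hj => by
    rw [exactAt_iff_isZero_homology]
    exact (hW j (Or.inl hj)).of_iso (isoOfQuasiIsoAt (W.ιTruncLE d) j)
  have q : ∀ {U V : DRing.Cx A} (f : U ⟶ V), QuasiIso f → QuasiIso (f ▷ F) := fun f h => by
    haveI := h; exact quasiIso_whiskerRight hFk f
  haveI h1 := q (W.ιTruncLE d) inferInstance
  haveI h2 := q ((W.truncLE d).πTruncGE c) inferInstance
  let W2 := (W.truncLE d).truncGE c
  have hz : ∀ r, (r < c ∨ d < r) → IsZero (W2.X r) := by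
    rintro r (hr | hr)
    · exact W2.isZero_of_isStrictlyGE c r hr
    · exact W2.isZero_of_isStrictlyLE d r hr
  refine IsZero.of_iso ?_ ((HomologicalComplex.homologyFunctor _ _ i).mapIso (asIso (symm' F W)) ≪≫
    (isoOfQuasiIsoAt (W.ιTruncLE d ▷ F) i).symm ≪≫ isoOfQuasiIsoAt ((W.truncLE d).πTruncGE c ▷ F) i)
  haveI := ModuleCat.subsingleton_of_isZero (isZero_tensor_X W2 F i fun p => by
    by_cases hp : p < c ∨ d < p
    · exact Or.inl (hz p hp)
    · exact Or.inr (hFv (i - p) (by omega)))
  exact (isZero_homology_iff _ i).2 fun x _ => ⟨0, Subsingleton.elim _ _⟩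

end Groth.Agent.DR39

namespace Groth.Agent.DR39

variable {R A B : Type u} [CommRing R] [CommRing A] [CommRing B]

/-- Restriction along a composite. -/
theorem resCx_comp (ψ : R →+* A) (φ : A →+* B) (χ : R →+* B) (h : φ.comp ψ = χ) (X : DRing.Cx B) :
    Nonempty (resCx ψ (resCx φ X) ≅ resCx χ X) := by
  subst h
  exact ⟨HomologicalComplex.Hom.isoOfComponents
    (fun i => (((ModuleCat.restrictScalarsComp ψ φ).app (X.X i)).symm :
      (resCx ψ (resCx φ X)).X i ≅ (resCx (φ.comp ψ) X).X i))
    fun i j _ => ((ModuleCat.restrictScalarsComp ψ φ).inv.naturality (X.d i j)).symm⟩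

theorem res_ext_tensor_iso [Algebra A B] (P G : DRing.Cx A) :
    Nonempty (resCx (algebraMap A B) (extCx (algebraMap A B) P) ⊗ G ≅
      resCx (algebraMap A B) (extCx (algebraMap A B) (P ⊗ G))) := by
  let W := resB (algebraMap A B)
  have e : ∀ Z : DRing.Cx A, Nonempty (resCx (algebraMap A B) (extCx (algebraMap A B) Z) ≅ sgl W ⊗ Z) := fun Z =>
    ⟨(show resCx (algebraMap A B) (extCx (algebraMap A B) Z) ≅
        ((tensorRight W).mapHomologicalComplex (ComplexShape.up ℤ)).obj Z from
      (NatIso.mapHomologicalComplex (extendRestrictIso (algebraMap A B)) (ComplexShape.up ℤ)).app Z) ≪≫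
      @asIso _ _ _ _ (toSingleTensor Z W) (isIso_toSingleTensor Z W) ≪≫ asIso (symm' Z (sgl W))⟩
  obtain ⟨e1⟩ := e P
  obtain ⟨e2⟩ := e (P ⊗ G)
  exact ⟨MonoidalCategory.whiskerRightIso e1 G ≪≫ α_ _ _ _ ≪≫ e2.symm⟩

theorem isZero_res_ext_tensor_iff [Algebra R A] [Algebra A B] [Module.FaithfullyFlat A B]
    (P : DRing.Cx A) (F : DRing.Cx R) (i : ℤ) :
    IsZero ((resCx (algebraMap R A) (resCx (algebraMap A B) (extCx (algebraMap A B) P)) ⊗ F).homology i) ↔
      IsZero ((resCx (algebraMap R A) P ⊗ F).homology i) := by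
  refine (isZero_res_tensor_iff (algebraMap R A) _ F i).trans
    (Iff.trans ?_ (isZero_res_tensor_iff (algebraMap R A) P F i).symm)
  obtain ⟨e⟩ := res_ext_tensor_iso (B := B) P (extCx (algebraMap R A) F)
  refine ((HomologicalComplex.homologyFunctor _ _ i).mapIso e).isZero_iff.trans ((isZero_res_homology_iff _ _ i).trans ?_)
  haveI := preservesFiniteLimits_extA (A := A) B
  exact ((((P ⊗ extCx (algebraMap R A) F).sc i).mapHomologyIso (extA A B))).isZero_iff.trans
    ⟨isZero_of_faithfullyFlat B _, fun h => (extA A B).map_isZero h⟩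

end Groth.Agent.DR39
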