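import Groth.Prelude.Def_KFlatSite
import Groth.Agent.DR39.Elem
import Mathlib.Algebra.Homology.HomotopyCategory.KInjective
import Mathlib.Algebra.Homology.HomotopyCategory.KProjective
import Mathlib.Algebra.Module.CharacterModule
import Mathlib.RingTheory.Flat.Basic
import Mathlib.Algebra.Module.Injective

/-! Character duality for tensor products of complexes: K-flatness versus K-injectivity of duals. -/

set_option autoImplicit false
set_option linter.style.haveILetI false
set_option linter.unusedSimpArgs false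

universe u

open CategoryTheory CategoryTheory.Limits MonoidalCategory HomologicalComplex
open scoped TensorProduct

namespace Groth.Agent.DR39

variable {A : Type u} [CommRing A]

/-- The injective cogenerator `Hom_ℤ(A, ℚ/ℤ)`. -/
abbrev EA (A : Type u) [CommRing A] : ModuleCat.{u} A := ModuleCat.of A (CharacterModule A)

/-- A character as a linear map to `EA`. -/
noncomputable def toE {N : Type u} [AddCommGroup N] [Module A N] (c : CharacterModule N) :
    N →ₗ[A] CharacterModule A where
  toFun x := c.comp (LinearMap.toSpanSingleton A N x).toAddMonoidHom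
  map_add' x y := by
    refine DFunLike.ext _ _ fun a => ?_
    show c (a • (x + y)) = c (a • x) + c (a • y)
    rw [smul_add, map_add]
  map_smul' r x := by
    refine DFunLike.ext _ _ fun a => ?_
    show c (a • r • x) = c ((r * a) • x)
    rw [smul_smul, mul_comm]

theorem toE_apply_one {N : Type u} [AddCommGroup N] [Module A N] (c : CharacterModule N) (x : N) :
    (toE c x : CharacterModule A) (1 : A) = c x := by
  show c ((1 : A) • x) = c x
  rw [one_smul]

/-- A linear map to `EA` as a character. -/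
noncomputable def ofE {N : Type u} [AddCommGroup N] [Module A N] (φ : N →ₗ[A] CharacterModule A) :
    CharacterModule N where
  toFun x := φ x (1 : A)
  map_zero' := by rw [map_zero]; rfl
  map_add' x y := by rw [map_add]; rfl

theorem toE_ofE {N : Type u} [AddCommGroup N] [Module A N] (φ : N →ₗ[A] CharacterModule A) :
    toE (ofE φ) = φ := by
  refine LinearMap.ext fun x => DFunLike.ext _ _ fun a => ?_
  show φ (a • x) (1 : A) = φ x a
  rw [map_smul, CharacterModule.smul_apply, smul_eq_mul, mul_one]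

theorem EA_extend {X Y : Type u} [AddCommGroup X] [Module A X] [AddCommGroup Y] [Module A Y]
    (ι : X →ₗ[A] Y) (hι : Function.Injective ι) (g : X →ₗ[A] CharacterModule A) :
    ∃ h : Y →ₗ[A] CharacterModule A, h ∘ₗ ι = g := by
  obtain ⟨c, hc⟩ := CharacterModule.dual_surjective_of_injective ι hι (ofE g)
  refine ⟨toE c, LinearMap.ext fun x => DFunLike.ext _ _ fun a => ?_⟩
  show c (a • ι x) = g x a
  rw [← map_smul]
  have : c (ι (a • x)) = g (a • x) (1 : A) := congrArg (fun t : CharacterModule X => t (a • x)) hc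
  rw [this, map_smul, CharacterModule.smul_apply, smul_eq_mul, mul_one]

theorem isZero_homology_iff_functionals (Z : CochainComplex (ModuleCat.{u} A) ℤ) (n : ℤ) :
    IsZero (Z.homology n) ↔ ∀ φ : Z.X n ⟶ EA A, Z.d (n - 1) n ≫ φ = 0 →
      ∃ ψ : Z.X (n + 1) ⟶ EA A, Z.d n (n + 1) ≫ ψ = φ := by
  rw [isZero_homology_iff]
  constructor
  · intro h φ hφ
    let d' := (LinearMap.ker (Z.d n (n + 1)).hom).liftQ (Z.d n (n + 1)).hom le_rfl
    have hd' : Function.Injective d' :=
      LinearMap.ker_eq_bot.1 (Submodule.ker_liftQ_eq_bot _ _ _ le_rfl)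
    have hker : LinearMap.ker (Z.d n (n + 1)).hom ≤ LinearMap.ker φ.hom := fun x hx => by
      obtain ⟨y, rfl⟩ := h x hx
      exact congrArg (fun t : Z.X (n - 1) ⟶ EA A => t.hom y) hφ
    obtain ⟨ψ, hψ⟩ := EA_extend d' hd' (Submodule.liftQ _ φ.hom hker)
    refine ⟨ModuleCat.ofHom ψ, ModuleCat.hom_ext (LinearMap.ext fun x => ?_)⟩
    exact LinearMap.congr_fun hψ (Submodule.Quotient.mk x)
  · intro h x hx
    by_contra hc
    let P := LinearMap.range (Z.d (n - 1) n).hom
    obtain ⟨c, hc'⟩ := CharacterModule.exists_character_apply_ne_zero_of_ne_zero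
      (a := P.mkQ x) (fun hh => hc ((Submodule.Quotient.mk_eq_zero P).1 hh))
    obtain ⟨ψ, hψ⟩ := h (ModuleCat.ofHom (toE (A := A) c ∘ₗ P.mkQ)) (ModuleCat.hom_ext (LinearMap.ext fun y => by
      show toE (A := A) c (P.mkQ ((Z.d (n - 1) n).hom y)) = 0
      rw [show P.mkQ ((Z.d (n - 1) n).hom y) = 0 from (Submodule.Quotient.mk_eq_zero P).2 ⟨y, rfl⟩, map_zero]))
    apply hc'
    rw [← toE_apply_one (A := A) c]
    have h2 := congrArg (fun t : Z.X n ⟶ EA A => t.hom x) hψ
    change ψ.hom ((Z.d n (n + 1)).hom x) = toE (A := A) c (P.mkQ x) at h2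
    rw [← h2, hx, map_zero]
    rfl

variable (M P : DRing.Cx A)

/-- Component of a functional on a tensor product of complexes. -/
noncomputable def cmp {n : ℤ} (φ : (M ⊗ P).X n ⟶ EA A) (p q : ℤ) (h : p + q = n) :
    M.X p →ₗ[A] P.X q →ₗ[A] CharacterModule A :=
  TensorProduct.curry (ιTensorObj M P p q n h ≫ φ).hom

theorem cmp_ext {n : ℤ} {φ φ' : (M ⊗ P).X n ⟶ EA A}
    (h : ∀ p q (hpq : p + q = n), cmp M P φ p q hpq = cmp M P φ' p q hpq) : φ = φ' := by
  apply mapBifunctor.hom_ext
  intro p q hpq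
  exact ModuleCat.hom_ext (TensorProduct.curry_injective (h p q hpq))

/-- Functional with given components. -/
noncomputable def mkφ {n : ℤ}
    (g : ∀ p q : ℤ, p + q = n → (M.X p →ₗ[A] P.X q →ₗ[A] CharacterModule A)) :
    (M ⊗ P).X n ⟶ EA A :=
  mapBifunctorDesc (fun p q h => ModuleCat.ofHom (TensorProduct.lift (g p q h)))

theorem cmp_mkφ {n : ℤ}
    (g : ∀ p q : ℤ, p + q = n → (M.X p →ₗ[A] P.X q →ₗ[A] CharacterModule A)) (p q : ℤ)
    (h : p + q = n) : cmp M P (mkφ M P g) p q h = g p q h := by
  refine LinearMap.ext fun m => LinearMap.ext fun x => ?_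
  show (ιTensorObj M P p q n h ≫ mkφ M P g).hom (m ⊗ₜ[A] x) = _
  rw [mkφ, ιTensorObj]
  erw [ι_mapBifunctorDesc]
  exact TensorProduct.lift.tmul m x

theorem cmp_zero {n : ℤ} (p q : ℤ) (h : p + q = n) : cmp M P (0 : (M ⊗ P).X n ⟶ EA A) p q h = 0 := by
  refine LinearMap.ext fun m => LinearMap.ext fun x => ?_
  show ((ιTensorObj M P p q n h ≫ (0 : (M ⊗ P).X n ⟶ EA A)).hom) (m ⊗ₜ[A] x) = _
  rw [Limits.comp_zero]; rfl

theorem cmp_d {n n' : ℤ} (hn : n' + 1 = n) (φ : (M ⊗ P).X n ⟶ EA A) (p p' q q' : ℤ)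
    (hp : p + 1 = p') (hq : q + 1 = q') (h : p + q = n') (m : M.X p) (x : P.X q) :
    cmp M P ((M ⊗ P).d n' n ≫ φ) p q h m x =
      cmp M P φ p' q (by omega) ((M.d p p').hom m) x +
        p.negOnePow • cmp M P φ p q' (by omega) m ((P.d q q').hom x) := by
  have e : ιTensorObj M P p q n' h ≫ (M ⊗ P).d n' n =
      (M.d p p' ▷ P.X q) ≫ ιTensorObj M P p' q n (by omega) +
        p.negOnePow • ((M.X p ◁ P.d q q') ≫ ιTensorObj M P p q' n (by omega)) := by
    show ιTensorObj M P p q n' h ≫ (mapBifunctor M P (curriedTensor _) _).d n' n = _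
    rw [mapBifunctor.d_eq, Preadditive.comp_add, mapBifunctor.ι_D₁, mapBifunctor.ι_D₂,
      mapBifunctor.d₁_eq M P (curriedTensor _) (ComplexShape.up ℤ) (show (ComplexShape.up ℤ).Rel p p' from hp) q n
        (show p' + q = n by omega),
      mapBifunctor.d₂_eq M P (curriedTensor _) (ComplexShape.up ℤ) p (show (ComplexShape.up ℤ).Rel q q' from hq) n
        (show p + q' = n by omega)]
    rw [show ComplexShape.ε₁ (ComplexShape.up ℤ) (ComplexShape.up ℤ) (ComplexShape.up ℤ) (p, q) = 1 from rfl,
      one_smul]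
    rfl
  show ((ιTensorObj M P p q n' h ≫ (M ⊗ P).d n' n ≫ φ).hom) (m ⊗ₜ[A] x) = _
  rw [← Category.assoc, e, Preadditive.add_comp, Linear.units_smul_comp, Category.assoc, Category.assoc]
  rfl

variable (n : ℤ)

/-- The character dual `p ↦ Hom(P^{n-p}, EA)`. -/
noncomputable def dualCx : DRing.Cx A where
  X p := ModuleCat.of A (P.X (n - p) →ₗ[A] CharacterModule A)
  d p p' := p'.negOnePow • ModuleCat.ofHom (LinearMap.lcomp A (CharacterModule A) (P.d (n - p') (n - p)).hom)
  shape p p' h := by
    have hh : ¬ (ComplexShape.up ℤ).Rel (n - p') (n - p) := fun hr => h (by simp at hr ⊢; omega)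
    rw [P.shape _ _ hh]
    ext χ : 2
    exact LinearMap.ext fun x => by simp
  d_comp_d' p p' p'' _ _ := by
    rw [Linear.units_smul_comp, Linear.comp_units_smul, smul_smul]
    have : ModuleCat.ofHom (LinearMap.lcomp A (CharacterModule A) (P.d (n - p') (n - p)).hom) ≫
        ModuleCat.ofHom (LinearMap.lcomp A (CharacterModule A) (P.d (n - p'') (n - p')).hom) = 0 := by
      ext χ : 2
      refine LinearMap.ext fun x => ?_
      show χ ((P.d (n - p') (n - p)).hom ((P.d (n - p'') (n - p')).hom x)) = 0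
      rw [d_apply_d, map_zero]
    rw [this, smul_zero]

variable {M P n}

/-- An element of the dual as a linear map. -/
noncomputable def toL (P : DRing.Cx A) (n p : ℤ) :
    (dualCx P n).X p →ₗ[A] (P.X (n - p) →ₗ[A] CharacterModule A) := LinearMap.id

theorem toL_injective (p : ℤ) : Function.Injective (toL P n p) := fun _ _ h => h

theorem dualCx_d_apply (p p' : ℤ) (χ : (dualCx P n).X p) (x : P.X (n - p')) :
    toL P n p' (((dualCx P n).d p p').hom χ) x =
      p'.negOnePow • toL P n p χ ((P.d (n - p') (n - p)).hom x) := rfl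

theorem tensorDual_homotopy_eq {g : M ⟶ dualCx P n} {φ : (M ⊗ P).X n ⟶ EA A}
    {ψ : (M ⊗ P).X (n + 1) ⟶ EA A}
    (hg : ∀ p, toL P n p ∘ₗ (g.f p).hom = cmp M P φ p (n - p) (by omega))
    (h : ∀ i j : ℤ, M.X i ⟶ (dualCx P n).X j)
    (hψ : ∀ i j, (hij : j + 1 = i) → toL P n j ∘ₗ (h i j).hom = cmp M P ψ i (n - j) (by omega)) :
    g = Homotopy.nullHomotopicMap h ↔ (M ⊗ P).d n (n + 1) ≫ ψ = φ := by
  have key : ∀ (p : ℤ) (m : M.X p) (x : P.X (n - p)),
      toL P n p (((Homotopy.nullHomotopicMap h).f p).hom m) x =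
        cmp M P ((M ⊗ P).d n (n + 1) ≫ ψ) p (n - p) (by omega) m x := by
    intro p m x
    rw [Homotopy.nullHomotopicMap_f (k₂ := p - 1) (k₀ := p + 1) (by simp) (by simp),
      cmp_d M P rfl ψ p (p + 1) (n - p) (n - (p - 1)) rfl (by omega) (by omega) m x,
      ← hψ (p + 1) p rfl, ← hψ p (p - 1) (by omega)]
    rfl
  constructor
  · intro e
    refine cmp_ext M P fun p q hpq => ?_
    obtain rfl : q = n - p := by omega
    refine LinearMap.ext fun m => LinearMap.ext fun x => ?_
    rw [← key, ← e, ← hg]; rfl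
  · intro e
    refine HomologicalComplex.hom_ext _ _ fun p => ModuleCat.hom_ext (LinearMap.ext fun m =>
      toL_injective p (LinearMap.ext fun x => ?_))
    exact (LinearMap.congr_fun (LinearMap.congr_fun (hg p) m) x).trans (by rw [key, e])

theorem isKFlat_iff_dual :
    DRing.IsKFlat A P ↔ ∀ n : ℤ, (dualCx P n).IsKInjective := by
  constructor
  · intro hP n
    refine ⟨fun {M} g hM => ?_⟩
    let φ : (M ⊗ P).X n ⟶ EA A := mkφ M P fun p q hpq =>
      (LinearMap.lcomp A (CharacterModule A) (P.XIsoOfEq (show q = n - p by omega)).hom.hom) ∘ₗ toL P n p ∘ₗ (g.f p).hom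
    have hg : ∀ p, toL P n p ∘ₗ (g.f p).hom = cmp M P φ p (n - p) (by omega) := fun p => by
      rw [cmp_mkφ, XIsoOfEq_rfl]; rfl
    have hφ : (M ⊗ P).d (n - 1) n ≫ φ = 0 := by
      refine cmp_ext M P fun p q hpq => ?_
      obtain rfl : q = n - (p + 1) := by omega
      refine LinearMap.ext fun m => LinearMap.ext fun x => ?_
      rw [cmp_zero, cmp_d M P (by omega) φ p (p + 1) _ (n - p) rfl (by omega), ← hg, ← hg]
      simp only [LinearMap.comp_apply]
      rw [f_apply_d, dualCx_d_apply]
      rw [Int.negOnePow_succ, Units.neg_smul, neg_add_cancel]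
      rfl
    obtain ⟨ψ, hψ⟩ := (isZero_homology_iff_functionals (M ⊗ P) n).1
      (hP M (fun i => (hM i).isZero_homology) n) φ hφ
    let h : ∀ i j : ℤ, M.X i ⟶ (dualCx P n).X j := fun i j =>
      if hij : j + 1 = i then ModuleCat.ofHom (cmp M P ψ i (n - j) (by omega)) else 0
    rw [(tensorDual_homotopy_eq hg h fun i j hij => by simp only [h, dif_pos hij]; rfl).2 hψ]
    exact ⟨Homotopy.nullHomotopy h fun i j hij => dif_neg fun hc => hij (by simpa using hc)⟩
  · intro hP M hM n
    haveI := hP n
    rw [isZero_homology_iff_functionals]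
    intro φ hφ
    let g : M ⟶ dualCx P n :=
      { f := fun p => ModuleCat.ofHom (cmp M P φ p (n - p) (by omega))
        comm' := fun p p' hp => by
          change p + 1 = p' at hp
          subst hp
          refine ModuleCat.hom_ext (LinearMap.ext fun m => toL_injective (p + 1) (LinearMap.ext fun x => ?_))
          show toL P n (p + 1) (((dualCx P n).d p (p + 1)).hom (cmp M P φ p (n - p) _ m)) x =
            cmp M P φ (p + 1) (n - (p + 1)) _ ((M.d p (p + 1)).hom m) x
          have := cmp_d M P (show n - 1 + 1 = n by omega) φ p (p + 1) (n - (p + 1)) (n - p) rfl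
            (by omega) (by omega) m x
          rw [hφ, cmp_zero] at this
          rw [dualCx_d_apply, eq_neg_of_add_eq_zero_left this.symm, Int.negOnePow_succ, Units.neg_smul]
          rfl }
    have hac : M.Acyclic := fun i => (exactAt_iff_isZero_homology M i).2 (hM i)
    let H : Homotopy g 0 := CochainComplex.IsKInjective.homotopyZero g hac
    let ψ : (M ⊗ P).X (n + 1) ⟶ EA A := mkφ M P fun p q _ =>
      (LinearMap.lcomp A (CharacterModule A) (P.XIsoOfEq (show q = n - (n - q) by omega)).hom.hom) ∘ₗ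
        toL P n (n - q) ∘ₗ (H.hom p (n - q)).hom
    refine ⟨ψ, (tensorDual_homotopy_eq (g := g) (φ := φ) (fun p => rfl) H.hom fun i j hij => ?_).1 ?_⟩
    · rw [cmp_mkφ]
      have aux : ∀ (j' : ℤ) (e : n - j = n - j'), j' = j →
          (LinearMap.lcomp A (CharacterModule A) (P.XIsoOfEq e).hom.hom) ∘ₗ toL P n j' ∘ₗ (H.hom i j').hom =
            toL P n j ∘ₗ (H.hom i j).hom := by
        rintro j' e rfl
        rw [XIsoOfEq_rfl]; rfl
      exact (aux _ _ (by omega)).symm
    · refine HomologicalComplex.hom_ext _ _ fun p => ?_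
      rw [H.comm p, dNext_eq H.hom (show (ComplexShape.up ℤ).Rel p (p + 1) by simp),
        prevD_eq H.hom (show (ComplexShape.up ℤ).Rel (p - 1) p by simp),
        Homotopy.nullHomotopicMap_f (k₂ := p - 1) (k₀ := p + 1) (by simp) (by simp)]
      simp

/-- Bounded above complexes of flat modules are K-flat. -/
theorem isKFlat_of_flat (b : ℤ) (hb : ∀ i, b < i → IsZero (P.X i)) (hP : ∀ i, Module.Flat A (P.X i)) :
    DRing.IsKFlat A P := by
  rw [isKFlat_iff_dual]
  intro n
  haveI : ∀ p, Injective ((dualCx P n).X p) := fun p => ⟨fun {X Y} g ι hι => by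
    haveI := hP (n - p)
    have hinj := (ModuleCat.mono_iff_injective ι).1 hι
    obtain ⟨h, hh⟩ := EA_extend (LinearMap.rTensor (P.X (n - p)) ι.hom)
      (Module.Flat.rTensor_preserves_injective_linearMap ι.hom hinj) (TensorProduct.lift g.hom)
    refine ⟨ModuleCat.ofHom (TensorProduct.curry h),
      ModuleCat.hom_ext (LinearMap.ext fun a => LinearMap.ext fun x => ?_)⟩
    exact (LinearMap.congr_fun hh (a ⊗ₜ x)).trans (TensorProduct.lift.tmul a x)⟩
  haveI : CochainComplex.IsStrictlyGE (dualCx P n) (n - b) := by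
    rw [CochainComplex.isStrictlyGE_iff]
    intro p hp
    haveI : Subsingleton (P.X (n - p)) := ModuleCat.subsingleton_of_isZero (hb _ (by omega))
    exact ModuleCat.isZero_of_subsingleton (ModuleCat.of A (P.X (n - p) →ₗ[A] CharacterModule A))
  exact CochainComplex.isKInjective_of_injective _ (n - b)

/-- K-projective complexes are K-flat. -/
theorem isKFlat_of_isKProjective [P.IsKProjective] : DRing.IsKFlat A P := by
  intro M hM n
  rw [isZero_homology_iff_functionals]
  intro φ hφ
  let g : P ⟶ dualCx M n :=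
    { f := fun q => ModuleCat.ofHom
        ((((n + 1) * q).negOnePow : ℤˣ) • (cmp M P φ (n - q) q (by omega)).flip)
      comm' := fun q q' hq => by
        change q + 1 = q' at hq
        subst hq
        refine ModuleCat.hom_ext (LinearMap.ext fun x => toL_injective (q + 1) (LinearMap.ext fun m => ?_))
        show toL M n (q + 1) (((dualCx M n).d q (q + 1)).hom
            ((((n + 1) * q).negOnePow : ℤˣ) • (cmp M P φ (n - q) q (by omega)).flip x)) m =
          (((n + 1) * (q + 1)).negOnePow : ℤˣ) •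
            cmp M P φ (n - (q + 1)) (q + 1) (by omega) m ((P.d q (q + 1)).hom x)
        have := cmp_d M P (show n - 1 + 1 = n by omega) φ (n - (q + 1)) (n - q) q (q + 1)
          (by omega) rfl (by omega) m x
        rw [hφ, cmp_zero] at this
        rw [dualCx_d_apply]
        show (q + 1).negOnePow • (((n + 1) * q).negOnePow •
          cmp M P φ (n - q) q (by omega) ((M.d (n - (q + 1)) (n - q)).hom m) x) = _
        rw [eq_neg_of_add_eq_zero_left this.symm, smul_neg, smul_neg, smul_smul, smul_smul,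
          ← Units.neg_smul]
        congr 1
        rw [← Int.negOnePow_add, ← Int.negOnePow_add, ← Int.negOnePow_succ, Int.negOnePow_eq_iff]
        exact ⟨0, by ring⟩ }
  have hd : (dualCx M n).Acyclic := by
    intro q
    rw [exactAt_iff_isZero_homology, isZero_homology_iff]
    intro χ hχ
    let d' := (LinearMap.ker (M.d (n - q) (n - (q - 1))).hom).liftQ
      (M.d (n - q) (n - (q - 1))).hom le_rfl
    have hd' : Function.Injective d' :=
      LinearMap.ker_eq_bot.1 (Submodule.ker_liftQ_eq_bot _ _ _ le_rfl)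
    have hker : LinearMap.ker (M.d (n - q) (n - (q - 1))).hom ≤
        LinearMap.ker (toL M n q χ) := by
      intro m hm
      obtain ⟨y, rfl⟩ : m ∈ LinearMap.range (M.d (n - (q + 1)) (n - q)).hom := by
        have key : ∀ i j, i + 1 = n - (q - 1) → j = i - 1 → ∀ m : M.X i,
            (M.d i (n - (q - 1))).hom m = 0 → m ∈ LinearMap.range (M.d j i).hom := by
          intro i j hi hj m hm
          subst hj
          rw [← hi] at hm
          exact (isZero_homology_iff M i).1 (hM i) m hm
        exact key _ _ (by omega) (by omega) m hm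
      have := congrArg (fun t => toL M n (q + 1) t y) hχ
      simp only [dualCx_d_apply, map_zero, LinearMap.zero_apply, smul_eq_zero_iff_eq] at this
      exact this
    obtain ⟨χ', hχ'⟩ := EA_extend d' hd'
      (Submodule.liftQ _ (toL M n q χ) hker)
    refine ⟨(q.negOnePow • χ' : M.X (n - (q - 1)) →ₗ[A] CharacterModule A), toL_injective q (LinearMap.ext fun m => ?_)⟩
    rw [dualCx_d_apply]
    show q.negOnePow • q.negOnePow • χ' (d' (Submodule.Quotient.mk m)) = _
    rw [smul_smul, Int.units_mul_self, one_smul]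
    exact LinearMap.congr_fun hχ' (Submodule.Quotient.mk m)
  let H : Homotopy g 0 := CochainComplex.IsKProjective.homotopyZero g hd
  let hh : ∀ p q j : ℤ, p = n - j → (M.X p →ₗ[A] P.X q →ₗ[A] CharacterModule A) := fun p q j e =>
    (toL M n j ∘ₗ (H.hom q j).hom).flip ∘ₗ (M.XIsoOfEq e).hom.hom
  let ψ : (M ⊗ P).X (n + 1) ⟶ EA A := mkφ M P fun p q _ =>
    ((n * q).negOnePow : ℤˣ) • hh p q (n - p) (by omega)
  have hψ : ∀ p q j (e : p = n - j) (hpq : p + q = n + 1) (m : M.X (n - j)) (x : P.X q),
      cmp M P ψ p q hpq ((M.XIsoOfEq e).inv.hom m) x =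
        (n * q).negOnePow • toL M n j ((H.hom q j).hom x) m := by
    intro p q j e hpq m x
    subst e
    rw [cmp_mkφ]
    have aux : ∀ j' (e' : n - j = n - j'), j' = j →
        hh (n - j) q j' e' m x = toL M n j ((H.hom q j).hom x) m := by
      rintro j' e' rfl
      simp only [hh, XIsoOfEq_rfl]
      rfl
    show (n * q).negOnePow • hh (n - j) q (n - (n - j)) _ m x = _
    rw [aux _ _ (by omega)]
  refine ⟨ψ, cmp_ext M P fun p q hpq => ?_⟩
  obtain rfl : p = n - q := by omega
  refine LinearMap.ext fun m => LinearMap.ext fun x => ?_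
  have hcomm : ((n + 1) * q).negOnePow • cmp M P φ (n - q) q (by omega) m x =
      toL M n q ((H.hom (q + 1) q).hom ((P.d q (q + 1)).hom x)) m +
        q.negOnePow • toL M n (q - 1) ((H.hom q (q - 1)).hom x) ((M.d (n - q) (n - (q - 1))).hom m) := by
    have := congrArg (fun t : P.X q ⟶ (dualCx M n).X q => toL M n q (t.hom x) m) (H.comm q)
    rw [dNext_eq H.hom (show (ComplexShape.up ℤ).Rel q (q + 1) by simp),
      prevD_eq H.hom (show (ComplexShape.up ℤ).Rel (q - 1) q by simp)] at this
    simp only [HomologicalComplex.zero_f, ModuleCat.hom_add, ModuleCat.hom_comp,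
      ModuleCat.hom_zero, LinearMap.add_apply, LinearMap.comp_apply, LinearMap.zero_apply, map_add,
      map_zero, add_zero, dualCx_d_apply] at this
    exact this
  rw [cmp_d M P rfl ψ (n - q) (n - (q - 1)) q (q + 1) (by omega) rfl]
  have e1 := hψ (n - (q - 1)) q (q - 1) rfl (by omega) ((M.d (n - q) (n - (q - 1))).hom m) x
  have e2 := hψ (n - q) (q + 1) q rfl (by omega) m ((P.d q (q + 1)).hom x)
  simp only [XIsoOfEq_rfl] at e1 e2
  erw [e1, e2]
  apply (MulAction.injective ((((n + 1) * q).negOnePow : ℤˣ)))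
  simp only
  rw [hcomm, smul_add, smul_smul, smul_smul, smul_smul, ← Int.negOnePow_add, ← Int.negOnePow_add,
    ← Int.negOnePow_add, add_comm (toL M n q ((H.hom (q + 1) q).hom _) m)]
  congr 1
  · congr 1
    rw [Int.negOnePow_eq_iff]
    exact ⟨n * q, by ring⟩
  · rw [show ((n + 1) * q + (n - q) + n * (q + 1)).negOnePow = 1 by
      rw [Int.negOnePow_eq_one_iff]; exact ⟨n * q + n, by ring⟩, one_smul]

end Groth.Agent.DR39
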