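import Groth.Agent.DR39.DBasic
import Mathlib.LinearAlgebra.TensorProduct.Prod
import Mathlib.LinearAlgebra.Basis.Prod
import Mathlib.RingTheory.Finiteness.Prod

/-! Objects of `D(A)` represented by complexes with terms in a given class and supported in a given set of degrees. -/

set_option autoImplicit false
set_option linter.style.haveILetI false
set_option linter.unusedSectionVars false

universe u

open CategoryTheory CategoryTheory.Limits CategoryTheory.Pretriangulated

attribute [local instance] HasDerivedCategory.standard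

namespace Groth.Agent.DR39

variable {A : Type u} [CommRing A]

/-- A class of modules closed under isomorphisms, zero and binary products. -/
structure IsModClass (P : ModuleCat.{u} A → Prop) : Prop where
  of_iso : ∀ {M N : ModuleCat.{u} A}, (M ≅ N) → P M → P N
  of_isZero : ∀ {M : ModuleCat.{u} A}, IsZero M → P M
  prod : ∀ M N : ModuleCat.{u} A, P M → P N → P (ModuleCat.of A (M × N))

theorem flat_prod (M N : Type u) [AddCommGroup M] [Module A M] [AddCommGroup N] [Module A N]
    [Module.Flat A M] [Module.Flat A N] : Module.Flat A (M × N) := by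
  rw [Module.Flat.iff_rTensor_injective']
  intro I x y h
  apply (TensorProduct.prodRight A A I M N).injective
  have key : ∀ z : TensorProduct A I (M × N),
      TensorProduct.prodRight A A A M N (I.subtype.rTensor (M × N) z) =
        ((I.subtype.rTensor M) (TensorProduct.prodRight A A I M N z).1,
          (I.subtype.rTensor N) (TensorProduct.prodRight A A I M N z).2) := by
    intro z
    induction z using TensorProduct.induction_on with
    | zero => simp [Prod.zero_eq_mk]
    | tmul a p => obtain ⟨m, n⟩ := p; simp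
    | add a b ha hb => simp [map_add, ha, hb]
  have h' := congrArg (TensorProduct.prodRight A A A M N) h
  rw [key, key, Prod.mk.injEq] at h'
  exact Prod.ext (Module.Flat.iff_rTensor_injective'.1 inferInstance I h'.1)
    (Module.Flat.iff_rTensor_injective'.1 inferInstance I h'.2)

/-- Finite free modules. -/
def FFp (M : ModuleCat.{u} A) : Prop := Module.Finite A M ∧ Module.Free A M

/-- Finite projective modules. -/
def FPp (M : ModuleCat.{u} A) : Prop := Module.Finite A M ∧ Module.Projective A M

/-- Projective modules. -/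
def PRp (M : ModuleCat.{u} A) : Prop := Module.Projective A M

/-- Flat modules. -/
def FLp (M : ModuleCat.{u} A) : Prop := Module.Flat A M

theorem finite_of_isZero {M : ModuleCat.{u} A} (h : IsZero M) : Module.Finite A M :=
  haveI := ModuleCat.subsingleton_of_isZero h
  Module.Finite.of_finite

theorem free_of_isZero {M : ModuleCat.{u} A} (h : IsZero M) : Module.Free A M :=
  haveI := ModuleCat.subsingleton_of_isZero h
  Module.Free.of_subsingleton A M

theorem isModClass_FF : IsModClass (FFp (A := A)) where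
  of_iso e h := by
    haveI := h.1; haveI := h.2
    exact ⟨Module.Finite.equiv e.toLinearEquiv, Module.Free.of_equiv e.toLinearEquiv⟩
  of_isZero h := ⟨finite_of_isZero h, free_of_isZero h⟩
  prod M N hM hN := by
    haveI := hM.1; haveI := hM.2; haveI := hN.1; haveI := hN.2
    exact ⟨(inferInstance : Module.Finite A (M × N)), (inferInstance : Module.Free A (M × N))⟩

theorem isModClass_PR : IsModClass (PRp (A := A)) where
  of_iso e h := by haveI : Module.Projective A _ := h; exact Module.Projective.of_equiv e.toLinearEquiv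
  of_isZero h := by haveI := free_of_isZero h; exact Module.Projective.of_free
  prod M N hM hN := by
    haveI : Module.Projective A M := hM; haveI : Module.Projective A N := hN
    exact (inferInstance : Module.Projective A (M × N))

theorem isModClass_FP : IsModClass (FPp (A := A)) where
  of_iso e h := by haveI := h.1; exact ⟨Module.Finite.equiv e.toLinearEquiv, isModClass_PR.of_iso e h.2⟩
  of_isZero h := ⟨finite_of_isZero h, isModClass_PR.of_isZero h⟩
  prod M N hM hN := by
    haveI := hM.1; haveI := hN.1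
    exact ⟨(inferInstance : Module.Finite A (M × N)), isModClass_PR.prod M N hM.2 hN.2⟩

theorem isModClass_FL : IsModClass (FLp (A := A)) where
  of_iso e h := by haveI : Module.Flat A _ := h; exact Module.Flat.of_linearEquiv e.toLinearEquiv.symm
  of_isZero h := by haveI := free_of_isZero h; exact Module.Flat.of_free
  prod M N hM hN := by
    haveI : Module.Flat A M := hM; haveI : Module.Flat A N := hN
    exact flat_prod M N

theorem proj_of_FF {M : ModuleCat.{u} A} (h : FFp M) : Module.Projective A M :=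
  haveI := h.2
  Module.Projective.of_free

theorem proj_of_FP {M : ModuleCat.{u} A} (h : FPp M) : Module.Projective A M := h.2

theorem FP_of_FF {M : ModuleCat.{u} A} (h : FFp M) : FPp M := ⟨h.1, proj_of_FF h⟩

/-- `X` is the class of a complex with terms in `P`, supported in the degrees `S`. -/
def Rep (P : ModuleCat.{u} A → Prop) (S : Set ℤ) (X : Dual.D A) : Prop :=
  ∃ E : DRing.Cx A, (∀ i, i ∉ S → IsZero (E.X i)) ∧ (∀ i, P (E.X i)) ∧
    Nonempty ((QA A).obj E ≅ X)

theorem vanishesOutside_iff (E : DRing.Cx A) (a b : ℤ) :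
    DRing.VanishesOutside E a b ↔ ∀ i, i ∉ Set.Icc a b → IsZero (E.X i) :=
  ⟨fun h i hi => h i (by rw [Set.mem_Icc] at hi; omega),
    fun h i hi => h i (by rw [Set.mem_Icc]; omega)⟩

theorem vanishesAbove_iff (E : DRing.Cx A) (b : ℤ) :
    DRing.VanishesAbove E b ↔ ∀ i, i ∉ Set.Iic b → IsZero (E.X i) :=
  ⟨fun h i hi => h i (by rw [Set.mem_Iic] at hi; omega),
    fun h i hi => h i (by rw [Set.mem_Iic]; omega)⟩

namespace Rep

variable {P : ModuleCat.{u} A → Prop} {S T U : Set ℤ} {X Y : Dual.D A}

theorem of_iso (h : Rep P S X) (e : X ≅ Y) : Rep P S Y := by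
  obtain ⟨E, h1, h2, ⟨f⟩⟩ := h
  exact ⟨E, h1, h2, ⟨f ≪≫ e⟩⟩

theorem mono (h : Rep P S X) (hST : S ⊆ T) : Rep P T X := by
  obtain ⟨E, h1, h2, h3⟩ := h
  exact ⟨E, fun i hi => h1 i fun h => hi (hST h), h2, h3⟩

theorem weaken {P' : ModuleCat.{u} A → Prop} (h : Rep P S X) (hP : ∀ M, P M → P' M) : Rep P' S X := by
  obtain ⟨E, h1, h2, h3⟩ := h
  exact ⟨E, h1, fun i => hP _ (h2 i), h3⟩

theorem of_isZero (hP : IsModClass P) (hX : IsZero X) : Rep P S X := by
  refine ⟨HomologicalComplex.zero, fun i _ => ?_, fun i => ?_, ⟨?_⟩⟩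
  · exact isZero_zero _
  · exact hP.of_isZero (isZero_zero _)
  · exact ((QA A).map_isZero HomologicalComplex.isZero_zero).iso hX

theorem shift (h : Rep P S X) (n : ℤ) (hT : ∀ i, i + n ∈ S → i ∈ T) : Rep P T (X⟦n⟧) := by
  obtain ⟨E, h1, h2, ⟨e⟩⟩ := h
  exact ⟨E⟦n⟧, fun i hi => h1 (i + n) fun h => hi (hT i h), fun i => h2 (i + n),
    ⟨((QA A).commShiftIso n).app E ≪≫ (shiftFunctor (Dual.D A) n).mapIso e⟩⟩

end Rep

/-- Lifting a morphism and taking its cone. -/
theorem Rep.cone {P : ModuleCat.{u} A → Prop} (hP : IsModClass P) {S S' U : Set ℤ} {b : ℤ}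
    (hS : S ⊆ Set.Iic b) {T : Triangle (Dual.D A)} (hT : T ∈ distinguishedTriangles)
    (h₁ : Rep P S T.obj₁) (hproj : ∀ M, P M → Module.Projective A M) (h₂ : Rep P S' T.obj₂)
    (hU : ∀ i, i + 1 ∈ S ∨ i ∈ S' → i ∈ U) : Rep P U T.obj₃ := by
  obtain ⟨E, hE, hEP, ⟨e₁⟩⟩ := h₁
  obtain ⟨F, hF, hFP, ⟨e₂⟩⟩ := h₂
  haveI := isKProjective_of_bddAbove E b
    (fun i hi => hE i fun h => absurd (Set.mem_Iic.1 (hS h)) (by omega)) (fun i => hproj _ (hEP i))
  obtain ⟨f, hf⟩ := Q_map_surjective E F (e₁.hom ≫ T.mor₁ ≫ e₂.inv)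
  refine ⟨CochainComplex.mappingCone f, fun i hi => ?_, fun i => ?_, ⟨?_⟩⟩
  · refine IsZero.of_iso ?_ (HomologicalComplex.homotopyCofiber.XIsoBiprod f i (i + 1) rfl)
    exact (biprod_isZero_iff _ _).2
      ⟨hE _ fun h => hi (hU i (Or.inl h)), hF _ fun h => hi (hU i (Or.inr h))⟩
  · exact hP.of_iso ((ModuleCat.biprodIsoProd _ _).symm ≪≫
      (HomologicalComplex.homotopyCofiber.XIsoBiprod f i (i + 1) rfl).symm)
      (hP.prod _ _ (hEP (i + 1)) (hFP i))
  · exact Triangle.π₃.mapIso (isoTriangleOfIso₁₂ _ T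
      (DerivedCategory.mappingCone_triangle_distinguished f) hT e₁ e₂ (by
        change (QA A).map f ≫ e₂.hom = e₁.hom ≫ T.mor₁
        erw [hf]
        simp))

/-- The single complex. -/
theorem Rep.single {P : ModuleCat.{u} A → Prop} (hP : IsModClass P) (n : ℤ) {M : ModuleCat.{u} A}
    (hM : P M) : Rep P {n} ((DerivedCategory.singleFunctor (ModuleCat.{u} A) n).obj M) := by
  refine ⟨(HomologicalComplex.single (ModuleCat.{u} A) (ComplexShape.up ℤ) n).obj M, fun i hi => ?_,
    fun i => ?_, ⟨Iso.refl _⟩⟩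
  · exact HomologicalComplex.isZero_single_obj_X _ _ _ _ (by simpa using hi)
  · by_cases h : i = n
    · subst h
      exact hP.of_iso (HomologicalComplex.singleObjXSelf (ComplexShape.up ℤ) i M).symm hM
    · exact hP.of_isZero (HomologicalComplex.isZero_single_obj_X _ _ _ _ h)

/-- `single n M` as a shift of `inD M`. -/
noncomputable def singleShiftIso (M : ModuleCat.{u} A) (n k : ℤ) (h : n + k = 0) :
    (Dual.inD A M)⟦k⟧ ≅ (DerivedCategory.singleFunctor (ModuleCat.{u} A) n).obj M :=
  ((DerivedCategory.singleFunctors (ModuleCat.{u} A)).shiftIso k n 0 (by omega)).app M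

/-- An object concentrated in one degree. -/
theorem exists_iso_single_homology (X : Dual.D A) (n : ℤ)
    (h : ∀ i, i ≠ n → IsZero ((HF A i).obj X)) :
    Nonempty (X ≅ (DerivedCategory.singleFunctor (ModuleCat.{u} A) n).obj ((HF A n).obj X)) := by
  haveI : X.IsGE n := (DerivedCategory.isGE_iff X n).2 fun i hi => h i (by omega)
  haveI : X.IsLE n := (DerivedCategory.isLE_iff X n).2 fun i hi => h i (by omega)
  obtain ⟨Y, ⟨e⟩⟩ := DerivedCategory.exists_iso_singleFunctor_obj_of_isGE_of_isLE X n
  refine ⟨e ≪≫ (DerivedCategory.singleFunctor (ModuleCat.{u} A) n).mapIso (Iso.symm ?_)⟩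
  exact (HF A n).mapIso e ≪≫
    HQIso ((HomologicalComplex.single (ModuleCat.{u} A) (ComplexShape.up ℤ) n).obj Y) n ≪≫
    HomologicalComplex.singleObjHomologySelfIso (ComplexShape.up ℤ) n Y

theorem acyc_single (M : ModuleCat.{u} A) (n m : ℤ) (h : n < m) :
    Acyc m ((DerivedCategory.singleFunctor (ModuleCat.{u} A) n).obj M) := fun i hi =>
  DerivedCategory.isZero_of_isLE _ n i (by omega)

theorem Rep.acyc {P : ModuleCat.{u} A → Prop} {S : Set ℤ} {m : ℤ} {X : Dual.D A} (h : Rep P S X)
    (hS : ∀ i, i ∈ S → i < m) : Acyc m X := by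
  obtain ⟨E, hE, -, ⟨e⟩⟩ := h
  refine Acyc.of_iso (fun i hi => (isZero_HF_Q_iff E i).2 ((isZero_homology_iff E i).2 fun x _ => ?_)) e
  haveI := ModuleCat.subsingleton_of_isZero (hE i fun h => absurd (hS i h) (by omega))
  exact ⟨0, Subsingleton.elim _ _⟩

end Groth.Agent.DR39
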