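import Groth.Agent.DR39.TensorDual
import Mathlib.Algebra.Homology.DerivedCategory.KInjective
import Mathlib.Algebra.Homology.HomologicalComplexAbelian
import Mathlib.Algebra.Homology.HomologySequence

/-! Functoriality of character duality: tensoring preserves quasi-isomorphisms and short exact sequences. -/

set_option autoImplicit false
set_option linter.style.haveILetI false
set_option linter.unusedSimpArgs false

universe u

open CategoryTheory CategoryTheory.Limits MonoidalCategory HomologicalComplex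
open scoped TensorProduct

namespace Groth.Agent.DR39

variable {A : Type u} [CommRing A] {M M' P Q : DRing.Cx A} {n : ℤ}

/-- The functional attached to a morphism to the dual. -/
noncomputable def phiOf (g : M ⟶ dualCx P n) : (M ⊗ P).X n ⟶ EA A :=
  mkφ M P fun p q hpq =>
    (LinearMap.lcomp A (CharacterModule A) (P.XIsoOfEq (show q = n - p by omega)).hom.hom) ∘ₗ
      toL P n p ∘ₗ (g.f p).hom

theorem cmp_phiOf (g : M ⟶ dualCx P n) (p : ℤ) :
    cmp M P (phiOf g) p (n - p) (by omega) = toL P n p ∘ₗ (g.f p).hom := by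
  rw [phiOf, cmp_mkφ, XIsoOfEq_rfl]; rfl

theorem cmp_ext' {φ φ' : (M ⊗ P).X n ⟶ EA A}
    (h : ∀ p, cmp M P φ p (n - p) (by omega) = cmp M P φ' p (n - p) (by omega)) : φ = φ' :=
  cmp_ext M P fun p q hpq => by
    obtain rfl : q = n - p := by omega
    exact h p

theorem d_phiOf (g : M ⟶ dualCx P n) : (M ⊗ P).d (n - 1) n ≫ phiOf g = 0 := by
  refine cmp_ext M P fun p q hpq => ?_
  obtain rfl : q = n - (p + 1) := by omega
  refine LinearMap.ext fun m => LinearMap.ext fun x => ?_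
  rw [cmp_zero, cmp_d M P (by omega) (phiOf g) p (p + 1) _ (n - p) rfl (by omega), cmp_phiOf, cmp_phiOf]
  simp only [LinearMap.comp_apply]
  rw [f_apply_d, dualCx_d_apply, Int.negOnePow_succ, Units.neg_smul, neg_add_cancel]
  rfl

theorem exists_eq_phiOf (φ : (M ⊗ P).X n ⟶ EA A) (hφ : (M ⊗ P).d (n - 1) n ≫ φ = 0) :
    ∃ g : M ⟶ dualCx P n, phiOf g = φ := by
  refine ⟨{ f := fun p => ModuleCat.ofHom (cmp M P φ p (n - p) (by omega))
            comm' := fun p p' hp => ?_ }, cmp_ext' fun p => (cmp_phiOf _ p).trans rfl⟩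
  change p + 1 = p' at hp
  subst hp
  refine ModuleCat.hom_ext (LinearMap.ext fun m => toL_injective (p + 1) (LinearMap.ext fun x => ?_))
  show toL P n (p + 1) (((dualCx P n).d p (p + 1)).hom (cmp M P φ p (n - p) _ m)) x =
    cmp M P φ (p + 1) (n - (p + 1)) _ ((M.d p (p + 1)).hom m) x
  have := cmp_d M P (show n - 1 + 1 = n by omega) φ p (p + 1) (n - (p + 1)) (n - p) rfl
    (by omega) (by omega) m x
  rw [hφ, cmp_zero] at this
  rw [dualCx_d_apply, eq_neg_of_add_eq_zero_left this.symm, Int.negOnePow_succ, Units.neg_smul]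
  rfl

theorem phiOf_sub (g g' : M ⟶ dualCx P n) : phiOf (g - g') = phiOf g - phiOf g' := by
  refine cmp_ext' fun p => ?_
  rw [cmp_phiOf]
  have : cmp M P (phiOf g - phiOf g') p (n - p) (by omega) =
      cmp M P (phiOf g) p (n - p) (by omega) - cmp M P (phiOf g') p (n - p) (by omega) := by
    unfold cmp
    rw [Preadditive.comp_sub]
    exact LinearMap.ext fun m => LinearMap.ext fun x => rfl
  rw [this, cmp_phiOf, cmp_phiOf]
  exact LinearMap.ext fun m => map_sub (toL P n p) _ _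

theorem nullHomotopic_iff (g : M ⟶ dualCx P n) :
    Nonempty (Homotopy g 0) ↔ ∃ ψ : (M ⊗ P).X (n + 1) ⟶ EA A, (M ⊗ P).d n (n + 1) ≫ ψ = phiOf g := by
  constructor
  · rintro ⟨H⟩
    let ψ : (M ⊗ P).X (n + 1) ⟶ EA A := mkφ M P fun p q _ =>
      (LinearMap.lcomp A (CharacterModule A) (P.XIsoOfEq (show q = n - (n - q) by omega)).hom.hom) ∘ₗ
        toL P n (n - q) ∘ₗ (H.hom p (n - q)).hom
    refine ⟨ψ, (tensorDual_homotopy_eq (g := g) (φ := phiOf g) (fun p => (cmp_phiOf g p).symm) H.hom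
      fun i j hij => ?_).1 ?_⟩
    · rw [cmp_mkφ]
      have aux : ∀ (j' : ℤ) (e : n - j = n - j'), j' = j →
          (LinearMap.lcomp A (CharacterModule A) (P.XIsoOfEq e).hom.hom) ∘ₗ toL P n j' ∘ₗ (H.hom i j').hom =
            toL P n j ∘ₗ (H.hom i j).hom := by
        rintro j' e rfl
        rw [XIsoOfEq_rfl]; rfl
      exact (aux _ _ (by omega)).symm
    · refine HomologicalComplex.hom_ext _ _ fun p => ?_
      rw [H.comm p, dNext_eq H.hom (show (ComplexShape.up ℤ).Rel p (p + 1) by simp),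
        prevD_eq H.hom (show (ComplexShape.up ℤ).Rel (p - 1) p by simp),
        Homotopy.nullHomotopicMap_f (k₂ := p - 1) (k₀ := p + 1) (by simp) (by simp)]
      simp
  · rintro ⟨ψ, hψ⟩
    let h : ∀ i j : ℤ, M.X i ⟶ (dualCx P n).X j := fun i j =>
      if hij : j + 1 = i then ModuleCat.ofHom (cmp M P ψ i (n - j) (by omega)) else 0
    rw [(tensorDual_homotopy_eq (fun p => (cmp_phiOf g p).symm) h
      fun i j hij => by simp only [h, dif_pos hij]; rfl).2 hψ]
    exact ⟨Homotopy.nullHomotopy h fun i j hij => dif_neg fun hc => hij (by simpa using hc)⟩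

theorem whiskerRight_ι (f : M ⟶ M') (p q : ℤ) (h : p + q = n) :
    ιTensorObj M P p q n h ≫ (f ▷ P).f n = (f.f p ▷ P.X q) ≫ ιTensorObj M' P p q n h := by
  show ιMapBifunctor M P (curriedTensor _) _ p q n h ≫ (mapBifunctorMap f (𝟙 P) (curriedTensor _) _).f n = _
  rw [ι_mapBifunctorMap]
  simp

theorem whiskerLeft_ι (α : P ⟶ Q) (p q : ℤ) (h : p + q = n) :
    ιTensorObj M P p q n h ≫ (M ◁ α).f n = (M.X p ◁ α.f q) ≫ ιTensorObj M Q p q n h := by
  show ιMapBifunctor M P (curriedTensor _) _ p q n h ≫ (mapBifunctorMap (𝟙 M) α (curriedTensor _) _).f n = _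
  rw [ι_mapBifunctorMap]
  simp

theorem cmp_whiskerRight (f : M ⟶ M') (φ : (M' ⊗ P).X n ⟶ EA A) (p q : ℤ) (h : p + q = n) :
    cmp M P ((f ▷ P).f n ≫ φ) p q h = cmp M' P φ p q h ∘ₗ (f.f p).hom := by
  unfold cmp
  rw [← Category.assoc, whiskerRight_ι, Category.assoc]
  rfl

theorem cmp_whiskerLeft (α : P ⟶ Q) (φ : (M ⊗ Q).X n ⟶ EA A) (p q : ℤ) (h : p + q = n) :
    cmp M P ((M ◁ α).f n ≫ φ) p q h =
      LinearMap.lcomp A (CharacterModule A) (α.f q).hom ∘ₗ cmp M Q φ p q h := by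
  unfold cmp
  rw [← Category.assoc, whiskerLeft_ι, Category.assoc]
  rfl

/-- Functoriality of the dual. -/
noncomputable def dualMap (α : P ⟶ Q) (n : ℤ) : dualCx Q n ⟶ dualCx P n where
  f p := ModuleCat.ofHom (LinearMap.lcomp A (CharacterModule A) (α.f (n - p)).hom ∘ₗ toL Q n p)
  comm' p p' _ := by
    refine ModuleCat.hom_ext (LinearMap.ext fun χ => toL_injective p' (LinearMap.ext fun x => ?_))
    show toL P n p' (((dualCx P n).d p p').hom (LinearMap.lcomp A (CharacterModule A)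
      (α.f (n - p)).hom (toL Q n p χ))) x = toL Q n p' (((dualCx Q n).d p p').hom χ) ((α.f (n - p')).hom x)
    rw [dualCx_d_apply, dualCx_d_apply, ← f_apply_d]
    rfl

theorem phiOf_comp (f : M ⟶ M') (g : M' ⟶ dualCx P n) :
    phiOf (f ≫ g) = (f ▷ P).f n ≫ phiOf g := by
  refine cmp_ext' fun p => ?_
  rw [cmp_phiOf, cmp_whiskerRight, cmp_phiOf]
  rfl

theorem phiOf_comp_dualMap (α : P ⟶ Q) (g : M ⟶ dualCx Q n) :
    phiOf (g ≫ dualMap α n) = (M ◁ α).f n ≫ phiOf g := by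
  refine cmp_ext' fun p => ?_
  rw [cmp_phiOf, cmp_whiskerLeft, cmp_phiOf]
  rfl

theorem exists_character_of_notMem {X : Type u} [AddCommGroup X] [Module A X] (S : Submodule A X)
    {x : X} (hx : x ∉ S) : ∃ φ : X →ₗ[A] CharacterModule A, S ≤ LinearMap.ker φ ∧ φ x ≠ 0 := by
  obtain ⟨c, hc⟩ := CharacterModule.exists_character_apply_ne_zero_of_ne_zero
    (a := S.mkQ x) (fun hh => hx ((Submodule.Quotient.mk_eq_zero S).1 hh))
  refine ⟨toE (A := A) c ∘ₗ S.mkQ, fun y hy => ?_, fun h => hc ?_⟩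
  · show toE (A := A) c (S.mkQ y) = 0
    rw [show S.mkQ y = 0 from (Submodule.Quotient.mk_eq_zero S).2 hy, map_zero]
  · rw [← toE_apply_one (A := A) c, show toE (A := A) c (S.mkQ x) = 0 from h]
    rfl

theorem exists_comp_d_eq {Z : CochainComplex (ModuleCat.{u} A) ℤ} {n : ℤ} (φ : Z.X n ⟶ EA A)
    (hφ : Zd Z n ≤ LinearMap.ker φ.hom) :
    ∃ ψ : Z.X (n + 1) ⟶ EA A, Z.d n (n + 1) ≫ ψ = φ := by
  obtain ⟨ψ, hψ⟩ := EA_extend ((Zd Z n).liftQ (Z.d n (n + 1)).hom le_rfl)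
    (LinearMap.ker_eq_bot.1 (Submodule.ker_liftQ_eq_bot _ _ _ le_rfl)) (Submodule.liftQ _ φ.hom hφ)
  exact ⟨ModuleCat.ofHom ψ, ModuleCat.hom_ext (LinearMap.ext fun x =>
    LinearMap.congr_fun hψ (Submodule.Quotient.mk x))⟩

theorem quasiIsoAt_of_functionals {X Y : CochainComplex (ModuleCat.{u} A) ℤ} (Φ : X ⟶ Y) (n : ℤ)
    (hA : ∀ φ : X.X n ⟶ EA A, X.d (n - 1) n ≫ φ = 0 → ∃ φ' : Y.X n ⟶ EA A,
      Y.d (n - 1) n ≫ φ' = 0 ∧ ∃ ψ : X.X (n + 1) ⟶ EA A, X.d n (n + 1) ≫ ψ = φ - Φ.f n ≫ φ')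
    (hB : ∀ φ' : Y.X n ⟶ EA A, Y.d (n - 1) n ≫ φ' = 0 →
      (∃ ψ : X.X (n + 1) ⟶ EA A, X.d n (n + 1) ≫ ψ = Φ.f n ≫ φ') →
      ∃ ψ : Y.X (n + 1) ⟶ EA A, Y.d n (n + 1) ≫ ψ = φ') :
    QuasiIsoAt Φ n := by
  refine quasiIsoAt_of_elements Φ n (fun x hx y hy => ?_) fun z hz => ?_
  · by_contra hc
    obtain ⟨φ, hk, hne⟩ := exists_character_of_notMem _ hc
    obtain ⟨φ', hφ', ψ, hψ⟩ := hA (ModuleCat.ofHom φ)
      (ModuleCat.hom_ext (LinearMap.ext fun w => hk ⟨w, rfl⟩))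
    apply hne
    have h1 := LinearMap.congr_fun (congrArg ModuleCat.Hom.hom hψ) x
    change ψ.hom ((X.d n (n + 1)).hom x) = φ x - φ'.hom ((Φ.f n).hom x) at h1
    have h2 : φ'.hom ((Y.d (n - 1) n).hom y) = 0 :=
      LinearMap.congr_fun (congrArg ModuleCat.Hom.hom hφ') y
    rw [hx, map_zero, ← hy, h2, sub_zero] at h1
    exact h1.symm
  · by_contra hc
    push Not at hc
    obtain ⟨φ', hk, hne⟩ := exists_character_of_notMem
      ((Zd X n).map (Φ.f n).hom ⊔ LinearMap.range (Y.d (n - 1) n).hom) (x := z) (fun hm => by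
        obtain ⟨_, ⟨x, hx, rfl⟩, w, ⟨y, rfl⟩, hxw⟩ := Submodule.mem_sup.1 hm
        exact hc x hx ⟨-y, by rw [map_neg, ← hxw]; abel⟩)
    obtain ⟨ψ', hψ'⟩ := hB (ModuleCat.ofHom φ')
      (ModuleCat.hom_ext (LinearMap.ext fun w => hk (Submodule.mem_sup_right ⟨w, rfl⟩)))
      (exists_comp_d_eq _ fun x hx => hk (Submodule.mem_sup_left ⟨x, hx, rfl⟩))
    apply hne
    have h1 := LinearMap.congr_fun (congrArg ModuleCat.Hom.hom hψ') z
    change ψ'.hom ((Y.d n (n + 1)).hom z) = φ' z at h1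
    rw [← h1, hz, map_zero]

theorem functionals_of_quasiIsoAt {X Y : CochainComplex (ModuleCat.{u} A) ℤ} (Φ : X ⟶ Y) (n : ℤ)
    [QuasiIsoAt Φ n] :
    (∀ φ : X.X n ⟶ EA A, X.d (n - 1) n ≫ φ = 0 → ∃ φ' : Y.X n ⟶ EA A,
      Y.d (n - 1) n ≫ φ' = 0 ∧ Zd X n ≤ LinearMap.ker (φ - Φ.f n ≫ φ').hom) ∧
    (∀ φ' : Y.X n ⟶ EA A, Y.d (n - 1) n ≫ φ' = 0 →
      Zd X n ≤ LinearMap.ker (Φ.f n ≫ φ').hom → Zd Y n ≤ LinearMap.ker φ'.hom) := by
  have hb := (isIso_iff_bijective _).1 ((quasiIsoAt_iff_isIso_homologyMap Φ n).1 inferInstance)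
  have hinj := (injective_homologyMap_iff Φ n).1 hb.1
  have hsurj := (surjective_homologyMap_iff Φ n).1 hb.2
  refine ⟨fun φ hφ => ?_, fun φ' hφ' hk z hz => ?_⟩
  · let S : (Zd X n) × (Y.X (n - 1)) →ₗ[A] Y.X n :=
      LinearMap.coprod ((Φ.f n).hom ∘ₗ (Zd X n).subtype) (Y.d (n - 1) n).hom
    let T : (Zd X n) × (Y.X (n - 1)) →ₗ[A] CharacterModule A :=
      (φ.hom ∘ₗ (Zd X n).subtype) ∘ₗ LinearMap.fst A _ _
    have hST : LinearMap.ker S ≤ LinearMap.ker T := fun ⟨⟨x, hx⟩, y⟩ h => by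
      have h' : (Φ.f n).hom x + (Y.d (n - 1) n).hom y = 0 := h
      obtain ⟨w, rfl⟩ := hinj x hx (-y) (by rw [map_neg]; exact (eq_neg_of_add_eq_zero_left h').symm)
      exact LinearMap.congr_fun (congrArg ModuleCat.Hom.hom hφ) w
    obtain ⟨φ', hφ'⟩ := EA_extend ((LinearMap.ker S).liftQ S le_rfl)
      (LinearMap.ker_eq_bot.1 (Submodule.ker_liftQ_eq_bot _ _ _ le_rfl)) (Submodule.liftQ _ T hST)
    have key : ∀ (x : Zd X n) (y : Y.X (n - 1)),
        φ' ((Φ.f n).hom x + (Y.d (n - 1) n).hom y) = φ.hom x := fun x y =>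
      LinearMap.congr_fun hφ' (Submodule.Quotient.mk (x, y))
    refine ⟨ModuleCat.ofHom φ', ModuleCat.hom_ext (LinearMap.ext fun y => ?_), fun x hx => ?_⟩
    · have := key 0 y
      simp only [ZeroMemClass.coe_zero, map_zero, zero_add] at this
      exact this
    · show φ.hom x - φ' ((Φ.f n).hom x) = 0
      have := key ⟨x, hx⟩ 0
      simp only [map_zero, add_zero] at this
      rw [this, sub_self]
  · obtain ⟨x, hx, y, hy⟩ := hsurj z hz
    have h1 : φ'.hom ((Y.d (n - 1) n).hom y) = 0 :=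
      LinearMap.congr_fun (congrArg ModuleCat.Hom.hom hφ') y
    have h2 : φ'.hom ((Φ.f n).hom x) = 0 := hk hx
    rw [hy, map_sub, h2, zero_sub, neg_eq_zero] at h1
    exact h1

section

attribute [local instance] HasDerivedCategory.standard

theorem Q_map_surjective_to (X L : DRing.Cx A) [L.IsKInjective] :
    Function.Surjective (DerivedCategory.Q.map : (X ⟶ L) → _) := by
  intro α
  obtain ⟨β, hβ⟩ := (CochainComplex.IsKInjective.Qh_map_bijective _ L).2
    ((DerivedCategory.quotientCompQhIso _).hom.app X ≫ α ≫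
      (DerivedCategory.quotientCompQhIso _).inv.app L)
  obtain ⟨f, rfl⟩ := (HomotopyCategory.quotient _ (ComplexShape.up ℤ)).map_surjective β
  refine ⟨f, ?_⟩
  rw [← cancel_epi ((DerivedCategory.quotientCompQhIso _).hom.app X),
    ← NatIso.naturality_1 (DerivedCategory.quotientCompQhIso _) f]
  simp [hβ]

theorem Q_map_eq_iff_to {X L : DRing.Cx A} [L.IsKInjective] (f g : X ⟶ L) :
    DerivedCategory.Q.map f = DerivedCategory.Q.map g ↔ Nonempty (Homotopy f g) := by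
  refine ⟨fun h => ⟨HomotopyCategory.homotopyOfEq _ _ ?_⟩,
    fun ⟨h⟩ => DerivedCategory.Q_map_eq_of_homotopy (C := ModuleCat.{u} A) h⟩
  apply (CochainComplex.IsKInjective.Qh_map_bijective _ L).1
  have e1 := NatIso.naturality_2 (DerivedCategory.quotientCompQhIso _) f
  have e2 := NatIso.naturality_2 (DerivedCategory.quotientCompQhIso _) g
  rw [h] at e1
  exact e1.symm.trans e2

/-- Tensoring with a K-flat complex preserves quasi-isomorphisms. -/
theorem quasiIso_whiskerRight (hP : DRing.IsKFlat A P) (f : M ⟶ M') [QuasiIso f] :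
    QuasiIso (f ▷ P) := by
  have hi := isKFlat_iff_dual.1 hP
  refine ⟨fun n => quasiIsoAt_of_functionals _ n (fun φ hφ => ?_) fun φ' hφ' hψ => ?_⟩
  all_goals haveI := hi n
  all_goals haveI := (DerivedCategory.isIso_Q_map_iff_quasiIso (ModuleCat.{u} A) f).2 inferInstance
  · obtain ⟨g, rfl⟩ := exists_eq_phiOf φ hφ
    obtain ⟨g', hg'⟩ := Q_map_surjective_to _ _ (inv (DerivedCategory.Q.map f) ≫ DerivedCategory.Q.map g)
    refine ⟨phiOf g', d_phiOf g', ?_⟩
    rw [← phiOf_comp, ← phiOf_sub, ← nullHomotopic_iff, ← Q_map_eq_iff_to]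
    simp [hg']
  · obtain ⟨g', rfl⟩ := exists_eq_phiOf φ' hφ'
    rw [← phiOf_comp, ← nullHomotopic_iff, ← Q_map_eq_iff_to] at hψ
    rw [← nullHomotopic_iff, ← Q_map_eq_iff_to, ← cancel_epi (DerivedCategory.Q.map f)]
    simpa using hψ

theorem quasiIso_dualMap (α : P ⟶ Q) [QuasiIso α] (n : ℤ) : QuasiIso (dualMap α n) := by
  have heq : ∀ {Z : DRing.Cx A} (p p' : ℤ) (χ : (dualCx Z n).X p),
      ((dualCx Z n).d p p').hom χ = 0 ↔
        Z.d (n - p') (n - p) ≫ ModuleCat.ofHom (toL Z n p χ) = 0 := by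
    intro Z p p' χ
    rw [← (toL_injective (P := Z) (n := n) p').eq_iff, map_zero]
    refine ⟨fun h => ModuleCat.hom_ext (LinearMap.ext fun x => ?_), fun h => LinearMap.ext fun x => ?_⟩
    · have := LinearMap.congr_fun h x
      rwa [dualCx_d_apply, LinearMap.zero_apply, smul_eq_zero_iff_eq] at this
    · rw [dualCx_d_apply, LinearMap.zero_apply, smul_eq_zero_iff_eq]
      exact LinearMap.congr_fun (congrArg ModuleCat.Hom.hom h) x
  have hd : ∀ {Z : DRing.Cx A} (i p j : ℤ), n - p = i → j = i - 1 → ∀ (χ : (dualCx Z n).X p),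
      ((dualCx Z n).d p (p + 1)).hom χ = 0 →
      Z.d j (n - p) ≫ ModuleCat.ofHom (toL Z n p χ) = 0 := by
    intro Z i p j hi hj χ h
    obtain rfl : j = n - (p + 1) := by omega
    exact (heq p (p + 1) χ).1 h
  have hrange : ∀ {Z : DRing.Cx A} (p : ℤ) (χ : (dualCx Z n).X p),
      Zd Z (n - p) ≤ LinearMap.ker (toL Z n p χ) →
      χ ∈ LinearMap.range ((dualCx Z n).d (p - 1) p).hom := by
    intro Z p χ h
    obtain ⟨ψ, hψ⟩ := exists_comp_d_eq (ModuleCat.ofHom (toL Z n p χ)) h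
    refine ⟨(p.negOnePow • (ψ.hom ∘ₗ (Z.XIsoOfEq (show n - (p - 1) = n - p + 1 by omega)).hom.hom) :
      Z.X (n - (p - 1)) →ₗ[A] CharacterModule A), toL_injective p (LinearMap.ext fun x => ?_)⟩
    rw [dualCx_d_apply]
    show p.negOnePow • p.negOnePow • ψ.hom ((Z.d (n - p) (n - (p - 1)) ≫ (Z.XIsoOfEq _).hom).hom x) = _
    rw [smul_smul, Int.units_mul_self, one_smul, Z.d_comp_XIsoOfEq_hom]
    exact LinearMap.congr_fun (congrArg ModuleCat.Hom.hom hψ) x
  have hker : ∀ {Z : DRing.Cx A} (p : ℤ) (χ : (dualCx Z n).X (p - 1)),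
      Zd Z (n - p) ≤ LinearMap.ker (toL Z n p (((dualCx Z n).d (p - 1) p).hom χ)) := by
    intro Z p χ x hx
    rw [LinearMap.mem_ker, dualCx_d_apply]
    have key : ∀ j, j = n - p + 1 → (Z.d (n - p) j).hom x = 0 := by rintro j rfl; exact hx
    rw [key _ (by omega), map_zero, smul_zero]
  refine ⟨fun p => quasiIsoAt_of_elements _ p (fun χ hχ y hy => ?_) fun χ hχ => ?_⟩
  all_goals obtain ⟨hA, hB⟩ := functionals_of_quasiIsoAt α (n - p)
  · refine hrange p χ (hB (ModuleCat.ofHom (toL Q n p χ)) (hd _ p _ rfl rfl χ hχ) fun x hx => ?_)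
    have := hker p y hx
    rw [LinearMap.mem_ker, hy] at this
    exact this
  · obtain ⟨φ', hφ', hk⟩ := hA (ModuleCat.ofHom (toL P n p χ)) (hd _ p _ rfl rfl χ hχ)
    refine ⟨(φ'.hom : Q.X (n - p) →ₗ[A] CharacterModule A), (heq p (p + 1) _).2 ?_, hrange p _ fun x hx => ?_⟩
    · have key : ∀ j, j = n - p - 1 → Q.d j (n - p) ≫ φ' = 0 := by rintro j rfl; exact hφ'
      exact key _ (by omega)
    · have h1 : (ModuleCat.ofHom (toL P n p χ)).hom x - φ'.hom ((α.f (n - p)).hom x) = 0 := hk hx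
      show φ'.hom ((α.f (n - p)).hom x) - toL P n p χ x = 0
      rw [← neg_sub, neg_eq_zero]
      exact h1

theorem quasiIso_whiskerLeft (hP : DRing.IsKFlat A P) (hQ : DRing.IsKFlat A Q) (α : P ⟶ Q)
    [QuasiIso α] (L : DRing.Cx A) : QuasiIso (L ◁ α) := by
  refine ⟨fun n => quasiIsoAt_of_functionals _ n (fun φ hφ => ?_) fun φ' hφ' hψ => ?_⟩
  all_goals haveI := isKFlat_iff_dual.1 hP n
  all_goals haveI := isKFlat_iff_dual.1 hQ n
  all_goals haveI := (DerivedCategory.isIso_Q_map_iff_quasiIso (ModuleCat.{u} A) (dualMap α n)).2 (quasiIso_dualMap α n)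
  · obtain ⟨g, rfl⟩ := exists_eq_phiOf φ hφ
    obtain ⟨g', hg'⟩ := Q_map_surjective_to _ _ (DerivedCategory.Q.map g ≫ inv (DerivedCategory.Q.map (dualMap α n)))
    refine ⟨phiOf g', d_phiOf g', ?_⟩
    rw [← phiOf_comp_dualMap, ← phiOf_sub, ← nullHomotopic_iff, ← Q_map_eq_iff_to]
    simp [hg']
  · obtain ⟨g', rfl⟩ := exists_eq_phiOf φ' hφ'
    rw [← phiOf_comp_dualMap, ← nullHomotopic_iff, ← Q_map_eq_iff_to] at hψ
    rw [← nullHomotopic_iff, ← Q_map_eq_iff_to, ← cancel_mono (DerivedCategory.Q.map (dualMap α n))]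
    simpa using hψ

end

theorem exact_of_functionals (S : ShortComplex (ModuleCat.{u} A))
    (hf : ∀ φ : S.X₁ ⟶ EA A, ∃ φ', S.f ≫ φ' = φ)
    (he : ∀ φ : S.X₂ ⟶ EA A, S.f ≫ φ = 0 → ∃ φ', S.g ≫ φ' = φ)
    (hg : ∀ φ : S.X₃ ⟶ EA A, S.g ≫ φ = 0 → φ = 0) : S.ShortExact := by
  haveI : Mono S.f := by
    rw [ModuleCat.mono_iff_injective, injective_iff_map_eq_zero]
    intro x hx
    by_contra hne
    obtain ⟨φ, -, hφ⟩ := exists_character_of_notMem ⊥ (x := x) (fun h => hne ((Submodule.mem_bot A).1 h))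
    obtain ⟨φ', hφ'⟩ := hf (ModuleCat.ofHom φ)
    apply hφ
    have : φ'.hom (S.f.hom x) = φ x := LinearMap.congr_fun (congrArg ModuleCat.Hom.hom hφ') x
    rw [← this]
    show φ'.hom (S.f.hom x) = 0
    erw [hx, map_zero]
  haveI : Epi S.g := by
    rw [ModuleCat.epi_iff_surjective]
    intro y
    by_contra hne
    obtain ⟨φ, hk, hφ⟩ := exists_character_of_notMem (LinearMap.range S.g.hom) (x := y) hne
    exact hφ (LinearMap.congr_fun (congrArg ModuleCat.Hom.hom
      (hg (ModuleCat.ofHom φ) (ModuleCat.hom_ext (LinearMap.ext fun w => hk ⟨w, rfl⟩)))) y)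
  refine { exact := (ShortComplex.moduleCat_exact_iff _).2 fun x hx => ?_ }
  by_contra hne
  obtain ⟨φ, hk, hφ⟩ := exists_character_of_notMem (LinearMap.range S.f.hom) (x := x) hne
  obtain ⟨φ', hφ'⟩ := he (ModuleCat.ofHom φ) (ModuleCat.hom_ext (LinearMap.ext fun w => hk ⟨w, rfl⟩))
  apply hφ
  have : φ'.hom (S.g.hom x) = φ x := LinearMap.congr_fun (congrArg ModuleCat.Hom.hom hφ') x
  rw [← this]
  erw [hx, map_zero]

/-- `M ⊗ -` applied to a short complex. -/
noncomputable def tensorSeq (M : DRing.Cx A) (S : ShortComplex (DRing.Cx A)) : ShortComplex (DRing.Cx A) :=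
  ShortComplex.mk (M ◁ S.f) (M ◁ S.g) (by
    refine HomologicalComplex.hom_ext _ _ fun n => mapBifunctor.hom_ext fun p q h => ?_
    show ιTensorObj M S.X₁ p q n h ≫ (M ◁ S.f).f n ≫ (M ◁ S.g).f n = _
    rw [← Category.assoc, whiskerLeft_ι, Category.assoc, whiskerLeft_ι, ← Category.assoc,
      ← MonoidalCategory.whiskerLeft_comp, ← HomologicalComplex.comp_f, S.zero]
    simp)

theorem shortExact_tensorSeq (M : DRing.Cx A) (S : ShortComplex (DRing.Cx A)) (hS : S.ShortExact)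
    (h3 : ∀ i, Module.Flat A (S.X₃.X i)) : (tensorSeq M S).ShortExact := by
  refine shortExact_of_degreewise_shortExact _ fun n => exact_of_functionals _ (fun φ => ?_)
    (fun φ hφ => ?_) fun φ hφ => ?_
  all_goals have hq : ∀ q, (S.map (eval _ _ q)).ShortExact := fun q =>
    hS.map_of_exact (eval (ModuleCat.{u} A) (ComplexShape.up ℤ) q)
  · change (M ⊗ S.X₁).X n ⟶ EA A at φ
    have key : ∀ q, ∃ r : (S.X₁.X q →ₗ[A] CharacterModule A) →ₗ[A] (S.X₂.X q →ₗ[A] CharacterModule A),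
        ∀ χ x, r χ ((S.f.f q).hom x) = χ x := by
      intro q
      haveI := h3 q
      have hres : Function.Surjective (LinearMap.lcomp A (CharacterModule A) (S.f.f q).hom) :=
        fun χ => EA_extend _ ((ModuleCat.mono_iff_injective _).1 (hq q).mono_f) χ
      have hproj : ∃ s : (S.X₂.X q →ₗ[A] CharacterModule A) →ₗ[A] (S.X₃.X q →ₗ[A] CharacterModule A),
          ∀ ω, s (LinearMap.lcomp A (CharacterModule A) (S.g.f q).hom ω) = ω := by
        let ι := LinearMap.lcomp A (CharacterModule A) (S.g.f q).hom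
        have hι : Function.Injective ι := fun ω ω' h => LinearMap.ext fun y => by
          obtain ⟨x, rfl⟩ := (ModuleCat.epi_iff_surjective _).1 (hq q).epi_g y
          exact LinearMap.congr_fun h x
        obtain ⟨h, hh⟩ := EA_extend (LinearMap.rTensor (S.X₃.X q) ι)
          (Module.Flat.rTensor_preserves_injective_linearMap ι hι) (TensorProduct.lift LinearMap.id)
        exact ⟨TensorProduct.curry h, fun ω => LinearMap.ext fun x =>
          (LinearMap.congr_fun hh (ω ⊗ₜ x)).trans (TensorProduct.lift.tmul ω x)⟩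
      obtain ⟨s, hs⟩ := hproj
      let e := LinearMap.id - LinearMap.lcomp A (CharacterModule A) (S.g.f q).hom ∘ₗ s
      have he : LinearMap.ker (LinearMap.lcomp A (CharacterModule A) (S.f.f q).hom) ≤ LinearMap.ker e := by
        intro χ hχ
        have hker : LinearMap.ker (S.g.f q).hom ≤ LinearMap.ker χ := fun x hx => by
          obtain ⟨y, rfl⟩ := (ShortComplex.moduleCat_exact_iff _).1 (hq q).exact x hx
          exact LinearMap.congr_fun hχ y
        obtain ⟨ω, rfl⟩ : ∃ ω, LinearMap.lcomp A (CharacterModule A) (S.g.f q).hom ω = χ := by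
          refine ⟨(Submodule.liftQ _ χ hker) ∘ₗ ((S.g.f q).hom.quotKerEquivOfSurjective
            ((ModuleCat.epi_iff_surjective _).1 (hq q).epi_g)).symm.toLinearMap, LinearMap.ext fun x => ?_⟩
          show Submodule.liftQ _ χ hker (((S.g.f q).hom.quotKerEquivOfSurjective _).symm ((S.g.f q).hom x)) = χ x
          rw [show ((S.g.f q).hom.quotKerEquivOfSurjective _).symm ((S.g.f q).hom x) = Submodule.Quotient.mk x
            from (LinearEquiv.symm_apply_eq _).2 rfl]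
          rfl
        simp [e, hs]
      refine ⟨(Submodule.liftQ _ e he) ∘ₗ (LinearMap.quotKerEquivOfSurjective _ hres).symm.toLinearMap,
        fun χ x => ?_⟩
      obtain ⟨ξ, rfl⟩ := hres χ
      show Submodule.liftQ _ e he ((LinearMap.quotKerEquivOfSurjective _ hres).symm _) _ = _
      rw [show (LinearMap.quotKerEquivOfSurjective _ hres).symm
        (LinearMap.lcomp A (CharacterModule A) (S.f.f q).hom ξ) = Submodule.Quotient.mk ξ
        from (LinearEquiv.symm_apply_eq _).2 rfl]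
      show ξ ((S.f.f q).hom x) - s ξ ((S.g.f q).hom ((S.f.f q).hom x)) = ξ ((S.f.f q).hom x)
      rw [← LinearMap.comp_apply (S.g.f q).hom, ← ModuleCat.hom_comp, ← HomologicalComplex.comp_f, S.zero]
      simp
    choose r hr using key
    refine ⟨mkφ M S.X₂ fun p q h => r q ∘ₗ cmp M S.X₁ φ p q h, cmp_ext M S.X₁ fun p q h => ?_⟩
    show cmp M S.X₁ ((M ◁ S.f).f n ≫ _) p q h = _
    rw [cmp_whiskerLeft, cmp_mkφ]
    exact LinearMap.ext fun m => LinearMap.ext fun x => hr q _ x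
  · change (M ⊗ S.X₂).X n ⟶ EA A at φ
    let ι := fun q => LinearMap.lcomp A (CharacterModule A) (S.g.f q).hom
    have key : ∀ p q (h : p + q = n), ∃ g : M.X p →ₗ[A] S.X₃.X q →ₗ[A] CharacterModule A,
        ι q ∘ₗ g = cmp M S.X₂ φ p q h := by
      intro p q h
      have hinj : Function.Injective (ι q) := fun ω ω' h => LinearMap.ext fun y => by
        obtain ⟨x, rfl⟩ := (ModuleCat.epi_iff_surjective _).1 (hq q).epi_g y
        exact LinearMap.congr_fun h x
      have hmem : ∀ m, cmp M S.X₂ φ p q h m ∈ LinearMap.range (ι q) := fun m => by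
        have hker : LinearMap.ker (S.g.f q).hom ≤ LinearMap.ker (cmp M S.X₂ φ p q h m) := fun x hx => by
          obtain ⟨y, rfl⟩ := (ShortComplex.moduleCat_exact_iff _).1 (hq q).exact x hx
          have h0 : cmp M S.X₁ ((M ◁ S.f).f n ≫ φ) p q h = 0 :=
            (congrArg (fun t => cmp M S.X₁ t p q h) hφ).trans (cmp_zero M S.X₁ p q h)
          rw [cmp_whiskerLeft] at h0
          exact LinearMap.congr_fun (LinearMap.congr_fun h0 m) y
        refine ⟨(Submodule.liftQ _ _ hker) ∘ₗ ((S.g.f q).hom.quotKerEquivOfSurjective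
          ((ModuleCat.epi_iff_surjective _).1 (hq q).epi_g)).symm.toLinearMap, LinearMap.ext fun x => ?_⟩
        show Submodule.liftQ _ _ hker (((S.g.f q).hom.quotKerEquivOfSurjective _).symm ((S.g.f q).hom x)) = _
        rw [show ((S.g.f q).hom.quotKerEquivOfSurjective _).symm ((S.g.f q).hom x) = Submodule.Quotient.mk x
          from (LinearEquiv.symm_apply_eq _).2 rfl]
        rfl
      refine ⟨(LinearEquiv.ofInjective (ι q) hinj).symm.toLinearMap ∘ₗ
        (cmp M S.X₂ φ p q h).codRestrict _ hmem, LinearMap.ext fun m => ?_⟩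
      exact congrArg Subtype.val ((LinearEquiv.ofInjective (ι q) hinj).apply_symm_apply
        ((cmp M S.X₂ φ p q h).codRestrict _ hmem m))
    choose g hg using key
    refine ⟨mkφ M S.X₃ g, cmp_ext M S.X₂ fun p q h => ?_⟩
    show cmp M S.X₂ ((M ◁ S.g).f n ≫ _) p q h = _
    rw [cmp_whiskerLeft, cmp_mkφ]
    exact hg p q h
  · change (M ⊗ S.X₃).X n ⟶ EA A at φ
    refine cmp_ext M S.X₃ fun p q h => Eq.trans ?_ (cmp_zero M S.X₃ p q h).symm
    refine LinearMap.ext fun m => LinearMap.ext fun y => ?_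
    obtain ⟨x, rfl⟩ := (ModuleCat.epi_iff_surjective _).1 (hq q).epi_g y
    have h0 : cmp M S.X₂ ((M ◁ S.g).f n ≫ φ) p q h = 0 :=
      (congrArg (fun t => cmp M S.X₂ t p q h) hφ).trans (cmp_zero M S.X₂ p q h)
    rw [cmp_whiskerLeft] at h0
    exact LinearMap.congr_fun (LinearMap.congr_fun h0 m) x

theorem kflat_two_out_of_three (S : ShortComplex (DRing.Cx A)) (hS : S.ShortExact)
    (h3 : ∀ i, Module.Flat A (S.X₃.X i)) :
    (DRing.IsKFlat A S.X₁ → DRing.IsKFlat A S.X₂ → DRing.IsKFlat A S.X₃) ∧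
    (DRing.IsKFlat A S.X₁ → DRing.IsKFlat A S.X₃ → DRing.IsKFlat A S.X₂) ∧
    (DRing.IsKFlat A S.X₂ → DRing.IsKFlat A S.X₃ → DRing.IsKFlat A S.X₁) := by
  have hT := fun L => shortExact_tensorSeq L S hS h3
  refine ⟨fun h1 h2 L hL i => ?_, fun h1 h3 L hL i => ?_, fun h2 h3 L hL i => ?_⟩
  · exact ((hT L).homology_exact₃ i (i + 1) rfl).isZero_of_both_zeros
      ((h2 L hL i).eq_of_src _ _) ((h1 L hL (i + 1)).eq_of_tgt _ _)
  · exact ((hT L).homology_exact₂ i).isZero_of_both_zeros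
      ((h1 L hL i).eq_of_src _ _) ((h3 L hL i).eq_of_tgt _ _)
  · exact ((hT L).homology_exact₁ (i - 1) i (by simp)).isZero_of_both_zeros
      ((h3 L hL (i - 1)).eq_of_src _ _) ((h2 L hL i).eq_of_tgt _ _)

end Groth.Agent.DR39
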