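import Groth.Agent.DR39.TA
import Groth.Agent.DR39.TensorMap
import Groth.Agent.DR39.PC3
import Mathlib.Algebra.Homology.DerivedCategory.KInjective

/-! Projective amplitude via morphisms to modules. -/

set_option autoImplicit false
set_option linter.style.haveILetI false
set_option linter.unusedSectionVars false

universe u

open CategoryTheory CategoryTheory.Limits CategoryTheory.Pretriangulated

attribute [local instance] HasDerivedCategory.standard

namespace Groth.Agent.DR39

variable {A : Type u} [CommRing A]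

/-- `N` placed in degree `n`. -/
noncomputable abbrev sngl (n : ℤ) (N : ModuleCat.{u} A) : Dual.D A :=
  (DerivedCategory.singleFunctor (ModuleCat.{u} A) n).obj N

/-- All maps to modules placed in degree `n` vanish. -/
def ExtVanish (X : Dual.D A) (n : ℤ) : Prop := ∀ (N : ModuleCat.{u} A) (f : X ⟶ sngl n N), f = 0

theorem extVanish_iff (X : Dual.D A) (n i : ℤ) (h : n + i = 0) :
    ExtVanish X n ↔ ∀ (N : Type u) [AddCommGroup N] [Module A N],
      Subsingleton (DRing.ExtD A X (Dual.inD A N) i) := by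
  constructor
  · intro hX N _ _
    have e := singleShiftIso (ModuleCat.of A N) n i h
    exact ⟨fun f g => (cancel_mono e.hom).1 ((hX _ (f ≫ e.hom)).trans (hX _ (g ≫ e.hom)).symm)⟩
  · intro hX N f
    haveI := hX N
    let e := singleShiftIso N n i h
    rw [← cancel_mono e.inv, zero_comp]
    exact Subsingleton.elim (α := DRing.ExtD A X (Dual.inD A N) i) _ _

theorem ExtVanish.of_iso {X Y : Dual.D A} {n : ℤ} (h : ExtVanish X n) (e : X ≅ Y) : ExtVanish Y n :=
  fun N f => (cancel_epi e.hom).1 ((h N _).trans comp_zero.symm)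

/-- Maps to modules in degree `n` detect `H^n`. -/
theorem isZero_HF_of_extVanish {X : Dual.D A} {n : ℤ} (h : ExtVanish X n) :
    IsZero ((HF A n).obj X) := by
  obtain ⟨K, ⟨e⟩⟩ := exists_complex_iso X
  refine IsZero.of_iso ?_ ((HF A n).mapIso e.symm ≪≫ HQIso K n)
  rw [isZero_homology_iff]
  intro x hx
  by_contra hnx
  obtain ⟨φ, h1, h2⟩ := exists_character_of_notMem (LinearMap.range (K.d (n - 1) n).hom) hnx
  let Φ : K ⟶ (HomologicalComplex.single (ModuleCat.{u} A) (ComplexShape.up ℤ) n).obj (EA A) :=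
    HomologicalComplex.mkHomToSingle (ModuleCat.ofHom φ) fun j hj => by
      obtain rfl : j = n - 1 := by change j + 1 = n at hj; omega
      exact ModuleCat.hom_ext (LinearMap.ext fun y => LinearMap.mem_ker.1 (h1 ⟨y, rfl⟩))
  have h0 : (QA A).map Φ = 0 := (h.of_iso e.symm) _ _
  have hm : HomologicalComplex.homologyMap Φ n = 0 := by
    rw [← cancel_epi (HQIso K n).hom, ← HQIso_naturality, h0, Functor.map_zero, zero_comp, comp_zero]
  have hc := homologyMap_hcls Φ n ⟨x, hx⟩
  rw [hm] at hc
  obtain ⟨y, hy⟩ := (hcls_eq_zero_iff _ n _).1 hc.symm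
  rw [HomologicalComplex.single_obj_d] at hy
  have hb : Function.Injective (HomologicalComplex.singleObjXSelf (ComplexShape.up ℤ) n (EA A)).inv.hom :=
    ((isIso_iff_bijective _).1 inferInstance).1
  refine h2 (hb ?_)
  rw [map_zero]
  have e2 : (Φ.f n).hom x = (HomologicalComplex.singleObjXSelf (ComplexShape.up ℤ) n (EA A)).inv.hom (φ x) := by
    simp [Φ]
  rw [← e2]
  exact hy.symm

theorem projective_coker_of_extVanish (E : DRing.Cx A) (b a : ℤ) (hb : DRing.VanishesAbove E b)
    (hp : ∀ i, Module.Projective A (E.X i)) (h : ExtVanish ((QA A).obj E) (a - 1)) :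
    Module.Projective A (E.X a ⧸ LinearMap.range (E.d (a - 1) a).hom) := by
  haveI := isKProjective_of_bddAbove E b hb hp
  haveI := hp a
  let N : ModuleCat.{u} A := ModuleCat.of A (E.X (a - 1) ⧸ LinearMap.range (E.d (a - 1 - 1) (a - 1)).hom)
  let Φ : E ⟶ (HomologicalComplex.single (ModuleCat.{u} A) (ComplexShape.up ℤ) (a - 1)).obj N :=
    HomologicalComplex.mkHomToSingle (ModuleCat.ofHom (Submodule.mkQ _)) fun j hj => by
      obtain rfl : j = a - 1 - 1 := by change j + 1 = a - 1 at hj; omega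
      exact ModuleCat.hom_ext (LinearMap.range_mkQ_comp _)
  obtain ⟨H⟩ := (Q_map_eq_iff Φ 0).1 ((h N _).trans (Functor.map_zero _ _ _).symm)
  let s := HomologicalComplex.singleObjXSelf (ComplexShape.up ℤ) (a - 1) N
  let k : E.X a →ₗ[A] N := (H.hom a (a - 1) ≫ s.hom).hom
  have hk : ∀ x, k ((E.d (a - 1) a).hom x) = Submodule.Quotient.mk x := by
    intro x
    have hc := H.comm (a - 1)
    rw [dNext_eq H.hom (show (ComplexShape.up ℤ).Rel (a - 1) a by simp),
      prevD_eq H.hom (show (ComplexShape.up ℤ).Rel (a - 1 - 1) (a - 1) by simp),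
      HomologicalComplex.single_obj_d] at hc
    simp only [comp_zero, add_zero, HomologicalComplex.zero_f] at hc
    have h2 : E.d (a - 1) a ≫ H.hom a (a - 1) ≫ s.hom = ModuleCat.ofHom (Submodule.mkQ _) := by
      rw [← Category.assoc, ← hc]
      simp [Φ, s, N]
    exact congrArg (fun F : E.X (a - 1) ⟶ N => F.hom x) h2
  let dbar : N →ₗ[A] E.X a := Submodule.liftQ _ (E.d (a - 1) a).hom
    (by rintro _ ⟨y, rfl⟩; exact d_apply_d E _ _ _ y)
  let e : E.X a →ₗ[A] E.X a := LinearMap.id - dbar ∘ₗ k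
  let σ := Submodule.liftQ (LinearMap.range (E.d (a - 1) a).hom) e (by
    rintro _ ⟨y, rfl⟩
    show (E.d (a - 1) a).hom y - dbar (k ((E.d (a - 1) a).hom y)) = 0
    rw [hk]
    exact sub_self _)
  refine Module.Projective.of_split σ (Submodule.mkQ _) ?_
  refine Submodule.linearMap_qext _ (LinearMap.ext fun x => ?_)
  obtain ⟨y, hy⟩ := Submodule.Quotient.mk_surjective _ (k x)
  have : dbar (k x) = (E.d (a - 1) a).hom y := by rw [← hy]; rfl
  have hmem : dbar (k x) ∈ LinearMap.range (E.d (a - 1) a).hom := ⟨y, this.symm⟩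
  simp [σ, e, (Submodule.Quotient.mk_eq_zero _).2 hmem]

/-- Projective amplitude from vanishing. -/
theorem rep_PR_of_extVanish {X : Dual.D A} {a b : ℤ} (hb : Acyc (b + 1) X)
    (hlow : ∀ i, i < a - 1 → IsZero ((HF A i).obj X)) (h : ExtVanish X (a - 1)) :
    Rep PRp (Set.Icc a b) X := by
  obtain ⟨E, hEv, hE, ⟨e⟩⟩ := rep_free_of_acyc hb
  have hv := (vanishesAbove_iff E b).2 hEv
  have hp : ∀ i, Module.Projective A (E.X i) := fun i => proj_of_FR (hE i)
  have h0 := isZero_HF_of_extVanish h
  haveI : E.IsGE a := by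
    rw [CochainComplex.isGE_iff]
    intro i hi
    rw [HomologicalComplex.exactAt_iff_isZero_homology]
    refine (isZero_HF_Q_iff E i).1 (IsZero.of_iso ?_ ((HF A i).mapIso e))
    rcases eq_or_lt_of_le (show i ≤ a - 1 by omega) with rfl | hlt
    · exact h0
    · exact hlow i hlt
  have hc := projective_coker_of_extVanish E b a hv hp (h.of_iso e.symm)
  exact ⟨E.truncGE a, (vanishesOutside_iff _ a b).1 (vanishesOutside_truncGE E a b hv),
    cls_truncGE isModClass_PR E a (fun i _ => hp i) hc,
    ⟨(asIso ((QA A).map (E.πTruncGE a))).symm ≪≫ e⟩⟩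

theorem extVanish_of_rep_PR {X : Dual.D A} {a b : ℤ} (h : Rep PRp (Set.Icc a b) X) {n : ℤ}
    (hn : n < a ∨ b < n) : ExtVanish X n := by
  obtain ⟨P, hP, hp, ⟨e⟩⟩ := h
  refine fun N f => ?_
  rw [← cancel_epi e.hom, comp_zero]
  rcases hn with hn | hn
  · exact hom_eq_zero_of_projective P a b ((vanishesOutside_iff P a b).2 hP) hp (acyc_single N n a hn) _
  · haveI : ((QA A).obj P).IsLE b := (acyc_iff_isLE (b + 1) _).1 (Rep.acyc
      (⟨P, hP, hp, ⟨Iso.refl _⟩⟩ : Rep PRp (Set.Icc a b) ((QA A).obj P))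
      fun i hi => by rw [Set.mem_Icc] at hi; omega) |> fun h => by simpa using h
    exact DerivedCategory.TStructure.t.zero_of_isLE_of_isGE _ b n hn inferInstance inferInstance

/-- If `H^n(G) = 0` then maps to injective modules in degree `n` vanish. -/
theorem hom_single_injective_eq_zero {G : Dual.D A} {n : ℤ} (h : IsZero ((HF A n).obj G))
    (J : ModuleCat.{u} A) [Injective J] (f : G ⟶ sngl n J) : f = 0 := by
  obtain ⟨K, ⟨e⟩⟩ := exists_complex_iso G
  let S : DRing.Cx A := (HomologicalComplex.single (ModuleCat.{u} A) (ComplexShape.up ℤ) n).obj J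
  haveI : ∀ i, Injective (S.X i) := fun i => by
    by_cases hi : i = n
    · subst hi
      exact Injective.of_iso (HomologicalComplex.singleObjXSelf (ComplexShape.up ℤ) i J).symm inferInstance
    · exact (HomologicalComplex.isZero_single_obj_X (ComplexShape.up ℤ) n J i hi).injective
  haveI : S.IsStrictlyGE n := by
    rw [CochainComplex.isStrictlyGE_iff]
    exact fun i hi => HomologicalComplex.isZero_single_obj_X _ _ _ _ hi.ne
  haveI : S.IsKInjective := CochainComplex.isKInjective_of_injective S n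
  obtain ⟨Φ, hΦ⟩ := Q_map_surjective_to K S (e.hom ≫ f)
  rw [← cancel_epi e.hom, comp_zero]
  refine hΦ.symm.trans (((Q_map_eq_iff_to Φ 0).2 ⟨?_⟩).trans (Functor.map_zero _ _ _))
  have hz := (isZero_homology_iff K n).1 ((isZero_HF_Q_iff K n).1 (h.of_iso ((HF A n).mapIso e)))
  let ψ : K.X n ⟶ J := Φ.f n ≫ (HomologicalComplex.singleObjXSelf (ComplexShape.up ℤ) n J).hom
  have hex : (ShortComplex.mk (K.d (n - 1) n) (K.d n (n + 1)) (K.d_comp_d _ _ _)).Exact :=
    (ShortComplex.moduleCat_exact_iff _).2 hz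
  have hψ : K.d (n - 1) n ≫ ψ = 0 := by
    simp only [ψ, ← HomologicalComplex.Hom.comm_assoc Φ, HomologicalComplex.single_obj_d, zero_comp,
      comp_zero, S]
  let t := hex.descToInjective ψ hψ
  have ht : K.d n (n + 1) ≫ t = ψ := hex.comp_descToInjective ψ hψ
  let hom : ∀ i j : ℤ, (ComplexShape.up ℤ).Rel j i → (K.X i ⟶ S.X j) := fun i j hij =>
    if hj : j = n then
      (K.XIsoOfEq (show i = n + 1 by change j + 1 = i at hij; omega)).hom ≫ t ≫
        (HomologicalComplex.singleObjXSelf (ComplexShape.up ℤ) n J).inv ≫ (S.XIsoOfEq hj).inv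
    else 0
  have key : Φ = Homotopy.nullHomotopicMap' hom := by
    apply HomologicalComplex.to_single_hom_ext
    rw [Homotopy.nullHomotopicMap'_f (show (ComplexShape.up ℤ).Rel (n - 1) n by simp)
      (show (ComplexShape.up ℤ).Rel n (n + 1) by simp)]
    simp only [hom, dif_pos, HomologicalComplex.XIsoOfEq_rfl, Iso.refl_inv, Category.comp_id,
      Iso.refl_hom, Category.id_comp, HomologicalComplex.single_obj_d, comp_zero, add_zero, S]
    rw [reassoc_of% ht]
    simp [ψ]
  exact (Homotopy.ofEq key).trans (Homotopy.nullHomotopy' hom)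

end Groth.Agent.DR39
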