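import Groth.Agent.DR39.Lift2
import Groth.Agent.DR39.KFlatBC
import Groth.Agent.DR39.Derived
import Groth.Agent.DR39.ExactFun

/-! Lifting along `R → R/I`: comparison with base change. -/

set_option autoImplicit false
set_option linter.style.haveILetI false
set_option linter.unusedSectionVars false

universe u

open CategoryTheory CategoryTheory.Limits
open scoped TensorProduct

attribute [local instance] HasDerivedCategory.standard

namespace Groth.Agent.DR39

variable {R B : Type u} [CommRing R] [CommRing B] {φ : R →+* B}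

/-- Restriction of scalars to `R`. -/
noncomputable abbrev resM (φ : R →+* B) (M : ModuleCat.{u} B) : ModuleCat.{u} R :=
  (ModuleCat.restrictScalars φ).obj M

theorem eq_zero_of_mem_smul_top (M : ModuleCat.{u} B) (x : resM φ M)
    (hx : x ∈ RingHom.ker φ • (⊤ : Submodule R (resM φ M))) : x = 0 := by
  refine Submodule.smul_induction_on hx (fun r hr m _ => ?_) fun a b ha hb => by rw [ha, hb, add_zero]
  show φ r • (show M from m) = 0
  rw [RingHom.mem_ker.1 hr, zero_smul]

/-- `r ↦ φ r`. -/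
noncomputable def etaB (φ : R →+* B) : R →ₗ[R] resM φ (ModuleCat.of B B) where
  toFun r := (show resM φ (ModuleCat.of B B) from φ r)
  map_add' := map_add φ
  map_smul' r x := map_mul φ r x

theorem oneL_eq (φ : R →+* B) (M : ModuleCat.{u} R) (x : M) :
    (oneL φ M).hom x = LinearMap.rTensor M (etaB φ) ((1 : R) ⊗ₜ[R] x) := by
  show TensorProduct.tmul R (show resM φ (ModuleCat.of B B) from (1 : B)) x =
    TensorProduct.tmul R (show resM φ (ModuleCat.of B B) from φ 1) x
  rw [map_one]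

theorem oneL_surjective (hφ : Function.Surjective φ) (M : ModuleCat.{u} R) :
    Function.Surjective (oneL φ M).hom := by
  intro z
  obtain ⟨w, hw⟩ := LinearMap.rTensor_surjective M (g := etaB φ) hφ z
  obtain ⟨x, rfl⟩ := (TensorProduct.lid R M).symm.surjective w
  exact ⟨x, (oneL_eq φ M x).trans hw⟩

theorem red_oneL (hφ : Function.Surjective φ) (M : ModuleCat.{u} R) :
    Red (RingHom.ker φ) (oneL φ M).hom := by
  refine ⟨oneL_surjective hφ M, fun x => ⟨fun hx => ?_, fun hx => ?_⟩⟩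
  · rw [oneL_eq] at hx
    have hex : Function.Exact (RingHom.ker φ).subtype (etaB φ) := fun r =>
      ⟨fun h => ⟨⟨r, h⟩, rfl⟩, fun ⟨y, hy⟩ => hy ▸ y.2⟩
    obtain ⟨w, hw⟩ := (rTensor_exact M hex hφ _).1 hx
    have key : ∀ w : (RingHom.ker φ) ⊗[R] M,
        TensorProduct.lid R M ((RingHom.ker φ).subtype.rTensor M w) ∈ RingHom.ker φ • (⊤ : Submodule R M) := by
      intro w
      induction w using TensorProduct.induction_on with
      | zero => simp
      | add a b ha hb => rw [map_add, map_add]; exact Submodule.add_mem _ ha hb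
      | tmul r m => exact Submodule.smul_mem_smul r.2 Submodule.mem_top
    have := key w
    rwa [hw, TensorProduct.lid_tmul, one_smul] at this
  · exact eq_zero_of_mem_smul_top _ _ (map_mem_smul_top _ (oneL φ M).hom hx)

theorem red_of_equiv (I : Ideal R) (X : ModuleCat.{u} R) (M : ModuleCat.{u} (R ⧸ I))
    (e : TensorProduct R (R ⧸ I) X ≃ₗ[R ⧸ I] M) :
    ∃ π : X →ₗ[R] resM (Ideal.Quotient.mk I) M, Red I π := by
  let π : X →ₗ[R] resM (Ideal.Quotient.mk I) M :=
    { toFun := fun x => (show resM (Ideal.Quotient.mk I) M from e ((1 : R ⧸ I) ⊗ₜ[R] x))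
      map_add' := fun a b => by rw [TensorProduct.tmul_add, map_add]; rfl
      map_smul' := fun r a => by
        show e ((1 : R ⧸ I) ⊗ₜ[R] (r • a)) = (Ideal.Quotient.mk I r) • e ((1 : R ⧸ I) ⊗ₜ[R] a)
        rw [← map_smul, TensorProduct.smul_tmul', ← TensorProduct.smul_tmul,
          smul_eq_mul, mul_one, Algebra.smul_def, mul_one]
        rfl }
  refine ⟨π, fun m => ?_, fun x => ?_⟩
  · obtain ⟨x, hx⟩ := Submodule.Quotient.mk_surjective _
      (TensorProduct.quotTensorEquivQuotSMul X I (e.symm (show M from m)))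
    refine ⟨x, ?_⟩
    show e ((1 : R ⧸ I) ⊗ₜ[R] x) = (show M from m)
    rw [← TensorProduct.quotTensorEquivQuotSMul_symm_mk I x, hx, LinearEquiv.symm_apply_apply,
      LinearEquiv.apply_symm_apply]
  · show e ((1 : R ⧸ I) ⊗ₜ[R] x) = 0 ↔ _
    rw [e.map_eq_zero_iff, ← (TensorProduct.quotTensorEquivQuotSMul X I).map_eq_zero_iff,
      TensorProduct.quotTensorEquivQuotSMul_mk_one_tmul, Submodule.Quotient.mk_eq_zero]

/-- A complex reducing to `E`. -/
theorem extIso_of_red (hφ : Function.Surjective φ) (P : DRing.Cx R) (E : DRing.Cx B)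
    (p : P ⟶ (DRing.restrictCx φ).obj E) (hp : ∀ i, Red (RingHom.ker φ) (p.f i).hom) :
    Nonempty (extCx φ P ≅ E) := by
  let q : ∀ i, (extCx φ P).X i ⟶ E.X i := fun i =>
    ModuleCat.ExtendRestrictScalarsAdj.HomEquiv.fromExtendScalars φ (p.f i)
  have hq : ∀ i x, (q i).hom ((oneL φ (P.X i)).hom x) = (p.f i).hom x := fun i x =>
    LinearMap.congr_fun (congrArg ModuleCat.Hom.hom
      ((ModuleCat.ExtendRestrictScalarsAdj.homEquiv φ).apply_symm_apply (p.f i))) x
  haveI : ∀ i, IsIso (q i) := fun i => by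
    rw [isIso_iff_bijective]
    refine ⟨?_, fun m => ?_⟩
    · rw [injective_iff_map_eq_zero]
      intro z hz
      obtain ⟨x, hx⟩ := oneL_surjective hφ (P.X i) z
      rw [← hx]
      refine ((red_oneL hφ (P.X i)).mem x).2 (((hp i).mem x).1 ?_)
      exact (hq i x).symm.trans ((congrArg (q i).hom hx).trans hz)
    · obtain ⟨x, hx⟩ := (hp i).surj m
      exact ⟨(oneL φ (P.X i)).hom x, (hq i x).trans hx⟩
  refine ⟨HomologicalComplex.Hom.isoOfComponents (fun i => asIso (q i)) fun i j _ => ?_⟩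
  refine ModuleCat.ExtendScalars.hom_ext fun x => ?_
  show (E.d i j).hom ((q i).hom ((oneL φ (P.X i)).hom x)) =
    (q j).hom ((oneL φ (P.X j)).hom ((P.d i j).hom x))
  rw [hq, hq]
  exact (f_apply_d p i j x).symm

/-- The unit on complexes. -/
noncomputable def oneLCx (φ : R →+* B) (P : DRing.Cx R) :
    P ⟶ (DRing.restrictCx φ).obj (extCx φ P) where
  f i := oneL φ (P.X i)
  comm' i j _ := rfl

theorem projective_extendScalars {A B : Type u} [CommRing A] [CommRing B] (φ : A →+* B)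
    {M : ModuleCat.{u} A} (h : Module.Projective A M) :
    Module.Projective B ((ModuleCat.extendScalars.{u, u, u} φ).obj M) := by
  letI := φ.toAlgebra
  exact (inferInstance : Module.Projective B (TensorProduct A B M))

variable {Pc : ObjectProperty (ModuleCat.{u} R)}

/-- Lifting a complex representing the derived base change along a surjection. -/
theorem exists_lift_rep' (hφ : Function.Surjective φ) [DRing.HasLBaseChange φ]
    (hP : LiftClass (RingHom.ker φ) Pc)
    (hprod : ∀ X Y : ModuleCat.{u} R, Pc X → Pc Y → Pc (ModuleCat.of R (X × Y))) (K : Dual.D R)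
    (hK : ∃ (Q : DRing.Cx R) (c : ℤ), DRing.VanishesAbove Q c ∧ (∀ i, Pc (Q.X i)) ∧
      Nonempty (DRing.toD Q ≅ K))
    (E : DRing.Cx B) (b : ℤ) (hEb : DRing.VanishesAbove E b)
    (X : ℤ → ModuleCat.{u} R) (hpc : ∀ i, Pc (X i)) (π : ∀ i, X i →ₗ[R] resM φ (E.X i))
    (hπ : ∀ i, Red (RingHom.ker φ) (π i))
    (hE : Nonempty (DRing.toD E ≅ (DRing.LBaseChange φ).obj K)) :
    ∃ P : DRing.Cx R, DRing.VanishesAbove P b ∧ (∀ i, Pc (P.X i)) ∧ Nonempty (DRing.toD P ≅ K) ∧
      Nonempty (extCx φ P ≅ E) := by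
  obtain ⟨Q, c, hQc, hQ, ⟨eK⟩⟩ := hK
  obtain ⟨eE⟩ := hE
  have hQp : ∀ i, Module.Projective R (Q.X i) := fun i => hP.proj _ (hQ i)
  let Qb := extCx φ Q
  haveI : Qb.IsKProjective := isKProjective_of_bddAbove Qb c
    (fun i hi => (ModuleCat.extendScalars _).map_isZero (hQc i hi))
    fun i => projective_extendScalars φ (hQp i)
  obtain ⟨f0, hf0⟩ := Q_map_surjective Qb E ((LBaseChangeIso φ Q
    (isKFlat_of_flat c hQc fun i => haveI := hQp i; Module.Flat.of_projective)).symm ≪≫
      (DRing.LBaseChange φ).mapIso eK ≪≫ eE.symm).hom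
  haveI : QuasiIso f0 := (DerivedCategory.isIso_Q_map_iff_quasiIso (ModuleCat.{u} B) f0).1 (by
    rw [hf0]; infer_instance)
  let E' := (DRing.restrictCx φ).obj E
  let Qr := (DRing.restrictCx φ).obj Qb
  let fr : Qr ⟶ E' := (DRing.restrictCx φ).map f0
  haveI : QuasiIso fr := (HomologicalComplex.quasiIso_map_iff_of_preservesHomology f0 (ModuleCat.restrictScalars φ)).2 inferInstance
  have hr : ∀ i, Red (RingHom.ker φ) ((oneLCx φ Q).f i).hom := fun i => red_oneL hφ (Q.X i)
  obtain ⟨P, p, hPc, hp, hPb, ⟨eP⟩⟩ := exists_lift_cx hP hprod Q E' (max b c)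
    (fun i hi => hQc i (by omega))
    (fun i hi => (ModuleCat.restrictScalars φ).map_isZero (hEb i (by omega)))
    hQ X π hpc hπ (fun i => eq_zero_of_mem_smul_top (E.X i)) (oneLCx φ Q ≫ fr)
    (fun j z hz => by
      have hq : QuasiIsoAt fr (j + 1) := inferInstance
      rw [quasiIsoAt_iff_isIso_homologyMap, isIso_iff_bijective] at hq
      obtain ⟨x', hx', hxz⟩ := (surjective_homologyMap_iff fr (j + 1)).1 hq.2 z hz
      obtain ⟨x, rfl⟩ := (hr (j + 1)).surj x'
      obtain ⟨e, he⟩ := range_d_congr E' (show j = j + 1 - 1 by omega) _ hxz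
      refine ⟨x, e, ((hr (j + 1 + 1)).mem _).1 ?_, he.symm⟩
      rw [f_apply_d]
      exact hx')
    (fun j x hx e he => by
      have hq : QuasiIsoAt fr (j + 1) := inferInstance
      rw [quasiIsoAt_iff_isIso_homologyMap, isIso_iff_bijective] at hq
      have hx' : (Qr.d (j + 1) (j + 1 + 1)).hom (((oneLCx φ Q).f (j + 1)).hom x) = 0 := by
        rw [← f_apply_d]; exact ((hr _).mem _).2 hx
      obtain ⟨e2, he2⟩ : (fr.f (j + 1)).hom (((oneLCx φ Q).f (j + 1)).hom x) ∈
          LinearMap.range (E'.d (j + 1 - 1) (j + 1)).hom := range_d_congr E' (by omega) _ ⟨e, he.symm⟩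
      obtain ⟨y', hy'⟩ := range_d_congr Qr (show j = j + 1 - 1 by omega) _
        ((injective_homologyMap_iff fr (j + 1)).1 hq.1 _ hx' e2 he2)
      obtain ⟨y, rfl⟩ := (hr j).surj y'
      refine ⟨y, ((hr (j + 1)).mem _).1 ?_⟩
      rw [map_sub, f_apply_d, hy', sub_self])
  refine ⟨P, fun i hi => ?_, hPc, ⟨eP.symm ≪≫ eK⟩, extIso_of_red hφ P E p hp⟩
  haveI := hP.subsingleton_of_red (hPc i) (hp i)
    ((ModuleCat.restrictScalars φ).map_isZero (hEb i hi))
  exact ModuleCat.isZero_of_subsingleton (P.X i)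

variable {I : Ideal R}

/-- Lifting an acyclic complex. -/
theorem exists_acyclic_lift (hP : LiftClass I Pc) (E : DRing.Cx (R ⧸ I)) (b : ℤ)
    (hb : DRing.VanishesAbove E b) (hE : E.Acyclic)
    (hEt : ∀ i, ∃ X : ModuleCat.{u} R, Pc X ∧ Nonempty (TensorProduct R (R ⧸ I) X ≃ₗ[R ⧸ I] E.X i)) :
    ∃ P : DRing.Cx R, DRing.VanishesAbove P b ∧ P.Acyclic ∧ (∀ i, Pc (P.X i)) ∧
      Nonempty (extCx (Ideal.Quotient.mk I) P ≅ E) := by
  choose X hpc e using hEt
  choose π hπ using fun i => red_of_equiv I (X i) (E.X i) (e i).some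
  let E' := (DRing.restrictCx (Ideal.Quotient.mk I)).obj E
  have hb' : DRing.VanishesAbove E' b := fun i hi =>
    (ModuleCat.restrictScalars (Ideal.Quotient.mk I)).map_isZero (hb i hi)
  have hE' : ∀ i, IsZero (E'.homology i) := fun i =>
    IsZero.of_iso ((ModuleCat.restrictScalars (Ideal.Quotient.mk I)).map_isZero (hE i).isZero_homology)
      ((E.sc i).mapHomologyIso (ModuleCat.restrictScalars (Ideal.Quotient.mk I)))
  obtain ⟨D, H, hDD, hc, hh⟩ := AcLift.exists_lift (E := E') (X := X) (π := π) hP hpc hπ b hb' hE'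
  let P := ofL X D hDD
  let p : P ⟶ E' :=
    { f := fun i => ModuleCat.ofHom (X := (X i : Type u)) (Y := resM (Ideal.Quotient.mk I) (E.X i)) (π i)
      comm' := fun i j hij => by
        change i + 1 = j at hij
        subst hij
        exact ModuleCat.hom_ext (LinearMap.ext fun x => ((congrArg (π (i + 1)) (ofL_d X D hDD i x)).trans (hc i x)).symm) }
  refine ⟨P, fun i hi => ?_, fun i => ?_, hpc, extIso_of_red Ideal.Quotient.mk_surjective P E p fun i => (Ideal.mk_ker (I := I)).symm ▸ hπ i⟩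
  · haveI := hP.subsingleton_of_red (hpc i) (hπ i) (hb' i hi)
    exact ModuleCat.isZero_of_subsingleton (X i)
  · obtain ⟨j, rfl⟩ : ∃ j, i = j + 1 := ⟨i - 1, by omega⟩
    rw [HomologicalComplex.exactAt_iff_isZero_homology, isZero_homology_iff]
    intro x hx
    refine range_d_congr P (show j + 1 - 1 = j by omega) _ ⟨H j x, (ofL_d X D hDD j _).trans ?_⟩
    have h1 := hh j x
    rw [show D (j + 1) x = 0 from (ofL_d X D hDD (j + 1) x).symm.trans hx, map_zero, zero_add] at h1
    exact h1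

/-- Lifting a complex representing the derived reduction. -/
theorem exists_lift_rep [DRing.HasLBaseChange (Ideal.Quotient.mk I)] (hP : LiftClass I Pc)
    (hprod : ∀ X Y : ModuleCat.{u} R, Pc X → Pc Y → Pc (ModuleCat.of R (X × Y))) (K : Dual.D R)
    (hK : ∃ (Q : DRing.Cx R) (c : ℤ), DRing.VanishesAbove Q c ∧ (∀ i, Pc (Q.X i)) ∧
      Nonempty (DRing.toD Q ≅ K))
    (E : DRing.Cx (R ⧸ I)) (b : ℤ) (hEb : DRing.VanishesAbove E b)
    (hEt : ∀ i, ∃ X : ModuleCat.{u} R, Pc X ∧ Nonempty (TensorProduct R (R ⧸ I) X ≃ₗ[R ⧸ I] E.X i))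
    (hE : Nonempty (DRing.toD E ≅ (DRing.LBaseChange (Ideal.Quotient.mk I)).obj K)) :
    ∃ P : DRing.Cx R, DRing.VanishesAbove P b ∧ (∀ i, Pc (P.X i)) ∧ Nonempty (DRing.toD P ≅ K) ∧
      Nonempty (extCx (Ideal.Quotient.mk I) P ≅ E) := by
  choose X hpc e using hEt
  choose π hπ using fun i => red_of_equiv I (X i) (E.X i) (e i).some
  exact exists_lift_rep' (φ := Ideal.Quotient.mk I) Ideal.Quotient.mk_surjective (Pc := Pc) ((Ideal.mk_ker (I := I)).symm ▸ hP) hprod K hK E b hEb X hpc π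
    (fun i => (Ideal.mk_ker (I := I)).symm ▸ hπ i) hE

end Groth.Agent.DR39
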