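import Groth.Agent.DR39.Derived
import Groth.Agent.DR39.KFlatBC
import Groth.Agent.DR39.LiftBC
import Mathlib.Algebra.Homology.Linear
import Mathlib.Algebra.Homology.HomotopyCategory.ShortExact
import Mathlib.Algebra.Homology.DerivedCategory.KProjective
import Mathlib.Algebra.Polynomial.Inductions

/-! `(res K) ⊗^L_{R[x]} R = K ⊕ K[1]` along `x ↦ 0`. -/

set_option autoImplicit false
set_option linter.style.haveILetI false
set_option linter.unusedSectionVars false

universe u

open CategoryTheory CategoryTheory.Limits CategoryTheory.Pretriangulated Polynomial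
open scoped TensorProduct

attribute [local instance] HasDerivedCategory.standard

namespace Groth.Agent.DR39

variable {A B : Type u} [CommRing A] [CommRing B]

theorem ext_hom_ext {φ : A →+* B} {M : ModuleCat.{u} A} {N : ModuleCat.{u} B}
    (u v : (ModuleCat.extendScalars.{u, u, u} φ).obj M ⟶ N)
    (h : ∀ x, u.hom ((oneL φ M).hom x) = v.hom ((oneL φ M).hom x)) : u = v :=
  ModuleCat.ExtendScalars.hom_ext h

theorem fromExt_oneL {φ : A →+* B} {M : ModuleCat.{u} A} {N : ModuleCat.{u} B}
    (g : M ⟶ (ModuleCat.restrictScalars φ).obj N) (x : M) :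
    (ModuleCat.ExtendRestrictScalarsAdj.HomEquiv.fromExtendScalars φ g).hom ((oneL φ M).hom x) = g.hom x :=
  LinearMap.congr_fun (congrArg ModuleCat.Hom.hom
    ((ModuleCat.ExtendRestrictScalarsAdj.homEquiv φ).apply_symm_apply g)) x

/-- Extension of scalars preserves K-projectivity. -/
theorem isKProjective_extCx (φ : A →+* B) (X : DRing.Cx A) [X.IsKProjective] : (extCx φ X).IsKProjective where
  nonempty_homotopy_zero {M} f hM := by
    let g : X ⟶ (DRing.restrictCx φ).obj M :=
      { f := fun i => oneL φ (X.X i) ≫ (ModuleCat.restrictScalars φ).map (f.f i)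
        comm' := fun i j _ => ModuleCat.hom_ext (LinearMap.ext fun x => by
          have := congrArg (fun t : (extCx φ X).X i ⟶ M.X j => t.hom ((oneL φ (X.X i)).hom x)) (f.comm i j)
          exact this) }
    have hac : HomologicalComplex.Acyclic ((DRing.restrictCx φ).obj M) := fun i => by
      rw [HomologicalComplex.exactAt_iff_isZero_homology]
      exact IsZero.of_iso ((ModuleCat.restrictScalars φ).map_isZero (hM i).isZero_homology)
        ((M.sc i).mapHomologyIso (ModuleCat.restrictScalars φ))
    let H := CochainComplex.IsKProjective.homotopyZero g hac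
    refine ⟨{ hom := fun i j => ModuleCat.ExtendRestrictScalarsAdj.HomEquiv.fromExtendScalars φ (H.hom i j)
              zero := fun i j hij => ext_hom_ext _ _ fun x => by
                rw [fromExt_oneL, H.zero i j hij]; rfl
              comm := fun i => ext_hom_ext _ _ fun x => ?_ }⟩
    rw [dNext_eq _ (show (ComplexShape.up ℤ).Rel i (i + 1) from rfl),
      prevD_eq _ (show (ComplexShape.up ℤ).Rel (i - 1) i from sub_add_cancel i 1)]
    have hc := congrArg (fun t : X.X i ⟶ ((DRing.restrictCx φ).obj M).X i => t.hom x) (H.comm i)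
    rw [dNext_eq _ (show (ComplexShape.up ℤ).Rel i (i + 1) from rfl),
      prevD_eq _ (show (ComplexShape.up ℤ).Rel (i - 1) i from sub_add_cancel i 1)] at hc
    simp only [ModuleCat.hom_add, ModuleCat.hom_comp, LinearMap.add_apply, LinearMap.comp_apply,
      HomologicalComplex.zero_f, ModuleCat.hom_zero, LinearMap.zero_apply, add_zero] at hc ⊢
    refine hc.trans ?_
    refine congrArg₂ (· + ·) ?_ ?_
    · exact (fromExt_oneL (H.hom (i + 1) i) ((X.d i (i + 1)).hom x)).symm
    · exact congrArg (M.d (i - 1) i).hom (fromExt_oneL (H.hom i (i - 1)) x).symm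

theorem isKProjective_cone {X Y : DRing.Cx A} (f : X ⟶ Y) [X.IsKProjective] [Y.IsKProjective] :
    (CochainComplex.mappingCone f).IsKProjective := by
  rw [CochainComplex.isKProjective_iff_leftOrthogonal]
  exact ObjectProperty.ext_of_isTriangulatedClosed₃ _ _
    (HomotopyCategory.mappingCone_triangleh_distinguished f)
    (CochainComplex.IsKProjective.leftOrthogonal X) (CochainComplex.IsKProjective.leftOrthogonal Y)

variable {R : Type u} [CommRing R]

/-- Evaluation of a polynomial tensor at zero, as a module map. -/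
noncomputable def evL (X : ModuleCat.{u} R) :
    (ModuleCat.extendScalars.{u, u, u} (C : R →+* R[X])).obj X ⟶
      (ModuleCat.restrictScalars (evalRingHom (0 : R))).obj X :=
  ModuleCat.ExtendRestrictScalarsAdj.HomEquiv.fromExtendScalars _ (ModuleCat.ofHom
    (Y := (ModuleCat.restrictScalars (C : R →+* R[X])).obj ((ModuleCat.restrictScalars (evalRingHom (0 : R))).obj X))
    { toFun := fun x => x
      map_add' := fun _ _ => rfl
      map_smul' := fun r x => by
        show r • x = (evalRingHom (0 : R) (C r)) • (show X from x)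
        simp })

theorem evL_oneL (X : ModuleCat.{u} R) (x : X) :
    (show X from (evL X).hom ((oneL (C : R →+* R[X]) X).hom x)) = x := fromExt_oneL _ x

theorem evL_seq (X : ModuleCat.{u} R) :
    Function.Injective (fun z : (ModuleCat.extendScalars.{u, u, u} (C : R →+* R[X])).obj X => (Polynomial.X : R[X]) • z) ∧
      (∀ z, (evL X).hom z = 0 → ∃ w, (Polynomial.X : R[X]) • w = z) ∧ Function.Surjective (evL X).hom := by
  let L := (ModuleCat.extendScalars.{u, u, u} (C : R →+* R[X])).obj X
  letI : Module R L := Module.compHom L (C : R →+* R[X])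
  let one : X →ₗ[R] L := { toFun := fun x => (oneL (C : R →+* R[X]) X).hom x
                           map_add' := fun a b => map_add (oneL (C : R →+* R[X]) X).hom a b
                           map_smul' := fun r a => (oneL (C : R →+* R[X]) X).hom.map_smul r a }
  have hgen : ∀ z : L, z ∈ Submodule.span R[X] (Set.range one) := by
    intro z
    have h0 : ModuleCat.ofHom (Submodule.span R[X] (Set.range one)).mkQ = 0 :=
      ext_hom_ext (M := X) _ _ fun x => (Submodule.Quotient.mk_eq_zero _).2 (Submodule.subset_span ⟨x, rfl⟩)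
    exact (Submodule.Quotient.mk_eq_zero _).1 (LinearMap.congr_fun (congrArg ModuleCat.Hom.hom h0) z)
  have hsm : ∀ (p : R[X]) (x : X), (show X from (evL X).hom (p • one x)) = p.eval 0 • x := fun p x => by
    erw [map_smul]
    show p.eval 0 • (show X from (evL X).hom ((oneL (C : R →+* R[X]) X).hom x)) = _
    rw [evL_oneL]
  let dX : resM (C : R →+* R[X]) (ModuleCat.of R[X] R[X]) →ₗ[R] resM (C : R →+* R[X]) (ModuleCat.of R[X] R[X]) :=
    { toFun := fun p => (show resM (C : R →+* R[X]) (ModuleCat.of R[X] R[X]) from Polynomial.divX (show R[X] from p))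
      map_add' := fun p q => Polynomial.divX_add
      map_smul' := fun r p => by
        show (C r * (show R[X] from p)).divX = C r * (show R[X] from p).divX
        exact Polynomial.divX_C_mul }
  let δ : L → L := fun z => LinearMap.rTensor X dX z
  have δ_add : ∀ a b, δ (a + b) = δ a + δ b := fun a b => (LinearMap.rTensor X dX).map_add a b
  have δ_one : ∀ (p : R[X]) (x : X), δ (p • one x) = p.divX • one x := fun p x => by
    show (show resM (C : R →+* R[X]) (ModuleCat.of R[X] R[X]) from (p * 1).divX) ⊗ₜ[R] x =
      (show resM (C : R →+* R[X]) (ModuleCat.of R[X] R[X]) from p.divX * 1) ⊗ₜ[R] x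
    exact congrArg (fun q : R[X] => (show resM (C : R →+* R[X]) (ModuleCat.of R[X] R[X]) from q) ⊗ₜ[R] x)
      ((congrArg Polynomial.divX (mul_one p)).trans (mul_one p.divX).symm)
  have key : ∀ z : L, δ ((Polynomial.X : R[X]) • z) = z ∧
      z = (Polynomial.X : R[X]) • δ z + one (show X from (evL X).hom z) := by
    suffices h : ∀ z : L, ∀ p : R[X], δ ((Polynomial.X : R[X]) • p • z) = p • z ∧
        p • z = (Polynomial.X : R[X]) • δ (p • z) + one (show X from (evL X).hom (p • z)) by
      intro z
      simpa using h z 1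
    intro z
    induction hgen z using Submodule.span_induction with
    | mem z hz =>
      obtain ⟨x, rfl⟩ := hz
      intro p
      refine ⟨?_, ?_⟩
      · rw [smul_smul, δ_one, show ((Polynomial.X : R[X]) * p).divX = p from
          Polynomial.ext fun n => by simp [Polynomial.coeff_divX]]
      · rw [δ_one, hsm, one.map_smul]
        show _ = _ + (C (p.eval 0)) • one x
        rw [smul_smul, ← add_smul, ← Polynomial.coeff_zero_eq_eval_zero, Polynomial.X_mul_divX_add]
    | zero =>
      intro p
      have h0 : δ 0 = 0 := map_zero _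
      simp only [smul_zero, h0, zero_add, map_zero]
      exact ⟨trivial, (map_zero one).symm⟩
    | add a b _ _ ha hb =>
      intro p
      refine ⟨?_, ?_⟩
      · rw [smul_add, smul_add, δ_add, (ha p).1, (hb p).1]
      · rw [smul_add, δ_add, map_add]
        conv_lhs => rw [(ha p).2, (hb p).2]
        rw [smul_add]
        exact (add_add_add_comm _ _ _ _).trans (congrArg _ (one.map_add _ _).symm)
    | smul q a _ ha =>
      intro p
      rw [smul_smul p q a]
      exact ha (p * q)
  refine ⟨fun a b h => ?_, fun z hz => ⟨δ z, ?_⟩, fun x => ⟨one (show X from x), evL_oneL X x⟩⟩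
  · rw [← (key a).1, ← (key b).1]
    exact congrArg δ h
  · have := (key z).2
    rw [hz] at this
    rw [show one (show X from (0 : (ModuleCat.restrictScalars (evalRingHom (0 : R))).obj X)) = 0 from map_zero one,
      add_zero] at this
    exact this.symm

theorem main_iso [DRing.HasLBaseChange (evalRingHom (0 : R))] (K : Dual.D R)
    [HasBinaryBiproduct K ((shiftFunctor (Dual.D R) (1 : ℤ)).obj K)] :
    Nonempty ((DRing.LBaseChange (evalRingHom (0 : R))).obj ((DRing.restrictD (evalRingHom (0 : R))).obj K) ≅
      K ⊞ (shiftFunctor (Dual.D R) (1 : ℤ)).obj K) := by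
  let φ : R[X] →+* R := evalRingHom (0 : R)
  obtain ⟨K0, ⟨e0⟩⟩ := exists_complex_iso K
  haveI := SF.isKProjective_res K0
  haveI : IsIso ((QA R).map (SF.aug K0)) :=
    (DerivedCategory.isIso_Q_map_iff_quasiIso (ModuleCat.{u} R) _).2 inferInstance
  let X := SF.res K0
  let eX : (QA R).obj X ≅ K := asIso ((QA R).map (SF.aug K0)) ≪≫ e0
  let L := extCx (C : R →+* R[X]) X
  haveI : L.IsKProjective := isKProjective_extCx _ X
  let μ : L ⟶ L := (Polynomial.X : R[X]) • 𝟙 L
  have hμ : ∀ i (z : L.X i), (μ.f i).hom z = (Polynomial.X : R[X]) • z := fun i z => rfl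
  let ε : L ⟶ (DRing.restrictCx φ).obj X :=
    { f := fun i => evL (X.X i)
      comm' := fun i j _ => ext_hom_ext (M := X.X i) _ _ fun x => by
        show (X.d i j).hom (show X.X i from (evL (X.X i)).hom ((oneL (C : R →+* R[X]) (X.X i)).hom x)) =
          (show X.X j from (evL (X.X j)).hom ((oneL (C : R →+* R[X]) (X.X j)).hom ((X.d i j).hom x)))
        rw [evL_oneL, evL_oneL] }
  have hzero : μ ≫ ε = 0 := HomologicalComplex.hom_ext _ _ fun i => ModuleCat.hom_ext (LinearMap.ext fun z => by
    show (evL (X.X i)).hom ((μ.f i).hom z) = 0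
    rw [hμ]
    refine ((evL (X.X i)).hom.map_smul _ _).trans ?_
    show φ Polynomial.X • (show X.X i from (evL (X.X i)).hom z) = 0
    simp [φ])
  let S : ShortComplex (DRing.Cx R[X]) := ShortComplex.mk μ ε hzero
  have hS : S.ShortExact := HomologicalComplex.shortExact_of_degreewise_shortExact _ fun i => by
    obtain ⟨h1, h2, h3⟩ := evL_seq (X.X i)
    exact { exact := (ShortComplex.moduleCat_exact_iff _).2 fun z hz => by
              obtain ⟨w, hw⟩ := h2 z hz
              exact ⟨w, hw⟩
            mono_f := (ModuleCat.mono_iff_injective _).2 h1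
            epi_g := (ModuleCat.epi_iff_surjective _).2 h3 }
  let P := CochainComplex.mappingCone μ
  haveI : P.IsKProjective := isKProjective_cone μ
  haveI := CochainComplex.mappingCone.quasiIso_descShortComplex hS
  let eP : (QA R[X]).obj P ≅ (DRing.restrictD φ).obj K :=
    @asIso _ _ _ _ ((QA R[X]).map (CochainComplex.mappingCone.descShortComplex S))
      ((DerivedCategory.isIso_Q_map_iff_quasiIso (ModuleCat.{u} R[X]) _).2 inferInstance) ≪≫
      (restrictDIso φ X).symm ≪≫ (DRing.restrictD φ).mapIso eX
  let G := (ModuleCat.extendScalars.{u, u, u} φ).mapHomologicalComplex (ComplexShape.up ℤ)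
  have h0 : G.map μ = 0 := HomologicalComplex.hom_ext _ _ fun i => ext_hom_ext (M := L.X i) _ _ fun z => by
    show (oneL φ (L.X i)).hom ((μ.f i).hom z) = 0
    rw [hμ, map_smul]
    show φ Polynomial.X • (show (extCx φ L).X i from (oneL φ (L.X i)).hom z) = 0
    simp [φ]
  have hid : φ.comp (C : R →+* R[X]) = RingHom.id R := RingHom.ext fun r => by simp [φ]
  let eY : G.obj L ≅ X := HomologicalComplex.Hom.isoOfComponents
    (fun i => (((ModuleCat.extendScalarsComp (C : R →+* R[X]) φ).app (X.X i)).symm ≪≫
      (eqToIso (congrArg (fun χ => (ModuleCat.extendScalars.{u, u, u} χ).obj (X.X i)) hid)) ≪≫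
      (ModuleCat.extendScalarsId R).app (X.X i) : (G.obj L).X i ≅ X.X i))
    (fun i j _ => by
      let τ : ModuleCat.extendScalars.{u, u, u} (C : R →+* R[X]) ⋙ ModuleCat.extendScalars.{u, u, u} φ ≅ 𝟭 _ :=
        (ModuleCat.extendScalarsComp (C : R →+* R[X]) φ).symm ≪≫
          eqToIso (congrArg (fun χ => ModuleCat.extendScalars.{u, u, u} χ) hid) ≪≫ ModuleCat.extendScalarsId R
      have := τ.hom.naturality (X.d i j)
      simp only [τ, Iso.trans_hom, NatTrans.comp_app, eqToIso.hom, eqToHom_app] at this
      exact this.symm)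
  have hT := DerivedCategory.mappingCone_triangle_distinguished (G.map μ)
  let T := (QA R).mapTriangle.obj (CochainComplex.mappingCone.triangle (G.map μ))
  have hT' : T.rotate ∈ distinguishedTriangles := rot_of_distTriang _ hT
  have hz : T.rotate.mor₃ = 0 := by
    show -((shiftFunctor (Dual.D R) (1 : ℤ)).map ((QA R).map (G.map μ))) = 0
    rw [h0, Functor.map_zero, Functor.map_zero, neg_zero]
  obtain ⟨e, -, -⟩ := exists_iso_binaryBiproduct_of_distTriang T.rotate hT' hz
  let eQ : (QA R).obj (G.obj L) ≅ K := (QA R).mapIso eY ≪≫ eX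
  exact ⟨(DRing.LBaseChange φ).mapIso eP.symm ≪≫ LBaseChangeIso φ P isKFlat_of_isKProjective ≪≫
    (QA R).mapIso (CochainComplex.mappingCone.mapHomologicalComplexIso μ (ModuleCat.extendScalars.{u, u, u} φ)) ≪≫
    e ≪≫ biprod.mapIso eQ ((shiftFunctor (Dual.D R) (1 : ℤ)).mapIso eQ)⟩

end Groth.Agent.DR39
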