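import Groth.Agent.DR39.Split
import Groth.Agent.DR39.EvalZero
import Groth.Agent.DR39.BC
import Groth.Agent.DR39.Perf
import Mathlib.LinearAlgebra.Charpoly.Basic
import Mathlib.LinearAlgebra.Matrix.Charpoly.Coeff
import Mathlib.RingTheory.LocalRing.ResidueField.Ideal
import Mathlib.Data.Int.Interval

/-! Splitting off a fibrewise acyclic degree away from a function. -/

set_option autoImplicit false
set_option linter.style.haveILetI false
set_option linter.unusedSectionVars false

universe u

open CategoryTheory CategoryTheory.Limits CategoryTheory.Pretriangulated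

attribute [local instance] HasDerivedCategory.standard

namespace Groth.Agent.DR39

section Field

variable {k V₀ V₁ V₂ : Type*} [Field k] [AddCommGroup V₀] [Module k V₀] [AddCommGroup V₁] [Module k V₁]
  [AddCommGroup V₂] [Module k V₂]

theorem exists_local_homotopy (a : V₀ →ₗ[k] V₁) (b : V₁ →ₗ[k] V₂) (hba : b ∘ₗ a = 0)
    (h : ∀ x, b x = 0 → x ∈ LinearMap.range a) :
    ∃ (s : V₁ →ₗ[k] V₀) (t : V₂ →ₗ[k] V₁), a ∘ₗ s + t ∘ₗ b = LinearMap.id := by
  obtain ⟨g, hg⟩ := Module.projective_lifting_property b.rangeRestrict LinearMap.id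
    (LinearMap.surjective_rangeRestrict b)
  obtain ⟨t, ht⟩ := LinearMap.exists_extend g
  have hmem : ∀ x, x - t (b x) ∈ LinearMap.range a := fun x => h _ (by
    rw [map_sub, show t (b x) = g ⟨b x, x, rfl⟩ from LinearMap.congr_fun ht ⟨b x, x, rfl⟩,
      show b (g ⟨b x, x, rfl⟩) = b x from congrArg Subtype.val (LinearMap.congr_fun hg ⟨b x, x, rfl⟩), sub_self])
  obtain ⟨s, hs⟩ := Module.projective_lifting_property a.rangeRestrict
    (LinearMap.codRestrict _ (LinearMap.id - t ∘ₗ b) hmem) (LinearMap.surjective_rangeRestrict a)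
  refine ⟨s, t, LinearMap.ext fun x => ?_⟩
  have : a (s x) = x - t (b x) := congrArg Subtype.val (LinearMap.congr_fun hs x)
  simp [this]

end Field

section One

variable {A B : Type u} [CommRing A] [CommRing B] (φ : A →+* B) (M : ModuleCat.{u} A)

/-- `x ↦ 1 ⊗ x`, typed in the extended module. -/
noncomputable def one' (x : M) : (ModuleCat.extendScalars.{u, u, u} φ).obj M := (oneL φ M).hom x

theorem one'_add (x y : M) : one' φ M (x + y) = one' φ M x + one' φ M y := map_add (oneL φ M).hom x y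

theorem one'_zero : one' φ M 0 = 0 := map_zero (oneL φ M).hom

theorem one'_sub (x y : M) : one' φ M (x - y) = one' φ M x - one' φ M y := map_sub (oneL φ M).hom x y

theorem one'_smul (r : A) (x : M) : one' φ M (r • x) = φ r • one' φ M x := (oneL φ M).hom.map_smul r x

theorem one'_map {N : ModuleCat.{u} A} (g : M ⟶ N) (x : M) :
    one' φ N (g.hom x) = ((ModuleCat.extendScalars.{u, u, u} φ).map g).hom (one' φ M x) := rfl

theorem span_one' (z : (ModuleCat.extendScalars.{u, u, u} φ).obj M) :
    z ∈ Submodule.span B (Set.range (one' φ M)) := by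
  have h0 : ModuleCat.ofHom (Submodule.span B (Set.range (one' φ M))).mkQ = 0 :=
    ext_hom_ext (M := M) _ _ fun x => (Submodule.Quotient.mk_eq_zero _).2 (Submodule.subset_span ⟨x, rfl⟩)
  exact (Submodule.Quotient.mk_eq_zero _).1 (LinearMap.congr_fun (congrArg ModuleCat.Hom.hom h0) z)

end One

section Residue

variable {R : Type u} [CommRing R] (p : Ideal R) [p.IsPrime]

theorem exists_denom_residue (a : p.ResidueField) :
    ∃ (c r : R), c ∉ p ∧ algebraMap R p.ResidueField c * a = algebraMap R p.ResidueField r := by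
  obtain ⟨x, y, hy, rfl⟩ := IsFractionRing.div_surjective (R ⧸ p) a
  obtain ⟨r, rfl⟩ := Ideal.Quotient.mk_surjective x
  obtain ⟨c, rfl⟩ := Ideal.Quotient.mk_surjective y
  have hc : c ∉ p := fun h => nonZeroDivisors.ne_zero hy (Ideal.Quotient.eq_zero_iff_mem.2 h)
  have hc0 : algebraMap R p.ResidueField c ≠ 0 := fun h =>
    hc ((Ideal.algebraMap_residueField_eq_zero).1 h)
  exact ⟨c, r, hc, mul_div_cancel₀ (algebraMap R p.ResidueField r) hc0⟩

theorem exists_denom (M : ModuleCat.{u} R)
    (z : (ModuleCat.extendScalars.{u, u, u} (algebraMap R p.ResidueField)).obj M) :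
    ∃ c : R, c ∉ p ∧ ∃ x : M, algebraMap R p.ResidueField c • z = one' (algebraMap R p.ResidueField) M x := by
  induction span_one' (algebraMap R p.ResidueField) M z using Submodule.span_induction with
  | mem z hz =>
    obtain ⟨x, rfl⟩ := hz
    exact ⟨1, fun h => ‹p.IsPrime›.ne_top ((Ideal.eq_top_iff_one p).2 h), x, by rw [map_one, one_smul]⟩
  | zero => exact ⟨1, fun h => ‹p.IsPrime›.ne_top ((Ideal.eq_top_iff_one p).2 h), 0, by
      rw [smul_zero, one'_zero]⟩
  | add z w _ _ hz hw =>
    obtain ⟨c, hc, x, hx⟩ := hz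
    obtain ⟨c', hc', x', hx'⟩ := hw
    refine ⟨c * c', fun h => (‹p.IsPrime›.mem_or_mem h).elim hc hc', c' • x + c • x', ?_⟩
    rw [one'_add, one'_smul, one'_smul, ← hx, ← hx', smul_smul, smul_smul, smul_add, map_mul,
      mul_comm (algebraMap R p.ResidueField c')]
  | smul a z _ hz =>
    obtain ⟨c, hc, x, hx⟩ := hz
    obtain ⟨c', r, hc', hr⟩ := exists_denom_residue p a
    refine ⟨c' * c, fun h => (‹p.IsPrime›.mem_or_mem h).elim hc' hc, r • x, ?_⟩
    rw [one'_smul, ← hx, smul_smul, smul_smul, ← hr, map_mul]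
    congr 1
    ring

theorem exists_denom_map (M N : ModuleCat.{u} R) [Module.Finite R M] [Module.Free R M]
    (g : (ModuleCat.extendScalars.{u, u, u} (algebraMap R p.ResidueField)).obj M →ₗ[p.ResidueField]
      (ModuleCat.extendScalars.{u, u, u} (algebraMap R p.ResidueField)).obj N) :
    ∃ c : R, c ∉ p ∧ ∃ g' : M →ₗ[R] N, ∀ x, one' (algebraMap R p.ResidueField) N (g' x) =
      algebraMap R p.ResidueField c • g (one' (algebraMap R p.ResidueField) M x) := by
  classical
  let B := Module.Free.chooseBasis R M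
  choose c hc x hx using fun k => exists_denom p N (g (one' (algebraMap R p.ResidueField) M (B k)))
  refine ⟨∏ k, c k, fun h => ?_, B.constr ℕ fun k => (∏ l ∈ Finset.univ.erase k, c l) • x k, fun y => ?_⟩
  · obtain ⟨k, -, hk⟩ := (Ideal.IsPrime.prod_mem_iff (hp := ‹p.IsPrime›)).1 h
    exact hc k hk
  induction B.mem_span y using Submodule.span_induction with
  | mem y hy =>
    obtain ⟨k, rfl⟩ := hy
    rw [Module.Basis.constr_basis, one'_smul, ← hx k, smul_smul, ← map_mul,
      Finset.prod_erase_mul _ _ (Finset.mem_univ k)]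
  | zero => rw [map_zero, one'_zero, one'_zero, g.map_zero, smul_zero]
  | add y z _ _ hy hz => rw [map_add, one'_add, hy, hz, one'_add, g.map_add, smul_add]
  | smul r y _ hy => rw [map_smul, one'_smul, hy, one'_smul, g.map_smul, smul_comm]

end Residue

theorem coord_eq_zero_of_oneL {R B : Type u} [CommRing R] [CommRing B] (φ : R →+* B) (M : ModuleCat.{u} R)
    (l : M →ₗ[R] R) (y : M) (h : one' φ M y = 0) : φ (l y) = 0 := by
  let g : M ⟶ (ModuleCat.restrictScalars φ).obj (ModuleCat.of B B) :=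
    ModuleCat.ofHom (Y := (ModuleCat.restrictScalars φ).obj (ModuleCat.of B B))
      { toFun := fun x => (show (ModuleCat.restrictScalars φ).obj (ModuleCat.of B B) from φ (l x))
        map_add' := fun a b => by simp only [map_add]; rfl
        map_smul' := fun r a => by
          show φ (l (r • a)) = φ r * φ (l a)
          rw [map_smul, smul_eq_mul, map_mul] }
  exact (fromExt_oneL g y).symm.trans ((congrArg
    (ModuleCat.ExtendRestrictScalarsAdj.HomEquiv.fromExtendScalars φ g).hom h).trans (map_zero _))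

section Det

variable {R : Type u} [CommRing R] {M : Type u} [AddCommGroup M] [Module R M] [Module.Finite R M] [Module.Free R M]

theorem exists_poly_inverse (u : M →ₗ[R] M) :
    ∃ (f : R) (q : M →ₗ[R] M), u ∘ₗ q = f • LinearMap.id ∧ q ∘ₗ u = f • LinearMap.id ∧
      (∀ B : Submodule R M, (∀ x ∈ B, u x ∈ B) → ∀ x ∈ B, q x ∈ B) ∧
      f = -((-1) ^ Fintype.card (Module.Free.ChooseBasisIndex R M) * LinearMap.det u) := by
  classical
  let B := Module.Free.chooseBasis R M
  let P := (LinearMap.toMatrix B B u).charpoly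
  have hP : Polynomial.aeval u P = 0 := by
    rw [show P = u.charpoly from LinearMap.charpoly_toMatrix u B]
    exact LinearMap.aeval_self_charpoly u
  have hsplit := congrArg (Polynomial.aeval u) (Polynomial.X_mul_divX_add P)
  rw [map_add, map_mul, Polynomial.aeval_X, Polynomial.aeval_C, hP] at hsplit
  refine ⟨-P.coeff 0, Polynomial.aeval u P.divX, ?_, ?_, fun S hS x hx => ?_, ?_⟩
  · rw [eq_neg_of_add_eq_zero_left hsplit |> fun h => show u ∘ₗ Polynomial.aeval u P.divX = _ from h,
      neg_smul, Module.algebraMap_end_eq_smul_id]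
  · have h2 : Polynomial.aeval u P.divX * u = u * Polynomial.aeval u P.divX := by
      conv_lhs => arg 2; rw [← Polynomial.aeval_X (R := R) u]
      conv_rhs => arg 1; rw [← Polynomial.aeval_X (R := R) u]
      rw [← map_mul, ← map_mul, mul_comm]
    show Polynomial.aeval u P.divX * u = _
    rw [h2, eq_neg_of_add_eq_zero_left hsplit, neg_smul, Module.algebraMap_end_eq_smul_id]
  · induction P.divX using Polynomial.induction_on generalizing x with
    | C a => rw [Polynomial.aeval_C, Module.algebraMap_end_apply]; exact S.smul_mem a hx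
    | add a b ha hb => rw [map_add, LinearMap.add_apply]; exact add_mem (ha x hx) (hb x hx)
    | monomial n a ha =>
      rw [pow_succ, ← mul_assoc, map_mul, Polynomial.aeval_X]
      exact ha (u x) (hS x hx)
  · rw [← LinearMap.det_toMatrix B, Matrix.det_eq_sign_charpoly_coeff, ← mul_assoc, ← pow_add,
      Even.neg_one_pow ⟨_, rfl⟩, one_mul]

end Det

theorem away_criterion {R : Type u} [CommRing R] (p : Ideal R) [p.IsPrime] (E : DRing.Cx R) (i : ℤ)
    [∀ j, Module.Finite R (E.X j)] [∀ j, Module.Free R (E.X j)]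
    (h : IsZero ((extCx (algebraMap R p.ResidueField) E).homology i)) :
    ∃ (f : R), f ∉ p ∧ ∃ r : E.X (i + 1) →ₗ[R] E.X i,
      ∀ x : E.X i, f • x - r ((E.d i (i + 1)).hom x) ∈ LinearMap.range (E.d (i - 1) i).hom := by
  classical
  let φ := algebraMap R p.ResidueField
  let E' := extCx φ E
  obtain ⟨sb, tb, hst⟩ := exists_local_homotopy (V₀ := E'.X (i - 1)) (V₁ := E'.X i) (V₂ := E'.X (i + 1))
    (E'.d (i - 1) i).hom (E'.d i (i + 1)).hom
    (congrArg ModuleCat.Hom.hom (E'.d_comp_d (i - 1) i (i + 1))) (fun x hx => by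
      obtain ⟨w, hw⟩ := (isZero_homology_iff E' i).1 h x hx
      exact ⟨w, hw⟩)
  obtain ⟨c₁, hc₁, s, hs⟩ := exists_denom_map p (E.X i) (E.X (i - 1)) sb
  obtain ⟨c₂, hc₂, t, ht⟩ := exists_denom_map p (E.X (i + 1)) (E.X i) tb
  let u : E.X i →ₗ[R] E.X i := c₂ • ((E.d (i - 1) i).hom ∘ₗ s) + c₁ • (t ∘ₗ (E.d i (i + 1)).hom)
  have hd : ∀ (j k : ℤ) (x : E.X j), one' φ (E.X k) ((E.d j k).hom x) =
      (E'.d j k).hom (one' φ (E.X j) x) := fun j k x => rfl
  have hu : ∀ x, one' φ (E.X i) (u x) = one' φ (E.X i) ((c₁ * c₂) • x) := fun x => by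
    simp only [u, LinearMap.add_apply, LinearMap.smul_apply, LinearMap.comp_apply, one'_add, one'_smul]
    rw [hd, hs, ht, hd]
    refine (congrArg₂ (· + ·) (congrArg _ ((E'.d (i - 1) i).hom.map_smul _ _)) rfl).trans ?_
    show φ c₂ • φ c₁ • (E'.d (i - 1) i).hom (sb (one' φ (E.X i) x)) +
      φ c₁ • φ c₂ • tb ((E'.d i (i + 1)).hom (one' φ (E.X i) x)) = φ (c₁ * c₂) • one' φ (E.X i) x
    rw [smul_smul, smul_smul, mul_comm (φ c₂), ← map_mul, ← smul_add]
    exact congrArg _ (LinearMap.congr_fun hst _)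
  obtain ⟨f, q, huq, hqu, hqB, hf⟩ := exists_poly_inverse u
  let B := Module.Free.chooseBasis R (E.X i)
  have hdet : φ (LinearMap.det u) = φ (c₁ * c₂) ^ Fintype.card (Module.Free.ChooseBasisIndex R (E.X i)) := by
    rw [← LinearMap.det_toMatrix B, RingHom.map_det]
    have : φ.mapMatrix (LinearMap.toMatrix B B u) =
        φ (c₁ * c₂) • (1 : Matrix (Module.Free.ChooseBasisIndex R (E.X i)) _ p.ResidueField) := by
      ext a b
      have h0 := coord_eq_zero_of_oneL φ (E.X i) (B.coord a) (u (B b) - (c₁ * c₂) • B b)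
        (by rw [one'_sub, hu, sub_self])
      rw [map_sub, map_sub, sub_eq_zero, map_smul, smul_eq_mul, map_mul (f := φ), Module.Basis.coord_apply,
        Module.Basis.coord_apply] at h0
      rw [RingHom.mapMatrix_apply, Matrix.map_apply, LinearMap.toMatrix_apply, h0, Module.Basis.repr_self]
      simp [Matrix.one_apply, Finsupp.single_apply, eq_comm (a := a)]
    rw [this, Matrix.det_smul, Matrix.det_one, mul_one]
  refine ⟨f, fun hfp => ?_, c₁ • (q ∘ₗ t), fun x => ?_⟩
  · have h0 : φ f = 0 := Ideal.algebraMap_residueField_eq_zero.2 hfp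
    rw [hf, map_neg, map_mul, hdet, map_pow, map_neg, map_one, neg_eq_zero, mul_eq_zero] at h0
    rcases h0 with h0 | h0
    · exact absurd (pow_eq_zero_iff'.1 h0).1 (neg_ne_zero.2 one_ne_zero)
    · have := (pow_eq_zero_iff'.1 h0).1
      rw [map_mul, mul_eq_zero, Ideal.algebraMap_residueField_eq_zero, Ideal.algebraMap_residueField_eq_zero] at this
      exact this.elim hc₁ hc₂
  · have huB : ∀ y ∈ LinearMap.range (E.d (i - 1) i).hom, u y ∈ LinearMap.range (E.d (i - 1) i).hom := by
      rintro _ ⟨y, rfl⟩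
      refine ⟨c₂ • s ((E.d (i - 1) i).hom y), ?_⟩
      simp only [u, LinearMap.add_apply, LinearMap.smul_apply, LinearMap.comp_apply, map_smul]
      rw [show (E.d i (i + 1)).hom ((E.d (i - 1) i).hom y) = 0 from
        LinearMap.congr_fun (congrArg ModuleCat.Hom.hom (E.d_comp_d (i - 1) i (i + 1))) y, map_zero, smul_zero,
        add_zero]
    have e : f • x - (c₁ • (q ∘ₗ t)) ((E.d i (i + 1)).hom x) = c₂ • q ((E.d (i - 1) i).hom (s x)) := by
      rw [show f • x = q (u x) from (LinearMap.congr_fun hqu x).symm]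
      simp [u]
    rw [e]
    exact Submodule.smul_mem _ _ (hqB _ huB _ ⟨_, rfl⟩)

theorem away_local {R : Type u} [CommRing R] (E : DRing.Cx R) (i : ℤ) (f : R)
    (r : E.X (i + 1) →ₗ[R] E.X i)
    (hr : ∀ x : E.X i, f • x - r ((E.d i (i + 1)).hom x) ∈ LinearMap.range (E.d (i - 1) i).hom) :
    ∃ r' : (extCx (algebraMap R (Localization.Away f)) E).X (i + 1) ⟶
        (extCx (algebraMap R (Localization.Away f)) E).X i,
      ∀ z, z - r'.hom (((extCx (algebraMap R (Localization.Away f)) E).d i (i + 1)).hom z) ∈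
        LinearMap.range ((extCx (algebraMap R (Localization.Away f)) E).d (i - 1) i).hom := by
  let S := Localization.Away f
  let φ := algebraMap R S
  obtain ⟨c, hc⟩ := (IsLocalization.Away.algebraMap_isUnit f : IsUnit (φ f)).exists_left_inv
  let Ex := ModuleCat.extendScalars.{u, u, u} φ
  refine ⟨c • Ex.map (ModuleCat.ofHom r), fun z => ?_⟩
  let T : Ex.obj (E.X i) →ₗ[S] Ex.obj (E.X i) :=
    LinearMap.id - (c • Ex.map (ModuleCat.ofHom r)).hom ∘ₗ ((extCx φ E).d i (i + 1)).hom
  suffices h0 : ModuleCat.ofHom ((LinearMap.range ((extCx φ E).d (i - 1) i).hom).mkQ ∘ₗ T) = 0 from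
    (Submodule.Quotient.mk_eq_zero _).1 (LinearMap.congr_fun (congrArg ModuleCat.Hom.hom h0) z)
  refine ext_hom_ext (M := E.X i) _ _ fun x => (Submodule.Quotient.mk_eq_zero _).2 ?_
  obtain ⟨y, hy⟩ := hr x
  refine ⟨c • one' φ (E.X (i - 1)) y, (((extCx φ E).d (i - 1) i).hom.map_smul _ _).trans ?_⟩
  show c • one' φ (E.X i) ((E.d (i - 1) i).hom y) =
    one' φ (E.X i) x - c • one' φ (E.X i) (r ((E.d i (i + 1)).hom x))
  rw [hy, one'_sub, one'_smul, smul_sub, smul_smul, hc, one_smul]

variable {R : Type u} [CommRing R]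

theorem away_main (p : Ideal R) [p.IsPrime] [DRing.HasLBaseChange (algebraMap R p.ResidueField)] (i : ℤ)
    (K : DRing.Cx R) (hK : DRing.IsPseudoCoherent' R (DRing.toD K))
    (hi : Subsingleton (Dual.HD p.ResidueField
      ((DRing.LBaseChange (algebraMap R p.ResidueField)).obj (DRing.toD K)) i)) :
    ∃ f : R, f ∉ p ∧
      ∀ X : Dual.D (Localization.Away f), Nonempty (X ≅ (QA (Localization.Away f)).obj
          (extCx (algebraMap R (Localization.Away f)) K)) →
      DRing.IsPerfect (Localization.Away f) (((tA (Localization.Away f)).truncGE (i + 1)).obj X) ∧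
      (∃ b : ℤ, DRing.HasTorAmplitudeIn (Localization.Away f) (i + 1) b
        (((tA (Localization.Away f)).truncGE (i + 1)).obj X)) ∧
      ∀ [HasBinaryBiproduct (((tA (Localization.Away f)).truncGE (i + 1)).obj X)
          (((tA (Localization.Away f)).truncLT i).obj X)],
        ∃ e : X ≅ ((tA (Localization.Away f)).truncGE (i + 1)).obj X ⊞ ((tA (Localization.Away f)).truncLT i).obj X,
          e.hom ≫ biprod.fst = ((tA (Localization.Away f)).truncGEπ (i + 1)).app X ∧
          ((tA (Localization.Away f)).truncLTι i).app X ≫ e.hom = biprod.inr := by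
  obtain ⟨E, b₀, hv₀, hE, ⟨e⟩⟩ := hK
  let b := max b₀ i
  have hv : DRing.VanishesAbove E b := fun j hj => hv₀ j (lt_of_le_of_lt (le_max_left _ _) hj)
  haveI : ∀ j, Module.Finite R (E.X j) := fun j => (hE j).1
  haveI : ∀ j, Module.Free R (E.X j) := fun j => (hE j).2
  haveI := isKProjective_of_bddAbove E b hv fun j => inferInstance
  have h0 : IsZero ((extCx (algebraMap R p.ResidueField) E).homology i) := by
    rw [← isZero_HF_Q_iff]
    refine IsZero.of_iso ((isZero_HF_iff _ i).2 hi) ((HF _ i).mapIso ?_)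
    exact (LBaseChangeIso (algebraMap R p.ResidueField) E isKFlat_of_isKProjective).symm ≪≫
      (DRing.LBaseChange (algebraMap R p.ResidueField)).mapIso e
  obtain ⟨f, hfp, r, hr⟩ := away_criterion p E i h0
  obtain ⟨r', hr'⟩ := away_local E i f r hr
  refine ⟨f, hfp, fun X ⟨eX⟩ => ?_⟩
  let S := Localization.Away f
  let E' := extCx (algebraMap R S) E
  haveI : Module.Flat R S := IsLocalization.flat S (Submonoid.powers f)
  let eE : (QA S).obj E' ≅ X := (DFQ (extA R S) E).symm ≪≫ (DF (extA R S)).mapIso e ≪≫ DFQ (extA R S) K ≪≫ eX.symm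
  have hv' : DRing.VanishesAbove E' b := fun j hj => (extA R S).map_isZero (hv j hj)
  have hp' : ∀ j, Module.Projective S (E'.X j) := fun j =>
    projective_extendScalars (algebraMap R S) (inferInstance : Module.Projective R (E.X j))
  haveI := isKProjective_of_bddAbove E' b hv' hp'
  have hH : IsZero ((HF S i).obj X) := by
    refine IsZero.of_iso ?_ ((HF S i).mapIso eE.symm)
    rw [isZero_HF_Q_iff, isZero_homology_iff]
    intro z hz
    obtain ⟨y, hy⟩ := hr' z
    rw [hz, map_zero, sub_zero] at hy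
    exact ⟨y, hy⟩
  have hX : ExtVanish X i := by
    refine ExtVanish.of_iso (fun N g => ?_) eE
    obtain ⟨φ, hφ⟩ := Q_map_surjective E'
      ((HomologicalComplex.single (ModuleCat.{u} S) (ComplexShape.up ℤ) i).obj N) g
    refine hφ.symm.trans (((Q_map_eq_iff φ 0).2 ?_).trans (Functor.map_zero _ _ _))
    let h : ∀ a a', E'.X a ⟶ ((HomologicalComplex.single (ModuleCat.{u} S) (ComplexShape.up ℤ) i).obj N).X a' :=
      fun a a' => if ha : a = i + 1 ∧ a' = i then (E'.XIsoOfEq ha.1).hom ≫ r' ≫ φ.f i ≫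
        ((HomologicalComplex.single (ModuleCat.{u} S) (ComplexShape.up ℤ) i).obj N |>.XIsoOfEq ha.2).inv else 0
    have hh : ∀ a a', ¬(ComplexShape.up ℤ).Rel a' a → h a a' = 0 := fun a a' hij =>
      dif_neg fun ha => hij (show a' + 1 = a by omega)
    refine ⟨(Homotopy.ofEq ?_).trans (Homotopy.nullHomotopy h hh)⟩
    apply HomologicalComplex.to_single_hom_ext
    rw [Homotopy.nullHomotopicMap_f (k₂ := i - 1) (k₀ := i + 1) (sub_add_cancel i 1) rfl]
    simp only [h, dif_pos (And.intro rfl rfl), HomologicalComplex.single_obj_d, comp_zero, add_zero]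
    refine ModuleCat.hom_ext (LinearMap.ext fun z => ?_)
    simp only [HomologicalComplex.XIsoOfEq_rfl, Iso.refl_hom, Iso.refl_inv, Category.id_comp, Category.comp_id,
      ModuleCat.hom_comp, LinearMap.comp_apply]
    rw [← sub_eq_zero, ← map_sub]
    obtain ⟨y, hy⟩ := hr' z
    rw [← hy]
    refine (LinearMap.congr_fun (congrArg ModuleCat.Hom.hom (φ.comm (i - 1) i)) y).symm.trans ?_
    rw [HomologicalComplex.single_obj_d, comp_zero]
    rfl
  have hb : Acyc (b + 1) X := Acyc.of_iso (fun j hj => (isZero_HF_Q_iff E' j).2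
    (ShortComplex.isZero_homology_of_isZero_X₂ _ (hv' j (by omega)))) eE
  have hPR := rep_PR_truncGE hb (extVanish_truncGE hX)
  rw [max_eq_left (le_max_right b₀ i : i ≤ b)] at hPR
  obtain ⟨w, hT⟩ := exists_triangle_gap X i hH
  have hLT : Acyc (i + 2) (((tA S).truncLT i).obj X) :=
    ((acyc_iff_isLE i _).2 (isLE_truncLT X i)).mono (by omega)
  obtain ⟨e', h1, h2⟩ := split_of_rep_PR hT hPR hLT
  let e'' : X ≅ ((tA S).truncGE (i + 1)).obj X ⊞ ((tA S).truncLT i).obj X := e' ≪≫ biprod.braiding _ _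
  have hta : TA (i + 1) b (((tA S).truncGE (i + 1)).obj X) := (ta_iff_rep _ _ _).2 (hPR.weaken fun _ => flat_of_PR)
  refine ⟨(perfect_iff _).2 ⟨(pc'_iff_forall_pc _).2 fun m => ?_, i + 1, b, hta⟩, ⟨b, hta⟩, fun {_} => ?_⟩
  · refine PC.of_biprod (X := ((tA S).truncGE (i + 1)).obj X) (Y := ((tA S).truncLT i).obj X) ?_
    exact pc_of_rep_FP ⟨E', (vanishesAbove_iff E' b).1 hv',
      fun j => fp_extendScalars _ (FP_of_FF (hE j)), ⟨eE ≪≫ e''⟩⟩ m
  · obtain ⟨e₂, k1, k2⟩ := split_of_rep_PR hT hPR hLT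
    refine ⟨e₂ ≪≫ biprod.braiding _ _, ?_, ?_⟩
    · refine (Category.assoc _ _ _).trans (Eq.trans ?_ k2)
      exact congrArg (e₂.hom ≫ ·) (biprod.lift_fst _ _)
    · refine (Category.assoc _ _ _).symm.trans ((congrArg (· ≫ _) k1).trans ?_)
      exact biprod.hom_ext _ _ ((Category.assoc _ _ _).trans ((congrArg (biprod.inl ≫ ·) (biprod.lift_fst _ _)).trans
          (biprod.inl_snd.trans biprod.inr_fst.symm)))
        ((Category.assoc _ _ _).trans ((congrArg (biprod.inl ≫ ·) (biprod.lift_snd _ _)).trans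
          (biprod.inl_fst.trans biprod.inr_snd.symm)))

end Groth.Agent.DR39
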