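import Groth.Agent.DR39.Amp
import Mathlib.Algebra.Homology.Factorizations.CM5a
import Mathlib.Algebra.Category.ModuleCat.Injective
import Mathlib.Algebra.Category.ModuleCat.EnoughInjectives

/-! Injective amplitude. -/

set_option autoImplicit false
set_option linter.style.haveILetI false
set_option linter.unusedSectionVars false

universe u

open CategoryTheory CategoryTheory.Limits CategoryTheory.Pretriangulated

attribute [local instance] HasDerivedCategory.standard

namespace Groth.Agent.DR39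

variable {A : Type u} [CommRing A]

/-- Injective modules. -/
def INp (M : ModuleCat.{u} A) : Prop := Module.Injective A M

theorem inj_obj {M : ModuleCat.{u} A} (h : INp M) : Injective M :=
  (Module.injective_iff_injective_object A M).1 h

theorem INp_of_inj {M : ModuleCat.{u} A} (h : Injective M) : INp M :=
  (Module.injective_iff_injective_object A M).2 h

theorem isModClass_IN : IsModClass (INp (A := A)) where
  of_iso e h := INp_of_inj (Injective.of_iso e (inj_obj h))
  of_isZero h := INp_of_inj h.injective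
  prod M N hM hN := by
    haveI := inj_obj hM; haveI := inj_obj hN
    exact INp_of_inj (Injective.of_iso (ModuleCat.biprodIsoProd M N) inferInstance)

theorem ia_iff_rep (a b : ℤ) (X : Dual.D A) :
    DRing.HasInjAmplitudeIn A a b X ↔ Rep INp (Set.Icc a b) X :=
  ⟨fun ⟨E, h1, h2, h3⟩ => ⟨E, (vanishesOutside_iff E a b).1 h1, h2, h3⟩,
    fun ⟨E, h1, h2, h3⟩ => ⟨E, (vanishesOutside_iff E a b).2 h1, h2, h3⟩⟩

theorem isKInjective_of_rep (E : DRing.Cx A) (a : ℤ) (h1 : ∀ i, i < a → IsZero (E.X i))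
    (h2 : ∀ i, INp (E.X i)) : E.IsKInjective := by
  haveI : E.IsStrictlyGE a := by rw [CochainComplex.isStrictlyGE_iff]; exact h1
  haveI : ∀ i, Injective (E.X i) := fun i => inj_obj (h2 i)
  exact CochainComplex.isKInjective_of_injective E a

/-- Cones of maps between bounded complexes of injectives. -/
theorem finiteInjDim_obj₃ {T : Triangle (Dual.D A)} (hT : T ∈ distinguishedTriangles)
    (h₁ : DRing.HasFiniteInjDim A T.obj₁) (h₂ : DRing.HasFiniteInjDim A T.obj₂) :
    DRing.HasFiniteInjDim A T.obj₃ := by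
  obtain ⟨a, b, E, hE, hEI, ⟨e₁⟩⟩ := h₁
  obtain ⟨a', b', F, hF, hFI, ⟨e₂⟩⟩ := h₂
  haveI := isKInjective_of_rep F a' (fun i hi => hF i (Or.inl hi)) hFI
  obtain ⟨f, hf⟩ := Q_map_surjective_to E F (e₁.hom ≫ T.mor₁ ≫ e₂.inv)
  refine ⟨min (a - 1) a', max (b - 1) b', CochainComplex.mappingCone f, fun i hi => ?_, fun i => ?_,
    ⟨Triangle.π₃.mapIso (isoTriangleOfIso₁₂ _ T
      (DerivedCategory.mappingCone_triangle_distinguished f) hT e₁ e₂ (by
        change (QA A).map f ≫ e₂.hom = e₁.hom ≫ T.mor₁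
        erw [hf]
        simp))⟩⟩
  · refine IsZero.of_iso ?_ (HomologicalComplex.homotopyCofiber.XIsoBiprod f i (i + 1) rfl)
    exact (biprod_isZero_iff _ _).2 ⟨hE _ (by omega), hF _ (by omega)⟩
  · exact isModClass_IN.of_iso ((ModuleCat.biprodIsoProd _ _).symm ≪≫
      (HomologicalComplex.homotopyCofiber.XIsoBiprod f i (i + 1) rfl).symm)
      (isModClass_IN.prod _ _ (hEI (i + 1)) (hFI i))

theorem finiteInjDim_of_iso {X Y : Dual.D A} (h : DRing.HasFiniteInjDim A X) (e : X ≅ Y) :
    DRing.HasFiniteInjDim A Y := by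
  obtain ⟨a, b, h⟩ := h
  exact ⟨a, b, (ia_iff_rep a b Y).2 (((ia_iff_rep a b X).1 h).of_iso e)⟩

theorem finiteInjDim_shift {X : Dual.D A} (h : DRing.HasFiniteInjDim A X) (n : ℤ) :
    DRing.HasFiniteInjDim A (X⟦n⟧) := by
  obtain ⟨a, b, h⟩ := h
  exact ⟨a - n, b - n, (ia_iff_rep _ _ _).2 (((ia_iff_rep a b X).1 h).shift n fun i hi => by
    simp only [Set.mem_Icc] at hi ⊢; omega)⟩

theorem finiteInjDim_obj₂ {T : Triangle (Dual.D A)} (hT : T ∈ distinguishedTriangles)
    (h₁ : DRing.HasFiniteInjDim A T.obj₁) (h₃ : DRing.HasFiniteInjDim A T.obj₃) :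
    DRing.HasFiniteInjDim A T.obj₂ :=
  finiteInjDim_obj₃ (inv_rot_of_distTriang T hT) (finiteInjDim_shift h₃ (-1)) h₁

theorem finiteInjDim_of_isZero {X : Dual.D A} (h : IsZero X) : DRing.HasFiniteInjDim A X :=
  ⟨0, 0, (ia_iff_rep _ _ _).2 (Rep.of_isZero isModClass_IN h)⟩

theorem finiteInjDim_single {M : ModuleCat.{u} A} (n : ℤ)
    (h : DRing.HasFiniteInjDim A (Dual.inD A M)) :
    DRing.HasFiniteInjDim A ((DerivedCategory.singleFunctor (ModuleCat.{u} A) n).obj M) :=
  finiteInjDim_of_iso (finiteInjDim_shift h (-n)) (singleShiftIso M n (-n) (by omega))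

theorem finiteInjDim_of_terms (E : DRing.Cx A) (c d : ℤ) (hE : DRing.VanishesOutside E c d)
    (h : ∀ i, DRing.HasFiniteInjDim A (Dual.inD A (E.X i))) :
    DRing.HasFiniteInjDim A ((QA A).obj E) := by
  haveI := cutι_isIso_of_vanishesOutside E c d hE
  exact finiteInjDim_of_iso (induction_terms (P := DRing.HasFiniteInjDim A)
    (fun _ hT h1 h3 => finiteInjDim_obj₂ hT h1 h3) (fun _ hX => finiteInjDim_of_isZero hX)
    E d (fun i hi => hE i (Or.inr hi)) c
    fun i _ => finiteInjDim_single i (h i)) ((QA A).mapIso (asIso (cutι E c)))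

theorem finiteInjDim_of_homology {X : Dual.D A} {c d : ℤ} (hd : Acyc (d + 1) X)
    (hc : ∀ i, i < c → IsZero ((HF A i).obj X))
    (h : ∀ i, DRing.HasFiniteInjDim A (Dual.inD A ((HF A i).obj X))) :
    DRing.HasFiniteInjDim A X := by
  refine induction_homology (P := DRing.HasFiniteInjDim A) (fun e hX => finiteInjDim_of_iso hX e)
    (fun _ hT h1 h3 => finiteInjDim_obj₂ hT h1 h3)
    c X (fun Y hY hlow => finiteInjDim_of_isZero (isZero_of_forall fun i => ?_))
    (fun i _ => finiteInjDim_single i (h i)) (d + 1) hd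
  by_cases hi : c ≤ i
  · exact hY i hi
  · obtain ⟨e⟩ := hlow i (by omega)
    exact (hc i (by omega)).of_iso e

theorem subsingleton_hom_of_ia {X : Dual.D A} {a b : ℤ} (h : DRing.HasInjAmplitudeIn A a b X)
    (N : Type u) [AddCommGroup N] [Module A N] {i : ℤ} (hi : i < a ∨ b < i) :
    Subsingleton (DRing.ExtD A (Dual.inD A N) X i) := by
  obtain ⟨E, hE, hI, ⟨e⟩⟩ := h
  let L : DRing.Cx A := E⟦i⟧
  haveI : L.IsKInjective := isKInjective_of_rep L (a - i)
    (fun j hj => hE (j + i) (Or.inl (by omega))) fun j => hI (j + i)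
  let eL : (QA A).obj L ≅ X⟦i⟧ := ((QA A).commShiftIso i).app E ≪≫ (shiftFunctor (Dual.D A) i).mapIso e
  have h0 : ∀ f : Dual.inD A N ⟶ X⟦i⟧, f = 0 := by
    intro f
    obtain ⟨φ, hφ⟩ := Q_map_surjective_to (sgl (ModuleCat.of A N)) L (f ≫ eL.inv)
    have hφ0 : φ = 0 := by
      apply HomologicalComplex.from_single_hom_ext
      exact (hE (0 + i) (by omega)).eq_of_tgt _ _
    rw [← cancel_mono eL.inv, zero_comp]
    exact hφ.symm.trans (by rw [hφ0]; exact Functor.map_zero _ _ _)
  exact ⟨fun f g => (h0 f).trans (h0 g).symm⟩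

theorem hom_single_eq_zero {X : Dual.D A} {n : ℤ} {M : ModuleCat.{u} A}
    (h : Subsingleton (DRing.ExtD A (Dual.inD A M) X n)) (f : sngl n M ⟶ X) : f = 0 := by
  let e : (sngl n M)⟦n⟧ ≅ Dual.inD A M :=
    ((DerivedCategory.singleFunctors (ModuleCat.{u} A)).shiftIso n 0 n (add_zero n)).app M
  apply (shiftFunctor (Dual.D A) n).map_injective
  rw [← cancel_epi e.inv, Functor.map_zero, comp_zero]
  exact Subsingleton.elim (α := DRing.ExtD A (Dual.inD A M) X n) _ _

theorem isZero_HF_of_ext_ring {X : Dual.D A} {n : ℤ}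
    (h : Subsingleton (DRing.ExtD A (Dual.inD A A) X n)) : IsZero ((HF A n).obj X) := by
  haveI : Projective (ModuleCat.of A A) := (IsProjective.iff_projective (R := A) A).1 inferInstance
  have h0 : IsZero ((HF A 0).obj (X⟦n⟧)) := by
    rw [ModuleCat.isZero_iff_subsingleton]
    refine ⟨fun x y => ?_⟩
    obtain ⟨u, hu⟩ := (homToH0_bijective (ModuleCat.of A A) (X⟦n⟧)).2
      (ModuleCat.ofHom (LinearMap.toSpanSingleton A _ x))
    obtain ⟨v, hv⟩ := (homToH0_bijective (ModuleCat.of A A) (X⟦n⟧)).2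
      (ModuleCat.ofHom (LinearMap.toSpanSingleton A _ y))
    have huv : u = v := Subsingleton.elim (α := DRing.ExtD A (Dual.inD A A) X n) u v
    rw [huv, hv] at hu
    have := congrArg (fun g : ModuleCat.of A A ⟶ (HF A 0).obj (X⟦n⟧) => g.hom 1) hu
    simpa using this.symm
  exact h0.of_iso (((HF A 0).shiftIso n 0 n (add_zero n)).app X).symm

theorem ia_of_ext {X : Dual.D A} (a b : ℤ)
    (h : ∀ (I : Ideal A) (i : ℤ), (i < a ∨ b < i) → Subsingleton (DRing.ExtD A (Dual.inD A (A ⧸ I)) X i)) :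
    DRing.HasInjAmplitudeIn A a b X := by
  have hH : ∀ i, (i < a ∨ b < i) → IsZero ((HF A i).obj X) := fun i hi => by
    refine isZero_HF_of_ext_ring ?_
    haveI := h ⊥ i hi
    let e := (DerivedCategory.singleFunctor (ModuleCat.{u} A) 0).mapIso
      (Submodule.quotEquivOfEqBot (⊥ : Ideal A) rfl).toModuleIso
    exact ⟨fun f g => (cancel_epi e.hom).1
      (Subsingleton.elim (α := DRing.ExtD A (Dual.inD A (A ⧸ (⊥ : Ideal A))) X i) _ _)⟩
  haveI : X.IsGE a := (DerivedCategory.isGE_iff X a).2 fun i hi => hH i (Or.inl hi)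
  obtain ⟨K, hK, ⟨e⟩⟩ := DerivedCategory.exists_iso_Q_obj_of_isGE X a
  obtain ⟨L, q, _, hL, hLa⟩ :=
    CochainComplex.Plus.modelCategoryQuillen.exists_quasiIso_injective K a
  let eL : (QA A).obj L ≅ X := (asIso ((QA A).map q)).symm ≪≫ e.symm
  haveI : L.IsLE b := by
    rw [CochainComplex.isLE_iff]
    intro i hi
    rw [HomologicalComplex.exactAt_iff_isZero_homology]
    exact (isZero_HF_Q_iff L i).1 ((hH i (Or.inr hi)).of_iso ((HF A i).mapIso eL))
  haveI : L.IsKInjective := CochainComplex.isKInjective_of_injective L a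
  have hbaer : Module.Baer A (Zd L b) := by
    intro I f
    haveI := INp_of_inj (hL b)
    obtain ⟨F, hF⟩ := Module.Baer.of_injective this I ((Zd L b).subtype ∘ₗ f)
    let g : A ⧸ I →ₗ[A] L.X (b + 1) := Submodule.liftQ I ((L.d b (b + 1)).hom ∘ₗ F) fun x hx => by
      show (L.d b (b + 1)).hom (F x) = 0
      rw [hF x hx]
      exact (f ⟨x, hx⟩).2
    let φ : (HomologicalComplex.single (ModuleCat.{u} A) (ComplexShape.up ℤ) (b + 1)).obj
        (ModuleCat.of A (A ⧸ I)) ⟶ L :=
      HomologicalComplex.mkHomFromSingle (ModuleCat.ofHom g) fun j _ =>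
        ModuleCat.hom_ext (Submodule.linearMap_qext _ (LinearMap.ext fun x => d_apply_d L _ _ _ _))
    have hφ : (QA A).map φ = 0 := by
      rw [← cancel_mono eL.hom, zero_comp]
      exact hom_single_eq_zero (h I (b + 1) (Or.inr (by omega))) _
    obtain ⟨H⟩ := (Q_map_eq_iff_to φ 0).1 (hφ.trans (Functor.map_zero _ _ _).symm)
    let s := HomologicalComplex.singleObjXSelf (ComplexShape.up ℤ) (b + 1) (ModuleCat.of A (A ⧸ I))
    let G : ModuleCat.of A (A ⧸ I) ⟶ L.X b := s.inv ≫ H.hom (b + 1) b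
    have hG : G ≫ L.d b (b + 1) = ModuleCat.ofHom g := by
      have hc := H.comm (b + 1)
      rw [dNext_eq H.hom (show (ComplexShape.up ℤ).Rel (b + 1) (b + 1 + 1) by simp),
        prevD_eq H.hom (show (ComplexShape.up ℤ).Rel b (b + 1) by simp),
        HomologicalComplex.single_obj_d] at hc
      simp only [zero_comp, zero_add, HomologicalComplex.zero_f, add_zero] at hc
      show (s.inv ≫ H.hom (b + 1) b) ≫ L.d b (b + 1) = _
      rw [Category.assoc, ← hc]
      simp [φ, s]
    let F' : A →ₗ[A] L.X b := F - G.hom ∘ₗ Submodule.mkQ I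
    refine ⟨LinearMap.codRestrict (Zd L b) F' fun x => ?_, fun x hx => Subtype.ext ?_⟩
    · have := congrArg (fun u : ModuleCat.of A (A ⧸ I) ⟶ L.X (b + 1) => u.hom (Submodule.Quotient.mk x)) hG
      simp only [ModuleCat.hom_comp, LinearMap.comp_apply] at this
      rw [LinearMap.mem_ker]
      show (L.d b (b + 1)).hom (F x - G.hom (Submodule.Quotient.mk x)) = 0
      rw [map_sub, this]
      exact sub_self _
    · show F x - G.hom (Submodule.Quotient.mk x) = (f ⟨x, hx⟩ : L.X b)
      rw [(Submodule.Quotient.mk_eq_zero I).2 hx, map_zero, sub_zero, hF x hx]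
      rfl
  have hcyc : INp (L.cycles b) := by
    haveI : IsIso (zcls L b) := (isIso_iff_bijective _).2
      ⟨fun z w hzw => Subtype.ext (by rw [← iCycles_zcls L b z, ← iCycles_zcls L b w, hzw]),
        zcls_surjective L b⟩
    exact isModClass_IN.of_iso (asIso (zcls L b)) (Module.Baer.injective hbaer)
  refine ⟨L.truncLE b, fun i hi => ?_, fun i => ?_, ⟨asIso ((QA A).map (L.ιTruncLE b)) ≪≫ eL⟩⟩
  · rcases lt_or_ge b i with hib | hib
    · exact (L.truncLE b).isZero_of_isStrictlyLE b i hib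
    · have hz : IsZero (L.X i) := L.isZero_of_isStrictlyGE a i (by omega)
      rcases eq_or_lt_of_le hib with rfl | hlt
      · haveI := ModuleCat.subsingleton_of_isZero hz
        haveI : Subsingleton (L.cycles i) := (iCycles_injective L i).subsingleton
        exact (ModuleCat.isZero_of_subsingleton (L.cycles i)).of_iso (L.truncLEXIsoCycles i)
      · exact hz.of_iso (L.truncLEXIso b i hlt)
  · rcases lt_trichotomy i b with hlt | rfl | hgt
    · exact isModClass_IN.of_iso (L.truncLEXIso b i hlt).symm (INp_of_inj (hL i))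
    · exact isModClass_IN.of_iso (L.truncLEXIsoCycles i).symm hcyc
    · exact isModClass_IN.of_isZero ((L.truncLE b).isZero_of_isStrictlyLE b i hgt)

end Groth.Agent.DR39
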