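import Groth.Agent.DR39.HomCx
import Groth.Agent.CohDer42.KInj
import Mathlib.Algebra.Homology.DerivedCategory.KInjective
import Mathlib.Algebra.Category.ModuleCat.AB

/-! `RHom(E, -)` through K-injective resolutions, and invariance in `E`. -/

set_option autoImplicit false
set_option linter.style.haveILetI false
set_option linter.unusedSectionVars false

universe u

open CategoryTheory CategoryTheory.Limits CochainComplex CochainComplex.HomComplex

namespace Groth.Agent.DR39

section Generic

variable {C D E : Type*} [Category C] [Category D] [Category E] {L : C ⥤ D} {F : C ⥤ E}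

/-- A class of objects adapted to the right derivation of `F`. -/
structure CoDeformation (L : C ⥤ D) (F : C ⥤ E) where
  cls : C → Prop
  res : ∀ X, ∃ (P : C) (p : X ⟶ P), cls P ∧ IsIso (L.map p)
  surj : ∀ X P, cls P → Function.Surjective (L.map : (X ⟶ P) → _)
  inj : ∀ X P, cls P → ∀ f g : X ⟶ P, L.map f = L.map g → F.map f = F.map g

variable (W : MorphismProperty C) [L.IsLocalization W] (dd : CoDeformation L F)
include W

theorem CoDeformation.isIso_unit {RF : D ⥤ E} (α : F ⟶ L ⋙ RF) [RF.IsRightDerivedFunctor α W]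
    {X : C} (hX : dd.cls X) : IsIso (α.app X) := by
  haveI := Localization.essSurj L W
  have hr : ∀ Y : D, ∃ P : C, dd.cls P ∧ Nonempty (Y ≅ L.obj P) := fun Y => by
    obtain ⟨P, p, hP, hp⟩ := dd.res (L.objPreimage Y)
    exact ⟨P, hP, ⟨(L.objObjPreimageIso Y).symm ≪≫ asIso (L.map p)⟩⟩
  choose P hP e' using hr
  let e : ∀ Y, Y ≅ L.obj (P Y) := fun Y => (e' Y).some
  choose lift hlift using fun (Z : C) (Q : C) (hQ : dd.cls Q) (u : L.obj Z ⟶ L.obj Q) => dd.surj Z Q hQ u
  let G : D ⥤ E :=
    { obj := fun Y => F.obj (P Y)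
      map := fun {Y Y'} u => F.map (lift (P Y) (P Y') (hP Y') ((e Y).inv ≫ u ≫ (e Y').hom))
      map_id := fun Y => by
        rw [← F.map_id]
        exact dd.inj _ _ (hP Y) _ _ (by simp [hlift])
      map_comp := fun {Y Y' Y''} u v => by
        rw [← F.map_comp]
        exact dd.inj _ _ (hP Y'') _ _ (by simp [hlift]) }
  let a : F ⟶ L ⋙ G :=
    { app := fun Z => F.map (lift Z (P (L.obj Z)) (hP _) (e (L.obj Z)).hom)
      naturality := fun Z Z' f => by
        show F.map f ≫ F.map _ = F.map _ ≫ F.map _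
        rw [← F.map_comp, ← F.map_comp]
        exact dd.inj _ _ (hP _) _ _ (by simp [hlift]) }
  let γ : RF ⟶ G := RF.rightDerivedDesc α W G a
  have hγ : ∀ Z, α.app Z ≫ γ.app (L.obj Z) = a.app Z := fun Z => RF.rightDerived_fac_app α W G a Z
  let δ : G ⟶ RF :=
    { app := fun Y => α.app (P Y) ≫ RF.map (e Y).inv
      naturality := fun Y Y' u => by
        show F.map _ ≫ α.app (P Y') ≫ RF.map _ = (α.app (P Y) ≫ RF.map _) ≫ RF.map u
        rw [← Category.assoc, α.naturality, Functor.comp_map, hlift, Category.assoc, Category.assoc,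
          ← RF.map_comp, ← RF.map_comp]
        simp }
  have hδ : ∀ Z, a.app Z ≫ δ.app (L.obj Z) = α.app Z := fun Z => by
    show F.map _ ≫ α.app _ ≫ RF.map _ = _
    rw [← Category.assoc, α.naturality, Functor.comp_map, hlift, Category.assoc, ← RF.map_comp]
    simp
  have h1 : γ ≫ δ = 𝟙 RF := by
    refine RF.rightDerived_ext α W RF _ _ (NatTrans.ext (funext fun Z => ?_))
    show α.app Z ≫ γ.app (L.obj Z) ≫ δ.app (L.obj Z) = α.app Z ≫ 𝟙 _
    rw [← Category.assoc, hγ, hδ, Category.comp_id]
  have h2 : δ ≫ γ = 𝟙 G := by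
    refine NatTrans.ext (funext fun Y => ?_)
    show (α.app (P Y) ≫ RF.map (e Y).inv) ≫ γ.app Y = 𝟙 (F.obj (P Y))
    rw [Category.assoc, γ.naturality, ← Category.assoc, hγ]
    show F.map _ ≫ F.map _ = _
    rw [← F.map_comp, ← F.map_id]
    exact dd.inj _ _ (hP Y) _ _ (by simp [hlift])
  haveI : IsIso (δ.app (L.obj X)) :=
    ⟨γ.app (L.obj X), congrArg (fun t : G ⟶ G => t.app (L.obj X)) h2,
      congrArg (fun t : RF ⟶ RF => t.app (L.obj X)) h1⟩
  haveI : IsIso (a.app X) := by
    refine ⟨F.map (lift (P (L.obj X)) X hX (e (L.obj X)).inv), ?_, ?_⟩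
    · show F.map _ ≫ F.map _ = 𝟙 (F.obj X)
      rw [← F.map_comp, ← F.map_id]
      exact dd.inj _ _ hX _ _ (by simp [hlift])
    · show F.map _ ≫ F.map _ = 𝟙 (F.obj (P (L.obj X)))
      rw [← F.map_comp, ← F.map_id]
      exact dd.inj _ _ (hP _) _ _ (by simp [hlift])
  rw [← hδ X]
  infer_instance

end Generic

attribute [local instance] HasDerivedCategory.standard

variable {A : Type u} [CommRing A]

theorem Q_map_surjective_of_kinj (K L : DRing.Cx A) [L.IsKInjective] :
    Function.Surjective (DerivedCategory.Q.map : (K ⟶ L) → _) := by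
  intro α
  obtain ⟨β, hβ⟩ := (CochainComplex.IsKInjective.Qh_map_bijective _ L).2
    ((DerivedCategory.quotientCompQhIso (ModuleCat.{u} A)).hom.app K ≫ α ≫
      (DerivedCategory.quotientCompQhIso (ModuleCat.{u} A)).inv.app L)
  obtain ⟨f, rfl⟩ := (HomotopyCategory.quotient (ModuleCat.{u} A) (ComplexShape.up ℤ)).map_surjective β
  refine ⟨f, ?_⟩
  rw [← cancel_epi ((DerivedCategory.quotientCompQhIso (ModuleCat.{u} A)).hom.app K),
    ← NatIso.naturality_1 (DerivedCategory.quotientCompQhIso (ModuleCat.{u} A)) f]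
  simp [hβ]

theorem Q_map_eq_iff_of_kinj {K L : DRing.Cx A} [L.IsKInjective] (f g : K ⟶ L) :
    DerivedCategory.Q.map f = DerivedCategory.Q.map g ↔ Nonempty (Homotopy f g) := by
  refine ⟨fun h => ⟨HomotopyCategory.homotopyOfEq _ _ ?_⟩,
    fun ⟨h⟩ => DerivedCategory.Q_map_eq_of_homotopy (C := ModuleCat.{u} A) h⟩
  apply (CochainComplex.IsKInjective.Qh_map_bijective _ L).1
  have e1 := NatIso.naturality_2 (DerivedCategory.quotientCompQhIso (ModuleCat.{u} A)) f
  have e2 := NatIso.naturality_2 (DerivedCategory.quotientCompQhIso (ModuleCat.{u} A)) g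
  rw [h] at e1
  exact e1.symm.trans e2

/-- Postcomposition with homotopic maps. -/
noncomputable def homCxHomotopy (E : DRing.Cx A) {K L : DRing.Cx A} {f g : K ⟶ L} (h : Homotopy f g) :
    Homotopy (DRing.homCxMap E f) (DRing.homCxMap E g) where
  hom i j := if hij : j + 1 = i then ModuleCat.ofHom (X := Cochain E K i) (Y := Cochain E L j)
    { toFun := fun z => z.comp (Cochain.ofHomotopy h) (show i + -1 = j by omega)
      map_add' := fun z z' => by simp
      map_smul' := fun a z => by simp } else 0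
  zero i j hij := by
    rw [dif_neg]
    exact hij
  comm i := by
    rw [dNext_eq _ (show (ComplexShape.up ℤ).Rel i (i + 1) from rfl),
      prevD_eq _ (show (ComplexShape.up ℤ).Rel (i - 1) i from sub_add_cancel i 1),
      dif_pos (rfl : i + 1 = i + 1), dif_pos (sub_add_cancel i 1)]
    refine ModuleCat.hom_ext (LinearMap.ext fun (z : Cochain E K i) => ?_)
    show z.comp (Cochain.ofHom f) (add_zero i) =
      (δ i (i + 1) z).comp (Cochain.ofHomotopy h) (show i + 1 + -1 = i by omega) +
        δ (i - 1) i (z.comp (Cochain.ofHomotopy h) (show i + -1 = i - 1 by omega)) +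
        z.comp (Cochain.ofHom g) (add_zero i)
    rw [δ_comp z (Cochain.ofHomotopy h) (show i + -1 = i - 1 by omega) (i + 1) 0 i (by omega) rfl (by omega),
      δ_ofHomotopy, Cochain.comp_sub]
    simp only [Int.negOnePow_neg, Int.negOnePow_one, Units.neg_smul, one_smul]
    abel

/-- K-injective complexes are adapted to `Hom•(E, -)`. -/
noncomputable def homCxDeformation (E : DRing.Cx A) :
    CoDeformation (DerivedCategory.Q (C := ModuleCat.{u} A)) (DRing.homCxQ E) where
  cls I := I.IsKInjective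
  res X := by
    obtain ⟨I, f, hI, hf, -⟩ := CohDer42.exists_kinjective_resolution X
    exact ⟨I, f, hI, (DerivedCategory.isIso_Q_map_iff_quasiIso (ModuleCat.{u} A) f).2 hf⟩
  surj X I hI := by
    haveI := hI
    exact Q_map_surjective_of_kinj X I
  inj X I hI f g h := by
    haveI := hI
    obtain ⟨H⟩ := (Q_map_eq_iff_of_kinj f g).1 h
    exact DerivedCategory.Q_map_eq_of_homotopy (C := ModuleCat.{u} A) (homCxHomotopy E H)

/-- Precomposition. -/
noncomputable def homCxPre {P E : DRing.Cx A} (p : P ⟶ E) (L : DRing.Cx A) :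
    DRing.homCx E L ⟶ DRing.homCx P L where
  f i := ModuleCat.ofHom (X := Cochain E L i) (Y := Cochain P L i)
    { toFun := fun z => (Cochain.ofHom p).comp z (zero_add i)
      map_add' := fun z z' => by simp
      map_smul' := fun a z => by simp }
  comm' i j _ := by
    refine ModuleCat.hom_ext (LinearMap.ext fun (z : Cochain E L i) => ?_)
    exact δ_ofHom_comp p z j

theorem quasiIso_homCxPre {P E : DRing.Cx A} (p : P ⟶ E) [QuasiIso p] (L : DRing.Cx A) [L.IsKInjective] :
    QuasiIso (homCxPre p L) := by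
  haveI : IsIso (DerivedCategory.Q.map p) :=
    (DerivedCategory.isIso_Q_map_iff_quasiIso (ModuleCat.{u} A) p).2 inferInstance
  refine ⟨fun n => ?_⟩
  have hc : ∀ (M : DRing.Cx A) (x : Cochain M L n), δ n (n + 1) x = 0 →
      ∃ z : Cocycle M L n, z.1 = x := fun M x hx => ⟨⟨x, (Cocycle.mem_iff n (n + 1) rfl x).2 hx⟩, rfl⟩
  have key : ∀ {M : DRing.Cx A} (z : Cocycle M L n),
      DerivedCategory.Q.map (Cocycle.equivHomShift.symm z) = 0 ↔ z ∈ coboundaries M L n := fun {M} z => by
    rw [← CohomologyClass.toHom_mk_eq_zero_iff, CohomologyClass.toHom_mk,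
      HomotopyCategory.quotient_map_eq_zero_iff, ← Q_map_eq_iff_of_kinj]
    simp
  rw [quasiIsoAt_iff_isIso_homologyMap, isIso_iff_bijective]
  refine ⟨(injective_homologyMap_iff _ n).2 fun (x : Cochain E L n) hx (y : Cochain P L (n - 1)) hy => ?_,
    (surjective_homologyMap_iff _ n).2 fun (w : Cochain P L n) hw => ?_⟩
  · change δ n (n + 1) x = 0 at hx
    obtain ⟨z, rfl⟩ := hc E x hx
    change δ (n - 1) n y = (z.precomp p).1 at hy
    have h1 := (key (z.precomp p)).2 ((mem_coboundaries_iff _ (n - 1) (by omega)).2 ⟨y, hy⟩)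
    rw [Cocycle.equivHomShift_symm_precomp, Functor.map_comp] at h1
    have h2 : DerivedCategory.Q.map (Cocycle.equivHomShift.symm z) = 0 := by
      rw [← cancel_epi (DerivedCategory.Q.map p), h1, comp_zero]
    exact (mem_coboundaries_iff _ (n - 1) (by omega)).1 ((key z).1 h2)
  · change δ n (n + 1) w = 0 at hw
    obtain ⟨z', rfl⟩ := hc P w hw
    obtain ⟨g, hg⟩ := Q_map_surjective_of_kinj E (L⟦n⟧)
      (inv (DerivedCategory.Q.map p) ≫ DerivedCategory.Q.map (Cocycle.equivHomShift.symm z'))
    refine ⟨(Cocycle.equivHomShift g).1, Cocycle.δ_eq_zero _ (n + 1), ?_⟩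
    have h1 : DerivedCategory.Q.map (Cocycle.equivHomShift.symm ((Cocycle.equivHomShift g).precomp p - z')) = 0 := by
      rw [map_sub, Functor.map_sub, Cocycle.equivHomShift_symm_precomp, Functor.map_comp,
        AddEquiv.symm_apply_apply, hg]
      simp
    exact (mem_coboundaries_iff _ (n - 1) (by omega)).1 ((key _).1 h1)

/-- `RHom(E, L)` is computed by a K-projective model of `E`. -/
theorem RHomCx_iso_of_rep (E : DRing.Cx A) [DRing.HasRHomCx E] (P : DRing.Cx A) [P.IsKProjective]
    (e : DRing.toD P ≅ DRing.toD E) (L : DRing.Cx A) :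
    Nonempty ((DRing.RHomCx E).obj (DRing.toD L) ≅ DRing.toD (DRing.homCx P L)) := by
  obtain ⟨p, hp⟩ := Q_map_surjective P E e.hom
  haveI : QuasiIso p := (DerivedCategory.isIso_Q_map_iff_quasiIso (ModuleCat.{u} A) p).1 (by
    rw [hp]; infer_instance)
  obtain ⟨I, i, hI, hi, -⟩ := CohDer42.exists_kinjective_resolution L
  haveI := hI; haveI := hi
  haveI := (DerivedCategory.isIso_Q_map_iff_quasiIso (ModuleCat.{u} A) i).2 inferInstance
  haveI := (homCxDeformation E).isIso_unit (HomologicalComplex.quasiIso _ _)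
    ((DRing.homCxQ E).totalRightDerivedUnit DerivedCategory.Q
      (HomologicalComplex.quasiIso (ModuleCat.{u} A) (ComplexShape.up ℤ))) (X := I) hI
  haveI := quasiIso_homCxPre p I
  haveI := quasiIso_homCxMap P i
  have hpre := (DerivedCategory.isIso_Q_map_iff_quasiIso (ModuleCat.{u} A) (homCxPre p I)).2 inferInstance
  have hmap := (DerivedCategory.isIso_Q_map_iff_quasiIso (ModuleCat.{u} A) (DRing.homCxMap P i)).2 inferInstance
  exact ⟨(DRing.RHomCx E).mapIso (asIso (DerivedCategory.Q.map i)) ≪≫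
    (@asIso _ _ _ _ (((DRing.homCxQ E).totalRightDerivedUnit DerivedCategory.Q
      (HomologicalComplex.quasiIso (ModuleCat.{u} A) (ComplexShape.up ℤ))).app I) inferInstance).symm ≪≫
    @asIso _ _ _ _ _ hpre ≪≫ (@asIso _ _ _ _ _ hmap).symm⟩

end Groth.Agent.DR39
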