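import Groth.Agent.DR39.HomCx
import Groth.Agent.DR39.HomAssoc
import Groth.Agent.DR39.RHom
import Groth.Agent.DR39.InjAmp
import Groth.Agent.DR39.Perf
import Groth.Prelude.Def_Wider
import Mathlib.Algebra.FiveLemma
import Mathlib.Algebra.Homology.HomologySequenceLemmas

/-! Biduality for a bounded complex of injectives computing a dualizing complex. -/

set_option autoImplicit false
set_option linter.style.haveILetI false
set_option linter.unusedSectionVars false

universe u

open CategoryTheory CategoryTheory.Limits CochainComplex CochainComplex.HomComplex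

attribute [local instance] HasDerivedCategory.standard

namespace Groth.Agent.DR39

variable {A : Type u} [CommRing A]

/-! ### evaluation -/

variable {P X Y I : DRing.Cx A}

/-- evaluation at a homogeneous element -/
noncomputable def evC (I : DRing.Cx A) {p : ℤ} (x : P.X p) : Cochain (DRing.homCx P I) I p :=
  Cochain.mk fun q r h => ModuleCat.ofHom (X := (DRing.homCx P I).X q) (Y := I.X r)
    { toFun := fun f => (p * q).negOnePow • ((cv q f).v p r (by omega)).hom x
      map_add' := fun f g => by
        rw [map_add, Cochain.add_v, ModuleCat.hom_add, LinearMap.add_apply, smul_add]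
      map_smul' := fun a f => by
        rw [map_smul, Cochain.smul_v, ModuleCat.hom_smul, LinearMap.smul_apply, RingHom.id_apply]
        exact (smul_comm a _ _).symm }

theorem evC_v (I : DRing.Cx A) {p : ℤ} (x : P.X p) (q r : ℤ) (h : q + p = r)
    (f : Cochain P I q) :
    ((evC I x).v q r h).hom f = (p * q).negOnePow • (f.v p r (by omega)).hom x := rfl

theorem units_smul_apply {M N : ModuleCat.{u} A} (c : ℤˣ) (φ : M ⟶ N) (x : M) :
    (c • φ).hom x = c • φ.hom x := rfl

theorem δ_evC (I : DRing.Cx A) (p : ℤ) (x : P.X p) :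
    δ p (p + 1) (evC I x) = evC I ((P.d p (p + 1)).hom x) := by
  refine Cochain.ext _ _ fun q r hr => ModuleCat.hom_ext (LinearMap.ext fun f => ?_)
  rw [δ_v p (p + 1) rfl _ q r hr (r - 1) (q + 1) rfl rfl]
  simp only [ModuleCat.hom_add, LinearMap.add_apply, ModuleCat.hom_comp, LinearMap.comp_apply,
    units_smul_apply]
  show (I.d (r - 1) r).hom (((evC I x).v q (r - 1) _).hom f) +
    (p + 1).negOnePow • ((evC I x).v (q + 1) r _).hom (δ q (q + 1) (show Cochain P I q from f)) =
      ((p + 1) * q).negOnePow • ((show Cochain P I q from f).v (p + 1) r _).hom ((P.d p (p + 1)).hom x)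
  rw [evC_v, evC_v, δ_v q (q + 1) rfl _ p r (by omega) (r - 1) (p + 1) (by omega) rfl]
  simp only [ModuleCat.hom_add, LinearMap.add_apply, ModuleCat.hom_comp, LinearMap.comp_apply,
    units_smul_apply, smul_add, smul_smul]
  have hl : (I.d (r - 1) r).hom ((p * q).negOnePow • (Cochain.v f p (r - 1) (by omega)).hom x) =
      (p * q).negOnePow • (I.d (r - 1) r).hom ((Cochain.v f p (r - 1) (by omega)).hom x) := by
    rw [Units.smul_def, map_zsmul]; rfl
  rw [hl]
  have e1 : (p + 1).negOnePow * (p * (q + 1)).negOnePow = -(p * q).negOnePow := by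
    rw [← Int.negOnePow_add, show p + 1 + p * (q + 1) = p * q + (2 * p + 1) by ring, Int.negOnePow_add,
      Int.negOnePow_two_mul_add_one, mul_neg, mul_one]
  have e2 : (p + 1).negOnePow * (p * (q + 1)).negOnePow * (q + 1).negOnePow = ((p + 1) * q).negOnePow := by
    rw [← Int.negOnePow_add, ← Int.negOnePow_add,
      show p + 1 + p * (q + 1) + (q + 1) = (p + 1) * q + 2 * (p + 1) by ring, Int.negOnePow_add,
      Int.negOnePow_two_mul, mul_one]
  rw [e1, ← mul_assoc, e2, Units.neg_smul, ← add_assoc, add_neg_cancel, zero_add]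

/-- `P → Hom(Hom(P, I), I)` -/
noncomputable def ev (P I : DRing.Cx A) : P ⟶ DRing.homCx (DRing.homCx P I) I where
  f p := ModuleCat.ofHom (X := P.X p) (Y := (DRing.homCx (DRing.homCx P I) I).X p)
    { toFun := fun x => evC I x
      map_add' := fun x y => by
        show evC I (x + y) = evC I x + evC I y
        refine Cochain.ext _ _ fun q r hr => ModuleCat.hom_ext (LinearMap.ext fun f => ?_)
        rw [Cochain.add_v, ModuleCat.hom_add, LinearMap.add_apply]
        show ((evC I (x + y)).v q r hr).hom (show Cochain P I q from f) =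
          ((evC I x).v q r hr).hom (show Cochain P I q from f) + ((evC I y).v q r hr).hom (show Cochain P I q from f)
        rw [evC_v, evC_v, evC_v, map_add, smul_add]
      map_smul' := fun a x => by
        show evC I (a • x) = a • evC I x
        refine Cochain.ext _ _ fun q r hr => ModuleCat.hom_ext (LinearMap.ext fun f => ?_)
        rw [Cochain.smul_v, ModuleCat.hom_smul, LinearMap.smul_apply]
        show ((evC I (a • x)).v q r hr).hom (show Cochain P I q from f) =
          a • ((evC I x).v q r hr).hom (show Cochain P I q from f)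
        rw [evC_v, evC_v, map_smul]
        exact (smul_comm a _ _).symm }
  comm' i j hij := by
    change i + 1 = j at hij
    subst hij
    exact ModuleCat.hom_ext (LinearMap.ext fun x => δ_evC I i x)

theorem ev_naturality (φ : X ⟶ Y) (I : DRing.Cx A) :
    φ ≫ ev Y I = ev X I ≫ homCxPre (homCxPre φ I) I := by
  refine HomologicalComplex.hom_ext _ _ fun p => ModuleCat.hom_ext (LinearMap.ext fun x => ?_)
  show evC I ((φ.f p).hom x) = (Cochain.ofHom (homCxPre φ I)).comp (evC I x) (zero_add p)
  refine Cochain.ext _ _ fun q r hr => ModuleCat.hom_ext (LinearMap.ext fun f => ?_)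
  rw [Cochain.zero_cochain_comp_v, Cochain.ofHom_v]
  show ((evC I ((φ.f p).hom x)).v q r hr).hom f =
    ((evC I x).v q r hr).hom ((Cochain.ofHom φ).comp (show Cochain Y I q from f) (zero_add q))
  rw [evC_v, evC_v, Cochain.zero_cochain_comp_v, Cochain.ofHom_v]
  rfl

/-! ### contravariant Hom complexes into bounded complexes of injectives -/

variable (I)

theorem homCxPre_bijective {a b : ℤ} (hI : ∀ i, (i < a ∨ b < i) → IsZero (I.X i)) (φ : X ⟶ Y) (q : ℤ)
    (h : ∀ p, a - q ≤ p → p ≤ b - q → IsIso (φ.f p)) :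
    Function.Bijective ((homCxPre φ I).f q).hom := by
  constructor
  · intro z z' hz
    refine Cochain.ext _ _ fun p r hr => ?_
    by_cases hw : a - q ≤ p ∧ p ≤ b - q
    · haveI := h p hw.1 hw.2
      have h1 : ((Cochain.ofHom φ).comp (show Cochain Y I q from z) (zero_add q)).v p r hr =
          ((Cochain.ofHom φ).comp (show Cochain Y I q from z') (zero_add q)).v p r hr :=
        congrArg (fun w : Cochain X I q => w.v p r hr) hz
      rw [Cochain.zero_cochain_comp_v, Cochain.zero_cochain_comp_v, Cochain.ofHom_v, cancel_epi] at h1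
      exact h1
    · exact (hI r (by omega)).eq_of_tgt _ _
  · intro w
    classical
    refine ⟨Cochain.mk fun p r hr =>
      if hw : a - q ≤ p ∧ p ≤ b - q then
        (haveI := h p hw.1 hw.2; inv (φ.f p) ≫ (show Cochain X I q from w).v p r hr) else 0, ?_⟩
    refine Cochain.ext _ _ fun p r hr => ?_
    show ((Cochain.ofHom φ).comp _ (zero_add q)).v p r hr = _
    rw [Cochain.zero_cochain_comp_v, Cochain.ofHom_v, Cochain.mk_v]
    by_cases hw : a - q ≤ p ∧ p ≤ b - q
    · haveI := h p hw.1 hw.2
      rw [dif_pos hw, IsIso.hom_inv_id_assoc]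
    · exact (hI r (by omega)).eq_of_tgt _ _

theorem homCxPre_bijective₂ {a b : ℤ} (hI : ∀ i, (i < a ∨ b < i) → IsZero (I.X i)) (φ : X ⟶ Y) (n : ℤ)
    (h : ∀ p, a - b + n ≤ p → p ≤ b - a + n → IsIso (φ.f p)) :
    Function.Bijective ((homCxPre (homCxPre φ I) I).f n).hom :=
  homCxPre_bijective I hI (homCxPre φ I) n fun q hq1 hq2 =>
    (isIso_iff_bijective _).2 (homCxPre_bijective I hI φ q fun p hp1 hp2 => h p (by omega) (by omega))

/-- the short complex of Hom complexes -/
noncomputable def homCxOpp (S : ShortComplex (DRing.Cx A)) : ShortComplex (DRing.Cx A) :=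
  ShortComplex.mk (homCxPre S.g I) (homCxPre S.f I) (by
    refine HomologicalComplex.hom_ext _ _ fun q => ModuleCat.hom_ext (LinearMap.ext fun z => ?_)
    show (Cochain.ofHom S.f).comp ((Cochain.ofHom S.g).comp (show Cochain S.X₃ I q from z) (zero_add q))
      (zero_add q) = 0
    refine Cochain.ext _ _ fun p r hr => ?_
    rw [Cochain.zero_cochain_comp_v, Cochain.zero_cochain_comp_v, Cochain.ofHom_v, Cochain.ofHom_v,
      ← Category.assoc, ← HomologicalComplex.comp_f, S.zero, HomologicalComplex.zero_f, zero_comp,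
      Cochain.zero_v])

theorem homCxOpp_shortExact (hI : ∀ i, INp (I.X i)) {S : ShortComplex (DRing.Cx A)} (hS : S.ShortExact) :
    (homCxOpp I S).ShortExact := by
  have hSi : ∀ p, (S.map (HomologicalComplex.eval _ _ p)).ShortExact := fun p =>
    hS.map_of_exact (HomologicalComplex.eval _ _ p)
  refine HomologicalComplex.shortExact_of_degreewise_shortExact _ fun q => ?_
  refine { exact := ?_, mono_f := ?_, epi_g := ?_ }
  · rw [ShortComplex.moduleCat_exact_iff]
    intro (z : Cochain S.X₂ I q) hz
    have hz' : ∀ p r hr, S.f.f p ≫ z.v p r hr = 0 := fun p r hr => by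
      have := congrArg (fun w : Cochain S.X₁ I q => w.v p r hr) hz
      change ((Cochain.ofHom S.f).comp z (zero_add q)).v p r hr = _ at this
      rwa [Cochain.zero_cochain_comp_v, Cochain.ofHom_v] at this
    haveI : ∀ p, Epi (S.map (HomologicalComplex.eval _ _ p)).g := fun p => (hSi p).epi_g
    refine ⟨Cochain.mk fun p r hr => (hSi p).exact.desc (z.v p r hr) (hz' p r hr), ?_⟩
    refine Cochain.ext _ _ fun p r hr => ?_
    show ((Cochain.ofHom S.g).comp _ (zero_add q)).v p r hr = _
    rw [Cochain.zero_cochain_comp_v, Cochain.ofHom_v, Cochain.mk_v]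
    exact (hSi p).exact.g_desc _ _
  · rw [ModuleCat.mono_iff_injective]
    intro (z : Cochain S.X₃ I q) (z' : Cochain S.X₃ I q) hz
    refine Cochain.ext _ _ fun p r hr => ?_
    have := congrArg (fun w : Cochain S.X₂ I q => w.v p r hr) hz
    change ((Cochain.ofHom S.g).comp z (zero_add q)).v p r hr =
      ((Cochain.ofHom S.g).comp z' (zero_add q)).v p r hr at this
    rw [Cochain.zero_cochain_comp_v, Cochain.zero_cochain_comp_v, Cochain.ofHom_v] at this
    haveI hepi : Epi (S.g.f p) := (hSi p).epi_g
    exact (cancel_epi (S.g.f p)).1 this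
  · rw [ModuleCat.epi_iff_surjective]
    intro (w : Cochain S.X₁ I q)
    haveI : ∀ p, Mono (S.f.f p) := fun p => (hSi p).mono_f
    haveI : ∀ r, Injective (I.X r) := fun r => inj_obj (hI r)
    refine ⟨Cochain.mk fun p r hr => Injective.factorThru (w.v p r hr) (S.f.f p), ?_⟩
    refine Cochain.ext _ _ fun p r hr => ?_
    show ((Cochain.ofHom S.f).comp _ (zero_add q)).v p r hr = _
    rw [Cochain.zero_cochain_comp_v, Cochain.ofHom_v, Cochain.mk_v]
    exact Injective.comp_factorThru _ _

/-- five lemma for maps of short exact sequences of complexes -/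
theorem quasiIso_τ₂' {S₁ S₂ : ShortComplex (DRing.Cx A)} (φ : S₁ ⟶ S₂) (hS₁ : S₁.ShortExact)
    (hS₂ : S₂.ShortExact) (h₁ : QuasiIso φ.τ₁) (h₃ : QuasiIso φ.τ₃) : QuasiIso φ.τ₂ := by
  have ex : ∀ {S : ShortComplex (ModuleCat.{u} A)}, S.Exact → Function.Exact S.f.hom S.g.hom :=
    fun h => exact_ff h
  refine ⟨fun i => ?_⟩
  rw [quasiIsoAt_iff_isIso_homologyMap, isIso_iff_bijective]
  have hr1 : (ComplexShape.up ℤ).Rel (i - 1) i := show i - 1 + 1 = i by omega
  have hr2 : (ComplexShape.up ℤ).Rel i (i + 1) := rfl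
  have e1 : Function.Bijective (HomologicalComplex.homologyMap φ.τ₁ i).hom :=
    (isIso_iff_bijective _).1 inferInstance
  have e1' : Function.Bijective (HomologicalComplex.homologyMap φ.τ₁ (i + 1)).hom :=
    (isIso_iff_bijective _).1 inferInstance
  have e3 : Function.Bijective (HomologicalComplex.homologyMap φ.τ₃ i).hom :=
    (isIso_iff_bijective _).1 inferInstance
  have e3' : Function.Bijective (HomologicalComplex.homologyMap φ.τ₃ (i - 1)).hom :=
    (isIso_iff_bijective _).1 inferInstance
  refine LinearMap.bijective_of_surjective_of_bijective_of_bijective_of_injective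
    (hS₁.δ (i - 1) i hr1).hom (HomologicalComplex.homologyMap S₁.f i).hom
    (HomologicalComplex.homologyMap S₁.g i).hom (hS₁.δ i (i + 1) hr2).hom
    (hS₂.δ (i - 1) i hr1).hom (HomologicalComplex.homologyMap S₂.f i).hom
    (HomologicalComplex.homologyMap S₂.g i).hom (hS₂.δ i (i + 1) hr2).hom
    _ _ _ _ _ ?_ ?_ ?_ ?_
    (ex (hS₁.homology_exact₁ (i - 1) i hr1)) (ex (hS₁.homology_exact₂ i))
    (ex (hS₁.homology_exact₃ i (i + 1) hr2))
    (ex (hS₂.homology_exact₁ (i - 1) i hr1)) (ex (hS₂.homology_exact₂ i))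
    (ex (hS₂.homology_exact₃ i (i + 1) hr2))
    e3'.2 e1 e3 e1'.1
  · exact congrArg ModuleCat.Hom.hom (HomologicalComplex.HomologySequence.δ_naturality φ hS₁ hS₂ (i - 1) i hr1).symm |>.symm.symm
  · rw [← ModuleCat.hom_comp, ← ModuleCat.hom_comp, ← HomologicalComplex.homologyMap_comp,
      ← HomologicalComplex.homologyMap_comp, φ.comm₁₂]
  · rw [← ModuleCat.hom_comp, ← ModuleCat.hom_comp, ← HomologicalComplex.homologyMap_comp,
      ← HomologicalComplex.homologyMap_comp, φ.comm₂₃]
  · exact congrArg ModuleCat.Hom.hom (HomologicalComplex.HomologySequence.δ_naturality φ hS₁ hS₂ i (i + 1) hr2).symm |>.symm.symm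

/-- the evaluation morphism of short complexes -/
noncomputable def evShort (S : ShortComplex (DRing.Cx A)) : S ⟶ homCxOpp I (homCxOpp I S) where
  τ₁ := ev S.X₁ I
  τ₂ := ev S.X₂ I
  τ₃ := ev S.X₃ I
  comm₁₂ := (ev_naturality S.f I).symm
  comm₂₃ := (ev_naturality S.g I).symm

end Groth.Agent.DR39
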