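import Groth.Agent.DR39.Bidual
import Groth.Agent.DR39.Dualizing2
import Mathlib.Algebra.Homology.Embedding.CochainComplex
import Mathlib.Algebra.Homology.DerivedCategory.TStructure

/-! Biduality: the evaluation morphism is a quasi-isomorphism. -/

set_option autoImplicit false
set_option linter.style.haveILetI false
set_option linter.unusedSectionVars false

universe u

open CategoryTheory CategoryTheory.Limits CochainComplex CochainComplex.HomComplex

attribute [local instance] HasDerivedCategory.standard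

namespace Groth.Agent.DR39

variable {A : Type u} [CommRing A]

/-- a bounded complex of injectives computing a dualizing complex -/
structure DualModel (A : Type u) [CommRing A] where
  I : DRing.Cx A
  a : ℤ
  b : ℤ
  zero : ∀ i, (i < a ∨ b < i) → IsZero (I.X i)
  inj : ∀ i, INp (I.X i)
  dualizing : Dual.IsDualizing A ((QA A).obj I)

theorem exists_dualModel {ω : Dual.D A} (hω : Dual.IsDualizing A ω) :
    ∃ D : DualModel A, Nonempty ((QA A).obj D.I ≅ ω) := by
  obtain ⟨a, b, h⟩ := hω.finite_injective_dimension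
  obtain ⟨E, hv, hI, ⟨e⟩⟩ := ia_of_ext (X := ω) a b fun I i hi => h (A ⧸ I) i hi
  exact ⟨⟨E, a, b, hv, hI, isDualizing_of_iso hω e.symm⟩, ⟨e⟩⟩

variable (D : DualModel A)

theorem DualModel.isKInjective : D.I.IsKInjective :=
  isKInjective_of_rep D.I D.a (fun i hi => D.zero i (Or.inl hi)) D.inj

theorem kinj_cls_eq_zero_iff {M L : DRing.Cx A} [L.IsKInjective] {n : ℤ} (z : Cocycle M L n) :
    DerivedCategory.Q.map (Cocycle.equivHomShift.symm z) = 0 ↔ z ∈ coboundaries M L n := by
  rw [← CohomologyClass.toHom_mk_eq_zero_iff, CohomologyClass.toHom_mk,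
    HomotopyCategory.quotient_map_eq_zero_iff, ← Q_map_eq_iff_of_kinj]
  simp

theorem exists_δ_of_ne {k : ℤ} (hk : k ≠ 0) (z : Cocycle D.I D.I k) :
    ∃ y : Cochain D.I D.I (k - 1), δ (k - 1) k y = z.1 := by
  haveI := D.isKInjective
  refine (mem_coboundaries_iff z (k - 1) (by omega)).1 ((kinj_cls_eq_zero_iff z).1 ?_)
  haveI : Subsingleton ((QA A).obj D.I ⟶ (QA A).obj (D.I⟦k⟧)) :=
    @Equiv.subsingleton _ _ (Iso.homToEquiv (((QA A).commShiftIso k).app D.I))
      (D.dualizing.ext_self_subsingleton k hk)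
  exact Subsingleton.elim (α := (QA A).obj D.I ⟶ (QA A).obj (D.I⟦k⟧)) _ _

theorem exists_δ_zero {k : ℤ} (hk : k = 0) (z : Cocycle D.I D.I k) :
    ∃ (a : A) (y : Cochain D.I D.I (k - 1)),
      δ (k - 1) k y = z.1 - a • (hk ▸ Cochain.ofHom (𝟙 D.I) : Cochain D.I D.I k) := by
  subst hk
  haveI := D.isKInjective
  obtain ⟨f, rfl⟩ := (Cocycle.equivHom D.I D.I).surjective z
  obtain ⟨a, ha⟩ := D.dualizing.toEnd_bijective.2 ((QA A).map f)
  have hq : (QA A).map f = (QA A).map (a • 𝟙 D.I) := by
    rw [Functor.map_smul, CategoryTheory.Functor.map_id]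
    exact ha.symm
  obtain ⟨H⟩ := (Q_map_eq_iff_of_kinj f (a • 𝟙 D.I)).1 hq
  refine ⟨a, Cochain.ofHomotopy H, ?_⟩
  show δ (0 - 1) 0 (Cochain.ofHomotopy H) = Cochain.ofHom f - a • Cochain.ofHom (𝟙 D.I)
  rw [show a • Cochain.ofHom (𝟙 D.I) = Cochain.ofHom (a • 𝟙 D.I) from
    Cochain.ext₀ _ _ fun p => by simp]
  exact δ_ofHomotopy H

theorem smul_eq_zero_of_δ (a : A) (y : Cochain D.I D.I (-1))
    (h : δ (-1) 0 y = a • Cochain.ofHom (𝟙 D.I)) : a = 0 := by
  haveI := D.isKInjective
  have h' : Cochain.ofHom (a • 𝟙 D.I) = δ (-1) 0 y + Cochain.ofHom (0 : D.I ⟶ D.I) := by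
    rw [h, Cochain.ofHom_zero, add_zero]
    exact Cochain.ext₀ _ _ fun p => by simp
  have h0 := DerivedCategory.Q_map_eq_of_homotopy (C := ModuleCat.{u} A)
    ((Cochain.equivHomotopy _ _).symm ⟨y, h'⟩)
  change (QA A).map (a • 𝟙 D.I) = (QA A).map 0 at h0
  rw [Functor.map_smul, CategoryTheory.Functor.map_id, Functor.map_zero] at h0
  exact D.dualizing.toEnd_bijective.1 (show a • 𝟙 _ = (0 : A) • 𝟙 ((QA A).obj D.I) by rw [zero_smul, h0])

section Gen

variable {P : DRing.Cx A} {n : ℤ} {r : ℕ} (bas : Module.Basis (Fin r) A (P.X n))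

/-- the value at a basis vector, with the inverse sign -/
noncomputable def coV (j : Fin r) : Cochain D.I (DRing.homCx P D.I) (-n) :=
  Cochain.mk fun s t _ => ModuleCat.ofHom (X := D.I.X s) (Y := (DRing.homCx P D.I).X t)
    { toFun := fun y =>
        (n * t).negOnePow • Cochain.single (ModuleCat.ofHom (bas.constr A fun k => if k = j then y else 0)) t
      map_add' := fun y y' => by
        show (n * t).negOnePow • Cochain.single _ t =
          (n * t).negOnePow • Cochain.single _ t + (n * t).negOnePow • Cochain.single _ t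
        refine Eq.trans ?_ (smul_add _ _ _)
        congr 1
        refine Cochain.ext _ _ fun p q hq => ?_
        rw [Cochain.add_v]
        by_cases hp : p = n
        · subst hp
          by_cases hqs : q = s
          · subst hqs
            rw [Cochain.single_v, Cochain.single_v, Cochain.single_v]
            ext : 1
            refine bas.ext fun k => ?_
            simp only [ModuleCat.hom_add, LinearMap.add_apply, ModuleCat.hom_ofHom, Module.Basis.constr_basis]
            split_ifs <;> simp
          · rw [Cochain.single_v_eq_zero' _ _ _ _ _ hqs, Cochain.single_v_eq_zero' _ _ _ _ _ hqs,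
              Cochain.single_v_eq_zero' _ _ _ _ _ hqs, add_zero]
        · rw [Cochain.single_v_eq_zero _ _ _ _ _ hp, Cochain.single_v_eq_zero _ _ _ _ _ hp,
            Cochain.single_v_eq_zero _ _ _ _ _ hp, add_zero]
      map_smul' := fun c y => by
        show (n * t).negOnePow • Cochain.single _ t = c • (n * t).negOnePow • Cochain.single _ t
        refine Eq.trans ?_ (smul_comm _ c _)
        congr 1
        refine Cochain.ext _ _ fun p q hq => ?_
        rw [Cochain.smul_v]
        by_cases hp : p = n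
        · subst hp
          by_cases hqs : q = s
          · subst hqs
            rw [Cochain.single_v, Cochain.single_v]
            ext : 1
            refine bas.ext fun k => ?_
            simp only [ModuleCat.hom_smul, LinearMap.smul_apply, ModuleCat.hom_ofHom, Module.Basis.constr_basis]
            split_ifs <;> simp
          · rw [Cochain.single_v_eq_zero' _ _ _ _ _ hqs, Cochain.single_v_eq_zero' _ _ _ _ _ hqs, smul_zero]
        · rw [Cochain.single_v_eq_zero _ _ _ _ _ hp, Cochain.single_v_eq_zero _ _ _ _ _ hp, smul_zero] }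

variable (hP : ∀ i, i ≠ n → IsZero (P.X i))

theorem coV_val (j : Fin r) (s t : ℤ) (h : s + -n = t) (y : D.I.X s) (k : Fin r) :
    ((cv (L := P) (M := D.I) t (((coV D bas j).v s t h).hom y)).v n s (by omega)).hom (bas k) =
      (n * t).negOnePow • (if k = j then y else 0) := by
  show (((n * t).negOnePow • Cochain.single
    (ModuleCat.ofHom (bas.constr A fun k => if k = j then y else 0)) t : Cochain P D.I t).v n s _).hom (bas k) = _
  rw [Cochain.units_smul_v, Cochain.single_v, units_smul_apply, ModuleCat.hom_ofHom, Module.Basis.constr_basis]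

include hP in
theorem homCx_ext (t : ℤ) (z z' : Cochain P D.I t)
    (h : ∀ k, (z.v n (n + t) rfl).hom (bas k) = (z'.v n (n + t) rfl).hom (bas k)) : z = z' := by
  refine Cochain.ext _ _ fun p q hq => ?_
  by_cases hp : p = n
  · subst hp hq
    exact ModuleCat.hom_ext (bas.ext h)
  · exact (hP p hp).eq_of_src _ _

include hP in
theorem δ_evC_eq_zero (x : P.X n) : δ n (n + 1) (evC D.I x) = 0 := by
  rw [δ_evC]
  have : (P.d n (n + 1)).hom x = 0 := by
    rw [(hP (n + 1) (by omega)).eq_of_tgt (P.d n (n + 1)) 0]; rfl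
  rw [this]
  refine Cochain.ext _ _ fun q r hr => ModuleCat.hom_ext (LinearMap.ext fun f => ?_)
  show ((evC D.I (0 : P.X (n + 1))).v q r hr).hom (show Cochain P D.I q from f) = _
  rw [evC_v, map_zero, smul_zero, Cochain.zero_v]
  rfl

theorem coV_comp_evC (j k : Fin r) :
    (coV D bas j).comp (evC D.I (bas k)) (neg_add_cancel n) =
      if k = j then Cochain.ofHom (𝟙 D.I) else 0 := by
  refine Cochain.ext _ _ fun s s' hs => ?_
  obtain rfl : s = s' := by omega
  rw [Cochain.comp_v _ _ _ s (s + -n) s rfl (by omega)]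
  refine ModuleCat.hom_ext (LinearMap.ext fun y => ?_)
  show ((evC D.I (bas k)).v (s + -n) s (by omega)).hom
    (show Cochain P D.I (s + -n) from ((coV D bas j).v s (s + -n) rfl).hom y) = _
  rw [evC_v]
  refine (congrArg ((n * (s + -n)).negOnePow • ·) (coV_val D bas j s (s + -n) rfl y k)).trans ?_
  rw [smul_smul, Int.units_mul_self, one_smul]
  by_cases hkj : k = j
  · rw [if_pos hkj, if_pos hkj, Cochain.ofHom_v]; rfl
  · rw [if_neg hkj, if_neg hkj, Cochain.zero_v]; rfl

include hP in
theorem sum_evC_comp_coV :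
    ∑ j, (evC D.I (bas j)).comp (coV D bas j) (add_neg_cancel n) =
      Cochain.ofHom (𝟙 (DRing.homCx P D.I)) := by
  refine Cochain.ext _ _ fun t t' ht => ?_
  obtain rfl : t = t' := by omega
  refine ModuleCat.hom_ext (LinearMap.ext fun f => ?_)
  rw [Cochain.ofHom_v, HomologicalComplex.id_f]
  show ((∑ j, (evC D.I (bas j)).comp (coV D bas j) (add_neg_cancel n)).v t t ht).hom f = f
  refine homCx_ext D bas hP t _ _ fun k => ?_
  let L : Cochain (DRing.homCx P D.I) (DRing.homCx P D.I) 0 →+ D.I.X (n + t) :=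
    AddMonoidHom.mk' (fun w => ((cv (L := P) (M := D.I) t ((w.v t t ht).hom f)).v n (n + t) rfl).hom (bas k))
      (fun w w' => by rw [Cochain.add_v, ModuleCat.hom_add, LinearMap.add_apply, map_add, Cochain.add_v,
        ModuleCat.hom_add, LinearMap.add_apply])
  show L _ = _
  rw [map_sum, Finset.sum_eq_single k]
  · show ((cv (L := P) (M := D.I) t ((((evC D.I (bas k)).comp (coV D bas k) (add_neg_cancel n)).v t t ht).hom f)).v n (n + t) rfl).hom (bas k) = _
    rw [Cochain.comp_v _ _ _ t (n + t) t (by omega) (by omega), ModuleCat.hom_comp, LinearMap.comp_apply]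
    refine (coV_val D bas k (n + t) t (by omega) _ k).trans ?_
    rw [if_pos rfl]
    refine (congrArg ((n * t).negOnePow • ·) (evC_v D.I (bas k) t (n + t) (by omega) f)).trans ?_
    rw [smul_smul, Int.units_mul_self, one_smul]
  · intro j _ hjk
    show ((cv (L := P) (M := D.I) t ((((evC D.I (bas j)).comp (coV D bas j) (add_neg_cancel n)).v t t ht).hom f)).v n (n + t) rfl).hom (bas k) = _
    rw [Cochain.comp_v _ _ _ t (n + t) t (by omega) (by omega), ModuleCat.hom_comp, LinearMap.comp_apply]
    refine (coV_val D bas j (n + t) t (by omega) _ k).trans ?_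
    rw [if_neg hjk.symm, smul_zero]
  · intro h
    exact absurd (Finset.mem_univ k) h

include hP in
theorem δ_coV_comp {m m' : ℤ} (hm : m + 1 = m') (j : Fin r) (w : Cochain (DRing.homCx P D.I) D.I m)
    (k k' : ℤ) (hk : -n + m = k) (hk' : -n + m' = k') :
    δ k k' ((coV D bas j).comp w hk) = (coV D bas j).comp (δ m m' w) hk' := by
  have hv : δ (-n) (-n + 1) (coV D bas j) = 0 := by
    refine Cochain.ext _ _ fun s t ht => ModuleCat.hom_ext (LinearMap.ext fun y => ?_)
    refine homCx_ext D bas hP t _ _ fun l => ?_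
    rw [δ_v (-n) (-n + 1) rfl _ s t ht (t - 1) (s + 1) (by omega) rfl]
    simp only [ModuleCat.hom_add, LinearMap.add_apply, ModuleCat.hom_comp, LinearMap.comp_apply,
      units_smul_apply, Cochain.zero_v, ModuleCat.hom_zero, LinearMap.zero_apply]
    show ((δ (t - 1) t (cv (L := P) (M := D.I) (t - 1) (((coV D bas j).v s (t - 1) (by omega)).hom y)) +
      (-n + 1).negOnePow • cv (L := P) (M := D.I) t
        (((coV D bas j).v (s + 1) t (by omega)).hom ((D.I.d s (s + 1)).hom y)) : Cochain P D.I t).v n (n + t) rfl).hom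
        (bas l) = ((0 : Cochain P D.I t).v n (n + t) rfl).hom (bas l)
    rw [Cochain.add_v, Cochain.units_smul_v, ModuleCat.hom_add, LinearMap.add_apply, units_smul_apply,
      δ_v (t - 1) t (by omega) _ n (n + t) rfl (n + t - 1) (n + 1) rfl rfl, ModuleCat.hom_add,
      LinearMap.add_apply, ModuleCat.hom_comp, LinearMap.comp_apply, units_smul_apply, ModuleCat.hom_comp,
      LinearMap.comp_apply, (hP (n + 1) (by omega)).eq_of_tgt (P.d n (n + 1)) 0, ModuleCat.hom_zero,
      LinearMap.zero_apply, map_zero, smul_zero, add_zero, Cochain.zero_v, ModuleCat.hom_zero,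
      LinearMap.zero_apply]
    obtain rfl : s = n + t - 1 := by omega
    rw [coV_val D bas j (n + t - 1) (t - 1) (by omega)]
    have h2 : ((cv (L := P) (M := D.I) t (((coV D bas j).v (n + t - 1 + 1) t (by omega)).hom
        ((D.I.d (n + t - 1) (n + t - 1 + 1)).hom y))).v n (n + t) rfl).hom (bas l) =
        (n * t).negOnePow • (if l = j then (D.I.d (n + t - 1) (n + t)).hom y else 0) := by
      have : ∀ (q : ℤ) (hq : q = n + t),
          ((cv (L := P) (M := D.I) t (((coV D bas j).v q t (by omega)).hom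
            ((D.I.d (n + t - 1) q).hom y))).v n (n + t) rfl).hom (bas l) =
          (n * t).negOnePow • (if l = j then (D.I.d (n + t - 1) (n + t)).hom y else 0) := by
        rintro q rfl
        exact coV_val D bas j (n + t) t (by omega) _ l
      exact this _ (by omega)
    rw [h2, show n * (t - 1) = n * t - n by ring, Int.negOnePow_sub, Units.smul_def, map_zsmul, ← Units.smul_def,
      smul_smul, show (-n + 1).negOnePow * (n * t).negOnePow = -((n * t).negOnePow * n.negOnePow) by
        rw [Int.negOnePow_add, Int.negOnePow_neg, Int.negOnePow_one]; simp [mul_comm],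
      Units.neg_smul]
    split_ifs <;> simp
  have h0 := δ_comp (coV D bas j) w hk (-n + 1) m' k' (by omega) rfl hm
  rw [hv] at h0
  simpa using h0

include bas hP in
/-- the evaluation is a quasi-isomorphism for a complex concentrated in one degree, finite free -/
theorem ev_quasiIso_gen : QuasiIso (ev P D.I) := by
  refine ⟨fun m => ?_⟩
  rw [quasiIsoAt_iff_isIso_homologyMap, isIso_iff_bijective]
  refine ⟨(injective_homologyMap_iff _ m).2 fun x _ (w : Cochain (DRing.homCx P D.I) D.I (m - 1)) hy => ⟨0, ?_⟩,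
    (surjective_homologyMap_iff _ m).2 fun (w : Cochain (DRing.homCx P D.I) D.I m) hw => ?_⟩
  · rw [map_zero]
    symm
    by_cases hmn : m = n
    · subst hmn
      change δ (m - 1) m w = evC D.I x at hy
      rw [← bas.sum_repr x]
      refine Finset.sum_eq_zero fun k _ => ?_
      rw [show bas.repr x k = 0 from ?_, zero_smul]
      refine smul_eq_zero_of_δ D _ ((coV D bas k).comp w (show -m + (m - 1) = (-1 : ℤ) by omega)) ?_
      rw [δ_coV_comp D bas hP (m := m - 1) (m' := m) (by omega) k w (-1) 0 (by omega) (by omega), hy]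
      let L : P.X m →+ Cochain D.I D.I 0 :=
        AddMonoidHom.mk' (fun x => (coV D bas k).comp (evC D.I x) (neg_add_cancel m)) (fun x x' => by
          rw [← Cochain.comp_add]
          congr 1
          exact congrArg (fun φ : P.X m →ₗ[A] Cochain (DRing.homCx P D.I) D.I m => φ (x + x'))
            (rfl : ((ev P D.I).f m).hom = _) |>.trans (map_add ((ev P D.I).f m).hom x x'))
      show L x = _
      conv_lhs => rw [← bas.sum_repr x]
      rw [map_sum, Finset.sum_eq_single k]
      · show (coV D bas k).comp (((ev P D.I).f m).hom (bas.repr x k • bas k)) (neg_add_cancel m) = _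
        rw [map_smul]
        show (coV D bas k).comp (bas.repr x k • evC D.I (bas k)) (neg_add_cancel m) = _
        rw [Cochain.comp_smul, coV_comp_evC, if_pos rfl]
      · intro l _ hlk
        show (coV D bas k).comp (((ev P D.I).f m).hom (bas.repr x l • bas l)) (neg_add_cancel m) = _
        rw [map_smul]
        show (coV D bas k).comp (bas.repr x l • evC D.I (bas l)) (neg_add_cancel m) = _
        rw [Cochain.comp_smul, coV_comp_evC, if_neg hlk, smul_zero]
      · intro h; exact absurd (Finset.mem_univ k) h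
    · haveI := ModuleCat.subsingleton_of_isZero (hP m hmn)
      exact Subsingleton.elim _ _
  · change δ m (m + 1) w = 0 at hw
    let K : Fin r → Cocycle D.I D.I (-n + m) := fun j =>
      Cocycle.mk ((coV D bas j).comp w rfl) (-n + m + 1) rfl (by
        rw [δ_coV_comp D bas hP rfl j w _ _ rfl (by omega), hw, Cochain.comp_zero])
    have hw' : w = ∑ j, (evC D.I (bas j)).comp (K j).1 (by omega : n + (-n + m) = m) := by
      conv_lhs => rw [← Cochain.id_comp w, ← sum_evC_comp_coV D bas hP]
      let L : Cochain (DRing.homCx P D.I) (DRing.homCx P D.I) 0 →+ Cochain (DRing.homCx P D.I) D.I m :=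
        AddMonoidHom.mk' (fun u => u.comp w (zero_add m)) (fun u u' => Cochain.add_comp u u' w _)
      show L _ = _
      rw [map_sum]
      refine Finset.sum_congr rfl fun j _ => ?_
      show ((evC D.I (bas j)).comp (coV D bas j) (add_neg_cancel n)).comp w (zero_add m) =
        (evC D.I (bas j)).comp ((coV D bas j).comp w rfl) (show n + (-n + m) = m by omega)
      exact Cochain.comp_assoc _ _ _ (add_neg_cancel n) rfl (show n + -n + m = m by omega)
    have hsum : ∀ (y : Fin r → Cochain D.I D.I (-n + m - 1)),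
        δ (m - 1) m (∑ j, (evC D.I (bas j)).comp (y j) (show n + (-n + m - 1) = m - 1 by omega)) =
          ∑ j, (evC D.I (bas j)).comp (δ (-n + m - 1) (-n + m) (y j)) (by omega : n + (-n + m) = m) := by
      intro y
      rw [← δ_hom_apply A, map_sum]
      refine Finset.sum_congr rfl fun j _ => ?_
      rw [δ_hom_apply, δ_comp (evC D.I (bas j)) (y j) (by omega : n + (-n + m - 1) = m - 1) (n + 1)
        (-n + m) m (by omega) rfl (by omega), δ_evC_eq_zero D hP]
      simp
    by_cases hmn : m = n
    · subst hmn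
      choose a y hy using fun j => exists_δ_zero D (by omega : -m + m = 0) (K j)
      refine ⟨∑ j, a j • bas j, by rw [(hP (m + 1) (by omega)).eq_of_tgt (P.d m (m + 1)) 0]; rfl,
        -(∑ j, (evC D.I (bas j)).comp (y j) (by omega : m + (-m + m - 1) = m - 1)), ?_⟩
      let Ev : P.X m →ₗ[A] Cochain (DRing.homCx P D.I) D.I m := ((ev P D.I).f m).hom
      change δ (m - 1) m _ = Ev (∑ j, a j • bas j) - w
      rw [δ_neg, hsum, map_sum, hw']
      have hone : ∀ (k : ℤ) (hk : k = 0) (hk' : m + k = m) (u : Cochain (DRing.homCx P D.I) D.I m),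
          u.comp (hk ▸ Cochain.ofHom (𝟙 D.I) : Cochain D.I D.I k) hk' = u := by
        rintro k rfl hk' u
        exact Cochain.comp_id u
      rw [← Finset.sum_sub_distrib, ← Finset.sum_neg_distrib]
      refine Finset.sum_congr rfl fun j _ => ?_
      rw [hy j, Cochain.comp_sub, map_smul, Cochain.comp_smul, hone (-m + m) (by omega) (by omega), neg_sub]
      rfl
    · choose y hy using fun j => exists_δ_of_ne D (by omega : -n + m ≠ 0) (K j)
      refine ⟨0, map_zero _, -(∑ j, (evC D.I (bas j)).comp (y j) (by omega : n + (-n + m - 1) = m - 1)), ?_⟩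
      let Ev : P.X m →ₗ[A] Cochain (DRing.homCx P D.I) D.I m := ((ev P D.I).f m).hom
      change δ (m - 1) m _ = Ev 0 - w
      rw [δ_neg, hsum, map_zero, zero_sub, hw']
      congr 1
      exact Finset.sum_congr rfl fun j _ => by rw [hy j]

end Gen

theorem ev_quasiIso_of_isZero {P : DRing.Cx A} (hP : ∀ i, IsZero (P.X i)) : QuasiIso (ev P D.I) :=
  ev_quasiIso_gen D (P := P) (n := 0)
    (haveI := ModuleCat.subsingleton_of_isZero (hP 0); Module.Basis.empty (ι := Fin 0) (P.X 0))
    fun i _ => hP i

theorem ev_quasiIso_single {M : ModuleCat.{u} A} (hM : FFp M) (i : ℤ) :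
    QuasiIso (ev ((HomologicalComplex.single (ModuleCat.{u} A) (ComplexShape.up ℤ) i).obj M) D.I) := by
  haveI := hM.1
  haveI := hM.2
  exact ev_quasiIso_gen D
    (P := (HomologicalComplex.single (ModuleCat.{u} A) (ComplexShape.up ℤ) i).obj M)
    (((Module.Free.chooseBasis A M).reindex (Fintype.equivFin _)).map
      (HomologicalComplex.singleObjXSelf (ComplexShape.up ℤ) i M).toLinearEquiv.symm)
    fun j hj => HomologicalComplex.isZero_single_obj_X _ _ _ _ hj

theorem ev_quasiIso_cutGE (E : DRing.Cx A) (b : ℤ) (hb : DRing.VanishesAbove E b) (hFF : ∀ i, FFp (E.X i))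
    (a : ℤ) : QuasiIso (ev (cutGE E a) D.I) := by
  suffices key : ∀ (k : ℕ) (n : ℤ), b < n + k → QuasiIso (ev (cutGE E n) D.I) from
    key (b + 1 - a).toNat a (by omega)
  intro k
  induction k with
  | zero =>
    intro n hn
    refine ev_quasiIso_of_isZero D fun i => ?_
    by_cases h : n ≤ i
    · exact isZero_cutGE_of_isZero E (hb i (by omega))
    · exact isZero_cutGE E (by omega)
  | succ k ih =>
    intro n hn
    have hS := shortExact_cutSeq E n
    exact quasiIso_τ₂' (evShort D.I (cutSeq E n)) hS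
      (homCxOpp_shortExact D.I D.inj (homCxOpp_shortExact D.I D.inj hS))
      (ih (n + 1) (by omega)) (ev_quasiIso_single D (hFF n) n)

theorem quasiIsoAt_bidual_of_window {X Y : DRing.Cx A} (φ : X ⟶ Y) (n : ℤ)
    (h : ∀ p, D.a - D.b + (n - 1) ≤ p → p ≤ D.b - D.a + (n + 1) → IsIso (φ.f p)) :
    IsIso (HomologicalComplex.homologyMap (homCxPre (homCxPre φ D.I) D.I) n) := by
  have hb : ∀ k, n - 1 ≤ k → k ≤ n + 1 → IsIso ((homCxPre (homCxPre φ D.I) D.I).f k) := fun k h1 h2 =>
    (isIso_iff_bijective _).2 (homCxPre_bijective₂ D.I D.zero φ k fun p hp1 hp2 => h p (by omega) (by omega))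
  rw [← quasiIsoAt_iff_isIso_homologyMap, quasiIsoAt_iff' _ (n - 1) n (n + 1) (by simp) (by simp)]
  haveI := hb (n - 1) le_rfl (by omega)
  haveI := hb n (by omega) (by omega)
  haveI := hb (n + 1) (by omega) le_rfl
  refine @ShortComplex.quasiIso_of_epi_of_isIso_of_mono _ _ _ _ _ _ _ _ ?_ ?_ ?_
  · exact (inferInstance : Epi ((homCxPre (homCxPre φ D.I) D.I).f (n - 1)))
  · exact (inferInstance : IsIso ((homCxPre (homCxPre φ D.I) D.I).f n))
  · exact (inferInstance : Mono ((homCxPre (homCxPre φ D.I) D.I).f (n + 1)))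

theorem quasiIsoAt_ev_of_window {X Y : DRing.Cx A} (φ : X ⟶ Y) (n : ℤ)
    (h : ∀ p, D.a - D.b + (n - 1) ≤ p → p ≤ D.b - D.a + (n + 1) → IsIso (φ.f p))
    [IsIso (HomologicalComplex.homologyMap φ n)] :
    IsIso (HomologicalComplex.homologyMap (ev X D.I) n) ↔ IsIso (HomologicalComplex.homologyMap (ev Y D.I) n) := by
  haveI := quasiIsoAt_bidual_of_window D φ n h
  have hc := congrArg (fun ψ => HomologicalComplex.homologyMap ψ n) (ev_naturality φ D.I)
  simp only [HomologicalComplex.homologyMap_comp] at hc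
  constructor
  · intro h1
    haveI : IsIso (HomologicalComplex.homologyMap φ n ≫ HomologicalComplex.homologyMap (ev Y D.I) n) := by
      rw [hc]; infer_instance
    exact IsIso.of_isIso_comp_left (HomologicalComplex.homologyMap φ n) _
  · intro h1
    haveI : IsIso (HomologicalComplex.homologyMap (ev X D.I) n ≫
        HomologicalComplex.homologyMap (homCxPre (homCxPre φ D.I) D.I) n) := by
      rw [← hc]; infer_instance
    exact IsIso.of_isIso_comp_right _ (HomologicalComplex.homologyMap (homCxPre (homCxPre φ D.I) D.I) n)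

theorem ev_quasiIso_ff (P : DRing.Cx A) (b : ℤ) (hb : DRing.VanishesAbove P b) (hFF : ∀ i, FFp (P.X i)) :
    QuasiIso (ev P D.I) := by
  refine ⟨fun n => (quasiIsoAt_iff_isIso_homologyMap _ _).2 ?_⟩
  let m := min (n - 2) (D.a - D.b + (n - 2))
  have hiso : ∀ p, m ≤ p → IsIso ((cutι P m).f p) := fun p hp =>
    (isIso_iff_bijective _).2 (cutι_bijective P hp)
  haveI : IsIso (HomologicalComplex.homologyMap (cutι P m) n) := by
    rw [← quasiIsoAt_iff_isIso_homologyMap, quasiIsoAt_iff' _ (n - 1) n (n + 1) (by simp) (by simp)]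
    haveI := hiso (n - 1) (by omega)
    haveI := hiso n (by omega)
    haveI := hiso (n + 1) (by omega)
    refine @ShortComplex.quasiIso_of_epi_of_isIso_of_mono _ _ _ _ _ _ _ _ ?_ ?_ ?_
    · exact (inferInstance : Epi ((cutι P m).f (n - 1)))
    · exact (inferInstance : IsIso ((cutι P m).f n))
    · exact (inferInstance : Mono ((cutι P m).f (n + 1)))
  haveI := ev_quasiIso_cutGE D P b hb hFF m
  exact (quasiIsoAt_ev_of_window D (cutι P m) n fun p hp _ => hiso p (by omega)).1
    ((quasiIsoAt_iff_isIso_homologyMap _ _).1 inferInstance)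

theorem quasiIso_bidual_map {X Y : DRing.Cx A} (φ : X ⟶ Y) [QuasiIso φ] :
    QuasiIso (homCxPre (homCxPre φ D.I) D.I) := by
  haveI := D.isKInjective
  haveI := quasiIso_homCxPre φ D.I
  exact quasiIso_homCxPre (homCxPre φ D.I) D.I

theorem ev_quasiIso_iff_of_qiso {X Y : DRing.Cx A} (φ : X ⟶ Y) [QuasiIso φ] :
    QuasiIso (ev X D.I) ↔ QuasiIso (ev Y D.I) := by
  haveI := quasiIso_bidual_map D φ
  constructor
  · intro h
    haveI : QuasiIso (φ ≫ ev Y D.I) := by rw [ev_naturality]; infer_instance
    exact quasiIso_of_comp_left φ (ev Y D.I)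
  · intro h
    haveI : QuasiIso (ev X D.I ≫ homCxPre (homCxPre φ D.I) D.I) := by rw [← ev_naturality]; infer_instance
    exact quasiIso_of_comp_right (ev X D.I) (homCxPre (homCxPre φ D.I) D.I)

theorem ev_quasiIso_bddAbove [IsNoetherianRing A] (X : DRing.Cx A) (b : ℤ)
    (hb : Acyc b ((QA A).obj X)) (hfin : ∀ i, Module.Finite A (Dual.HD A ((QA A).obj X) i)) :
    QuasiIso (ev X D.I) := by
  have hpc : DRing.IsPseudoCoherent' A ((QA A).obj X) := (pc'_iff_forall_pc _).2 fun m =>
    pc_of_homology hb fun i _ => by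
      haveI := hfin i
      exact pc_inD_of_fp_of_coherent
        (fun I _ => @Module.finitePresentation_of_finite A _ _ _ _ _
          (Module.Finite.of_fg (IsNoetherian.noetherian I)))
        _ (Module.finitePresentation_of_finite A _) _
  obtain ⟨b', P, hv, hFF, ⟨e⟩⟩ := (pc'_iff _).1 hpc
  have hv' : DRing.VanishesAbove P b' := fun i hi => hv i fun h => by rw [Set.mem_Iic] at h; omega
  haveI : P.IsKProjective := isKProjective_of_bddAbove P b' hv' fun i => proj_of_FF (hFF i)
  obtain ⟨φ, hφ⟩ := Q_map_surjective P X e.hom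
  haveI : QuasiIso φ := (DerivedCategory.isIso_Q_map_iff_quasiIso (ModuleCat.{u} A) φ).1 (by
    rw [hφ]; infer_instance)
  exact (ev_quasiIso_iff_of_qiso D φ).1 (ev_quasiIso_ff D P b' hv' hFF)

/-- the cycles-truncation in degrees `≤ m` -/
noncomputable def subLE (E : DRing.Cx A) (m i : ℤ) : Submodule A (E.X i) :=
  if i < m then ⊤ else if i = m then LinearMap.ker (E.d i (i + 1)).hom else ⊥

theorem subLE_of_lt (E : DRing.Cx A) {m i : ℤ} (h : i < m) : subLE E m i = ⊤ := if_pos h

theorem subLE_self (E : DRing.Cx A) (m : ℤ) : subLE E m m = LinearMap.ker (E.d m (m + 1)).hom :=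
  (if_neg (lt_irrefl m)).trans (if_pos rfl)

theorem subLE_of_gt (E : DRing.Cx A) {m i : ℤ} (h : m < i) : subLE E m i = ⊥ :=
  (if_neg (by omega)).trans (if_neg (by omega))

theorem cycle_mem_subLE (E : DRing.Cx A) {m i : ℤ} (h : i ≤ m) (x : E.X i)
    (hx : (E.d i (i + 1)).hom x = 0) : x ∈ subLE E m i := by
  rcases eq_or_lt_of_le h with rfl | h
  · rw [subLE_self]; exact hx
  · rw [subLE_of_lt E h]; trivial

theorem d_mem_subLE (E : DRing.Cx A) (m : ℤ) {i j : ℤ} (hij : i + 1 = j) (x : E.X i)
    (hx : x ∈ subLE E m i) : (E.d i j).hom x ∈ subLE E m j := by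
  subst hij
  rcases lt_trichotomy i m with h | rfl | h
  · exact cycle_mem_subLE E (by omega) _ (d_apply_d E i (i + 1) (i + 1 + 1) x)
  · rw [subLE_self] at hx
    rw [show (E.d i (i + 1)).hom x = 0 from hx]
    exact Submodule.zero_mem _
  · rw [subLE_of_gt E h] at hx
    rw [(Submodule.mem_bot A).1 hx, map_zero]
    exact Submodule.zero_mem _

noncomputable def tauLE (E : DRing.Cx A) (m : ℤ) : DRing.Cx A where
  X i := ModuleCat.of A (subLE E m i)
  d i j := if h : i + 1 = j then
      ModuleCat.ofHom ((E.d i j).hom.restrict (d_mem_subLE E m h)) else 0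
  shape i j h := dif_neg h
  d_comp_d' i j k hij hjk := by
    change i + 1 = j at hij
    change j + 1 = k at hjk
    rw [dif_pos hij, dif_pos hjk]
    exact ModuleCat.hom_ext (LinearMap.ext fun x => Subtype.ext (d_apply_d E i j k _))

noncomputable def tauι (E : DRing.Cx A) (m : ℤ) : tauLE E m ⟶ E where
  f i := ModuleCat.ofHom (subLE E m i).subtype
  comm' i j hij := by
    change i + 1 = j at hij
    have : (tauLE E m).d i j =
        ModuleCat.ofHom ((E.d i j).hom.restrict (d_mem_subLE E m hij)) := dif_pos hij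
    rw [this]
    rfl

theorem tauι_iso (E : DRing.Cx A) {m i : ℤ} (h : i ≤ m) :
    IsIso (HomologicalComplex.homologyMap (tauι E m) i) := by
  rw [isIso_iff_bijective]
  refine ⟨(injective_homologyMap_iff _ i).2 fun x hx y hy =>
    ⟨⟨y, by rw [subLE_of_lt E (show i - 1 < m by omega)]; trivial⟩, ?_⟩,
    (surjective_homologyMap_iff _ i).2 fun z hz => ⟨⟨z, cycle_mem_subLE E h z hz⟩, ?_, ?_⟩⟩
  · apply Subtype.val_injective
    show ((tauι E m).f i).hom _ = ((tauι E m).f i).hom x
    rw [f_apply_d]
    exact hy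
  · apply Subtype.val_injective
    show ((tauι E m).f (i + 1)).hom _ = ((tauι E m).f (i + 1)).hom 0
    rw [f_apply_d, map_zero]
    exact hz
  · show ((tauι E m).f i).hom (⟨z, _⟩ : subLE E m i) - z ∈ _
    rw [show ((tauι E m).f i).hom (⟨z, cycle_mem_subLE E h z hz⟩ : subLE E m i) = z from rfl, sub_self]
    exact Submodule.zero_mem _

/-- **Biduality** for complexes with finite cohomology. -/
theorem ev_quasiIso [IsNoetherianRing A] (X : DRing.Cx A)
    (hfin : ∀ i, Module.Finite A (Dual.HD A ((QA A).obj X) i)) : QuasiIso (ev X D.I) := by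
  refine ⟨fun n => (quasiIsoAt_iff_isIso_homologyMap _ _).2 ?_⟩
  let m := max (n + 2) (D.b - D.a + (n + 2))
  let φ := tauι X m
  have hiso : ∀ p, p < m → IsIso (φ.f p) := fun p hp =>
    (isIso_iff_bijective _).2 ⟨Subtype.val_injective,
      fun z => ⟨(⟨z, by rw [subLE_of_lt X hp]; trivial⟩ : subLE X m p), rfl⟩⟩
  haveI : IsIso (HomologicalComplex.homologyMap φ n) := tauι_iso X (by omega)
  have hhigh : ∀ i, m + 1 ≤ i → IsZero ((HF A i).obj ((QA A).obj (tauLE X m))) := fun i hi => by
    rw [isZero_HF_Q_iff]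
    refine ShortComplex.isZero_homology_of_isZero_X₂ _ ?_
    haveI : Subsingleton (subLE X m i) := by rw [subLE_of_gt X (by omega)]; infer_instance
    exact ModuleCat.isZero_of_subsingleton (ModuleCat.of A (subLE X m i))
  have hfin' : ∀ i, Module.Finite A (Dual.HD A ((QA A).obj (tauLE X m)) i) := fun i => by
    by_cases hi : i ≤ m
    · haveI := tauι_iso X hi
      haveI := hfin i
      exact Module.Finite.equiv (HQIso X i ≪≫ (asIso (HomologicalComplex.homologyMap φ i)).symm ≪≫
        (HQIso (tauLE X m) i).symm).toLinearEquiv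
    · haveI := ModuleCat.subsingleton_of_isZero (hhigh i (by omega))
      exact Module.Finite.of_surjective (0 : A →ₗ[A] Dual.HD A ((QA A).obj (tauLE X m)) i)
        fun y => ⟨0, Subsingleton.elim _ _⟩
  haveI := ev_quasiIso_bddAbove D (tauLE X m) (m + 1) hhigh hfin'
  exact (quasiIsoAt_ev_of_window D φ n fun p _ hp => hiso p (by omega)).1
    ((quasiIsoAt_iff_isIso_homologyMap _ _).1 inferInstance)

end Groth.Agent.DR39
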