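import Groth.Agent.DR39.Bidual2
import Groth.Agent.DR39.Dualizing3

/-! Finiteness of `Hom(K, L⟦i⟧)` and the biduality isomorphism in `D(A)`. -/

set_option autoImplicit false
set_option linter.style.haveILetI false
set_option linter.unusedSectionVars false

universe u

open CategoryTheory CategoryTheory.Limits CochainComplex.HomComplex
open CategoryTheory.Pretriangulated

attribute [local instance] HasDerivedCategory.standard

namespace Groth.Agent.DR39

variable {A : Type u} [CommRing A]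

/-! ### Homology of `Hom•(K, L)` for `L` K-injective -/

section Homology

variable (K L : DRing.Cx A)

/-- cycles to cocycles -/
noncomputable def zToCocycle (n : ℤ) : Zd (DRing.homCx K L) n →+ Cocycle K L n :=
  AddMonoidHom.mk' (fun z => Cocycle.mk (show Cochain K L n from z.1) (n + 1) rfl z.2) fun _ _ => rfl

/-- the class in `D(A)` of a cycle -/
noncomputable def clsLin (n : ℤ) : Zd (DRing.homCx K L) n →ₗ[A] ((QA A).obj K ⟶ (QA A).obj (L⟦n⟧)) where
  toFun z := (QA A).map (Cocycle.equivHomShift.symm (zToCocycle K L n z))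
  map_add' z w := by simp only [map_add, Functor.map_add]
  map_smul' c z := by
    rw [RingHom.id_apply, ← Functor.map_smul]
    congr 1


variable [L.IsKInjective]

theorem clsLin_surjective (n : ℤ) : Function.Surjective (clsLin K L n) := fun u => by
  obtain ⟨g, rfl⟩ := Q_map_surjective_of_kinj K (L⟦n⟧) u
  refine ⟨⟨(Cocycle.equivHomShift g).1, Cocycle.δ_eq_zero _ (n + 1)⟩, ?_⟩
  show (QA A).map _ = (QA A).map g
  exact congrArg (QA A).map (Cocycle.equivHomShift.symm_apply_apply g)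

theorem clsLin_ker (n : ℤ) : LinearMap.ker (clsLin K L n) = LinearMap.ker (hcls (DRing.homCx K L) n) := by
  ext z
  rw [LinearMap.mem_ker, LinearMap.mem_ker, hcls_eq_zero_iff]
  exact (kinj_cls_eq_zero_iff (zToCocycle K L n z)).trans
    (mem_coboundaries_iff _ (n - 1) (by omega))

/-- `H^n Hom•(K, L) = Hom_D(K, L[n])` -/
noncomputable def homologyHomCxEquiv (n : ℤ) :
    (DRing.homCx K L).homology n ≃ₗ[A] ((QA A).obj K ⟶ (QA A).obj (L⟦n⟧)) :=
  (LinearMap.quotKerEquivOfSurjective _ (hcls_surjective (DRing.homCx K L) n)).symm.trans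
    ((Submodule.quotEquivOfEq _ _ (clsLin_ker K L n).symm).trans
      (LinearMap.quotKerEquivOfSurjective _ (clsLin_surjective K L n)))

end Homology

/-! ### Finiteness -/

theorem finite_of_exact [IsNoetherianRing A] {M N P : Type*} [AddCommGroup M] [Module A M] [AddCommGroup N]
    [Module A N] [AddCommGroup P] [Module A P] [Module.Finite A M] [Module.Finite A P] (f : M →ₗ[A] N)
    (g : N →ₗ[A] P) (h : LinearMap.ker g ≤ LinearMap.range f) : Module.Finite A N := by
  haveI : IsNoetherian A (LinearMap.range f) := isNoetherian_of_isNoetherianRing_of_finite A _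
  haveI : Module.Finite A (LinearMap.ker g) :=
    Module.Finite.of_injective (Submodule.inclusion h) (Submodule.inclusion_injective h)
  haveI : IsNoetherian A P := isNoetherian_of_isNoetherianRing_of_finite A _
  haveI : Module.Finite A (N ⧸ LinearMap.ker g) :=
    Module.Finite.of_injective (Submodule.liftQ _ g le_rfl)
      (LinearMap.ker_eq_bot.1 (Submodule.ker_liftQ_eq_bot' _ _ rfl))
  exact Module.Finite.of_submodule_quotient (LinearMap.ker g)

/-- precomposition as a linear map -/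
noncomputable def preLin {X X' : Dual.D A} (Y : Dual.D A) (f : X ⟶ X') : (X' ⟶ Y) →ₗ[A] (X ⟶ Y) :=
  Linear.leftComp A Y f

theorem finite_hom_congr {X X' Y Y' : Dual.D A} (e : X ≅ X') (e' : Y ≅ Y')
    (h : Module.Finite A (X' ⟶ Y')) : Module.Finite A (X ⟶ Y) :=
  @Module.Finite.equiv _ _ _ _ _ _ _ _ h (CategoryTheory.Linear.homCongr A e e').symm

theorem finite_hom_sngl [IsNoetherianRing A] {R : Dual.D A} {a : ℤ}
    (hlow : ∀ i, i < a → IsZero ((HF A i).obj R)) (hfin : ∀ i : ℤ, Module.Finite A (Dual.HD A R i))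
    (M : ModuleCat.{u} A) [Module.Finite A M] (n k : ℤ) : Module.Finite A (sngl n M ⟶ R⟦k⟧) := by
  haveI := finite_hom_inD hlow hfin (n + k) M
  let e : (sngl n M)⟦n⟧ ≅ Dual.inD A M :=
    ((DerivedCategory.singleFunctors (ModuleCat.{u} A)).shiftIso n 0 n (add_zero n)).app M
  let e' : R⟦k⟧⟦n⟧ ≅ R⟦n + k⟧ := ((CategoryTheory.shiftFunctorAdd' (Dual.D A) k n (n + k) (by omega)).app R).symm
  haveI : Module.Finite A ((sngl n M)⟦n⟧ ⟶ R⟦k⟧⟦n⟧) :=
    finite_hom_congr e e' (inferInstanceAs (Module.Finite A (LC17.GM R (ModuleCat.of A M) (n + k))))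
  haveI : IsNoetherian A ((sngl n M)⟦n⟧ ⟶ R⟦k⟧⟦n⟧) := isNoetherian_of_isNoetherianRing_of_finite A _
  exact Module.Finite.of_injective ((CategoryTheory.shiftFunctor (Dual.D A) n).mapLinearMap A)
    (CategoryTheory.shiftFunctor (Dual.D A) n).map_injective

/-- `Hom(K, E⟦i⟧)` is finite for a bounded complex of injectives with finite cohomology -/
theorem finite_hom_of_rep [IsNoetherianRing A] (K : Dual.D A)
    (hK : ∀ j : ℤ, Module.Finite A (Dual.HD A K j)) (E : DRing.Cx A) (a b : ℤ)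
    (hE : ∀ j, (j < a ∨ b < j) → IsZero (E.X j)) (hI : ∀ j, INp (E.X j))
    (hfin : ∀ j : ℤ, Module.Finite A (Dual.HD A ((QA A).obj E) j)) (i : ℤ) :
    Module.Finite A (K ⟶ ((QA A).obj E)⟦i⟧) := by
  have hlow : ∀ j, j < a → IsZero ((HF A j).obj ((QA A).obj E)) := fun j hj => by
    rw [isZero_HF_Q_iff]
    exact ShortComplex.isZero_homology_of_isZero_X₂ _ (hE j (Or.inl hj))
  let L : DRing.Cx A := E⟦i⟧
  haveI : L.IsKInjective := isKInjective_of_rep L (a - i)
    (fun j hj => hE (j + i) (Or.inl (by omega))) fun j => hI (j + i)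
  let eY : (QA A).obj L ≅ ((QA A).obj E)⟦i⟧ := ((QA A).commShiftIso i).app E
  set Y := ((QA A).obj E)⟦i⟧ with hY
  have hzero : ∀ (Z : DRing.Cx A), (∀ j, a ≤ j + i → j + i ≤ b → IsZero (Z.X j)) →
      ∀ g : (QA A).obj Z ⟶ Y, g = 0 := by
    intro Z hZ g
    obtain ⟨φ, hφ⟩ := Q_map_surjective_of_kinj Z L (g ≫ eY.inv)
    have h0 : φ = 0 := HomologicalComplex.hom_ext _ _ fun j => by
      by_cases hj : a ≤ j + i ∧ j + i ≤ b
      · exact (hZ j hj.1 hj.2).eq_of_src _ _
      · exact (hE (j + i) (by omega)).eq_of_tgt _ _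
    rw [← cancel_mono eY.inv, zero_comp]
    exact hφ.symm.trans (by rw [h0]; exact Functor.map_zero _ _ _)
  let n := b - i + 1
  let T := ((DerivedCategory.TStructure.t : Triangulated.TStructure (Dual.D A)).triangleLTGE n).obj K
  have hT : T ∈ distinguishedTriangles :=
    DerivedCategory.TStructure.t.triangleLTGE_distinguished n K
  haveI hLE : T.obj₁.IsLE (n - 1) := inferInstanceAs (DerivedCategory.TStructure.t.IsLE _ (n - 1))
  haveI hGE : T.obj₃.IsGE n := inferInstanceAs (DerivedCategory.TStructure.t.IsGE _ n)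
  obtain ⟨Z, hZs, ⟨eZ⟩⟩ := DerivedCategory.exists_iso_Q_obj_of_isGE T.obj₃ n
  have h3 : ∀ g : T.obj₃ ⟶ Y, g = 0 := fun g => by
    rw [← cancel_epi eZ.inv, comp_zero]
    exact hzero Z (fun j _ hj => CochainComplex.isZero_of_isStrictlyGE Z n j (by omega)) _
  have hinj : Function.Injective (preLin Y T.mor₁) := by
    rw [injective_iff_map_eq_zero]
    intro g hg
    obtain ⟨q, rfl⟩ := Triangle.yoneda_exact₂ T hT g hg
    rw [h3 q, comp_zero]
  have hfin1 : ∀ j, Module.Finite A (Dual.HD A T.obj₁ j) := fun j => by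
    by_cases hj : j < n
    · haveI : IsIso ((HF A j).map T.mor₁) := by
        haveI : Epi ((HF A j).map T.mor₁) :=
          (DerivedCategory.HomologySequence.epi_homologyMap_mor₁_iff T hT j).2
            ((T.obj₃.isZero_of_isGE n j hj).eq_of_tgt _ _)
        haveI : Mono ((HF A j).map T.mor₁) :=
          (DerivedCategory.HomologySequence.mono_homologyMap_mor₁_iff T hT (j - 1) j (by omega)).2
            ((T.obj₃.isZero_of_isGE n (j - 1) (by omega)).eq_of_src _ _)
        exact isIso_of_mono_of_epi _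
      haveI : Module.Finite A ((HF A j).obj T.obj₂) := hK j
      exact Module.Finite.equiv (asIso ((HF A j).map T.mor₁)).symm.toLinearEquiv
    · haveI := ModuleCat.subsingleton_of_isZero (T.obj₁.isZero_of_isLE (n - 1) j (by omega))
      exact Module.Finite.of_surjective (0 : A →ₗ[A] _) fun y => ⟨0, Subsingleton.elim _ _⟩
  suffices H : Module.Finite A (T.obj₁ ⟶ Y) by
    haveI : IsNoetherian A (T.obj₁ ⟶ Y) := isNoetherian_of_isNoetherianRing_of_finite A _
    exact Module.Finite.of_injective (preLin Y T.mor₁) hinj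
  refine induction_homology (P := fun X => Module.Finite A (X ⟶ Y))
    (fun e h => finite_hom_congr e.symm (Iso.refl Y) h) (fun T' hT' h1 h3' => ?_) (a - i) T.obj₁
    (fun X hX hlowX => ?_) (fun j _ => ?_) n fun j hj => T.obj₁.isZero_of_isLE (n - 1) j (by omega)
  · exact finite_of_exact (preLin Y T'.mor₂) (preLin Y T'.mor₁) fun g hg => by
      obtain ⟨q, rfl⟩ := Triangle.yoneda_exact₂ T' hT' g hg
      exact ⟨q, rfl⟩
  · haveI : X.IsLE (a - i - 1) := (acyc_iff_isLE _ X).1 hX
    obtain ⟨W, hWs, ⟨eW⟩⟩ := DerivedCategory.exists_iso_Q_obj_of_isLE X (a - i - 1)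
    haveI : Subsingleton (X ⟶ Y) := subsingleton_of_forall_eq 0 fun g => by
      rw [← cancel_epi eW.inv, comp_zero]
      exact hzero W (fun j hj _ => CochainComplex.isZero_of_isStrictlyLE W (a - i - 1) j (by omega)) _
    exact Module.Finite.of_surjective (0 : A →ₗ[A] _) fun y => ⟨0, Subsingleton.elim _ _⟩
  · haveI := hfin1 j
    exact finite_hom_sngl hlow hfin _ j i

theorem finite_hom [IsNoetherianRing A] (K L : Dual.D A)
    (hK : ∀ j : ℤ, Module.Finite A (Dual.HD A K j)) (hL : ∀ j : ℤ, Module.Finite A (Dual.HD A L j))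
    (hLi : DRing.HasFiniteInjDim A L) (i : ℤ) : Module.Finite A (K ⟶ L⟦i⟧) := by
  obtain ⟨a, b, E, hE, hI, ⟨e⟩⟩ := hLi
  refine finite_hom_congr (Iso.refl K) ((CategoryTheory.shiftFunctor (Dual.D A) i).mapIso e.symm)
    (finite_hom_of_rep K hK E a b hE hI (fun j => ?_) i)
  haveI := hL j
  exact Module.Finite.equiv ((HF A j).mapIso e).symm.toLinearEquiv

/-! ### `RHom` into a K-injective complex -/

theorem RHomCx_iso_kinj (E : DRing.Cx A) [DRing.HasRHomCx E] (I : DRing.Cx A) [I.IsKInjective] :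
    Nonempty ((DRing.RHomCx E).obj ((QA A).obj I) ≅ (QA A).obj (DRing.homCx E I)) := by
  haveI := (homCxDeformation E).isIso_unit (HomologicalComplex.quasiIso _ _)
    ((DRing.homCxQ E).totalRightDerivedUnit DerivedCategory.Q
      (HomologicalComplex.quasiIso (ModuleCat.{u} A) (ComplexShape.up ℤ))) (X := I) ‹I.IsKInjective›
  exact ⟨(@asIso _ _ _ _ (((DRing.homCxQ E).totalRightDerivedUnit DerivedCategory.Q
      (HomologicalComplex.quasiIso (ModuleCat.{u} A) (ComplexShape.up ℤ))).app I) inferInstance).symm⟩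

theorem homCx_iso_of_iso (I : DRing.Cx A) [I.IsKInjective] {E F : DRing.Cx A}
    (e : (QA A).obj E ≅ (QA A).obj F) :
    Nonempty ((QA A).obj (DRing.homCx E I) ≅ (QA A).obj (DRing.homCx F I)) := by
  obtain ⟨J, j, hJ, hj, -⟩ := CohDer42.exists_kinjective_resolution F
  haveI := hJ; haveI := hj
  haveI := (DerivedCategory.isIso_Q_map_iff_quasiIso (ModuleCat.{u} A) j).2 inferInstance
  obtain ⟨g, hg⟩ := Q_map_surjective_of_kinj E J (e.hom ≫ (QA A).map j)
  haveI : QuasiIso g := (DerivedCategory.isIso_Q_map_iff_quasiIso (ModuleCat.{u} A) g).1 (by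
    rw [hg]; infer_instance)
  haveI := quasiIso_homCxPre g I
  haveI := quasiIso_homCxPre j I
  have h1 := (DerivedCategory.isIso_Q_map_iff_quasiIso (ModuleCat.{u} A) (homCxPre g I)).2 inferInstance
  have h2 := (DerivedCategory.isIso_Q_map_iff_quasiIso (ModuleCat.{u} A) (homCxPre j I)).2 inferInstance
  exact ⟨(@asIso _ _ _ _ _ h1).symm ≪≫ @asIso _ _ _ _ _ h2⟩

/-! ### Biduality in `D(A)` -/

theorem finite_HF_homCx [IsNoetherianRing A] (D : DualModel A) (K : DRing.Cx A)
    (hK : ∀ j : ℤ, Module.Finite A (Dual.HD A ((QA A).obj K) j)) (i : ℤ) :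
    Module.Finite A (Dual.HD A ((QA A).obj (DRing.homCx K D.I)) i) := by
  haveI := D.isKInjective
  haveI : Module.Finite A ((QA A).obj K ⟶ ((QA A).obj D.I)⟦i⟧) :=
    finite_hom_of_rep _ hK D.I D.a D.b D.zero D.inj D.dualizing.finite_cohomology i
  haveI : Module.Finite A ((QA A).obj K ⟶ (QA A).obj (D.I⟦i⟧)) :=
    finite_hom_congr (Iso.refl _) (((QA A).commShiftIso i).app D.I) ‹_›
  haveI : Module.Finite A ((DRing.homCx K D.I).homology i) :=
    Module.Finite.equiv (homologyHomCxEquiv K D.I i).symm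
  exact Module.Finite.equiv (HQIso (DRing.homCx K D.I) i).symm.toLinearEquiv

theorem bidual_iso [IsNoetherianRing A] (D : DualModel A) (K : DRing.Cx A)
    (hK : ∀ j : ℤ, Module.Finite A (Dual.HD A ((QA A).obj K) j)) :
    Nonempty ((QA A).obj (DRing.homCx (DRing.homCx K D.I) D.I) ≅ (QA A).obj K) := by
  haveI := ev_quasiIso D K hK
  have h := (DerivedCategory.isIso_Q_map_iff_quasiIso (ModuleCat.{u} A) (ev K D.I)).2 inferInstance
  exact ⟨(@asIso _ _ _ _ _ h).symm⟩

theorem biduality [IsNoetherianRing A] {ω : Dual.D A} (hω : Dual.IsDualizing A ω) (K : DRing.Cx A)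
    [DRing.HasRHomCx K] (hK : ∀ i : ℤ, Module.Finite A (Dual.HD A (DRing.toD K) i)) :
    (∀ i : ℤ, Module.Finite A (Dual.HD A ((DRing.RHomCx K).obj ω) i)) ∧
      ∀ (E : DRing.Cx A) [DRing.HasRHomCx E], Nonempty (DRing.toD E ≅ (DRing.RHomCx K).obj ω) →
        Nonempty ((DRing.RHomCx E).obj ω ≅ DRing.toD K) := by
  obtain ⟨D, ⟨e⟩⟩ := exists_dualModel hω
  haveI := D.isKInjective
  obtain ⟨r⟩ := RHomCx_iso_kinj K D.I
  let eK : (DRing.RHomCx K).obj ω ≅ (QA A).obj (DRing.homCx K D.I) :=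
    (DRing.RHomCx K).mapIso e.symm ≪≫ r
  refine ⟨fun i => ?_, fun E hE ⟨f⟩ => ?_⟩
  · haveI := finite_HF_homCx D K hK i
    exact Module.Finite.equiv ((HF A i).mapIso eK).symm.toLinearEquiv
  · obtain ⟨rE⟩ := RHomCx_iso_kinj E D.I
    obtain ⟨g⟩ := homCx_iso_of_iso D.I (f ≪≫ eK)
    obtain ⟨b⟩ := bidual_iso D K hK
    exact ⟨(DRing.RHomCx E).mapIso e.symm ≪≫ rE ≪≫ g ≪≫ b⟩

end Groth.Agent.DR39
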