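import Groth.Agent.DR39.BootProZero
import Groth.Prelude.Def_Formal2

/-!
Consequences of pro-vanishing for the quotients `M/IⁿM`.
-/

set_option autoImplicit false
set_option linter.style.haveILetI false
set_option linter.unusedSectionVars false
set_option maxHeartbeats 40000

noncomputable section

universe u

open CategoryTheory Groth.Agent.LC15

attribute [local instance] HasDerivedCategory.standard

namespace Groth.Agent.DR39.Boot

variable {A : Type u} [CommRing A] (T : Set (PrimeSpectrum A))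

/-- Naturality of the connecting map with supports in `T`. -/
theorem Tδ_natural (i : ℕ) {M N L M' N' L' : Type u} [AddCommGroup M] [Module A M] [AddCommGroup N]
    [Module A N] [AddCommGroup L] [Module A L] [AddCommGroup M'] [Module A M'] [AddCommGroup N']
    [Module A N'] [AddCommGroup L'] [Module A L'] {f : M →ₗ[A] N} {g : N →ₗ[A] L} {f' : M' →ₗ[A] N'}
    {g' : N' →ₗ[A] L'} (hf : Function.Injective f) (hfg : Function.Exact f g) (hg : Function.Surjective g)
    (hf' : Function.Injective f') (hfg' : Function.Exact f' g') (hg' : Function.Surjective g')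
    (a : M →ₗ[A] M') (b : N →ₗ[A] N') (c : L →ₗ[A] L') (h₁ : b ∘ₗ f = f' ∘ₗ a) (h₂ : c ∘ₗ g = g' ∘ₗ b)
    (y : Dual2.HT T i L) :
    HT.Tmap T (i + 1) a (HT.Tδ T i hf hfg hg y) = HT.Tδ T i hf' hfg' hg' (HT.Tmap T i c y) := by
  obtain ⟨J, x, rfl⟩ := HT.toT_surj i L y
  rw [HT.Tδ_toT, HT.Tmap_toT, HT.Tmap_toT, HT.Tδ_toT]
  let φ : seqSC hfg ⟶ seqSC hfg' :=
    ⟨ModuleCat.ofHom a, ModuleCat.ofHom b, ModuleCat.ofHom c,
      ModuleCat.hom_ext h₁.symm, ModuleCat.hom_ext h₂.symm⟩
  refine congrArg _ ?_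
  refine (Abelian.Ext.comp_assoc _ _ _ rfl (add_zero 1) (by omega)).trans ?_
  refine (congrArg (fun e => Abelian.Ext.comp x e _)
    (ShortComplex.ShortExact.extClass_naturality (seqSC_shortExact hf hfg hg)
      (seqSC_shortExact hf' hfg' hg') φ)).trans ?_
  exact (Abelian.Ext.comp_assoc _ _ _ (add_zero i) (zero_add 1) (by omega)).symm

variable (I : Ideal A) (M : Type u) [AddCommGroup M] [Module A M]

/-- the projection to `M/IⁿM` -/
abbrev proj (n : ℕ) : M →ₗ[A] M ⧸ pw I M n := (pw I M n).mkQ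

/-- the transition maps of the quotients -/
abbrev trans {n m : ℕ} (h : n ≤ m) : (M ⧸ pw I M m) →ₗ[A] M ⧸ pw I M n :=
  Submodule.factor (Submodule.smul_mono_left (Ideal.pow_le_pow_right h))

/-- the connecting maps -/
abbrev dl (i n : ℕ) : Dual2.HT T i (M ⧸ pw I M n) →ₗ[A] Dual2.HT T (i + 1) (pw I M n) :=
  HT.Tδ T i (pw I M n).injective_subtype (LinearMap.exact_subtype_mkQ (pw I M n)) (pw I M n).mkQ_surjective

theorem Tδ_inclusion (i : ℕ) (W W' : Submodule A M) (h : W ≤ W') (y : Dual2.HT T i (M ⧸ W)) :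
    HT.Tδ T i W'.injective_subtype (LinearMap.exact_subtype_mkQ W') W'.mkQ_surjective
        (HT.Tmap T i (Submodule.factor h) y) =
      HT.Tmap T (i + 1) (Submodule.inclusion h)
        (HT.Tδ T i W.injective_subtype (LinearMap.exact_subtype_mkQ W) W.mkQ_surjective y) := by
  have h₁ : (LinearMap.id : M →ₗ[A] M) ∘ₗ W.subtype = W'.subtype ∘ₗ Submodule.inclusion h :=
    LinearMap.ext fun _ => rfl
  have h₂ : Submodule.factor h ∘ₗ W.mkQ = W'.mkQ ∘ₗ (LinearMap.id : M →ₗ[A] M) :=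
    LinearMap.ext fun _ => rfl
  exact (Tδ_natural (f := W.subtype) (g := W.mkQ) (f' := W'.subtype) (g' := W'.mkQ) T i
    W.injective_subtype (LinearMap.exact_subtype_mkQ W) W.mkQ_surjective
    W'.injective_subtype (LinearMap.exact_subtype_mkQ W') W'.mkQ_surjective
    (Submodule.inclusion h) LinearMap.id (Submodule.factor h) h₁ h₂ y).symm

theorem dl_trans (i : ℕ) {n m : ℕ} (h : n ≤ m) (y : Dual2.HT T i (M ⧸ pw I M m)) :
    dl T I M i n (HT.Tmap T i (trans I M h) y) = HT.Tmap T (i + 1) (pwIncl I M h) (dl T I M i m y) :=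
  Tδ_inclusion T M i (pw I M m) (pw I M n) _ y

theorem proj_trans (i : ℕ) {n m : ℕ} (h : n ≤ m) (x : Dual2.HT T i M) :
    HT.Tmap T i (trans I M h) (HT.Tmap T i (proj I M m) x) = HT.Tmap T i (proj I M n) x := by
  rw [← LinearMap.comp_apply, ← HT.Tmap_comp]
  rfl

theorem subtype_zero_of (i : ℕ) {n m : ℕ} (h : n ≤ m) (hz : HT.Tmap T i (pwIncl I M h) = 0) :
    HT.Tmap T i (pw I M m).subtype = 0 := by
  rw [show (pw I M m).subtype = (pw I M n).subtype ∘ₗ pwIncl I M h from rfl, HT.Tmap_comp, hz,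
    LinearMap.comp_zero]

variable {T} {i : ℕ}

theorem eq_zero_of_proj {m : ℕ} (hz : HT.Tmap T i (pw I M m).subtype = 0) (x : Dual2.HT T i M)
    (hx : HT.Tmap T i (proj I M m) x = 0) : x = 0 := by
  obtain ⟨z, rfl⟩ := (HT.T_exact₂ i (pw I M m).injective_subtype
    (LinearMap.exact_subtype_mkQ (pw I M m)) (pw I M m).mkQ_surjective x).1 hx
  rw [hz, LinearMap.zero_apply]

theorem exists_proj_of_trans {n m : ℕ} (h : n ≤ m) (hz : HT.Tmap T (i + 1) (pwIncl I M h) = 0)
    (y : Dual2.HT T i (M ⧸ pw I M m)) :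
    ∃ x, HT.Tmap T i (proj I M n) x = HT.Tmap T i (trans I M h) y :=
  (HT.T_exact₃ i (pw I M n).injective_subtype (LinearMap.exact_subtype_mkQ (pw I M n))
    (pw I M n).mkQ_surjective _).1 ((dl_trans T I M i h y).trans (by rw [hz, LinearMap.zero_apply]))

/-- A family compatible for consecutive indices is compatible. -/
theorem compat_of_succ (W : ℕ → Submodule A M) (hW : Antitone W) (y : ∀ n, Dual2.HT T i (M ⧸ W n))
    (hy : ∀ n, HT.Tmap T i (Submodule.factor (hW n.le_succ)) (y (n + 1)) = y n) :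
    ∀ n l (h : n ≤ l), HT.Tmap T i (Submodule.factor (hW h)) (y l) = y n := by
  intro n l h
  induction l, h using Nat.le_induction with
  | base =>
    have e : Submodule.factor (hW (le_refl n)) = LinearMap.id :=
      Submodule.linearMap_qext _ (LinearMap.ext fun _ => rfl)
    exact (LinearMap.congr_fun ((congrArg (HT.Tmap T i) e).trans (HT.Tmap_id _)) (y n)).trans rfl
  | succ l h ih =>
    have e : Submodule.factor (hW (h.trans (Nat.le_succ l))) =
        Submodule.factor (hW h) ∘ₗ Submodule.factor (hW (Nat.le_succ l)) :=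
      Submodule.linearMap_qext _ (LinearMap.ext fun _ => rfl)
    exact (LinearMap.congr_fun ((congrArg (HT.Tmap T i) e).trans (HT.Tmap_comp _ _ _)) (y (l + 1))).trans
      ((congrArg (HT.Tmap T i (Submodule.factor (hW h))) (hy l)).trans ih)

/-- Compatible families lift. -/
theorem exists_lift (h0 : ∃ (m : ℕ) (_ : 1 ≤ m), HT.Tmap T i (pw I M m).subtype = 0)
    (h1 : ∀ n, ∃ (m : ℕ) (h : n ≤ m), HT.Tmap T (i + 1) (pwIncl I M h) = 0)
    (y : ∀ n : ℕ, Dual2.HT T i (M ⧸ pw I M (n + 1)))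
    (hy : ∀ n, HT.Tmap T i (trans I M (Nat.le_add_right (n + 1) 1)) (y (n + 1)) = y n) :
    ∃ x, ∀ n, HT.Tmap T i (proj I M (n + 1)) x = y n := by
  have hcomp : ∀ n l (h : n ≤ l), HT.Tmap T i (trans I M (Nat.add_le_add_right h 1)) (y l) = y n :=
    compat_of_succ M (fun k => pw I M (k + 1))
      (fun a b hab => Submodule.smul_mono_left (Ideal.pow_le_pow_right (Nat.add_le_add_right hab 1))) y hy
  have hx : ∀ n, ∃ x, HT.Tmap T i (proj I M (n + 1)) x = y n := fun n => by
    obtain ⟨m, h, hm⟩ := h1 (n + 1)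
    obtain ⟨l, rfl⟩ : ∃ l, m = l + 1 := ⟨m - 1, by omega⟩
    obtain ⟨x, hx⟩ := exists_proj_of_trans I M h hm (y l)
    exact ⟨x, hx.trans (hcomp n l (by omega))⟩
  choose x hx using hx
  obtain ⟨m, hm, hz⟩ := h0
  obtain ⟨N, rfl⟩ : ∃ N, m = N + 1 := ⟨m - 1, by omega⟩
  refine ⟨x N, fun n => ?_⟩
  have key : ∀ l, N ≤ l → x l = x N := fun l hl => sub_eq_zero.1 (eq_zero_of_proj I M hz _ (by
    rw [map_sub, hx N, ← proj_trans T I M i (Nat.add_le_add_right hl 1), hx l, hcomp N l hl, sub_self]))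
  rcases le_total N n with h | h
  · rw [← key n h, hx n]
  · rw [← proj_trans T I M i (Nat.add_le_add_right h 1), hx N, hcomp n N h]

/-- Annihilation by a power of `I`. -/
theorem smul_eq_zero_of_pow {m : ℕ} (hz : HT.Tmap T i (pw I M m).subtype = 0) {a : A} (ha : a ∈ I ^ m)
    (x : Dual2.HT T i M) : a • x = 0 := by
  rw [← HT.Tmap_lsmul, show LinearMap.lsmul A M a = (pw I M m).subtype ∘ₗ
    (LinearMap.lsmul A M a).codRestrict (pw I M m) (fun v => Submodule.smul_mem_smul ha trivial) from rfl,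
    HT.Tmap_comp, hz, LinearMap.zero_comp, LinearMap.zero_apply]

/-- The images stabilise. -/
theorem range_trans_eq {n k : ℕ} (hk : n ≤ k) (hz : HT.Tmap T (i + 1) (pwIncl I M hk) = 0) :
    Set.range (HT.Tmap T i (trans I M hk)) = Set.range (HT.Tmap T i (proj I M n)) := by
  refine Set.Subset.antisymm ?_ ?_
  · rintro _ ⟨z, rfl⟩
    obtain ⟨x, hx⟩ := exists_proj_of_trans I M hk hz z
    exact ⟨x, hx⟩
  · rintro _ ⟨x, rfl⟩
    exact ⟨_, proj_trans T I M i hk x⟩

end Groth.Agent.DR39.Boot
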