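import Groth.Agent.LC15.Gamma
import Groth.Agent.CAlg4.ArtinRees

/-!
Cycles modulo boundaries of a complex of acyclic modules on the open complement of `V(I)`,
near a prime.
-/

set_option autoImplicit false
set_option linter.style.haveILetI false
set_option linter.unusedSectionVars false

universe u

open Groth.Agent.LC15

namespace Groth.Agent.DR39.Boot

variable {A : Type u} [CommRing A]

/-- `N` vanishes at the prime `q`. -/
def Vq (q : PrimeSpectrum A) (N : Type u) [AddCommGroup N] [Module A N] : Prop :=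
  ∀ x : N, ∃ u ∉ q.asIdeal, u • x = 0

theorem vq_of_subsingleton (q : PrimeSpectrum A) (N : Type u) [AddCommGroup N] [Module A N]
    [Subsingleton N] : Vq q N :=
  fun _ => ⟨1, (Ideal.ne_top_iff_one _).1 q.2.ne_top, Subsingleton.elim _ _⟩

theorem Vq.of_injective {q : PrimeSpectrum A} {N N' : Type u} [AddCommGroup N] [Module A N]
    [AddCommGroup N'] [Module A N'] (h : Vq q N') {f : N →ₗ[A] N'} (hf : Function.Injective f) :
    Vq q N := fun x => by
  obtain ⟨u, hu, hx⟩ := h (f x)
  exact ⟨u, hu, hf (by rw [map_smul, hx, map_zero])⟩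

theorem Vq.of_exact {q : PrimeSpectrum A} {N₁ N₂ N₃ : Type u} [AddCommGroup N₁] [Module A N₁]
    [AddCommGroup N₂] [Module A N₂] [AddCommGroup N₃] [Module A N₃] {f : N₁ →ₗ[A] N₂}
    {g : N₂ →ₗ[A] N₃} (he : Function.Exact f g) (h₁ : Vq q N₁) (h₃ : Vq q N₃) : Vq q N₂ := fun x => by
  obtain ⟨u, hu, hx⟩ := h₃ (g x)
  obtain ⟨y, hy⟩ := (he (u • x)).1 (by rw [map_smul, hx])
  obtain ⟨v, hv, hy'⟩ := h₁ y
  exact ⟨v * u, fun h => (q.2.mem_or_mem h).elim hv hu, by rw [mul_smul, ← hy, ← map_smul, hy', map_zero]⟩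

variable [IsNoetherianRing A] (I : Ideal A)

/-- The sequence of homomorphisms out of a presentation. -/
theorem hom_seq {E : Type u} [AddCommGroup E] [Module A E] [Module.Injective A E] {M : Type u}
    [AddCommGroup M] [Module A M] {r : ℕ} (π : (Fin r → A) →ₗ[A] M) (hπ : Function.Surjective π) :
    Function.Injective (LinearMap.lcomp A E π) ∧
      Function.Exact (LinearMap.lcomp A E π) (LinearMap.lcomp A E (LinearMap.ker π).subtype) ∧
      Function.Surjective (LinearMap.lcomp A E (LinearMap.ker π).subtype) := by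
  refine ⟨fun φ ψ h => LinearMap.ext fun x => ?_, fun φ => ⟨fun h => ?_, ?_⟩, fun χ =>
    Module.Injective.extension_property A E _ _ _ (Submodule.subtype_injective _) χ⟩
  · obtain ⟨y, rfl⟩ := hπ x
    exact LinearMap.congr_fun h y
  · refine ⟨(LinearMap.ker π).liftQ φ (fun x hx => LinearMap.congr_fun h ⟨x, hx⟩) ∘ₗ
      (π.quotKerEquivOfSurjective hπ).symm.toLinearMap, LinearMap.ext fun x => ?_⟩
    rw [LinearMap.lcomp_apply, LinearMap.comp_apply, LinearEquiv.coe_coe]
    rw [show (π.quotKerEquivOfSurjective hπ).symm (π x) = Submodule.Quotient.mk x from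
      (LinearEquiv.symm_apply_eq _).2 rfl, Submodule.liftQ_apply]
  · rintro ⟨φ', rfl⟩
    refine LinearMap.ext fun x => ?_
    show φ' (π x.1) = 0
    rw [show π x.1 = 0 from x.2, map_zero]

/-- Homomorphisms from a finite module into an injective one have no higher local cohomology. -/
theorem subsingleton_H_hom (E : Type u) [AddCommGroup E] [Module A E] [Module.Injective A E] :
    ∀ (a : ℕ) (M : Type u) [AddCommGroup M] [Module A M] [Module.Finite A M],
      Subsingleton (LocCoh.H I (a + 1) (M →ₗ[A] E)) := by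
  suffices key : ∀ (a : ℕ) (M : Type u) [AddCommGroup M] [Module A M] [Module.Finite A M],
      Subsingleton (LocCoh.H I (a + 1) (M →ₗ[A] E)) from key
  intro a
  induction a with
  | zero =>
    intro M _ _ _
    obtain ⟨r, π, hπ⟩ := Module.Finite.exists_fin' A M
    let K := LinearMap.ker π
    let g : ((Fin r → A) →ₗ[A] E) →ₗ[A] (K →ₗ[A] E) := LinearMap.lcomp A E K.subtype
    obtain ⟨hf, hfg, hg⟩ := hom_seq (E := E) π hπ
    haveI : Subsingleton (LocCoh.H I 1 ((Fin r → A) →ₗ[A] E)) := by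
      haveI : Module.Injective A (Fin r → E) := inferInstance
      haveI := subsingleton_H_succ_of_injective I 0 (M := Fin r → E)
      exact (Hequiv I 1 ((Pi.basisFun A (Fin r)).constr A (M' := E)).symm).subsingleton
    refine ⟨fun x y => ?_⟩
    suffices h0 : ∀ z : LocCoh.H I 1 (M →ₗ[A] E), z = 0 by rw [h0 x, h0 y]
    intro z
    obtain ⟨w, rfl⟩ := Hδ_surjective I 0 hf hfg hg inferInstance z
    suffices ∃ v, Hmap I 0 g v = w from ((H_exact₃ I 0 hf hfg hg) w).2 this
    obtain ⟨c, hc⟩ := (range_h0 I (K →ₗ[A] E)).le ⟨w, rfl⟩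
    obtain ⟨χ, hχ⟩ : ∃ χ, h0 I (K →ₗ[A] E) w = χ := ⟨_, rfl⟩
    rw [hχ] at hc
    obtain ⟨c₀, hc₀⟩ := CAlg4.AR.exists_inf_le I K
    obtain ⟨c', hc'⟩ : ∃ c', (I ^ c' • ⊤ : Submodule A (Fin r → A)) ⊓ K ≤ I ^ c • K := ⟨c + c₀, hc₀ c⟩
    let W : Submodule A (Fin r → A) := I ^ c' • ⊤
    have hker : LinearMap.ker (K.subtype.coprod W.subtype) ≤ LinearMap.ker (χ.comp (LinearMap.fst A K W)) := by
      rintro ⟨k, w'⟩ hkw
      have hkw' : (k : Fin r → A) + (w' : Fin r → A) = 0 := hkw
      have hk : (k : Fin r → A) ∈ I ^ c' • (⊤ : Submodule A (Fin r → A)) ⊓ K :=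
        ⟨by rw [eq_neg_of_add_eq_zero_left hkw']; exact neg_mem w'.2, k.2⟩
      show χ k = 0
      obtain ⟨v, hv, hvk⟩ : ∃ v ∈ I ^ c • (⊤ : Submodule A K), (v : Fin r → A) = k := by
        have e : I ^ c • K = (I ^ c • ⊤ : Submodule A K).map K.subtype := by
          rw [Submodule.map_smul'', Submodule.map_subtype_top]
        exact Submodule.mem_map.1 (e ▸ hc' hk)
      obtain rfl : v = k := Subtype.ext hvk
      refine Submodule.smul_induction_on hv (fun a ha m _ => ?_) (fun x y hx hy => by rw [map_add, hx, hy, add_zero])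
      rw [map_smul, ← LinearMap.smul_apply, hc a ha, LinearMap.zero_apply]
    obtain ⟨Φ, hΦ⟩ := Module.Injective.extension_property A E _ _
      ((LinearMap.ker (K.subtype.coprod W.subtype)).liftQ (K.subtype.coprod W.subtype) le_rfl)
      (LinearMap.ker_eq_bot.1 (Submodule.ker_liftQ_eq_bot' _ _ rfl))
      ((LinearMap.ker (K.subtype.coprod W.subtype)).liftQ (χ.comp (LinearMap.fst A K W)) hker)
    have hΦ' : ∀ k w', Φ ((k : K).1 + (w' : W).1) = χ k := fun k w' => by
      have := LinearMap.congr_fun hΦ (Submodule.Quotient.mk (k, w'))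
      simpa using this
    have hgam : Φ ∈ gamma I ((Fin r → A) →ₗ[A] E) := ⟨c', fun a ha => LinearMap.ext fun x => by
      have h1 := hΦ' 0 ⟨a • x, Submodule.smul_mem_smul ha trivial⟩
      simpa using h1⟩
    obtain ⟨v, hv⟩ := (range_h0 I _).ge hgam
    refine ⟨v, h0_injective I _ ?_⟩
    rw [h0_Hmap, hv, hχ]
    refine LinearMap.ext fun k => ?_
    simpa [g] using hΦ' k 0
  | succ a ih =>
    intro M _ _ _
    obtain ⟨r, π, hπ⟩ := Module.Finite.exists_fin' A M
    let K := LinearMap.ker π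
    obtain ⟨hf, hfg, hg⟩ := hom_seq (E := E) π hπ
    haveI : Subsingleton (LocCoh.H I (a + 1 + 1) ((Fin r → A) →ₗ[A] E)) := by
      haveI : Module.Injective A (Fin r → E) := inferInstance
      haveI := subsingleton_H_succ_of_injective I (a + 1) (M := Fin r → E)
      exact (Hequiv I (a + 1 + 1) ((Pi.basisFun A (Fin r)).constr A (M' := E)).symm).subsingleton
    haveI : Module.Finite A K := Module.Finite.of_injective K.subtype (Submodule.subtype_injective _)
    haveI := ih K
    exact (Hδ_surjective I (a + 1) hf hfg hg inferInstance).subsingleton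

section Chase

variable (q : PrimeSpectrum A) {d : ℕ} (hcd : LocCoh.CdLE A I d) (j : ℤ)
variable {L : ℤ → Type u} [∀ b, AddCommGroup (L b)] [∀ b, Module A (L b)]
  (D : ∀ b c : ℤ, L b →ₗ[A] L c) (hDD : ∀ a b c : ℤ, D b c ∘ₗ D a b = 0)

/-- The boundaries inside the cycles. -/
abbrev toCyc (a b c : ℤ) : L a →ₗ[A] LinearMap.ker (D b c) :=
  (D a b).codRestrict _ fun x => LinearMap.congr_fun (hDD a b c) x

variable (hac : ∀ (b : ℤ) (a : ℕ), Subsingleton (LocCoh.H I (a + 1) (L b)))
  (hF : ∀ a : ℕ, 1 ≤ a → a + 1 ≤ d → ∀ b : ℤ, b + a = j →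
    Vq q (LocCoh.H I (a + 1)
      (LinearMap.ker (D b (b + 1)) ⧸ LinearMap.range (toCyc D hDD (b - 1) b (b + 1)))))
include hcd hac hF

theorem vq_cycles : ∀ (r a : ℕ), d ≤ a + r → 1 ≤ a → ∀ b c : ℤ, b + 1 = c → b + a = j →
    Vq q (LocCoh.H I (a + 1) (LinearMap.ker (D b c))) := by
  intro r
  induction r with
  | zero =>
    intro a ha _ b c _ _
    haveI := hcd (LinearMap.ker (D b c)) (a + 1) (by omega)
    exact vq_of_subsingleton _ _
  | succ r ih =>
    intro a ha ha1 b c hbc hbj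
    subst hbc
    by_cases hd : a + 1 ≤ d
    swap
    · haveI := hcd (LinearMap.ker (D b (b + 1))) (a + 1) (by omega)
      exact vq_of_subsingleton _ _
    set δ' := toCyc D hDD (b - 1) b (b + 1) with hδ'
    have h1 := ih (a + 1) (by omega) (by omega) (b - 1) b (by omega) (by push_cast; omega)
    have hex : Function.Exact (LinearMap.ker (D (b - 1) b)).subtype δ'.rangeRestrict := fun x => by
      refine ⟨fun hx => ⟨⟨x, ?_⟩, rfl⟩, ?_⟩
      · exact congrArg (fun z => (z : LinearMap.ker (D b (b + 1))).1) (congrArg Subtype.val hx)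
      · rintro ⟨y, rfl⟩
        exact Subtype.ext (Subtype.ext y.2)
    have h2 : Vq q (LocCoh.H I (a + 1) (LinearMap.range δ')) := by
      refine h1.of_injective (f := Hδ I (a + 1) (Submodule.subtype_injective _) hex
        δ'.surjective_rangeRestrict) ?_
      rw [injective_iff_map_eq_zero]
      intro x hx
      obtain ⟨y, rfl⟩ := (H_exact₃ I (a + 1) _ hex _ x).1 hx
      haveI := hac (b - 1) a
      rw [Subsingleton.elim y 0, map_zero]
    exact Vq.of_exact (H_exact₂ I (a + 1) (Submodule.subtype_injective _)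
      (LinearMap.exact_subtype_mkQ (LinearMap.range δ')) (Submodule.mkQ_surjective _))
      h2 (hF a ha1 hd b hbj)

/-- An element whose multiples by a power of `I` are boundaries is, near `q`, a boundary up to
`I`-torsion. -/
theorem exists_smul_sub_mem (w : L j) (c : ℕ) (hw : ∀ a ∈ I ^ c, a • w ∈ LinearMap.range (D (j - 1) j)) :
    ∃ u ∉ q.asIdeal, ∃ (y : L (j - 1)) (c' : ℕ), ∀ a ∈ I ^ c', a • (u • w - D (j - 1) j y) = 0 := by
  let R := LinearMap.range (D (j - 1) j)
  have hR : Vq q (LocCoh.H I 1 R) := by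
    have h1 := vq_cycles I q hcd j D hDD hac hF d 1 (by omega) le_rfl (j - 1) j (by omega) (by push_cast; omega)
    have hex : Function.Exact (LinearMap.ker (D (j - 1) j)).subtype (D (j - 1) j).rangeRestrict := fun x => by
      refine ⟨fun hx => ⟨⟨x, congrArg Subtype.val hx⟩, rfl⟩, ?_⟩
      rintro ⟨y, rfl⟩
      exact Subtype.ext y.2
    refine h1.of_injective (f := Hδ I 1 (Submodule.subtype_injective _) hex
      (D (j - 1) j).surjective_rangeRestrict) ?_
    rw [injective_iff_map_eq_zero]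
    intro x hx
    obtain ⟨y, rfl⟩ := (H_exact₃ I 1 _ hex _ x).1 hx
    haveI := hac (j - 1) 0
    rw [Subsingleton.elim y 0, map_zero]
  let W : Submodule A (L j) := R ⊔ Submodule.span A {w}
  let R' : Submodule A W := R.comap W.subtype
  let e : R →ₗ[A] W := Submodule.inclusion le_sup_left
  have he : Function.Exact e R'.mkQ := fun x => by
    refine ⟨fun hx => ⟨⟨x.1, (Submodule.Quotient.mk_eq_zero R').1 hx⟩, rfl⟩, ?_⟩
    rintro ⟨y, rfl⟩
    exact (Submodule.Quotient.mk_eq_zero R').2 y.2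
  let w' : W := ⟨w, le_sup_right (a := R) (Submodule.mem_span_singleton_self w)⟩
  have hgam : R'.mkQ w' ∈ gamma I (W ⧸ R') := ⟨c, fun a ha => by
    rw [← map_smul]
    exact (Submodule.Quotient.mk_eq_zero R').2 (hw a ha)⟩
  obtain ⟨x, hx⟩ := (range_h0 I _).ge hgam
  obtain ⟨u, hu, hux⟩ := hR (Hδ I 0 (Submodule.inclusion_injective _) he (Submodule.mkQ_surjective _) x)
  obtain ⟨v, hv⟩ := (H_exact₃ I 0 (Submodule.inclusion_injective _) he (Submodule.mkQ_surjective _) (u • x)).1
    (by rw [map_smul, hux])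
  obtain ⟨c', hc'⟩ := (range_h0 I W).le ⟨v, rfl⟩
  have h3 : R'.mkQ (u • w' - h0 I W v) = 0 := by
    rw [map_sub, map_smul, ← hx, ← map_smul, ← hv, h0_Hmap, sub_self]
  obtain ⟨y, hy⟩ := (Submodule.Quotient.mk_eq_zero R').1 h3
  refine ⟨u, hu, y, c', fun a ha => ?_⟩
  have h4 : u • w - D (j - 1) j y = (h0 I W v : W).1 := by
    rw [hy]
    show u • w - (u • w - (h0 I W v : W).1) = _
    abel
  rw [h4]
  exact congrArg Subtype.val (hc' a ha)

end Chase

end Groth.Agent.DR39.Boot
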