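import Groth.Agent.DR39.BootTop
import Groth.Agent.DR39.BootChase
import Groth.Agent.LC16.DimBetween
import Groth.Agent.LC16.LocH
import Groth.Agent.S8796

/-!
The numerical conditions of the bootstrap and the local vanishing they give.
-/

set_option autoImplicit false
set_option linter.style.haveILetI false
set_option linter.unusedSectionVars false
set_option maxHeartbeats 800000

noncomputable section

universe u

open CategoryTheory IsLocalRing Groth.Agent.LC15
open Groth.Agent.LC16.DualAnn (mu)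

attribute [local instance] HasDerivedCategory.standard

namespace Groth.Agent.DR39.Boot

variable {A : Type u} [CommRing A]

/-- The hypotheses of the bootstrap. -/
structure Cond (I : Ideal A) (d : ℕ) (M : Type u) [AddCommGroup M] [Module A M]
    (T : Set (PrimeSpectrum A)) (s : ℕ) : Prop where
  cd : LocCoh.CdLE A I d
  sub : T ⊆ PrimeSpectrum.zeroLocus (I : Set A)
  stable : StableUnderSpecialization T
  h4 : ∀ p r q : PrimeSpectrum A, p ≤ r → r ≤ q → ¬ I ≤ p.asIdeal → I ≤ r.asIdeal → r ∉ T → q ∈ T → (s : ℕ∞) ≤ LocCoh.depth (Localization.AtPrime p.asIdeal) (LocalizedModule p.asIdeal.primeCompl M) ∨ ((d + s : ℕ) : WithBot ℕ∞) < (LocCoh.depth (Localization.AtPrime p.asIdeal) (LocalizedModule p.asIdeal.primeCompl M) : WithBot ℕ∞) + Formal2.dimBetween A p.asIdeal q.asIdeal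
  h6 : ∀ q : PrimeSpectrum A, q ∈ T → ∀ p' : PrimeSpectrum (AdicCompletion (I.map (algebraMap A (Localization.AtPrime q.asIdeal))) (Localization.AtPrime q.asIdeal)), ¬ (I.map (algebraMap A (AdicCompletion (I.map (algebraMap A (Localization.AtPrime q.asIdeal))) (Localization.AtPrime q.asIdeal)))) ≤ p'.asIdeal → (∀ q' : PrimeSpectrum (AdicCompletion (I.map (algebraMap A (Localization.AtPrime q.asIdeal))) (Localization.AtPrime q.asIdeal)), p' ≤ q' → (I.map (algebraMap A (AdicCompletion (I.map (algebraMap A (Localization.AtPrime q.asIdeal))) (Localization.AtPrime q.asIdeal)))) ≤ q'.asIdeal → q'.asIdeal.IsMaximal) → (s : ℕ∞) < LocCoh.depth (Localization.AtPrime p'.asIdeal) (LocalizedModule p'.asIdeal.primeCompl (AdicCompletion (I.map (algebraMap A (Localization.AtPrime q.asIdeal))) (LocalizedModule q.asIdeal.primeCompl M)))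

variable {ω : Dual.D A} (hω : Dual.IsDualizing A ω) {I : Ideal A} {d : ℕ} {M : Type u} [AddCommGroup M]
  [Module A M] [Module.Finite A M] {T : Set (PrimeSpectrum A)} {s : ℕ}

include hω

/-- Primes of the support of `Ext^b(M, ω)` near `T` are close to the closed point. -/
theorem support_bound [IsNoetherianRing A] (hC : Cond I d M T s) {q : PrimeSpectrum A} (hq : q ∈ T)
    {p : PrimeSpectrum A} (hpq : p ≤ q) (hp : ¬ I ≤ p.asIdeal) {b : ℤ} {a : ℕ} (had : a + 1 ≤ d)
    (hb : mu hω q - ((s : ℤ) + 1) ≤ b + a) (hG : LC17.gAnn ω (ModuleCat.of A M) b ≤ p.asIdeal) :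
    ∃ D : ℕ, Formal2.dimBetween A p.asIdeal q.asIdeal ≤ ((D : ℕ∞) : WithBot ℕ∞) ∧ D ≤ a + 1 ∧
      (((a + 1 : ℕ) : WithBot ℕ∞) ≤ Formal2.dimBetween A p.asIdeal q.asIdeal →
        LocCoh.depth (Localization.AtPrime p.asIdeal) (LocalizedModule p.asIdeal.primeCompl M) = s) := by
  obtain ⟨k, hk, hkle⟩ := LC16.DualAnn.exists_depth_le hω M hG
  refine ⟨(mu hω q - mu hω p).toNat, LC16.DimBetween.dimBetween_le p q hω hpq, ?_, ?_⟩
  all_goals
    have hmono := LC16.DualAnn.mu_mono hω hpq
    have hks : s ≤ k := by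
      by_cases hr : ∀ r : PrimeSpectrum A, p ≤ r → r ≤ q → I ≤ r.asIdeal → r ∈ T
      · have h := S8796.result A ⟨ω, hω⟩ I d hC.cd M T hC.sub hC.stable s hC.h4 hC.h6 p q hpq hp hq hr
        rw [hk] at h
        exact le_of_lt (by exact_mod_cast h)
      · push_neg at hr
        obtain ⟨r, h1, h2, h3, h4⟩ := hr
        rcases hC.h4 p r q h1 h2 hp h3 h4 hq with h | h
        · rw [hk] at h
          exact_mod_cast h
        · rw [hk] at h
          have := LC16.DimBetween.lt_of_lt_add (n := d + s) (LC16.DimBetween.dimBetween_le p q hω hpq) h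
          omega
  · omega
  · intro hdim
    rw [hk]
    have h1 : a + 1 ≤ (mu hω q - mu hω p).toNat := by
      exact_mod_cast hdim.trans (LC16.DimBetween.dimBetween_le p q hω hpq)
    exact_mod_cast (show k = s by omega)

omit hω in
theorem dimBetween_eq (q : PrimeSpectrum A) (p : PrimeSpectrum A) :
    Formal2.dimBetween A p.asIdeal q.asIdeal =
      ringKrullDim (Localization.AtPrime q.asIdeal ⧸
        p.asIdeal.map (algebraMap A (Localization.AtPrime q.asIdeal))) := rfl

omit hω in
/-- At a component of top dimension the closed set is met outside the closed point. -/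
theorem exists_nonmax [IsNoetherianRing A] (hC : Cond I d M T s) {q : PrimeSpectrum A} (hq : q ∈ T)
    {p : PrimeSpectrum A} (hpq : p ≤ q) (hp : ¬ I ≤ p.asIdeal)
    (hdep : LocCoh.depth (Localization.AtPrime p.asIdeal) (LocalizedModule p.asIdeal.primeCompl M) = s)
    (p' : PrimeSpectrum (Cp (I.map (algebraMap A (Localization.AtPrime q.asIdeal)))))
    (hp' : p'.asIdeal ∈ ((p.asIdeal.map (algebraMap A (Localization.AtPrime q.asIdeal))).map
      (algebraMap (Localization.AtPrime q.asIdeal) (Cp (I.map (algebraMap A (Localization.AtPrime q.asIdeal)))))).minimalPrimes) :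
    ∃ q' : PrimeSpectrum (Cp (I.map (algebraMap A (Localization.AtPrime q.asIdeal)))),
      p' ≤ q' ∧ (I.map (algebraMap A (Localization.AtPrime q.asIdeal))).map (algebraMap _ _) ≤ q'.asIdeal ∧
        ¬ q'.asIdeal.IsMaximal ∧ q' ≠ p' := by
  let B := Localization.AtPrime q.asIdeal
  let J : Ideal B := I.map (algebraMap A B)
  let C := AdicCompletion J B
  haveI : IsNoetherianRing B := IsLocalization.isNoetherianRing q.asIdeal.primeCompl B inferInstance
  haveI : IsNoetherianRing C := CAlg1.isNoetherianRing_adicCompletion J J.fg_of_isNoetherianRing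
  haveI : Module.Flat B C := AdicCompletion.flat_of_isNoetherian J
  haveI : IsScalarTower A B C := inferInstance
  haveI : Module.Flat A C := Module.Flat.trans A B C
  let pB : Ideal B := p.asIdeal.map (algebraMap A B)
  have hdisj : Disjoint (q.asIdeal.primeCompl : Set A) (p.asIdeal : Set A) :=
    Set.disjoint_left.2 fun x hx hxp => hx (hpq hxp)
  haveI hpB : pB.IsPrime := IsLocalization.isPrime_of_isPrime_disjoint q.asIdeal.primeCompl B _ p.2 hdisj
  have hpBA : pB.comap (algebraMap A B) = p.asIdeal :=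
    IsLocalization.under_map_of_isPrime_disjoint q.asIdeal.primeCompl B p.2 hdisj
  haveI : p'.asIdeal.IsPrime := p'.2
  have hover : p'.asIdeal.comap (algebraMap B C) = pB := by
    refine le_antisymm ?_ (Ideal.map_le_iff_le_comap.1 hp'.1.2)
    haveI : p'.asIdeal.LiesOver (p'.asIdeal.comap (algebraMap B C)) := ⟨rfl⟩
    obtain ⟨Q, hQle, hQprime, hQover⟩ := Ideal.exists_ideal_le_liesOver_of_le (p := pB)
      (q := p'.asIdeal.comap (algebraMap B C)) p'.asIdeal (Ideal.map_le_iff_le_comap.1 hp'.1.2)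
    refine (Ideal.comap_mono (hp'.2 ⟨hQprime, Ideal.map_le_iff_le_comap.2 hQover.over.le⟩ hQle)).trans ?_
    exact hQover.over.ge
  have hPA : p'.asIdeal.comap (algebraMap A C) = p.asIdeal := by
    rw [IsScalarTower.algebraMap_eq A B C, ← Ideal.comap_comap]
    exact (congrArg (Ideal.comap (algebraMap A B)) hover).trans hpBA
  haveI : p'.asIdeal.LiesOver p.asIdeal := ⟨hPA.symm⟩
  have hIC : (I.map (algebraMap A B)).map (algebraMap B C) = I.map (algebraMap A C) := by
    rw [Ideal.map_map, ← IsScalarTower.algebraMap_eq]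
  have hIp' : ¬ I.map (algebraMap A C) ≤ p'.asIdeal := fun hle =>
    hp (hPA ▸ Ideal.map_le_iff_le_comap.1 hle)
  by_contra hno
  push_neg at hno
  haveI : Module.Finite B (LocalizedModule q.asIdeal.primeCompl M) :=
    Module.Finite.of_isLocalizedModule q.asIdeal.primeCompl (LocalizedModule.mkLinearMap q.asIdeal.primeCompl M)
  haveI : IsScalarTower A C (AdicCompletion J (LocalizedModule q.asIdeal.primeCompl M)) :=
    IsScalarTower.of_algebraMap_smul fun a x => by
      rw [IsScalarTower.algebraMap_apply A B C, algebraMap_smul, algebraMap_smul]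
  have hbc : IsBaseChange C (((AdicCompletion.of J (LocalizedModule q.asIdeal.primeCompl M)).restrictScalars A).comp
      (LocalizedModule.mkLinearMap q.asIdeal.primeCompl M)) := by
    refine (LocalizedModule.isBaseChange q.asIdeal.primeCompl M).comp (IsBaseChange.of_equiv
      (AdicCompletion.ofTensorProductEquivOfFiniteNoetherian J (LocalizedModule q.asIdeal.primeCompl M)) fun x => ?_)
    rw [AdicCompletion.ofTensorProductEquivOfFiniteNoetherian_apply, AdicCompletion.ofTensorProduct_tmul, one_smul]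
  have hmin : p'.asIdeal ∈ (p.asIdeal.map (algebraMap A C)).minimalPrimes := by
    rw [IsScalarTower.algebraMap_eq A B C, ← Ideal.map_map]
    exact hp'
  have key := hC.h6 q hq p' hIp' fun q' h1 h2 => by
    by_contra hmax
    refine hmax ?_
    exfalso
    exact hIp' ((hno q' h1 (hIC.le.trans h2) hmax) ▸ h2)
  rw [Boot94.depth_localization_of_minimal p.asIdeal p'.asIdeal hmin M _ _ hbc, hdep] at key
  exact lt_irrefl _ key

/-- `Ext^b(M, ω)` is `I`-torsion near `T` in the top range. -/
theorem gAnn_torsion [IsNoetherianRing A] (hC : Cond I d M T s) {q : PrimeSpectrum A} (hq : q ∈ T)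
    {p : PrimeSpectrum A} (hpq : p ≤ q) {b : ℤ} (hb : mu hω q - ((s : ℤ) + 1) ≤ b)
    (hG : LC17.gAnn ω (ModuleCat.of A M) b ≤ p.asIdeal) : I ≤ p.asIdeal := by
  by_contra hp
  by_cases had : 1 ≤ d
  swap
  · -- cohomological dimension zero
    let N := A ⧸ p.asIdeal
    let W : Submodule A N := Submodule.map (Submodule.mkQ (p.asIdeal : Submodule A A)) I
    have hsurj := gamma_surjective_of_subsingleton_H1 I (f := W.subtype) (g := W.mkQ)
      (Submodule.subtype_injective _) (LinearMap.exact_subtype_mkQ W) (Submodule.mkQ_surjective _)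
      (hC.cd W 1 (by omega))
    have hone : W.mkQ (Submodule.Quotient.mk 1) ∈ gamma I (N ⧸ W) := ⟨1, fun c hc => by
      rw [pow_one] at hc
      rw [← map_smul]
      refine (Submodule.Quotient.mk_eq_zero W).2 ⟨c, hc, ?_⟩
      rw [← Submodule.Quotient.mk_smul, smul_eq_mul, mul_one]
      rfl⟩
    obtain ⟨z, ⟨n, hn⟩, hz⟩ := hsurj _ hone
    obtain ⟨x, hxI, hxp⟩ := SetLike.not_le_iff_exists.1 hp
    have hz0 : z = 0 := by
      obtain ⟨y, rfl⟩ := Ideal.Quotient.mk_surjective z
      have h := Ideal.Quotient.eq_zero_iff_mem.1 (hn _ (Ideal.pow_mem_pow hxI n))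
      exact Ideal.Quotient.eq_zero_iff_mem.2 ((p.2.mem_or_mem h).resolve_left
        fun hh => hxp (p.2.mem_of_pow_mem n hh))
    have h1 : W.mkQ (Submodule.Quotient.mk 1) = 0 := by
      rw [← show W.mkQ z = W.mkQ (Submodule.Quotient.mk 1) from hz, hz0, map_zero]
    obtain ⟨c, hc, hc1⟩ := (Submodule.Quotient.mk_eq_zero W).1 h1
    have h2 : c - 1 ∈ p.asIdeal := Ideal.Quotient.eq.1 hc1
    refine q.2.ne_top ((Ideal.eq_top_iff_one _).2 ?_)
    have := q.asIdeal.sub_mem (hC.sub hq hc) (hpq h2)
    simpa using this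
  let B := Localization.AtPrime q.asIdeal
  let J : Ideal B := I.map (algebraMap A B)
  let C := Cp J
  haveI : IsNoetherianRing B := IsLocalization.isNoetherianRing q.asIdeal.primeCompl B inferInstance
  haveI : IsNoetherianRing C := CAlg1.isNoetherianRing_adicCompletion J J.fg_of_isNoetherianRing
  obtain ⟨D, hD, hDle, hdep⟩ := support_bound hω hC hq hpq hp (a := 0) (by omega) (by simpa using hb) hG
  have hJle : J ≤ maximalIdeal B := by
    rw [← Localization.AtPrime.map_eq_maximalIdeal (I := q.asIdeal)]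
    exact Ideal.map_mono (hC.sub hq)
  have hdisj : Disjoint (q.asIdeal.primeCompl : Set A) (p.asIdeal : Set A) :=
    Set.disjoint_left.2 fun x hx hxp => hx (hpq hxp)
  haveI hpB : (p.asIdeal.map (algebraMap A B)).IsPrime :=
    IsLocalization.isPrime_of_isPrime_disjoint q.asIdeal.primeCompl B _ p.2 hdisj
  have hne : p < q := lt_of_le_of_ne hpq fun h => hp (h ▸ hC.sub hq)
  have hone : ((0 + 1 : ℕ) : WithBot ℕ∞) ≤ Formal2.dimBetween A p.asIdeal q.asIdeal := by
    obtain ⟨r₁, hr₁⟩ := LC16.DimBetween.exists_toSpec p q le_rfl hpq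
    obtain ⟨r₂, hr₂⟩ := LC16.DimBetween.exists_toSpec p q hpq le_rfl
    have hlt : r₁ < r₂ := lt_of_le_not_ge ((LC16.DimBetween.toSpec_le_iff p q).1 (by rw [hr₁, hr₂]; exact hpq))
      fun h => hne.not_ge (le_of_eq_of_le hr₂.symm (((LC16.DimBetween.toSpec_le_iff p q).2 h).trans_eq hr₁))
    exact le_trans le_rfl (Order.LTSeries.length_le_krullDim ((RelSeries.singleton _ r₁).snoc r₂ hlt))
  haveI := (isLocalRing_cp J hJle).1
  obtain ⟨pI, hpI, hpIle⟩ := Ideal.exists_minimalPrimes_le (I := (p.asIdeal.map (algebraMap A B)).map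
    (algebraMap B C)) (J := maximalIdeal C) (by
      rw [Ideal.map_le_iff_le_comap]
      refine le_trans ?_ (Ideal.comap_mono ((isLocalRing_cp J hJle).2 _ (IsLocalRing.maximalIdeal.isMaximal C)).ge)
      exact (IsLocalRing.le_maximalIdeal hpB.ne_top).trans Ideal.le_comap_map)
  obtain ⟨q', h1, -, h3, h4⟩ := exists_nonmax hC hq hpq hp (hdep hone) ⟨pI, hpI.isPrime⟩ hpI
  have hdim := ringKrullDim_quot_cp_le J hJle (p.asIdeal.map (algebraMap A B)) 1
    (hD.trans (by exact_mod_cast hDle)) pI hpI.1.2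
  -- a chain of length two
  haveI := hpI.isPrime
  haveI := q'.2
  let π : C →+* C ⧸ pI := Ideal.Quotient.mk pI
  have hchain : ∀ P Q : Ideal C, P.IsPrime → Q.IsPrime → pI ≤ P → P < Q →
      P.map π < Q.map π := fun P Q _ _ hP hlt => lt_of_le_not_ge (Ideal.map_mono hlt.le) fun h => hlt.not_ge (by
    have := Ideal.comap_mono (f := π) h
    rwa [Ideal.comap_map_of_surjective _ Ideal.Quotient.mk_surjective,
      Ideal.comap_map_of_surjective _ Ideal.Quotient.mk_surjective, ← RingHom.ker_eq_comap_bot, Ideal.mk_ker,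
      sup_eq_left.2 hP, sup_eq_left.2 (hP.trans hlt.le)] at this)
  have hm : q'.asIdeal < maximalIdeal C := lt_of_le_of_ne (IsLocalRing.le_maximalIdeal q'.2.ne_top)
    fun h => h3 (h ▸ IsLocalRing.maximalIdeal.isMaximal C)
  have hq' : pI < q'.asIdeal := lt_of_le_of_ne h1 fun h => h4 (PrimeSpectrum.ext h.symm)
  let mk' : ∀ P : Ideal C, P.IsPrime → pI ≤ P → PrimeSpectrum (C ⧸ pI) := fun P hP hle =>
    ⟨P.map π, Ideal.map_isPrime_of_surjective Ideal.Quotient.mk_surjective (by rwa [Ideal.mk_ker])⟩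
  have := (Order.LTSeries.length_le_krullDim (((RelSeries.singleton _ (mk' pI hpI.isPrime le_rfl)).snoc
    (mk' _ q'.2 hq'.le) (hchain pI _ hpI.isPrime q'.2 le_rfl hq')).snoc
    (mk' (maximalIdeal C) inferInstance hpIle) (by
      rw [RelSeries.last_snoc]
      exact hchain _ _ q'.2 inferInstance hq'.le hm))).trans hdim
  simp only [RelSeries.snoc_length, RelSeries.singleton_length] at this
  norm_cast at this

/-- The higher cohomology of `Ext^b(M, ω)` off `V(I)` vanishes near `T`. -/
theorem vq_H [IsNoetherianRing A] (hC : Cond I d M T s) {q : PrimeSpectrum A} (hq : q ∈ T) {b : ℤ} {a : ℕ}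
    (had : a + 1 ≤ d) (hb : mu hω q - ((s : ℤ) + 1) ≤ b + a) (F : Type u) [AddCommGroup F] [Module A F]
    (e : F ≃ₗ[A] LC17.GM ω (ModuleCat.of A M) b) : Vq q (LocCoh.H I (a + 1) F) := by
  haveI : Module.Finite A (LC17.GM ω (ModuleCat.of A M) b) := LC17.finite_GM hω b M
  haveI : Module.Finite A F := Module.Finite.equiv e.symm
  let B := Localization.AtPrime q.asIdeal
  let J : Ideal B := I.map (algebraMap A B)
  haveI : IsNoetherianRing B := IsLocalization.isNoetherianRing q.asIdeal.primeCompl B inferInstance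
  haveI : Module.Finite B (LocalizedModule q.asIdeal.primeCompl F) :=
    Module.Finite.of_isLocalizedModule q.asIdeal.primeCompl (LocalizedModule.mkLinearMap q.asIdeal.primeCompl F)
  have hJle : J ≤ maximalIdeal B := by
    rw [← Localization.AtPrime.map_eq_maximalIdeal (I := q.asIdeal)]
    exact Ideal.map_mono (hC.sub hq)
  have key : Subsingleton (LocCoh.H J (a + 1) (LocalizedModule q.asIdeal.primeCompl F)) := by
    refine subsingleton_H_top_finite J hJle _ a fun P hP hJP => ?_
    let p : PrimeSpectrum A := PrimeSpectrum.comap (algebraMap A B) P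
    have hPmap : p.asIdeal.map (algebraMap A B) = P.asIdeal :=
      IsLocalization.map_under q.asIdeal.primeCompl B P.asIdeal
    have hpq : p ≤ q := (Ideal.comap_mono (IsLocalRing.le_maximalIdeal P.2.ne_top)).trans
      (IsLocalization.AtPrime.under_maximalIdeal B q.asIdeal).le
    have hp : ¬ I ≤ p.asIdeal := fun h => hJP (hPmap ▸ Ideal.map_mono h)
    have hG : LC17.gAnn ω (ModuleCat.of A M) b ≤ p.asIdeal := fun x hx => by
      refine Module.mem_support_iff_of_finite.1 hP ?_
      rw [Module.mem_annihilator]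
      intro z
      induction z using LocalizedModule.induction_on with | h y t => ?_
      rw [algebraMap_smul, LocalizedModule.smul'_mk]
      have : x • y = 0 := e.injective (by rw [map_smul, map_zero]; exact (LC17.mem_gAnn ω).1 hx _)
      rw [this, LocalizedModule.zero_mk]
    obtain ⟨D, hD, hDle, hdep⟩ := support_bound hω hC hq hpq hp had hb hG
    rw [dimBetween_eq] at hD hdep
    rw [← hPmap]
    refine ⟨hD.trans (by exact_mod_cast hDle), fun heq p' hp' => ?_⟩
    obtain ⟨q', h1, h2, h3, -⟩ := exists_nonmax hC hq hpq hp (hdep heq.ge) p' hp'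
    exact ⟨q', h1, h2, h3⟩
  intro x
  obtain ⟨u, hu, hux⟩ := (LC16.LocH.L_eq_zero_iff q.asIdeal.primeCompl I (a + 1) x).1 (key.elim _ _)
  exact ⟨u, hu, hux⟩

end Groth.Agent.DR39.Boot
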