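import Groth.Agent.LC17.DualG
import Groth.Agent.LC16.DualKill
import Groth.Agent.LC16.Colim

/-!
Chains of maps killed by the dualizing functor act by zero on local cohomology.
-/

set_option autoImplicit false
set_option linter.style.haveILetI false
set_option linter.unusedSectionVars false
set_option maxHeartbeats 1000000

noncomputable section

universe u

open CategoryTheory CategoryTheory.Limits IsLocalRing Groth.Agent.LC15 Groth.Agent.LC17
open scoped Pointwise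

attribute [local instance] HasDerivedCategory.standard

namespace Groth.Agent.DR39.Boot

variable {A : Type u} [CommRing A]

/-- Naturality of the connecting map. -/
theorem conn_natural (ω : Dual.D A) {S S' : ShortComplex (ModuleCat.{u} A)} (hS : S.ShortExact)
    (hS' : S'.ShortExact) (f : S ⟶ S') (m n : ℤ) (h : m + 1 = n) (g : GM ω S'.X₁ m) :
    pre ω f.τ₃ n (conn ω hS' m n h g) = conn ω hS m n h (pre ω f.τ₁ m g) := by
  have h3 : hS.singleδ ≫ ((DerivedCategory.singleFunctor (ModuleCat.{u} A) 0).map f.τ₁)⟦(1 : ℤ)⟧' =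
      (DerivedCategory.singleFunctor (ModuleCat.{u} A) 0).map f.τ₃ ≫ hS'.singleδ :=
    (ShortComplex.ShortExact.singleTriangle.map hS hS' f).comm₃
  show (DerivedCategory.singleFunctor _ 0).map f.τ₃ ≫ hS'.singleδ ≫ g⟦(1 : ℤ)⟧' ≫ _ =
    hS.singleδ ≫ ((DerivedCategory.singleFunctor _ 0).map f.τ₁ ≫ g)⟦(1 : ℤ)⟧' ≫ _
  rw [Functor.map_comp, Category.assoc, ← Category.assoc, ← h3, Category.assoc]

variable [IsLocalRing A] [IsNoetherianRing A] {ω : Dual.D A} (hω : Dual.IsDualizing A ω)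
  (hn : Dual.IsNormalized A ω)
include hω hn

theorem map_eq_zero_of_pre {G G' : Type u} [AddCommGroup G] [Module A G] [Module.Finite A G]
    [AddCommGroup G'] [Module A G'] [Module.Finite A G'] (hG : IsFiniteLength A G)
    (hG' : IsFiniteLength A G') (ψ : G →ₗ[A] G')
    (h : ∀ g : GM ω (ModuleCat.of A G') 0, pre ω (ModuleCat.ofHom ψ) 0 g = 0) : ψ = 0 := by
  let Z := LinearMap.range ψ
  have hflZ : IsFiniteLength A Z := hG'.of_injective (f := Z.subtype) (Submodule.subtype_injective _)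
  haveI : IsNoetherian A G := isNoetherian_of_isNoetherianRing_of_finite A G
  have hS₁ := shortExact_of_exact Z.subtype Z.mkQ (Submodule.subtype_injective _)
    (Submodule.mkQ_surjective _) (LinearMap.exact_subtype_mkQ Z)
  have hS₂ := shortExact_of_exact (LinearMap.ker ψ.rangeRestrict).subtype ψ.rangeRestrict
    (Submodule.subtype_injective _) ψ.surjective_rangeRestrict (LinearMap.exact_subtype_ker_map _)
  have hZ : gAnn ω (ModuleCat.of A Z) 0 = ⊤ := by
    rw [gAnn_eq_top_iff]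
    intro z
    obtain ⟨g, rfl⟩ := pre_surjective_of_gAnn_eq_top ω hS₁ 0 1 rfl (gAnn_pos hω hn (G' ⧸ Z) one_pos) z
    have h3 : pre ω (ModuleCat.ofHom ψ.rangeRestrict) 0 (pre ω (ModuleCat.ofHom Z.subtype) 0 g) = 0 := by
      rw [pre_pre]
      exact h g
    obtain ⟨k, hk⟩ := exact₃ ω hS₂ (-1) 0 rfl _ h3
    refine hk.symm.trans ?_
    rw [show k = 0 from (gAnn_eq_top_iff ω).1 (gAnn_finLen hω hn _
      (hG.of_injective (f := Submodule.subtype _) (Submodule.subtype_injective _))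
      (show (-1 : ℤ) ≠ 0 by decide)) k, map_zero]
  have h1 : Module.annihilator A Z = ⊤ := top_le_iff.1 (hZ ▸ gAnn_zero_le_annihilator hω hn Z hflZ)
  refine LinearMap.ext fun x => ?_
  have h2 := Module.mem_annihilator.1 (h1 ▸ Submodule.mem_top : (1 : A) ∈ Module.annihilator A Z)
    ⟨ψ x, x, rfl⟩
  rw [one_smul] at h2
  exact congrArg Subtype.val h2

theorem Hmap_zero_of_pre {M M' : Type u} [AddCommGroup M] [Module A M] [Module.Finite A M]
    [AddCommGroup M'] [Module A M'] [Module.Finite A M'] (φ : M →ₗ[A] M')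
    (h : ∀ g : GM ω (ModuleCat.of A M') 0, pre ω (ModuleCat.ofHom φ) 0 g = 0) :
    Hmap (maximalIdeal A) 0 φ = 0 := by
  let Γ := gamma (maximalIdeal A) M
  let Γ' := gamma (maximalIdeal A) M'
  have hmem : ∀ x : Γ, φ x ∈ Γ' := fun x => by
    obtain ⟨k, hk⟩ := x.2
    exact ⟨k, fun a ha => by rw [← map_smul, hk a ha, map_zero]⟩
  let ψ : Γ →ₗ[A] Γ' := (φ.comp Γ.subtype).codRestrict Γ' hmem
  have hψ : ψ = 0 := by
    refine map_eq_zero_of_pre hω hn (LC16.DualKill.isFiniteLength_gamma M)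
      (LC16.DualKill.isFiniteLength_gamma M') ψ fun g => ?_
    obtain ⟨g', rfl⟩ := pre_surjective_of_gAnn_eq_top ω (shortExact_of_exact Γ'.subtype Γ'.mkQ
      (Submodule.subtype_injective _) (Submodule.mkQ_surjective _) (LinearMap.exact_subtype_mkQ Γ'))
      0 1 rfl (gAnn_pos hω hn (M' ⧸ Γ') one_pos) g
    rw [pre_pre, show ModuleCat.ofHom ψ ≫ ModuleCat.ofHom Γ'.subtype =
      ModuleCat.ofHom Γ.subtype ≫ ModuleCat.ofHom φ from rfl, ← pre_pre, h, map_zero]
  refine LinearMap.ext fun y => h0_injective (maximalIdeal A) M' ?_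
  rw [h0_Hmap, LinearMap.zero_apply, map_zero]
  have hy : h0 (maximalIdeal A) M y ∈ Γ := (range_h0 (maximalIdeal A) M).le ⟨y, rfl⟩
  exact congrArg Subtype.val (LinearMap.congr_fun hψ ⟨_, hy⟩)

/-- A chain of `2 ^ i` maps killed by the dualizing functor in degrees `0, …, -i` acts by zero on
`H^i`. -/
theorem Hmap_chain_eq_zero : ∀ (i : ℕ) (N : ℕ → Type u) [∀ n, AddCommGroup (N n)] [∀ n, Module A (N n)]
    [∀ n, Module.Finite A (N n)] (φ : ∀ k m : ℕ, m ≤ k → (N k →ₗ[A] N m))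
    (_hφ : ∀ (k l m : ℕ) (h₁ : m ≤ l) (h₂ : l ≤ k), φ k m (h₁.trans h₂) = φ l m h₁ ∘ₗ φ k l h₂)
    (f : ℕ → ℕ) (hf : Monotone f),
    (∀ j, j < 2 ^ i → ∀ t : ℕ, t ≤ i → ∀ g : GM ω (ModuleCat.of A (N (f j))) (-(t : ℤ)),
      pre ω (ModuleCat.ofHom (φ (f (j + 1)) (f j) (hf j.le_succ))) (-(t : ℤ)) g = 0) →
    Hmap (maximalIdeal A) i (φ (f (2 ^ i)) (f 0) (hf (Nat.zero_le _))) = 0 := by
  intro i
  induction i with
  | zero =>
    intro N _ _ _ φ _ f hf h
    refine Hmap_zero_of_pre hω hn _ fun g => ?_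
    exact h 0 one_pos 0 le_rfl g
  | succ i ih =>
    intro N _ _ _ φ hφ f hf h
    set m := maximalIdeal A
    -- remove the torsion
    let Γ : ∀ n, Submodule A (N n) := fun n => gamma m (N n)
    have hΓ : ∀ k l (hkl : l ≤ k), Γ k ≤ (Γ l).comap (φ k l hkl) := fun k l hkl x hx => by
      obtain ⟨c, hc⟩ := hx
      exact ⟨c, fun a ha => by rw [← map_smul, hc a ha, map_zero]⟩
    let P := fun n => N n ⧸ Γ n
    let φ' : ∀ k l : ℕ, l ≤ k → (P k →ₗ[A] P l) := fun k l hkl => Submodule.mapQ _ _ (φ k l hkl) (hΓ k l hkl)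
    have hφ' : ∀ (k l n : ℕ) (h₁ : n ≤ l) (h₂ : l ≤ k), φ' k n (h₁.trans h₂) = φ' l n h₁ ∘ₗ φ' k l h₂ :=
      fun k l n h₁ h₂ => Submodule.linearMap_qext _ (LinearMap.ext fun x => by
        show Submodule.Quotient.mk (φ k n _ x) = Submodule.Quotient.mk (φ l n h₁ (φ k l h₂ x))
        rw [hφ k l n h₁ h₂]; rfl)
    have h' : ∀ j, j < 2 ^ (i + 1) → ∀ t : ℕ, t ≤ i + 1 → ∀ g : GM ω (ModuleCat.of A (P (f j))) (-(t : ℤ)),
        pre ω (ModuleCat.ofHom (φ' (f (j + 1)) (f j) (hf j.le_succ))) (-(t : ℤ)) g = 0 := by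
      intro j hj t ht g
      have h0 : pre ω (ModuleCat.ofHom (Γ (f (j + 1))).mkQ) (-(t : ℤ))
          (pre ω (ModuleCat.ofHom (φ' (f (j + 1)) (f j) (hf j.le_succ))) (-(t : ℤ)) g) = 0 := by
        rw [pre_pre, show ModuleCat.ofHom (Γ (f (j + 1))).mkQ ≫ ModuleCat.ofHom (φ' (f (j + 1)) (f j) (hf j.le_succ)) =
          ModuleCat.ofHom (φ (f (j + 1)) (f j) (hf j.le_succ)) ≫ ModuleCat.ofHom (Γ (f j)).mkQ from rfl,
          ← pre_pre, h j hj t ht]
      obtain ⟨k, hk⟩ := exact₃ ω (shortExact_of_exact (Γ (f (j + 1))).subtype (Γ (f (j + 1))).mkQ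
        (Submodule.subtype_injective _) (Submodule.mkQ_surjective _) (LinearMap.exact_subtype_mkQ _))
        (-(t : ℤ) - 1) (-(t : ℤ)) (by omega) _ h0
      refine hk.symm.trans ?_
      rw [show k = 0 from (gAnn_eq_top_iff ω).1 (gAnn_finLen hω hn _
        (LC16.DualKill.isFiniteLength_gamma _) (show -(t : ℤ) - 1 ≠ 0 by omega)) k, map_zero]
    suffices H : Hmap m (i + 1) (φ' (f (2 ^ (i + 1))) (f 0) (hf (Nat.zero_le _))) = 0 by
      refine LinearMap.ext fun y => (Hmap_mkQ_gamma_bijective m (Nat.succ_pos i)).1 ?_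
      rw [LinearMap.zero_apply, map_zero, ← LinearMap.comp_apply, ← Hmap_comp,
        show (Γ (f 0)).mkQ ∘ₗ φ (f (2 ^ (i + 1))) (f 0) (hf (Nat.zero_le _)) =
          φ' (f (2 ^ (i + 1))) (f 0) (hf (Nat.zero_le _)) ∘ₗ (Γ (f (2 ^ (i + 1)))).mkQ from rfl,
        Hmap_comp, LinearMap.comp_apply, H, LinearMap.zero_apply]
    -- a common regular element
    obtain ⟨x, hx, hreg⟩ := exists_isSMulRegular_mem (R := A) (I := m)
      (M := ∀ k : Fin (2 ^ (i + 1) + 1), P (f k)) (by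
        refine (Submodule.eq_bot_iff _).2 fun y hy => funext fun k => ?_
        have : y k ∈ gamma m (P (f k)) := by
          obtain ⟨c, hc⟩ := hy
          exact ⟨c, fun a ha => congrFun (hc a ha) k⟩
        rw [gamma_quot_gamma] at this
        exact (Submodule.mem_bot A).1 this)
    have hregj : ∀ j, j ≤ 2 ^ (i + 1) → IsSMulRegular (P (f j)) x := fun j hj y z hyz => by
      classical
      let k : Fin (2 ^ (i + 1) + 1) := ⟨j, by omega⟩
      have := hreg (show x • (Pi.single k y : ∀ k : Fin (2 ^ (i + 1) + 1), P (f k)) = x • Pi.single k z by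
        rw [← Pi.single_smul, ← Pi.single_smul]; exact congrArg _ hyz)
      exact Pi.single_injective k this
    refine LinearMap.ext fun y => ?_
    obtain ⟨c, hc⟩ := isPowerTorsion_H m (i + 1) (M := P (f (2 ^ (i + 1)))) y
    let Q := fun n => P n ⧸ (x ^ c • (⊤ : Submodule A (P n)))
    have hQ : ∀ k l (hkl : l ≤ k), (x ^ c • (⊤ : Submodule A (P k))) ≤
        (x ^ c • (⊤ : Submodule A (P l))).comap (φ' k l hkl) := fun k l hkl z hz => by
      obtain ⟨w, -, rfl⟩ := (Submodule.mem_smul_pointwise_iff_exists _ _ _).1 hz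
      exact (Submodule.mem_smul_pointwise_iff_exists _ _ _).2 ⟨φ' k l hkl w, trivial, (map_smul _ _ _).symm⟩
    let ψ : ∀ k l : ℕ, l ≤ k → (Q k →ₗ[A] Q l) := fun k l hkl => Submodule.mapQ _ _ (φ' k l hkl) (hQ k l hkl)
    have hψ : ∀ (k l n : ℕ) (h₁ : n ≤ l) (h₂ : l ≤ k), ψ k n (h₁.trans h₂) = ψ l n h₁ ∘ₗ ψ k l h₂ :=
      fun k l n h₁ h₂ => Submodule.linearMap_qext _ (LinearMap.ext fun z => by
        show Submodule.Quotient.mk (φ' k n _ z) = Submodule.Quotient.mk (φ' l n h₁ (φ' k l h₂ z))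
        rw [hφ' k l n h₁ h₂]; rfl)
    have hses : ∀ j, j ≤ 2 ^ (i + 1) →
        Function.Injective (LinearMap.lsmul A (P (f j)) (x ^ c)) ∧
          Function.Exact (LinearMap.lsmul A (P (f j)) (x ^ c)) (x ^ c • (⊤ : Submodule A (P (f j)))).mkQ :=
      fun j hj => regular_ses ((hregj j hj).pow c)
    have hsurj : ∀ n, Function.Surjective (x ^ c • (⊤ : Submodule A (P n))).mkQ := fun n => Submodule.mkQ_surjective _
    let g : ℕ → ℕ := fun j => f (2 * j)
    have hg : Monotone g := fun a b hab => hf (by omega)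
    have hQkill : ∀ j, j < 2 ^ i → ∀ t : ℕ, t ≤ i → ∀ e : GM ω (ModuleCat.of A (Q (g j))) (-(t : ℤ)),
        pre ω (ModuleCat.ofHom (ψ (g (j + 1)) (g j) (hg j.le_succ))) (-(t : ℤ)) e = 0 := by
      intro j hj t ht e
      have h2 : 2 * j + 2 ≤ 2 ^ (i + 1) := by rw [pow_succ]; omega
      have l₁ : f (2 * j) ≤ f (2 * j + 1) := hf (Nat.le_succ _)
      have l₂ : f (2 * j + 1) ≤ f (2 * j + 2) := hf (Nat.le_succ _)
      have hse := fun (n : ℕ) (hn : n ≤ 2 ^ (i + 1)) =>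
        shortExact_of_exact _ _ (hses n hn).1 (hsurj (f n)) (hses n hn).2
      have h0 : pre ω (ModuleCat.ofHom (x ^ c • (⊤ : Submodule A (P (f (2 * j + 1))))).mkQ) (-(t : ℤ))
          (pre ω (ModuleCat.ofHom (ψ (f (2 * j + 1)) (f (2 * j)) l₁)) (-(t : ℤ)) e) = 0 := by
        rw [pre_pre, show ModuleCat.ofHom (x ^ c • (⊤ : Submodule A (P (f (2 * j + 1))))).mkQ ≫
            ModuleCat.ofHom (ψ (f (2 * j + 1)) (f (2 * j)) l₁) =
          ModuleCat.ofHom (φ' (f (2 * j + 1)) (f (2 * j)) l₁) ≫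
            ModuleCat.ofHom (x ^ c • (⊤ : Submodule A (P (f (2 * j))))).mkQ from rfl,
          ← pre_pre, h' (2 * j) (by omega) t (by omega)]
      obtain ⟨k, hk⟩ := exact₃ ω (hse (2 * j + 1) (by omega)) (-(t : ℤ) - 1) (-(t : ℤ)) (by omega) _ h0
      have hcomp : ψ (g (j + 1)) (g j) (hg j.le_succ) =
          ψ (f (2 * j + 1)) (f (2 * j)) l₁ ∘ₗ ψ (f (2 * j + 2)) (f (2 * j + 1)) l₂ :=
        hψ _ _ _ l₁ l₂
      let τ : ShortComplex.mk (ModuleCat.ofHom (LinearMap.lsmul A (P (f (2 * j + 2))) (x ^ c)))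
          (ModuleCat.ofHom (x ^ c • (⊤ : Submodule A (P (f (2 * j + 2))))).mkQ)
          (ModuleCat.hom_ext (hses (2 * j + 2) h2).2.linearMap_comp_eq_zero) ⟶
          ShortComplex.mk (ModuleCat.ofHom (LinearMap.lsmul A (P (f (2 * j + 1))) (x ^ c)))
          (ModuleCat.ofHom (x ^ c • (⊤ : Submodule A (P (f (2 * j + 1))))).mkQ)
          (ModuleCat.hom_ext (hses (2 * j + 1) (by omega)).2.linearMap_comp_eq_zero) :=
        { τ₁ := ModuleCat.ofHom (φ' (f (2 * j + 2)) (f (2 * j + 1)) l₂)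
          τ₂ := ModuleCat.ofHom (φ' (f (2 * j + 2)) (f (2 * j + 1)) l₂)
          τ₃ := ModuleCat.ofHom (ψ (f (2 * j + 2)) (f (2 * j + 1)) l₂)
          comm₁₂ := ModuleCat.hom_ext (LinearMap.ext fun z => by
            show x ^ c • φ' (f (2 * j + 2)) (f (2 * j + 1)) l₂ z = φ' (f (2 * j + 2)) (f (2 * j + 1)) l₂ (x ^ c • z)
            rw [map_smul])
          comm₂₃ := rfl }
      rw [hcomp, ModuleCat.ofHom_comp, ← pre_pre, ← hk]
      refine (conn_natural ω (hse (2 * j + 2) h2) (hse (2 * j + 1) (by omega)) τ _ _ _ k).trans ?_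
      have hzero : pre ω τ.τ₁ (-(t : ℤ) - 1) k = 0 := by
        have := h' (2 * j + 1) (by omega) (t + 1) (by omega)
        rw [show -((t + 1 : ℕ) : ℤ) = -(t : ℤ) - 1 by omega] at this
        exact this k
      rw [hzero, map_zero]
    have hIH := ih Q ψ hψ g hg hQkill
    have he : g (2 ^ i) = f (2 ^ (i + 1)) := by show f (2 * 2 ^ i) = _; rw [pow_succ, mul_comm]
    obtain ⟨z, rfl⟩ := (H_exact₁ m i (hses _ le_rfl).1 (hses _ le_rfl).2 (hsurj _) y).1 (by
      rw [Hmap_lsmul]; exact hc _ (Ideal.pow_mem_pow hx c))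
    rw [LC16.Colim.Hδ_naturality m i (hses _ le_rfl).1 (hses _ le_rfl).2 (hsurj _)
      (hses 0 (Nat.zero_le _)).1 (hses 0 (Nat.zero_le _)).2 (hsurj _)
      (φ' (f (2 ^ (i + 1))) (f 0) (hf (Nat.zero_le _)))
      (φ' (f (2 ^ (i + 1))) (f 0) (hf (Nat.zero_le _)))
      (ψ (f (2 ^ (i + 1))) (f 0) (hf (Nat.zero_le _)))
      (LinearMap.ext fun z => by
        show φ' _ _ _ (x ^ c • z) = x ^ c • φ' _ _ _ z
        rw [map_smul]) rfl]
    have hzero' : Hmap m i (ψ (f (2 ^ (i + 1))) (f 0) (hf (Nat.zero_le _))) = 0 := by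
      have gen : ∀ a b : ℕ, a = b → ∀ (ha : f 0 ≤ a) (hb : f 0 ≤ b),
          Hmap m i (ψ a (f 0) ha) = 0 → Hmap m i (ψ b (f 0) hb) = 0 := by
        rintro a _ rfl ha hb H
        exact H
      exact gen _ _ he (hg (Nat.zero_le _)) _ hIH
    rw [hzero', LinearMap.zero_apply, map_zero, LinearMap.zero_apply]

end Groth.Agent.DR39.Boot
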