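import Groth.Agent.DR39.Bidual3
import Groth.Agent.LC17.DualG
import Mathlib.Algebra.Homology.HomotopyCategory.HomComplexSingle

/-!
Maps into a dualizing complex as cycles of `Hom(M, J)`.
-/

set_option autoImplicit false
set_option linter.style.haveILetI false
set_option linter.unusedSectionVars false
set_option backward.isDefEq.respectTransparency false

universe u

open CategoryTheory CategoryTheory.Limits CochainComplex CochainComplex.HomComplex
open Groth.Agent.LC17

attribute [local instance] HasDerivedCategory.standard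

namespace Groth.Agent.DR39.Boot

variable {A : Type u} [CommRing A] (J : DRing.Cx A)

/-- The differential of `Hom(N, J)`. -/
def homD (N : Type u) [AddCommGroup N] [Module A N] (b c : ℤ) :
    (N →ₗ[A] J.X b) →ₗ[A] (N →ₗ[A] J.X c) :=
  LinearMap.llcomp A N (J.X b) (J.X c) (J.d b c).hom

theorem homD_apply {N : Type u} [AddCommGroup N] [Module A N] (b c : ℤ) (φ : N →ₗ[A] J.X b) :
    homD J N b c φ = (J.d b c).hom ∘ₗ φ := rfl

theorem homD_comp (N : Type u) [AddCommGroup N] [Module A N] (a b c : ℤ) :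
    homD J N b c ∘ₗ homD J N a b = 0 :=
  LinearMap.ext fun φ => LinearMap.ext fun x => by
    show (J.d b c).hom ((J.d a b).hom (φ x)) = 0
    rw [← CategoryTheory.comp_apply, J.d_comp_d]
    rfl

variable [J.IsKInjective] {ω : Dual.D A} (e : (QA A).obj J ≅ ω)

/-- The class of a cycle of `Hom(N, J)`. -/
noncomputable def clsFun {N : Type u} [AddCommGroup N] [Module A N] (b : ℤ)
    (φ : N →ₗ[A] J.X b) (hφ : homD J N b (b + 1) φ = 0) : GM ω (ModuleCat.of A N) b :=
  (QA A).map (Cocycle.equivHomShift.symm (Cocycle.fromSingleMk (ModuleCat.ofHom φ) (zero_add b) (b + 1) rfl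
    (ModuleCat.hom_ext hφ))) ≫ ((QA A).commShiftIso b).hom.app J ≫ e.hom⟦b⟧'

theorem clsFun_precomp {N N' : Type u} [AddCommGroup N] [Module A N] [AddCommGroup N'] [Module A N']
    (b : ℤ) (φ : N →ₗ[A] J.X b) (hφ : homD J N b (b + 1) φ = 0) (ψ : N' →ₗ[A] N)
    (h : homD J N' b (b + 1) (φ ∘ₗ ψ) = 0) :
    clsFun J e b (φ ∘ₗ ψ) h = pre ω (ModuleCat.ofHom ψ) b (clsFun J e b φ hφ) := by
  have h1 : Cocycle.fromSingleMk (ModuleCat.ofHom (φ ∘ₗ ψ)) (zero_add b) (b + 1) rfl (ModuleCat.hom_ext h) =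
      (Cocycle.fromSingleMk (ModuleCat.ofHom φ) (zero_add b) (b + 1) rfl (ModuleCat.hom_ext hφ)).precomp
        ((CochainComplex.singleFunctor (ModuleCat.{u} A) 0).map (ModuleCat.ofHom ψ)) :=
    Cocycle.fromSingleMk_precomp (ModuleCat.ofHom ψ) (ModuleCat.ofHom φ) (zero_add b) (b + 1) rfl
      (ModuleCat.hom_ext hφ)
  refine (congrArg (fun z => (QA A).map z ≫ ((QA A).commShiftIso b).hom.app J ≫ e.hom⟦b⟧')
    ((congrArg Cocycle.equivHomShift.symm h1).trans (Cocycle.equivHomShift_symm_precomp _ _))).trans ?_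
  rw [Functor.map_comp, Category.assoc]
  rfl

theorem clsFun_add {N : Type u} [AddCommGroup N] [Module A N] (b : ℤ) (φ ψ : N →ₗ[A] J.X b)
    (hφ : homD J N b (b + 1) φ = 0) (hψ : homD J N b (b + 1) ψ = 0)
    (h : homD J N b (b + 1) (φ + ψ) = 0) :
    clsFun J e b (φ + ψ) h = clsFun J e b φ hφ + clsFun J e b ψ hψ := by
  have h1 : Cocycle.fromSingleMk (ModuleCat.ofHom (φ + ψ)) (zero_add b) (b + 1) rfl (ModuleCat.hom_ext h) =
      Cocycle.fromSingleMk (ModuleCat.ofHom φ) (zero_add b) (b + 1) rfl (ModuleCat.hom_ext hφ) +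
      Cocycle.fromSingleMk (ModuleCat.ofHom ψ) (zero_add b) (b + 1) rfl (ModuleCat.hom_ext hψ) :=
    Cocycle.fromSingleMk_add _ _ _ _ _ _ _
  simp only [clsFun]
  rw [h1, map_add, Functor.map_add, Preadditive.add_comp]

/-- The class map on cycles. -/
noncomputable def cls (N : Type u) [AddCommGroup N] [Module A N] (b : ℤ) :
    LinearMap.ker (homD J N b (b + 1)) →ₗ[A] GM ω (ModuleCat.of A N) b where
  toFun z := clsFun J e b z.1 z.2
  map_add' z w := clsFun_add J e b z.1 w.1 z.2 w.2 _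
  map_smul' c z := by
    have hc : z.1 ∘ₗ (c • (LinearMap.id : N →ₗ[A] N)) = c • z.1 := by
      ext x
      simp
    have h := clsFun_precomp J e b z.1 z.2 (c • LinearMap.id) (hc.symm ▸ (c • z).2)
    simp only [RingHom.id_apply]
    refine Eq.trans ?_ (h.trans ?_)
    · congr 1
      exact hc.symm
    · exact pre_smul_id ω c b _

theorem cls_pre {N N' : Type u} [AddCommGroup N] [Module A N] [AddCommGroup N'] [Module A N']
    (b : ℤ) (z : LinearMap.ker (homD J N b (b + 1))) (ψ : N' →ₗ[A] N)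
    (z' : LinearMap.ker (homD J N' b (b + 1))) (h : z'.1 = z.1 ∘ₗ ψ) :
    cls J e N' b z' = pre ω (ModuleCat.ofHom ψ) b (cls J e N b z) := by
  obtain ⟨z', hz'⟩ := z'
  subst h
  exact clsFun_precomp J e b z.1 z.2 ψ hz'

theorem cls_surjective (N : Type u) [AddCommGroup N] [Module A N] (b : ℤ) :
    Function.Surjective (cls J e N b) := fun g => by
  obtain ⟨f, hf⟩ := Q_map_surjective_of_kinj ((CochainComplex.singleFunctor (ModuleCat.{u} A) 0).obj
    (ModuleCat.of A N)) (J⟦b⟧) (g ≫ e.inv⟦b⟧' ≫ ((QA A).commShiftIso b).inv.app J)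
  obtain ⟨φ, hφ, hz⟩ := Cocycle.fromSingleMk_surjective (Cocycle.equivHomShift f) b (zero_add b) (b + 1) rfl
  refine ⟨⟨φ.hom, congrArg ModuleCat.Hom.hom hφ⟩, ?_⟩
  show (QA A).map (Cocycle.equivHomShift.symm (Cocycle.fromSingleMk φ (zero_add b) (b + 1) rfl hφ)) ≫ _ = g
  rw [hz, AddEquiv.symm_apply_apply]
  erw [hf]
  simp [← Functor.map_comp]

theorem cls_eq_zero_iff {N : Type u} [AddCommGroup N] [Module A N] (b a : ℤ) (hab : a + 1 = b)
    (z : LinearMap.ker (homD J N b (b + 1))) :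
    cls J e N b z = 0 ↔ ∃ y, homD J N a b y = z.1 := by
  refine Iff.trans ?_ ((Cocycle.fromSingleMk_mem_coboundaries_iff (ModuleCat.ofHom z.1) (zero_add b)
    (b + 1) rfl (ModuleCat.hom_ext z.2) a hab).trans
    ⟨fun ⟨g, hg⟩ => ⟨g.hom, congrArg ModuleCat.Hom.hom hg⟩, fun ⟨y, hy⟩ => ⟨ModuleCat.ofHom y, ModuleCat.hom_ext hy⟩⟩)
  rw [← kinj_cls_eq_zero_iff]
  show (QA A).map _ ≫ _ = 0 ↔ _
  rw [← cancel_mono (((QA A).commShiftIso b).hom.app J ≫ e.hom⟦b⟧'), zero_comp]
  rfl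

/-- the cohomology of `Hom(N, J)` -/
noncomputable def quotEquiv (N : Type u) [AddCommGroup N] [Module A N] (b : ℤ) :
    (LinearMap.ker (homD J N b (b + 1)) ⧸ LinearMap.range
      ((homD J N (b - 1) b).codRestrict (LinearMap.ker (homD J N b (b + 1)))
        fun x => LinearMap.congr_fun (homD_comp J N (b - 1) b (b + 1)) x)) ≃ₗ[A] GM ω (ModuleCat.of A N) b :=
  (Submodule.quotEquivOfEq _ (LinearMap.ker (cls J e N b)) (Submodule.ext fun z => by
    rw [LinearMap.mem_ker, cls_eq_zero_iff J e b (b - 1) (by omega)]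
    exact ⟨fun ⟨y, hy⟩ => ⟨y, congrArg Subtype.val hy⟩, fun ⟨y, hy⟩ => ⟨y, Subtype.ext hy⟩⟩)).trans
    (LinearMap.quotKerEquivOfSurjective _ (cls_surjective J e N b))

end Groth.Agent.DR39.Boot
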