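import Groth.Agent.DR39.BootArith
import Groth.Agent.DR39.BootModel
import Groth.Agent.DR39.BootChase
import Groth.Agent.DR39.Bidual2

/-!
Classes of `Ext(Iⁿ M, ω)` in the top range die near `T` on a smaller power.
-/

set_option autoImplicit false
set_option linter.style.haveILetI false
set_option linter.unusedSectionVars false
set_option maxHeartbeats 800000

noncomputable section

universe u

open CategoryTheory Groth.Agent.LC15 Groth.Agent.LC17
open Groth.Agent.LC16.DualAnn (mu)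

attribute [local instance] HasDerivedCategory.standard

namespace Groth.Agent.DR39.Boot

variable {A : Type u} [CommRing A] (I : Ideal A)

/-- `I ^ n M` -/
abbrev pw (M : Type u) [AddCommGroup M] [Module A M] (n : ℕ) : Submodule A M := I ^ n • ⊤

/-- the transition maps -/
abbrev pwIncl (M : Type u) [AddCommGroup M] [Module A M] {n m : ℕ} (h : n ≤ m) : pw I M m →ₗ[A] pw I M n :=
  Submodule.inclusion (Submodule.smul_mono_left (Ideal.pow_le_pow_right h))

/-- one multiplier for a finitely generated ideal -/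
theorem exists_notMem_mul_mem [IsNoetherianRing A] (q : PrimeSpectrum A) (K G : Ideal A)
    (h : ∀ x ∈ K, ∃ v ∉ q.asIdeal, v * x ∈ G) : ∃ u ∉ q.asIdeal, ∀ x ∈ K, u * x ∈ G := by
  classical
  obtain ⟨S, hS⟩ := IsNoetherian.noetherian K
  choose v hv hvx using fun x : S => h x (hS ▸ Ideal.subset_span x.2)
  refine ⟨∏ x, v x, fun hmem => ?_, fun x hx => ?_⟩
  · obtain ⟨x, -, hx⟩ := (q.2.prod_mem_iff).1 hmem
    exact hv x hx
  rw [← hS] at hx
  induction hx using Submodule.span_induction with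
  | mem a ha =>
    obtain ⟨e, he⟩ := Finset.dvd_prod_of_mem v (Finset.mem_univ (⟨a, ha⟩ : S))
    rw [he, mul_comm (v ⟨a, ha⟩), mul_assoc]
    exact G.mul_mem_left _ (hvx ⟨a, ha⟩)
  | zero => simp
  | add a b _ _ ha hb => rw [mul_add]; exact add_mem ha hb
  | smul r a _ ha => rw [smul_eq_mul, mul_left_comm]; exact G.mul_mem_left _ ha

variable {I} [IsNoetherianRing A] {ω : Dual.D A} (hω : Dual.IsDualizing A ω) {d : ℕ} {M : Type u}
  [AddCommGroup M] [Module A M] [Module.Finite A M] {T : Set (PrimeSpectrum A)} {s : ℕ}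

include hω in
/-- Classes die on smaller powers. -/
theorem exists_kill (hC : Cond I d M T s) {q : PrimeSpectrum A} (hq : q ∈ T) {j : ℤ}
    (hj : mu hω q - ((s : ℤ) + 1) ≤ j) (n : ℕ) (g : GM ω (ModuleCat.of A (pw I M n)) j) :
    ∃ (m : ℕ) (h : n ≤ m), ∃ u ∉ q.asIdeal,
      u • pre ω (ModuleCat.ofHom (pwIncl I M h)) j g = 0 := by
  obtain ⟨Dm, ⟨e⟩⟩ := DR39.exists_dualModel hω
  haveI := Dm.isKInjective
  haveI : ∀ b, Module.Injective A (Dm.I.X b) := Dm.inj
  set dd := homD Dm.I M with hdd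
  obtain ⟨z, rfl⟩ := cls_surjective Dm.I e (pw I M n) j g
  obtain ⟨φ, hφ⟩ := Module.Injective.extension_property A (Dm.I.X j) _ _ (pw I M n).subtype
    (Submodule.subtype_injective _) z.1
  have hcyc : ∀ a ∈ I ^ n, dd j (j + 1) (a • φ) = 0 := fun a ha => LinearMap.ext fun x => by
    have h1 : φ (a • x) = z.1 ⟨a • x, Submodule.smul_mem_smul ha trivial⟩ :=
      LinearMap.congr_fun hφ ⟨a • x, Submodule.smul_mem_smul ha trivial⟩
    have h2 := LinearMap.congr_fun (LinearMap.mem_ker.1 z.2) ⟨a • x, Submodule.smul_mem_smul ha trivial⟩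
    show (Dm.I.d j (j + 1)).hom ((a • φ) x) = 0
    rw [LinearMap.smul_apply, ← map_smul φ, h1]
    exact h2
  -- the top cohomology is torsion
  obtain ⟨J₀, hJ₀, hsat⟩ := LC16.DualAnn.exists_sat
    ((PrimeSpectrum.isClosed_zeroLocus (I : Set A)).stableUnderSpecialization)
    (LC17.gAnn ω (ModuleCat.of A M) j)
  obtain ⟨u, hu, hukill⟩ := exists_notMem_mul_mem q J₀ _ (hsat q fun p hp hpq hle =>
    hp (gAnn_torsion hω hC hq hpq hj hle))
  obtain ⟨c₀, hc₀⟩ : ∃ c₀, I ^ c₀ ≤ J₀ := by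
    refine Ideal.exists_pow_le_of_le_radical_of_fg ?_ (IsNoetherian.noetherian _)
    rw [Ideal.radical_eq_sInf]
    exact le_sInf fun P hP => hJ₀ (show (⟨P, hP.2⟩ : PrimeSpectrum A) ∈
      PrimeSpectrum.zeroLocus (J₀ : Set A) from hP.1)
  have hrange : ∀ a ∈ I ^ (c₀ + n), a • (u • φ) ∈ LinearMap.range (dd (j - 1) j) := by
    intro a ha
    rw [pow_add] at ha
    refine Submodule.mul_induction_on ha (fun x hx a ha => ?_) (fun x y hx hy => by rw [add_smul]; exact add_mem hx hy)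
    have h0 : cls Dm.I e M j ((u * x) • (⟨a • φ, hcyc a ha⟩ : LinearMap.ker (dd j (j + 1)))) = 0 := by
      rw [map_smul]
      exact (LC17.mem_gAnn ω).1 (hukill x (hc₀ hx)) _
    obtain ⟨y, hy⟩ := (cls_eq_zero_iff Dm.I e j (j - 1) (by omega) _).1 h0
    refine ⟨y, hy.trans ?_⟩
    show (u * x) • a • φ = (x * a) • u • φ
    rw [smul_smul, smul_smul]
    congr 1
    ring
  obtain ⟨u', hu', y, c', hc'⟩ := exists_smul_sub_mem I q hC.cd j dd
    (fun a b c => homD_comp Dm.I M a b c) (fun b a => subsingleton_H_hom I (Dm.I.X b) a M)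
    (fun a _ had b hb => vq_H hω hC hq had (by omega) _ (quotEquiv Dm.I e M b))
    (u • φ) (c₀ + n) hrange
  let m := max n c'
  refine ⟨m, le_max_left _ _, u' * u, fun h => (q.2.mem_or_mem h).elim hu' hu, ?_⟩
  let ψ : pw I M m →ₗ[A] pw I M n := pwIncl I M (le_max_left n c')
  have hz' : homD Dm.I (pw I M m) j (j + 1) (z.1 ∘ₗ ψ) = 0 := by
    rw [homD_apply, ← LinearMap.comp_assoc]
    exact (congrArg (fun f => f ∘ₗ ψ) (LinearMap.mem_ker.1 z.2)).trans (LinearMap.zero_comp _)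
  rw [← cls_pre Dm.I e j z ψ ⟨z.1 ∘ₗ ψ, hz'⟩ rfl, ← map_smul, cls_eq_zero_iff Dm.I e j (j - 1) (by omega)]
  refine ⟨y ∘ₗ (pw I M m).subtype, LinearMap.ext fun w => ?_⟩
  have h1 : φ w.1 = z.1 (ψ w) := LinearMap.congr_fun hφ (ψ w)
  have h2 : (u' • u • φ - dd (j - 1) j y) w.1 = 0 := by
    refine Submodule.smul_induction_on w.2 (fun a ha x _ => ?_) (fun x x' hx hx' => by rw [map_add, hx, hx', add_zero])
    rw [map_smul, ← LinearMap.smul_apply, hc' a (Ideal.pow_le_pow_right (le_max_right n c') ha), LinearMap.zero_apply]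
  rw [LinearMap.sub_apply, sub_eq_zero, LinearMap.smul_apply, LinearMap.smul_apply, h1, smul_smul] at h2
  exact h2.symm

end Groth.Agent.DR39.Boot
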