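import Groth.Agent.DR39.BootDepth
import Groth.Agent.CAlg1.SectionPowerSeries
import Groth.Agent.S1779

/-!
Completing along `I` does not change the completions of the local rings at primes containing `I`.
-/

set_option autoImplicit false
set_option linter.style.haveILetI false
set_option linter.unusedSectionVars false
set_option maxHeartbeats 800000

noncomputable section

universe u

open CategoryTheory IsLocalRing TensorProduct

namespace Groth.Agent.DR39.Boot

variable {A : Type u} [CommRing A] [IsNoetherianRing A] (I : Ideal A)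

/-- The completion along `I`. -/
abbrev A' : Type u := AdicCompletion I A

theorem evalₐ_zero_iff (n : ℕ) (c : A' I) :
    AdicCompletion.evalₐ I n c = 0 ↔ c ∈ (I ^ n).map (algebraMap A (A' I)) := by
  have h1 := AdicCompletion.pow_smul_top_eq_ker_eval (I := I) (M := A) (n := n) (IsNoetherian.noetherian _)
  constructor
  · intro hc
    have : c ∈ LinearMap.ker (AdicCompletion.eval I A n) := by
      rw [← AdicCompletion.factor_eval_eq_evalₐ _ _ (le_of_eq (Ideal.mul_top _))] at hc
      obtain ⟨y, hy⟩ := Ideal.Quotient.mk_surjective (AdicCompletion.eval I A n c)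
      rw [LinearMap.mem_ker, ← hy, Ideal.Quotient.eq_zero_iff_mem]
      rw [← hy] at hc
      replace hc : Ideal.Quotient.mk (I ^ n) y = 0 := hc
      rw [Ideal.Quotient.eq_zero_iff_mem] at hc
      rwa [smul_eq_mul, Ideal.mul_top]
    rw [← h1, Ideal.smul_top_eq_map] at this
    exact this
  · intro hc
    have hle : (I ^ n).map (algebraMap A (A' I)) ≤ RingHom.ker (AdicCompletion.evalₐ I n) := by
      rw [Ideal.map_le_iff_le_comap]
      intro x hx
      show AdicCompletion.evalₐ I n (algebraMap A _ x) = 0
      rw [AlgHom.commutes]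
      exact Ideal.Quotient.eq_zero_iff_mem.mpr hx
    exact hle hc

theorem sub_mem_pow (n : ℕ) (x : A' I) :
    ∃ a : A, x - algebraMap A (A' I) a ∈ (I ^ n).map (algebraMap A (A' I)) := by
  obtain ⟨a, ha⟩ := Ideal.Quotient.mk_surjective (AdicCompletion.evalₐ I n x)
  refine ⟨a, (evalₐ_zero_iff I n _).1 ?_⟩
  rw [map_sub, AlgHom.commutes, ← ha]
  exact sub_self _

theorem mem_pow_of_map (n : ℕ) {a : A} (ha : algebraMap A (A' I) a ∈ (I ^ n).map (algebraMap A (A' I))) :
    a ∈ I ^ n := by
  rw [← evalₐ_zero_iff, AlgHom.commutes] at ha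
  exact Ideal.Quotient.eq_zero_iff_mem.1 ha

variable (q : PrimeSpectrum (A' I))

/-- the prime of the ring below -/
abbrev below : PrimeSpectrum A := PrimeSpectrum.comap (algebraMap A (A' I)) q

/-- the map of local rings -/
def locHom : Localization.AtPrime (below I q).asIdeal →ₐ[A] Localization.AtPrime q.asIdeal :=
  IsLocalization.liftAlgHom (M := (below I q).asIdeal.primeCompl)
    (f := Algebra.ofId A (Localization.AtPrime q.asIdeal)) fun y => by
    rw [Algebra.ofId_apply, IsScalarTower.algebraMap_apply A (A' I) (Localization.AtPrime q.asIdeal)]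
    exact IsLocalization.map_units (Localization.AtPrime q.asIdeal)
      (⟨algebraMap A (A' I) y.1, fun h => y.2 h⟩ : q.asIdeal.primeCompl)

/-- The two completions agree. -/
theorem exists_completion_algEquiv (hq : I.map (algebraMap A (A' I)) ≤ q.asIdeal) :
    Nonempty (AdicCompletion (I.map (algebraMap A (Localization.AtPrime (below I q).asIdeal)))
        (Localization.AtPrime (below I q).asIdeal) ≃ₐ[A]
      AdicCompletion ((I.map (algebraMap A (A' I))).map (algebraMap (A' I) (Localization.AtPrime q.asIdeal)))
        (Localization.AtPrime q.asIdeal)) := by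
  let B := Localization.AtPrime (below I q).asIdeal
  let B' := Localization.AtPrime q.asIdeal
  let ψ : B →ₐ[A] B' := locHom I q
  have hpow : ∀ n, ((I.map (algebraMap A (A' I))).map (algebraMap (A' I) B')) ^ n =
      (I ^ n).map (algebraMap A B') := fun n => by
    rw [Ideal.map_map, ← IsScalarTower.algebraMap_eq, Ideal.map_pow]
  have hpowB : ∀ n, (I.map (algebraMap A B)) ^ n = (I ^ n).map (algebraMap A B) := fun n =>
    (Ideal.map_pow _ _ _).symm
  have hle : ∀ n, (I.map (algebraMap A B)) ^ n ≤
      (((I.map (algebraMap A (A' I))).map (algebraMap (A' I) B')) ^ n).comap ψ := fun n => by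
    rw [hpow, hpowB, Ideal.map_le_iff_le_comap]
    intro a ha
    show ψ (algebraMap A B a) ∈ (I ^ n).map (algebraMap A B')
    rw [AlgHom.commutes]
    exact Ideal.mem_map_of_mem _ ha
  have hmem : ∀ n (x : A' I), x ∈ (I ^ n).map (algebraMap A (A' I)) →
      algebraMap (A' I) B' x ∈ (I ^ n).map (algebraMap A B') := fun n x hx => by
    rw [IsScalarTower.algebraMap_eq A (A' I) B', ← Ideal.map_map]
    exact Ideal.mem_map_of_mem _ hx
  refine CAlg1.completion_equiv_of_bijective_quotients _ _ ψ hle fun n => ⟨?_, ?_⟩
  · rw [injective_iff_map_eq_zero]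
    intro z hz
    obtain ⟨b, rfl⟩ := Ideal.Quotient.mk_surjective z
    have hb : ψ b ∈ (I ^ n).map (algebraMap A B') := by
      rw [← hpow]
      exact Ideal.Quotient.eq_zero_iff_mem.1 hz
    rw [Ideal.Quotient.eq_zero_iff_mem, hpowB]
    obtain ⟨⟨a, t⟩, hat⟩ := IsLocalization.surj (below I q).asIdeal.primeCompl b
    have ha : algebraMap (A' I) B' (algebraMap A (A' I) a) ∈
        ((I ^ n).map (algebraMap A (A' I))).map (algebraMap (A' I) B') := by
      rw [Ideal.map_map, ← IsScalarTower.algebraMap_eq, ← IsScalarTower.algebraMap_apply,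
        ← ψ.commutes a, ← hat, map_mul]
      exact Ideal.mul_mem_right _ _ hb
    obtain ⟨u, hu, huy⟩ := (IsLocalization.algebraMap_mem_map_algebraMap_iff q.asIdeal.primeCompl B' _ _).1 ha
    rcases Nat.eq_zero_or_pos n with rfl | hn
    · rw [pow_zero, Ideal.one_eq_top, Ideal.map_top]
      exact Submodule.mem_top
    obtain ⟨t₀, ht₀⟩ := sub_mem_pow I n u
    have ht : t₀ ∉ (below I q).asIdeal := fun h => hu (by
      have h1 : (I ^ n).map (algebraMap A (A' I)) ≤ q.asIdeal :=
        (Ideal.map_mono (Ideal.pow_le_self hn.ne')).trans hq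
      have h2 : algebraMap A (A' I) t₀ ∈ q.asIdeal := h
      have := q.asIdeal.add_mem (h1 ht₀) h2
      rwa [sub_add_cancel] at this)
    have h3 : t₀ * a ∈ I ^ n := mem_pow_of_map I n (by
      have h4 := sub_mem huy (Ideal.mul_mem_right (algebraMap A (A' I) a) _ ht₀)
      rw [map_mul]
      convert h4 using 1
      ring)
    have h5 : algebraMap A B a ∈ (I ^ n).map (algebraMap A B) :=
      (IsLocalization.algebraMap_mem_map_algebraMap_iff (below I q).asIdeal.primeCompl B _ _).2 ⟨t₀, ht, h3⟩
    rw [← hat] at h5
    exact (Ideal.mul_unit_mem_iff_mem _ (IsLocalization.map_units B t)).1 h5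
  · intro z
    obtain ⟨b', rfl⟩ := Ideal.Quotient.mk_surjective z
    rcases Nat.eq_zero_or_pos n with rfl | hn
    · refine ⟨0, ?_⟩
      rw [map_zero, eq_comm, Ideal.Quotient.eq_zero_iff_mem, pow_zero, Ideal.one_eq_top]
      exact Submodule.mem_top
    obtain ⟨⟨x, t⟩, hxt⟩ := IsLocalization.surj q.asIdeal.primeCompl b'
    obtain ⟨a, ha⟩ := sub_mem_pow I n x
    obtain ⟨t₀, ht₀⟩ := sub_mem_pow I n t.1
    have h1 : (I ^ n).map (algebraMap A (A' I)) ≤ q.asIdeal :=
      (Ideal.map_mono (Ideal.pow_le_self hn.ne')).trans hq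
    have ht : t₀ ∉ (below I q).asIdeal := fun h => t.2 (by
      have := q.asIdeal.add_mem (h1 ht₀) (show algebraMap A (A' I) t₀ ∈ q.asIdeal from h)
      rwa [sub_add_cancel] at this)
    refine ⟨Ideal.Quotient.mk _ (IsLocalization.mk' B a (⟨t₀, ht⟩ : (below I q).asIdeal.primeCompl)),
      Ideal.Quotient.eq.2 ?_⟩
    rw [hpow]
    have hu : IsUnit (algebraMap A B' t₀) := by
      rw [IsScalarTower.algebraMap_apply A (A' I) B']
      exact IsLocalization.map_units B' (⟨algebraMap A (A' I) t₀, fun h => ht h⟩ : q.asIdeal.primeCompl)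
    refine (Ideal.mul_unit_mem_iff_mem _ hu).1 ((Ideal.mul_unit_mem_iff_mem _ (IsLocalization.map_units B' t)).1 ?_)
    have e : (ψ (IsLocalization.mk' B a (⟨t₀, ht⟩ : (below I q).asIdeal.primeCompl)) - b') *
        algebraMap A B' t₀ * algebraMap (A' I) B' t.1 =
        algebraMap (A' I) B' ((algebraMap A (A' I) a - x) * t.1 + x * (t.1 - algebraMap A (A' I) t₀)) := by
      have e2 : ψ (IsLocalization.mk' B a (⟨t₀, ht⟩ : (below I q).asIdeal.primeCompl)) * algebraMap A B' t₀ =
          algebraMap A B' a := by
        rw [← ψ.commutes t₀, ← map_mul, ← ψ.commutes a]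
        exact congrArg ψ (IsLocalization.mk'_spec B a _)
      rw [sub_mul, e2, map_add, map_mul, map_mul, map_sub, map_sub, ← IsScalarTower.algebraMap_apply,
        ← IsScalarTower.algebraMap_apply, sub_mul, ← hxt]
      ring
    refine Eq.subst (motive := fun z => z ∈ (I ^ n).map (algebraMap A B')) e.symm ?_
    refine hmem n _ (add_mem (Ideal.mul_mem_right _ _ ?_) (Ideal.mul_mem_left _ _ ht₀))
    rw [← neg_sub]
    exact neg_mem ha

end Groth.Agent.DR39.Boot

namespace Groth.Agent.DR39.Boot

attribute [local instance] HasDerivedCategory.standard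

variable {A : Type u} [CommRing A] [IsNoetherianRing A]

/-- Condition (4) passes to the completion. -/
theorem cond_four_completion (hdc : ∃ ω : Dual.D A, Dual.IsDualizing A ω) (I : Ideal A) (d : ℕ)
    (M : Type u) [AddCommGroup M] [Module A M] [Module.Finite A M] (s : ℕ) (p q : PrimeSpectrum (A' I))
    (hpq : p ≤ q) (hq : I.map (algebraMap A (A' I)) ≤ q.asIdeal)
    (h : (s : ℕ∞) ≤ LocCoh.depth (Localization.AtPrime (below I p).asIdeal)
        (LocalizedModule (below I p).asIdeal.primeCompl M) ∨
      ((d + s : ℕ) : WithBot ℕ∞) < (LocCoh.depth (Localization.AtPrime (below I p).asIdeal)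
        (LocalizedModule (below I p).asIdeal.primeCompl M) : WithBot ℕ∞) +
          Formal2.dimBetween A (below I p).asIdeal (below I q).asIdeal) :
    (s : ℕ∞) ≤ LocCoh.depth (Localization.AtPrime p.asIdeal)
        (LocalizedModule p.asIdeal.primeCompl (AdicCompletion I M)) ∨
      ((d + s : ℕ) : WithBot ℕ∞) < (LocCoh.depth (Localization.AtPrime p.asIdeal)
        (LocalizedModule p.asIdeal.primeCompl (AdicCompletion I M)) : WithBot ℕ∞) +
          Formal2.dimBetween (A' I) p.asIdeal q.asIdeal := by
  haveI : IsNoetherianRing (A' I) := CAlg1.isNoetherianRing_adicCompletion I (IsNoetherian.noetherian _)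
  obtain ⟨hge, heq⟩ := S1714.result A hdc I M p q hpq hq
  rcases h with h | h
  · exact Or.inl (h.trans hge)
  · refine Or.inr (h.trans_eq ?_)
    rw [dimBetween_eq_Icc, dimBetween_eq_Icc]
    exact heq.symm

/-- The depth condition on completions passes to the completion. -/
theorem cond_six_completion (I : Ideal A) (M : Type u) [AddCommGroup M] [Module A M] [Module.Finite A M]
    (s : ℕ) (q : PrimeSpectrum (A' I)) (hq : I.map (algebraMap A (A' I)) ≤ q.asIdeal)
    (h6 : ∀ P : PrimeSpectrum (AdicCompletion (I.map (algebraMap A (Localization.AtPrime (below I q).asIdeal))) (Localization.AtPrime (below I q).asIdeal)),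
      ¬ I.map (algebraMap A (AdicCompletion (I.map (algebraMap A (Localization.AtPrime (below I q).asIdeal))) (Localization.AtPrime (below I q).asIdeal))) ≤ P.asIdeal →
      (∀ Q : PrimeSpectrum (AdicCompletion (I.map (algebraMap A (Localization.AtPrime (below I q).asIdeal))) (Localization.AtPrime (below I q).asIdeal)),
        P ≤ Q → I.map (algebraMap A (AdicCompletion (I.map (algebraMap A (Localization.AtPrime (below I q).asIdeal))) (Localization.AtPrime (below I q).asIdeal))) ≤ Q.asIdeal → Q.asIdeal.IsMaximal) →
      (s : ℕ∞) < LocCoh.depth (Localization.AtPrime P.asIdeal) (LocalizedModule P.asIdeal.primeCompl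
        (AdicCompletion (I.map (algebraMap A (Localization.AtPrime (below I q).asIdeal))) (LocalizedModule (below I q).asIdeal.primeCompl M))))
    (p' : PrimeSpectrum (AdicCompletion ((I.map (algebraMap A (A' I))).map (algebraMap (A' I) (Localization.AtPrime q.asIdeal))) (Localization.AtPrime q.asIdeal)))
    (hp' : ¬ (I.map (algebraMap A (A' I))).map (algebraMap (A' I) (AdicCompletion ((I.map (algebraMap A (A' I))).map (algebraMap (A' I) (Localization.AtPrime q.asIdeal))) (Localization.AtPrime q.asIdeal))) ≤ p'.asIdeal)
    (hmax : ∀ q' : PrimeSpectrum (AdicCompletion ((I.map (algebraMap A (A' I))).map (algebraMap (A' I) (Localization.AtPrime q.asIdeal))) (Localization.AtPrime q.asIdeal)),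
      p' ≤ q' → (I.map (algebraMap A (A' I))).map (algebraMap (A' I) (AdicCompletion ((I.map (algebraMap A (A' I))).map (algebraMap (A' I) (Localization.AtPrime q.asIdeal))) (Localization.AtPrime q.asIdeal))) ≤ q'.asIdeal → q'.asIdeal.IsMaximal) :
    (s : ℕ∞) < LocCoh.depth (Localization.AtPrime p'.asIdeal) (LocalizedModule p'.asIdeal.primeCompl
      (AdicCompletion ((I.map (algebraMap A (A' I))).map (algebraMap (A' I) (Localization.AtPrime q.asIdeal))) (LocalizedModule q.asIdeal.primeCompl (AdicCompletion I M)))) := by
  let B := Localization.AtPrime (below I q).asIdeal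
  let J : Ideal B := I.map (algebraMap A B)
  let C := AdicCompletion J B
  let B' := Localization.AtPrime q.asIdeal
  let J' : Ideal B' := (I.map (algebraMap A (A' I))).map (algebraMap (A' I) B')
  let C' := AdicCompletion J' B'
  let N := AdicCompletion J (LocalizedModule (below I q).asIdeal.primeCompl M)
  let N' := AdicCompletion J' (LocalizedModule q.asIdeal.primeCompl (AdicCompletion I M))
  haveI : IsNoetherianRing (A' I) := CAlg1.isNoetherianRing_adicCompletion I (IsNoetherian.noetherian _)
  haveI : IsNoetherianRing B := IsLocalization.isNoetherianRing (below I q).asIdeal.primeCompl B inferInstance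
  haveI : IsNoetherianRing B' := IsLocalization.isNoetherianRing q.asIdeal.primeCompl B' inferInstance
  haveI : IsNoetherianRing C := CAlg1.isNoetherianRing_adicCompletion J J.fg_of_isNoetherianRing
  haveI : IsNoetherianRing C' := CAlg1.isNoetherianRing_adicCompletion J' J'.fg_of_isNoetherianRing
  obtain ⟨φ⟩ := exists_completion_algEquiv I q hq
  letI : Algebra C C' := φ.toAlgHom.toRingHom.toAlgebra
  haveI : IsScalarTower A C C' := IsScalarTower.of_algebraMap_eq fun a => (φ.commutes a).symm
  haveI : Module.Flat C C' := Module.Flat.of_linearEquiv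
    ((LinearEquiv.ofBijective (Algebra.linearMap C C') φ.bijective).symm)
  haveI : IsScalarTower A (A' I) C' := inferInstance
  haveI : IsScalarTower A B' C' := IsScalarTower.of_algebraMap_eq fun a => by
    rw [IsScalarTower.algebraMap_apply A (A' I) C', IsScalarTower.algebraMap_apply A (A' I) B',
      ← IsScalarTower.algebraMap_apply (A' I) B' C']
  haveI : Module.Finite B (LocalizedModule (below I q).asIdeal.primeCompl M) :=
    Module.Finite.of_isLocalizedModule (below I q).asIdeal.primeCompl
      (LocalizedModule.mkLinearMap (below I q).asIdeal.primeCompl M)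
  haveI : Module.Finite (A' I) (AdicCompletion I M) :=
    Module.Finite.equiv (AdicCompletion.ofTensorProductEquivOfFiniteNoetherian I M)
  haveI : Module.Finite B' (LocalizedModule q.asIdeal.primeCompl (AdicCompletion I M)) :=
    Module.Finite.of_isLocalizedModule q.asIdeal.primeCompl
      (LocalizedModule.mkLinearMap q.asIdeal.primeCompl (AdicCompletion I M))
  haveI : IsScalarTower A C N := IsScalarTower.of_algebraMap_smul fun a x => by
    rw [IsScalarTower.algebraMap_apply A B C, algebraMap_smul, algebraMap_smul]
  haveI : Module.Finite C N :=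
    Module.Finite.equiv (AdicCompletion.ofTensorProductEquivOfFiniteNoetherian J
      (LocalizedModule (below I q).asIdeal.primeCompl M))
  -- the two base changes
  let f₁ : M →ₗ[A] N := ((AdicCompletion.of J (LocalizedModule (below I q).asIdeal.primeCompl M)).restrictScalars A).comp
    (LocalizedModule.mkLinearMap (below I q).asIdeal.primeCompl M)
  have h₁ : IsBaseChange C f₁ := by
    refine (LocalizedModule.isBaseChange (below I q).asIdeal.primeCompl M).comp (IsBaseChange.of_equiv
      (AdicCompletion.ofTensorProductEquivOfFiniteNoetherian J (LocalizedModule (below I q).asIdeal.primeCompl M)) fun x => ?_)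
    rw [AdicCompletion.ofTensorProductEquivOfFiniteNoetherian_apply, AdicCompletion.ofTensorProduct_tmul, one_smul]
  let g₁ : M →ₗ[A] AdicCompletion I M := AdicCompletion.of I M
  have hg₁ : IsBaseChange (A' I) g₁ := IsBaseChange.of_equiv
    (AdicCompletion.ofTensorProductEquivOfFiniteNoetherian I M) fun x => by
      rw [AdicCompletion.ofTensorProductEquivOfFiniteNoetherian_apply, AdicCompletion.ofTensorProduct_tmul, one_smul]
  let g₂ : AdicCompletion I M →ₗ[A' I] N' :=
    ((AdicCompletion.of J' (LocalizedModule q.asIdeal.primeCompl (AdicCompletion I M))).restrictScalars (A' I)).comp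
      (LocalizedModule.mkLinearMap q.asIdeal.primeCompl (AdicCompletion I M))
  haveI : IsScalarTower (A' I) C' N' := IsScalarTower.of_algebraMap_smul fun a x => by
    rw [IsScalarTower.algebraMap_apply (A' I) B' C', algebraMap_smul, algebraMap_smul]
  have hg₂ : IsBaseChange C' g₂ := by
    refine (LocalizedModule.isBaseChange q.asIdeal.primeCompl (AdicCompletion I M)).comp (IsBaseChange.of_equiv
      (AdicCompletion.ofTensorProductEquivOfFiniteNoetherian J' (LocalizedModule q.asIdeal.primeCompl (AdicCompletion I M))) fun x => ?_)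
    rw [AdicCompletion.ofTensorProductEquivOfFiniteNoetherian_apply, AdicCompletion.ofTensorProduct_tmul, one_smul]
  haveI : IsScalarTower A C' N' := IsScalarTower.of_algebraMap_smul fun a x => by
    rw [IsScalarTower.algebraMap_apply A B' C', algebraMap_smul, algebraMap_smul]
  haveI : IsScalarTower A (A' I) N' := IsScalarTower.of_algebraMap_smul fun a x => by
    rw [← algebraMap_smul C' (algebraMap A (A' I) a) x, ← IsScalarTower.algebraMap_apply, algebraMap_smul]
  letI : Module C N' := Module.compHom N' (algebraMap C C')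
  haveI : IsScalarTower C C' N' := IsScalarTower.of_algebraMap_smul fun _ _ => rfl
  haveI : IsScalarTower A C N' := IsScalarTower.of_algebraMap_smul fun a x => by
    show algebraMap C C' (algebraMap A C a) • x = a • x
    rw [← IsScalarTower.algebraMap_apply, algebraMap_smul]
  have h₂ : IsBaseChange C' ((g₂.restrictScalars A).comp g₁) := hg₁.comp hg₂
  let f : N →ₗ[C] N' := h₁.lift ((g₂.restrictScalars A).comp g₁)
  have hf : (f.restrictScalars A).comp f₁ = (g₂.restrictScalars A).comp g₁ := h₁.lift_comp _
  have hbc : IsBaseChange C' f := IsBaseChange.of_comp h₁ (by rw [hf]; exact h₂)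
  -- the prime below
  let P : PrimeSpectrum C := PrimeSpectrum.comap (algebraMap C C') p'
  have hsurj : Function.Surjective (algebraMap C C') := φ.surjective
  have hmapP : P.asIdeal.map (algebraMap C C') = p'.asIdeal := Ideal.map_comap_of_surjective _ hsurj _
  haveI : p'.asIdeal.LiesOver P.asIdeal := ⟨rfl⟩
  have hI : I.map (algebraMap A C') = (I.map (algebraMap A C)).map (algebraMap C C') := by
    rw [Ideal.map_map, ← IsScalarTower.algebraMap_eq]
  have hI' : I.map (algebraMap A C') = (I.map (algebraMap A (A' I))).map (algebraMap (A' I) C') := by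
    rw [Ideal.map_map, ← IsScalarTower.algebraMap_eq]
  have key := h6 P (fun hle => hp' (by rw [← hI', hI, ← hmapP]; exact Ideal.map_mono hle)) fun Q hPQ hIQ => by
    have hker : RingHom.ker (algebraMap C C') ≤ Q.asIdeal := fun x hx => by
      rw [RingHom.mem_ker] at hx
      rw [φ.injective (hx.trans φ.toAlgHom.map_zero.symm)]
      exact zero_mem _
    haveI := Q.2
    let Q' : PrimeSpectrum C' := ⟨Q.asIdeal.map (algebraMap C C'), Ideal.map_isPrime_of_surjective hsurj hker⟩
    have hmaxQ := hmax Q' (show p'.asIdeal ≤ _ from hmapP ▸ Ideal.map_mono hPQ)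
      (by rw [← hI', hI]; exact Ideal.map_mono hIQ)
    have := Ideal.comap_isMaximal_of_surjective (algebraMap C C') hsurj (K := Q'.asIdeal)
    rwa [Ideal.comap_map_of_surjective _ hsurj, ← RingHom.ker_eq_comap_bot, sup_eq_left.2 hker] at this
  rw [← Boot94.depth_localization_of_minimal P.asIdeal p'.asIdeal
    ⟨⟨p'.2, hmapP.le⟩, fun R hR _ => hmapP ▸ hR.2⟩ N N' f hbc] at key
  exact key

end Groth.Agent.DR39.Boot
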