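import Groth.Agent.S1714
import Groth.Agent.LC16.DimBetween
import Groth.Agent.LC15.NonVanish
import Groth.Agent.LC15.OfLE
import Groth.Agent.LC15.CdBC
import Groth.Agent.CAlg1.Complete
import Groth.Agent.Boot94.DepthFlat

/-!
Depths on `I`-adic completions in terms of depths on the ring.
-/

set_option autoImplicit false
set_option linter.style.haveILetI false
set_option linter.unusedSectionVars false

noncomputable section

universe u

open CategoryTheory IsLocalRing Groth.Agent.LC15

namespace Groth.Agent.DR39.Boot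

variable {A : Type u} [CommRing A]

/-- `dim (A/p)_q` is the dimension of the interval. -/
theorem dimBetween_eq_Icc {p q : PrimeSpectrum A} :
    Formal2.dimBetween A p.asIdeal q.asIdeal = Order.krullDim (Set.Icc p q) := by
  let f : PrimeSpectrum (LC16.DimBetween.Ring' p q) → Set.Icc p q := fun r =>
    ⟨LC16.DimBetween.toSpec p q r, LC16.DimBetween.toSpec_mem p q r⟩
  have hle : ∀ r r', f r ≤ f r' ↔ r ≤ r' := fun r r' => LC16.DimBetween.toSpec_le_iff p q
  have hbij : Function.Bijective f :=
    ⟨fun r r' h => le_antisymm ((hle r r').1 h.le) ((hle r' r).1 h.ge), fun x => by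
      obtain ⟨r, hr⟩ := LC16.DimBetween.exists_toSpec p q x.2.1 x.2.2
      exact ⟨r, Subtype.ext hr⟩⟩
  exact Order.krullDim_eq_of_orderIso { toEquiv := Equiv.ofBijective f hbij, map_rel_iff' := hle _ _ }

/-- The interval below the closed point. -/
theorem krullDim_Icc_closed [IsLocalRing A] (p : PrimeSpectrum A) :
    Order.krullDim (Set.Icc p ⟨maximalIdeal A, inferInstance⟩) = ringKrullDim (A ⧸ p.asIdeal) := by
  refine Eq.trans ?_ (Order.krullDim_eq_of_orderIso
    (Ideal.primeSpectrumQuotientOrderIsoZeroLocus p.asIdeal)).symm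
  exact Order.krullDim_eq_of_orderIso
    { toFun := fun r => ⟨r.1, r.2.1⟩
      invFun := fun r => ⟨r.1, r.2, IsLocalRing.le_maximalIdeal r.1.2.ne_top⟩
      left_inv := fun r => rfl
      right_inv := fun r => rfl
      map_rel_iff' := Iff.rfl }

/-- An ideal with zero locus the closed point has cohomological dimension at least the dimension. -/
theorem ringKrullDim_le_of_cdLE [IsNoetherianRing A] [IsLocalRing A] {K : Ideal A} {d : ℕ}
    (hcd : LocCoh.CdLE A K d) (hK : K ≤ maximalIdeal A)
    (h : ∀ q : Ideal A, q.IsPrime → K ≤ q → q.IsMaximal) : ringKrullDim A ≤ (d : WithBot ℕ∞) := by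
  obtain ⟨n, hn⟩ : ∃ n : ℕ, ringKrullDim A = (n : WithBot ℕ∞) := by
    obtain ⟨m, hm⟩ := WithBot.ne_bot_iff_exists.1 (ringKrullDim_ne_bot (R := A))
    have hlt : ringKrullDim A < ⊤ := ringKrullDim_lt_top
    rw [← hm] at hlt ⊢
    obtain ⟨n, rfl⟩ := ENat.ne_top_iff_exists.1 (fun h' : m = ⊤ => absurd hlt (by simp [h']))
    exact ⟨n, rfl⟩
  rw [hn]
  by_contra hlt
  have hdn : d < n := by
    by_contra hle
    exact hlt (by exact_mod_cast not_lt.1 hle)
  haveI := nontrivial_H_supportDim n A (by rw [Module.supportDim_self_eq_ringKrullDim]; exact hn)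
  have hrad : maximalIdeal A ≤ K.radical := by
    rw [Ideal.radical_eq_sInf]
    exact le_sInf fun q hq => (IsLocalRing.eq_maximalIdeal (h q hq.2 hq.1)).ge
  haveI := hcd A n hdn
  haveI : Subsingleton (LocCoh.H (maximalIdeal A) n A) :=
    (HofLE_bijective_radical (i := n) (M := A) hK hrad).1.subsingleton
  exact not_subsingleton (LocCoh.H (maximalIdeal A) n A) inferInstance

/-- A component meeting the closed set only at the closed point is small. -/
theorem dim_quot_le_cd [IsNoetherianRing A] (I : Ideal A) {d : ℕ} (hcd : LocCoh.CdLE A I d)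
    {C : Type u} [CommRing C] [IsNoetherianRing C] [IsLocalRing C] [Algebra A C]
    (hI : I.map (algebraMap A C) ≤ maximalIdeal C) (P : Ideal C) [P.IsPrime]
    (h : ∀ Q : Ideal C, Q.IsPrime → P ≤ Q → I.map (algebraMap A C) ≤ Q → Q.IsMaximal) :
    ringKrullDim (C ⧸ P) ≤ (d : WithBot ℕ∞) := by
  haveI : IsLocalRing (C ⧸ P) := IsLocalRing.of_surjective' _ Ideal.Quotient.mk_surjective
  have hcd' : LocCoh.CdLE (C ⧸ P) ((I.map (algebraMap A C)).map (algebraMap C (C ⧸ P))) d :=
    cdLE_map (cdLE_map hcd)
  refine ringKrullDim_le_of_cdLE hcd' ?_ fun Q hQ hle => ?_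
  · refine (Ideal.map_mono hI).trans (IsLocalRing.le_maximalIdeal fun htop => ?_)
    have := congrArg (Ideal.comap (Ideal.Quotient.mk P)) htop
    rw [Ideal.Quotient.algebraMap_eq, Ideal.comap_map_of_surjective _ Ideal.Quotient.mk_surjective,
      ← RingHom.ker_eq_comap_bot, Ideal.mk_ker, Ideal.comap_top,
      sup_eq_left.2 (IsLocalRing.le_maximalIdeal (inferInstance : P.IsPrime).ne_top)] at this
    exact (IsLocalRing.maximalIdeal.isMaximal C).ne_top this
  · haveI := hQ
    have hPQ : P ≤ Q.comap (Ideal.Quotient.mk P) := by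
      conv_lhs => rw [← Ideal.mk_ker (I := P)]
      exact Ideal.comap_mono bot_le
    have hmax := h (Q.comap (Ideal.Quotient.mk P)) inferInstance hPQ (Ideal.map_le_iff_le_comap.1 hle)
    rw [← Ideal.map_comap_of_surjective _ Ideal.Quotient.mk_surjective Q]
    exact (Ideal.map_eq_top_or_isMaximal_of_surjective _ Ideal.Quotient.mk_surjective hmax).resolve_left
      (by rw [Ideal.map_comap_of_surjective _ Ideal.Quotient.mk_surjective]; exact hQ.ne_top)

end Groth.Agent.DR39.Boot

namespace Groth.Agent.DR39.Boot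

variable {A : Type u} [CommRing A] [IsNoetherianRing A]

/-- Depth on the completion at a prime meeting `V(I)` only in the closed point. -/
theorem depth_completion_gt (hdc : ∃ ω : Dual.D A, Dual.IsDualizing A ω) (I : Ideal A) {d : ℕ}
    (hcd : LocCoh.CdLE A I d) (M : Type u) [AddCommGroup M] [Module A M] [Module.Finite A M] (s : ℕ)
    (q : PrimeSpectrum A) (hIq : I ≤ q.asIdeal)
    (hc : ∀ p : PrimeSpectrum A, p ≤ q → ¬ I ≤ p.asIdeal →
      (s : ℕ∞) < LocCoh.depth (Localization.AtPrime p.asIdeal) (LocalizedModule p.asIdeal.primeCompl M) ∨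
      (((d + s : ℕ) : ℕ∞) : WithBot ℕ∞) <
        ((LocCoh.depth (Localization.AtPrime p.asIdeal) (LocalizedModule p.asIdeal.primeCompl M) : ℕ∞) : WithBot ℕ∞) +
          Formal2.dimBetween A p.asIdeal q.asIdeal)
    (p' : PrimeSpectrum (AdicCompletion (I.map (algebraMap A (Localization.AtPrime q.asIdeal))) (Localization.AtPrime q.asIdeal)))
    (hp' : ¬ I.map (algebraMap A (AdicCompletion (I.map (algebraMap A (Localization.AtPrime q.asIdeal))) (Localization.AtPrime q.asIdeal))) ≤ p'.asIdeal)
    (hmax : ∀ q' : PrimeSpectrum (AdicCompletion (I.map (algebraMap A (Localization.AtPrime q.asIdeal))) (Localization.AtPrime q.asIdeal)),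
      p' ≤ q' → I.map (algebraMap A (AdicCompletion (I.map (algebraMap A (Localization.AtPrime q.asIdeal))) (Localization.AtPrime q.asIdeal))) ≤ q'.asIdeal → q'.asIdeal.IsMaximal) :
    (s : ℕ∞) < LocCoh.depth (Localization.AtPrime p'.asIdeal) (LocalizedModule p'.asIdeal.primeCompl
      (AdicCompletion (I.map (algebraMap A (Localization.AtPrime q.asIdeal))) (LocalizedModule q.asIdeal.primeCompl M))) := by
  obtain ⟨ω, hω⟩ := hdc
  let B := Localization.AtPrime q.asIdeal
  let J : Ideal B := I.map (algebraMap A B)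
  let C := AdicCompletion J B
  haveI : IsNoetherianRing B := IsLocalization.isNoetherianRing q.asIdeal.primeCompl B inferInstance
  haveI : IsNoetherianRing C := CAlg1.isNoetherianRing_adicCompletion J J.fg_of_isNoetherianRing
  haveI : IsScalarTower A B C := inferInstance
  have hIC : I.map (algebraMap A C) = J.map (algebraMap B C) := by
    rw [Ideal.map_map, ← IsScalarTower.algebraMap_eq]
  have hJle : J ≤ maximalIdeal B := by
    rw [← Localization.AtPrime.map_eq_maximalIdeal (I := q.asIdeal)]
    exact Ideal.map_mono hIq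
  let mC : Ideal C := (maximalIdeal B).map (algebraMap B C)
  haveI hmC : mC.IsMaximal := AdicCompletion.isMaximal_map_of_le J _ hJle J.fg_of_isNoetherianRing
  haveI hlC : IsLocalRing C := by
    refine IsLocalRing.of_unique_max_ideal ⟨mC, hmC, fun Q hQ => ?_⟩
    have hQJ : J.map (algebraMap B C) ≤ Q := by
      haveI := AdicCompletion.isAdicComplete_self J J.fg_of_isNoetherianRing
      exact (IsAdicComplete.le_jacobson_bot (J.map (algebraMap B C))).trans (sInf_le ⟨bot_le, hQ⟩)
    -- the quotient by `J` is local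
    have h1 : maximalIdeal B ≤ Q.comap (algebraMap B C) := by
      intro b hb
      by_contra hbQ
      obtain ⟨v, hv⟩ := hQ.exists_inv (x := algebraMap B C b) hbQ
      obtain ⟨a, ha⟩ : ∃ a : B, v - algebraMap B C a ∈ J.map (algebraMap B C) := by
        obtain ⟨a, ha⟩ := Ideal.Quotient.mk_surjective ((AdicCompletion.evalOneₐ J).toRingHom v)
        refine ⟨a, ?_⟩
        rw [← AdicCompletion.ker_evalOneₐ_eq_map J J.fg_of_isNoetherianRing, RingHom.mem_ker, map_sub, sub_eq_zero]
        refine ha.symm.trans ?_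
        rw [← AdicCompletion.evalOneₐ_comp_algebraMap_eq_mk]
        rfl
      obtain ⟨i, hi, hvi⟩ := hv
      have h2 : algebraMap B C (a * b - 1) ∈ Q := by
        have : algebraMap B C (a * b - 1) = -((v - algebraMap B C a) * algebraMap B C b + i) := by
          rw [map_sub, map_mul, map_one]
          linear_combination hvi
        rw [this]
        exact Q.neg_mem (Q.add_mem (Q.mul_mem_right _ (hQJ ha)) hi)
      have h3 : IsUnit (a * b - 1) := by
        by_contra hu
        have h4 : (1 : B) ∈ maximalIdeal B := by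
          have := sub_mem ((maximalIdeal B).mul_mem_left a hb) ((mem_maximalIdeal _).2 hu)
          rwa [sub_sub_cancel] at this
        exact (maximalIdeal.isMaximal B).ne_top ((Ideal.eq_top_iff_one _).2 h4)
      exact hQ.ne_top (Q.eq_top_of_isUnit_mem h2 (h3.map _))
    exact (hmC.eq_of_le hQ.ne_top (Ideal.map_le_iff_le_comap.2 h1)).symm
  have hm : mC = maximalIdeal C := IsLocalRing.eq_maximalIdeal hmC
  let qC : PrimeSpectrum C := ⟨maximalIdeal C, inferInstance⟩
  have hqC : J.map (algebraMap B C) ≤ qC.asIdeal := (Ideal.map_mono hJle).trans hm.le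
  -- the transition formula
  obtain ⟨hge, heq⟩ := S1714.result B ⟨_, LC16.DualAnn.isDualizing_omegaAt hω q⟩ J
    (LocalizedModule q.asIdeal.primeCompl M) p' qC (IsLocalRing.le_maximalIdeal p'.2.ne_top) hqC
  let pB : PrimeSpectrum B := PrimeSpectrum.comap (algebraMap B C) p'
  let p : PrimeSpectrum A := PrimeSpectrum.comap (algebraMap A B) pB
  have hpq : p ≤ q := (Ideal.comap_mono (IsLocalRing.le_maximalIdeal pB.2.ne_top)).trans
    (IsLocalization.AtPrime.under_maximalIdeal B q.asIdeal).le
  have hp : ¬ I ≤ p.asIdeal := fun h => hp' (by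
    rw [hIC, Ideal.map_le_iff_le_comap, Ideal.map_le_iff_le_comap]
    exact h)
  have hmapP : p.asIdeal.map (algebraMap A B) = pB.asIdeal :=
    IsLocalization.map_under q.asIdeal.primeCompl B pB.asIdeal
  haveI : Module.Flat A B := IsLocalization.flat B q.asIdeal.primeCompl
  haveI : pB.asIdeal.LiesOver p.asIdeal := ⟨rfl⟩
  have hdep : LocCoh.depth (Localization.AtPrime pB.asIdeal)
      (LocalizedModule pB.asIdeal.primeCompl (LocalizedModule q.asIdeal.primeCompl M)) =
      LocCoh.depth (Localization.AtPrime p.asIdeal) (LocalizedModule p.asIdeal.primeCompl M) :=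
    Boot94.depth_localization_of_minimal p.asIdeal pB.asIdeal
      ⟨⟨pB.2, hmapP.le⟩, fun Q hQ _ => hmapP ▸ hQ.2⟩ M _ _
      (LocalizedModule.isBaseChange q.asIdeal.primeCompl M)
  have hqB : (PrimeSpectrum.comap (algebraMap B C) qC) = ⟨maximalIdeal B, inferInstance⟩ := by
    refine PrimeSpectrum.ext ((IsLocalRing.maximalIdeal.isMaximal B).eq_of_le (Ideal.IsPrime.comap (algebraMap B C) (hK := qC.2)).ne_top ?_).symm
    show maximalIdeal B ≤ (maximalIdeal C).comap (algebraMap B C)
    rw [← Ideal.map_le_iff_le_comap]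
    exact hm.le
  replace hge := hdep.ge.trans hge
  rcases hc p hpq hp with h | h
  · exact h.trans_le hge
  have hD : Order.krullDim (Set.Icc pB (PrimeSpectrum.comap (algebraMap B C) qC)) =
      Formal2.dimBetween A p.asIdeal q.asIdeal := by
    rw [hqB, krullDim_Icc_closed, ← hmapP]
  have heq' := (congrArg₂ (· + ·) rfl (krullDim_Icc_closed p').symm).trans
    (heq.trans (congrArg₂ (· + ·) (congrArg (fun x : ℕ∞ => (x : WithBot ℕ∞)) hdep) hD))
  rw [← heq'] at h
  have hsmall : ringKrullDim (C ⧸ p'.asIdeal) ≤ (d : WithBot ℕ∞) :=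
    dim_quot_le_cd I hcd (hIC.le.trans hqC) p'.asIdeal fun Q hQ h1 h2 => hmax ⟨Q, hQ⟩ h1 h2
  have h1 := h.trans_le (add_le_add le_rfl hsmall)
  rw [show ((d : WithBot ℕ∞)) = ((d : ℕ∞) : WithBot ℕ∞) from rfl, ← WithBot.coe_add, WithBot.coe_lt_coe,
    Nat.cast_add, add_comm (d : ℕ∞)] at h1
  exact lt_of_add_lt_add_right h1

end Groth.Agent.DR39.Boot
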