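import Groth.Agent.DR39.BootColim
import Groth.Agent.DR39.BootChain
import Groth.Agent.LC16.SuppT3
import Groth.Agent.LC16.SuppStable

/-!
The system of local cohomology modules with supports in `T` of the powers `Iⁿ M` is pro-zero.
-/

set_option autoImplicit false
set_option linter.style.haveILetI false
set_option linter.unusedSectionVars false
set_option maxHeartbeats 800000

noncomputable section

universe u

open CategoryTheory TensorProduct IsLocalRing Groth.Agent.LC15 Groth.Agent.LC17
open Groth.Agent.LC16.DualAnn (mu omegaAt locM)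
open Groth.Agent.DR39 (DF extA)

attribute [local instance] HasDerivedCategory.standard

namespace Groth.Agent.DR39.Boot

variable {A : Type u} [CommRing A] {ω : Dual.D A} (hω : Dual.IsDualizing A ω) (q : PrimeSpectrum A)

/-- Extension of scalars to the local ring is localisation. -/
def extLocIso (N : Type u) [AddCommGroup N] [Module A N] :
    (extA A (Localization.AtPrime q.asIdeal)).obj (ModuleCat.of A N) ≅ locM q N :=
  (exists_extA_equiv (Localization.AtPrime q.asIdeal) (ModuleCat.of A N)).choose.symm.toModuleIso ≪≫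
    LC16.DualAnn.locIso q N

theorem extLocIso_oneL (N : Type u) [AddCommGroup N] [Module A N] (x : N) :
    (extLocIso q N).hom.hom ((oneL (algebraMap A (Localization.AtPrime q.asIdeal)) (ModuleCat.of A N)).hom x) =
      (LocalizedModule.mk x 1 : LocalizedModule q.asIdeal.primeCompl N) := by
  have h := (exists_extA_equiv (Localization.AtPrime q.asIdeal) (ModuleCat.of A N)).choose_spec x
  rw [← h]
  show (LocalizedModule.equivTensorProduct q.asIdeal.primeCompl N).symm
    ((exists_extA_equiv (Localization.AtPrime q.asIdeal) (ModuleCat.of A N)).choose.symm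
      ((exists_extA_equiv (Localization.AtPrime q.asIdeal) (ModuleCat.of A N)).choose (1 ⊗ₜ[A] x))) = _
  rw [LinearEquiv.symm_apply_apply]
  simp

theorem extLocIso_natural {N N' : Type u} [AddCommGroup N] [Module A N] [AddCommGroup N'] [Module A N']
    (ψ : N' →ₗ[A] N) :
    (extA A (Localization.AtPrime q.asIdeal)).map (ModuleCat.ofHom ψ) ≫ (extLocIso q N).hom =
      (extLocIso q N').hom ≫ ModuleCat.ofHom (LocalizedModule.map q.asIdeal.primeCompl ψ) := by
  refine ext_hom_ext _ _ fun x => ?_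
  refine Eq.trans ?_ (congrArg (ModuleCat.ofHom (LocalizedModule.map q.asIdeal.primeCompl ψ)).hom
    (extLocIso_oneL q N' x)).symm
  refine (congrArg (extLocIso q N).hom.hom (extA_map_oneL _ (ModuleCat.ofHom ψ) x)).trans ?_
  exact (extLocIso_oneL q N (ψ x)).trans (LocalizedModule.map_mk (S := q.asIdeal.primeCompl) ψ x 1).symm

include hω in
/-- Classes killed near `q` die after localisation. -/
theorem pre_loc_eq_zero {N N' : Type u} [AddCommGroup N] [Module A N] [Module.Finite A N]
    [AddCommGroup N'] [Module A N'] (ψ : N' →ₗ[A] N) (j : ℤ)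
    (h : ∀ g : GM ω (ModuleCat.of A N) j, ∃ u ∉ q.asIdeal, u • pre ω (ModuleCat.ofHom ψ) j g = 0)
    (g' : GM (omegaAt hω q) (locM q N) (j - mu hω q)) :
    pre (omegaAt hω q) (ModuleCat.ofHom (LocalizedModule.map q.asIdeal.primeCompl ψ)) (j - mu hω q) g' = 0 := by
  haveI := hω.isNoetherianRing
  obtain ⟨a₀, b₀, hb, -⟩ := DR39.exists_bounds hω
  let B := Localization.AtPrime q.asIdeal
  have hg : DR39.Good B (Dual.inD A N) (ω⟦j⟧) :=
    DR39.good_shift B (DR39.pc_inD N) (c := a₀) (fun i hi => hb i (Or.inl hi)) j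
  let e₂ : ((DF (extA A B)).obj ω)⟦j⟧ ≅ (omegaAt hω q)⟦j - mu hω q⟧ :=
    (shiftFunctorAdd' (Dual.D B) (mu hω q) (j - mu hω q) j (by omega)).app _
  let c := ((DF (extA A B)).commShiftIso j).app ω
  let E : ∀ (P : Type u) [AddCommGroup P] [Module A P], (DF (extA A B)).obj (Dual.inD A P) ≅
      (DerivedCategory.singleFunctor (ModuleCat.{u} B) 0).obj (locM q P) := fun P _ _ =>
    DFinD (extA A B) (ModuleCat.of A P) ≪≫
      (DerivedCategory.singleFunctor (ModuleCat.{u} B) 0).mapIso (extLocIso q P)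
  have hE : (DF (extA A B)).map ((DerivedCategory.singleFunctor (ModuleCat.{u} A) 0).map (ModuleCat.ofHom ψ)) ≫
      (E N).hom = (E N').hom ≫ (DerivedCategory.singleFunctor (ModuleCat.{u} B) 0).map
        (ModuleCat.ofHom (LocalizedModule.map q.asIdeal.primeCompl ψ)) := by
    show _ ≫ ((extA A B).mapDerivedCategorySingleFunctor 0).hom.app (ModuleCat.of A N) ≫ _ = _
    rw [← Category.assoc]
    erw [((extA A B).mapDerivedCategorySingleFunctor 0).hom.naturality (ModuleCat.ofHom ψ)]
    rw [Category.assoc, Functor.comp_map, Functor.mapIso_hom, ← Functor.map_comp, extLocIso_natural,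
      Functor.map_comp]
    exact (Category.assoc _ _ _).symm
  obtain ⟨w, hw⟩ := hg.2 ((E N).hom ≫ g' ≫ e₂.inv ≫ c.inv)
  have hz : ((Linear.rightComp A _ (𝟙 (ω⟦j⟧))) ∘ₗ (Linear.leftComp A (ω⟦j⟧)
      ((DerivedCategory.singleFunctor (ModuleCat.{u} A) 0).map (ModuleCat.ofHom ψ)))).lTensor B w = 0 := by
    clear hw
    induction w using TensorProduct.induction_on with
    | zero => rw [map_zero]
    | tmul b f =>
      obtain ⟨u, hu, huf⟩ := h f
      rw [LinearMap.lTensor_tmul]
      refine (IsLocalization.map_units B (⟨u, hu⟩ : q.asIdeal.primeCompl)).smul_left_cancel.1 ?_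
      rw [smul_zero, algebraMap_smul, ← TensorProduct.tmul_smul]
      show b ⊗ₜ[A] (u • (pre ω (ModuleCat.ofHom ψ) j f ≫ 𝟙 (ω⟦j⟧))) = 0
      rw [Category.comp_id, huf, TensorProduct.tmul_zero]
    | add x y hx hy => rw [map_add, hx, hy, add_zero]
  have key := thetaBar_natural B ((DerivedCategory.singleFunctor (ModuleCat.{u} A) 0).map (ModuleCat.ofHom ψ))
    (𝟙 (ω⟦j⟧)) w
  rw [hz, map_zero, hw, CategoryTheory.Functor.map_id, Category.comp_id, ← Category.assoc, hE,
    Category.assoc, ← Category.assoc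
      ((DerivedCategory.singleFunctor (ModuleCat.{u} B) 0).map
        (ModuleCat.ofHom (LocalizedModule.map q.asIdeal.primeCompl ψ)))] at key
  exact (cancel_mono (e₂.inv ≫ c.inv)).1
    (((cancel_epi (E N').hom).1 (key.symm.trans Limits.comp_zero.symm)).trans Limits.zero_comp.symm)

variable [IsNoetherianRing A] {I : Ideal A} {d : ℕ} {M : Type u} [AddCommGroup M] [Module A M]
  [Module.Finite A M] {T : Set (PrimeSpectrum A)} {s : ℕ}

include hω in
/-- One step works uniformly on `T`. -/
theorem exists_uniform_step (hC : Cond I d M T s) (n : ℕ) : ∃ (m : ℕ) (h : n ≤ m), ∀ q ∈ T, ∀ t : ℕ,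
    t ≤ s + 1 → ∀ g : GM ω (ModuleCat.of A (pw I M n)) (mu hω q - t),
      ∃ u ∉ q.asIdeal, u • pre ω (ModuleCat.ofHom (pwIncl I M h)) (mu hω q - t) g = 0 := by
  classical
  obtain ⟨lo, hi, hbd⟩ := LC16.DualAnn.mu_bound hω
  have stab : ∀ j : ℤ, ∃ N, ∀ k, LinearMap.ker (pre ω (ModuleCat.ofHom (pwIncl I M (Nat.le_add_right n k))) j) ≤
      LinearMap.ker (pre ω (ModuleCat.ofHom (pwIncl I M (Nat.le_add_right n N))) j) := fun j => by
    haveI : Module.Finite A (GM ω (ModuleCat.of A (pw I M n)) j) := LC17.finite_GM hω j _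
    haveI : IsNoetherian A (GM ω (ModuleCat.of A (pw I M n)) j) := isNoetherian_of_isNoetherianRing_of_finite A _
    let K : ℕ →o Submodule A (GM ω (ModuleCat.of A (pw I M n)) j) :=
      { toFun := fun k => LinearMap.ker (pre ω (ModuleCat.ofHom (pwIncl I M (Nat.le_add_right n k))) j)
        monotone' := fun k l hkl g hg => by
          rw [LinearMap.mem_ker] at hg ⊢
          rw [show ModuleCat.ofHom (pwIncl I M (Nat.le_add_right n l)) =
            ModuleCat.ofHom (pwIncl I M (Nat.add_le_add_left hkl n)) ≫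
              ModuleCat.ofHom (pwIncl I M (Nat.le_add_right n k)) from rfl, ← pre_pre, hg, map_zero] }
    obtain ⟨N, hN⟩ := monotone_stabilizes_iff_noetherian.2 inferInstance K
    exact ⟨N, fun k => (le_total k N).elim (fun h => K.monotone h) (fun h => (hN k h).ge)⟩
  choose N hN using stab
  let J := Finset.Icc (lo - ((s : ℤ) + 1)) hi
  refine ⟨n + J.sup N, Nat.le_add_right _ _, fun q hq t ht g => ?_⟩
  obtain ⟨m, hm, u, hu, hug⟩ := exists_kill hω hC hq (j := mu hω q - t) (by omega) n g
  obtain ⟨k, rfl⟩ : ∃ k, m = n + k := ⟨m - n, by omega⟩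
  refine ⟨u, hu, ?_⟩
  have hmem : mu hω q - t ∈ J := Finset.mem_Icc.2 ⟨by have := hbd q; omega, by have := hbd q; omega⟩
  have h1 : u • g ∈ LinearMap.ker (pre ω (ModuleCat.ofHom (pwIncl I M (Nat.le_add_right n (N (mu hω q - t)))))
      (mu hω q - t)) := hN _ k (by rw [LinearMap.mem_ker, map_smul]; exact hug)
  rw [LinearMap.mem_ker, map_smul] at h1
  rw [show ModuleCat.ofHom (pwIncl I M (Nat.le_add_right n (J.sup N))) =
    ModuleCat.ofHom (pwIncl I M (Nat.add_le_add_left (Finset.le_sup hmem) n)) ≫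
      ModuleCat.ofHom (pwIncl I M (Nat.le_add_right n (N (mu hω q - t)))) from rfl, ← pre_pre,
    ← map_smul, h1, map_zero]

include hω in
/-- The system is pro-zero up to degree `s + 1`. -/
theorem proZero (hC : Cond I d M T s) (i : ℕ) (hi : i ≤ s + 1) (n : ℕ) :
    ∃ (m : ℕ) (h : n ≤ m), HT.Tmap T i (pwIncl I M h) = 0 := by
  classical
  choose step hstep hkill using exists_uniform_step hω hC
  let m' : ℕ → ℕ := fun a => step^[2 ^ i] a
  have hid : ∀ a, a ≤ m' a := fun a => Function.id_le_iterate_of_id_le (f := step) hstep _ a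
  obtain ⟨N, hN⟩ := DR39.exists_dim_le hω
  let φ : ∀ k m : ℕ, m ≤ k → (pw I M k →ₗ[A] pw I M m) := fun k m h => pwIncl I M h
  have hφ : ∀ (k l m : ℕ) (h₁ : m ≤ l) (h₂ : l ≤ k), φ k m (h₁.trans h₂) = φ l m h₁ ∘ₗ φ k l h₂ :=
    fun _ _ _ _ _ => rfl
  have hle : n ≤ m'^[N + 1] n := Function.id_le_iterate_of_id_le (f := m') hid _ n
  refine ⟨m'^[N + 1] n, hle, LinearMap.ext fun x => ?_⟩
  have key := LC16.SuppT.map_eq_zero (fun k => ↥(pw I M k)) φ hφ i m' hid (N + 1) T (fun l => by
      have h1 : (l.map Subtype.val (fun _ _ h => h)).length ≤ N := by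
        have := (Order.LTSeries.length_le_krullDim (l.map Subtype.val (fun _ _ h => h))).trans hN
        exact_mod_cast this
      have h1' : l.length ≤ N := h1
      omega) (fun q hq m k hmk hk => ?_) n (m'^[N + 1] n) hle le_rfl x
  · rw [LC16.SuppStable.HTmap_eq] at key
    exact key
  let B := Localization.AtPrime q.asIdeal
  let S := q.asIdeal.primeCompl
  haveI : IsNoetherianRing B := IsLocalization.isNoetherianRing S _ inferInstance
  haveI : ∀ k, Module.Finite B (LocalizedModule S (pw I M k)) := fun k =>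
    Module.Finite.of_isLocalizedModule S (LocalizedModule.mkLinearMap S (pw I M k))
  let Φ : ∀ k l : ℕ, l ≤ k → (LocalizedModule S (pw I M k) →ₗ[B] LocalizedModule S (pw I M l)) :=
    fun k l h => LocalizedModule.map S (pwIncl I M h)
  have hΦ : ∀ (a b c : ℕ) (h₁ : c ≤ b) (h₂ : b ≤ a), Φ a c (h₁.trans h₂) = Φ b c h₁ ∘ₗ Φ a b h₂ :=
    fun a b c h₁ h₂ => LinearMap.ext fun z => by
      induction z using LocalizedModule.induction_on with | h y t => ?_
      refine (LocalizedModule.map_mk (S := S) _ y t).trans ?_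
      exact ((congrArg (LocalizedModule.map S (pwIncl I M h₁)) (LocalizedModule.map_mk (S := S) (pwIncl I M h₂) y t)).trans
        (LocalizedModule.map_mk (S := S) (pwIncl I M h₁) _ t)).symm
  let f : ℕ → ℕ := fun a => step^[a] m
  have hf : Monotone f := monotone_nat_of_le_succ fun a => by
    show step^[a] m ≤ step^[a + 1] m
    rw [Function.iterate_succ_apply']
    exact hstep _
  have hchain := Hmap_chain_eq_zero (LC16.DualAnn.isDualizing_omegaAt hω q) (LC16.DualAnn.isNormalized_omegaAt hω q)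
    i (fun k => LocalizedModule S (pw I M k)) Φ hΦ f hf (fun a _ t ht g => by
      have hgen : ∀ (b : ℕ) (hb : f a ≤ b), b = step (f a) →
          pre (omegaAt hω q) (ModuleCat.ofHom (Φ b (f a) hb)) (-(t : ℤ)) g = 0 := by
        rintro _ hb rfl
        have hdeg : -(t : ℤ) = (mu hω q - t) - mu hω q := by omega
        revert g
        rw [hdeg]
        intro g
        exact pre_loc_eq_zero hω q (pwIncl I M hb) (mu hω q - t)
          (hkill (f a) q hq t (by omega)) g
      exact hgen _ (hf a.le_succ) (Function.iterate_succ_apply' step a m))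
  apply ModuleCat.hom_ext
  refine LinearMap.ext fun y => ?_
  show LC15.Hmap (maximalIdeal B) i (Φ k m hmk) y = 0
  have hk' : f (2 ^ i) ≤ k := hk
  have e1 : LC15.Hmap (maximalIdeal B) i (Φ k m hmk) =
      LC15.Hmap (maximalIdeal B) i (Φ (f (2 ^ i)) (f 0) (hf (Nat.zero_le _))) ∘ₗ
        LC15.Hmap (maximalIdeal B) i (Φ k (f (2 ^ i)) hk') :=
    (congrArg (LC15.Hmap (maximalIdeal B) i) (hΦ k (f (2 ^ i)) m (hf (Nat.zero_le _)) hk')).trans
      (LC15.Hmap_comp _ _ _ _)
  exact (LinearMap.congr_fun e1 y).trans (LinearMap.congr_fun hchain _)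

end Groth.Agent.DR39.Boot
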