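import Groth.Agent.LC17.HLVT
import Groth.Agent.LC15.TopCoh
import Groth.Agent.LC15.NonVanish
import Groth.Agent.LC16.FlatBC
import Groth.Agent.LC16.ChangeRings
import Groth.Agent.LC16.DTCore
import Groth.Agent.CAlg1.Complete

/-!
Vanishing of top local cohomology of a prime quotient from the primes of the adic completion.
-/

set_option autoImplicit false
set_option linter.style.haveILetI false
set_option linter.unusedSectionVars false
set_option maxHeartbeats 800000

universe u

open IsLocalRing Groth.Agent.LC15 TensorProduct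

namespace Groth.Agent.DR39.Boot

/-- Hartshorne–Lichtenbaum over a quotient of an adically complete ring: vanishing as soon as each
component of top dimension meets the closed set outside the closed point. -/
theorem subsingleton_H_top_of_precomplete {D C : Type u} [CommRing D] [CommRing C] [IsNoetherianRing C]
    [IsLocalRing C] (J : Ideal D) [IsPrecomplete J D] (π : D →+* C) (hπ : Function.Surjective π)
    (hJ : J.map π ≤ maximalIdeal C) (d : ℕ) (hd : ringKrullDim C ≤ d)
    (h : ∀ p : PrimeSpectrum C, p.asIdeal ∈ minimalPrimes C → ringKrullDim (C ⧸ p.asIdeal) = d →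
      ∃ q : PrimeSpectrum C, p ≤ q ∧ J.map π ≤ q.asIdeal ∧ q.asIdeal ≠ maximalIdeal C) :
    Subsingleton (LocCoh.H (J.map π) d C) := by
  rcases eq_or_lt_of_le hd with heq | hlt
  swap
  · refine subsingleton_H_of_coheightLT d (fun q _ => ?_) d le_rfl
    exact_mod_cast (Order.coheight_le_krullDim q).trans_lt hlt
  let K := AdicCompletion (maximalIdeal C) C
  haveI : IsNoetherianRing K := EGA4H10.isNoetherianRing_cpl (A := C)
  refine LC17.hlvt C (J.map π) d heq (fun P hP hPd => ?_) C d le_rfl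
  haveI := hP.isPrime
  haveI : IsLocalRing K := AdicCompletion.isLocalRing_of_fg (maximalIdeal C).fg_of_isNoetherianRing
  let ρ : K →+* K ⧸ P := Ideal.Quotient.mk P
  haveI : IsLocalRing (K ⧸ P) := IsLocalRing.of_surjective' ρ Ideal.Quotient.mk_surjective
  set JK := (J.map π).map (algebraMap C K) with hJK
  by_contra hnot
  let g : C →+* K ⧸ P := ρ.comp (algebraMap C K)
  let f : D →+* K ⧸ P := g.comp π
  have hmap : J.map f = JK.map ρ := by
    rw [hJK, Ideal.map_map, Ideal.map_map]
  have hfm : J.map f ≤ maximalIdeal (K ⧸ P) := by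
    rw [hmap]
    refine IsLocalRing.le_maximalIdeal fun htop => ?_
    have h1 : (JK ⊔ P) = ⊤ := by
      have := congrArg (Ideal.comap ρ) htop
      rwa [Ideal.comap_map_of_surjective _ Ideal.Quotient.mk_surjective, ← RingHom.ker_eq_comap_bot,
        Ideal.mk_ker, Ideal.comap_top] at this
    have h2 : JK ⊔ P ≤ maximalIdeal K := sup_le ((Ideal.map_mono hJ).trans
      AdicCompletion.maximalIdeal_eq_map.symm.le) (IsLocalRing.le_maximalIdeal hP.isPrime.ne_top)
    rw [h1] at h2
    exact (IsLocalRing.maximalIdeal.isMaximal K).ne_top (top_le_iff.1 h2)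
  -- the common quotient has dimension zero
  have hzero : ringKrullDim (K ⧸ (JK ⊔ P)) ≤ 0 := by
    refine iSup_le fun l => ?_
    by_contra hl
    exact hnot (le_trans (by exact_mod_cast Nat.one_le_iff_ne_zero.2 fun h0 => hl (by rw [h0]; rfl))
      (le_iSup (fun l => ((l.length : ℕ∞) : WithBot ℕ∞)) l))
  have hprimes : ∀ Q : Ideal K, Q.IsPrime → JK ⊔ P ≤ Q → Q = maximalIdeal K := fun Q hQ hle => by
    haveI : Ring.KrullDimLE 0 (K ⧸ (JK ⊔ P)) := Ring.krullDimLE_iff.2 hzero
    haveI : (Q.map (Ideal.Quotient.mk (JK ⊔ P))).IsPrime := Ideal.map_isPrime_of_surjective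
      Ideal.Quotient.mk_surjective (by rwa [Ideal.mk_ker])
    haveI := Ideal.IsPrime.isMaximal' (I := Q.map (Ideal.Quotient.mk (JK ⊔ P)))
    have : (Ideal.comap (Ideal.Quotient.mk (JK ⊔ P)) (Q.map (Ideal.Quotient.mk (JK ⊔ P)))).IsMaximal :=
      Ideal.comap_isMaximal_of_surjective _ Ideal.Quotient.mk_surjective
    rw [Ideal.comap_map_of_surjective _ Ideal.Quotient.mk_surjective, ← RingHom.ker_eq_comap_bot,
      Ideal.mk_ker, sup_eq_left.2 hle] at this
    exact IsLocalRing.eq_maximalIdeal this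
  obtain ⟨k, hk⟩ : ∃ k, maximalIdeal K ^ k ≤ JK ⊔ P := Ideal.exists_pow_le_of_le_radical_of_fg (by
    rw [Ideal.radical_eq_sInf]
    exact le_sInf fun Q hQ => (hprimes Q hQ.2 hQ.1).ge) (IsNoetherian.noetherian _)
  have hdense : Function.Surjective ((Ideal.Quotient.mk (J.map f)).comp f) := by
    intro y
    obtain ⟨y, rfl⟩ := Ideal.Quotient.mk_surjective y
    obtain ⟨x, rfl⟩ := Ideal.Quotient.mk_surjective y
    obtain ⟨c, hc⟩ := Ideal.Quotient.mk_surjective (AdicCompletion.evalₐ (maximalIdeal C) k x)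
    obtain ⟨z, rfl⟩ := hπ c
    refine ⟨z, Ideal.Quotient.eq.2 ?_⟩
    have hker : algebraMap C K (π z) - x ∈ maximalIdeal K ^ k := by
      have h0 : AdicCompletion.evalₐ (maximalIdeal C) k (algebraMap C K (π z) - x) = 0 := by
        rw [map_sub, AlgHom.commutes, ← hc]
        exact sub_self _
      have h1 : algebraMap C K (π z) - x ∈ LinearMap.ker (AdicCompletion.eval (maximalIdeal C) C k) := by
        rw [LinearMap.mem_ker]
        have hinj : Function.Injective (Ideal.Quotient.factor
            (show maximalIdeal C ^ k • (⊤ : Ideal C) ≤ maximalIdeal C ^ k by simp)) := by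
          rw [RingHom.injective_iff_ker_eq_bot, Ideal.Quotient.factor_ker]
          exact Ideal.map_mk_eq_bot_of_le (by simp)
        exact hinj (by rw [map_zero]; simpa [← AdicCompletion.factor_eval_eq_evalₐ] using h0)
      rw [← AdicCompletion.pow_smul_top_eq_ker_eval (maximalIdeal C).fg_of_isNoetherianRing,
        Ideal.smul_top_eq_map, Submodule.restrictScalars_mem, Ideal.map_pow,
        ← AdicCompletion.maximalIdeal_eq_map] at h1
      exact h1
    rw [hmap, show f z - Ideal.Quotient.mk P x = ρ (algebraMap C K (π z) - x) by rw [map_sub]; rfl]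
    have h2 := Ideal.mem_map_of_mem ρ (hk hker)
    rwa [Ideal.map_sup, show P.map ρ = ⊥ from Ideal.map_quotient_self P, sup_bot_eq] at h2
  haveI : IsHausdorff (J.map f) (K ⧸ P) := ⟨fun x hx => by
    have hne : J.map f ≠ ⊤ := fun ht => (IsLocalRing.maximalIdeal.isMaximal (K ⧸ P)).ne_top
      (top_le_iff.1 (ht ▸ hfm))
    rw [← Submodule.mem_bot (K ⧸ P), ← Ideal.iInf_pow_eq_bot_of_isLocalRing (J.map f) hne, Submodule.mem_iInf]
    exact fun n => by simpa [SModEq.zero] using hx n⟩
  have hfs : Function.Surjective f := surjective_of_mk_map_comp_surjective f hdense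
  have hgs : Function.Surjective g := fun y => ⟨π (hfs y).choose, (hfs y).choose_spec⟩
  haveI : (RingHom.ker g).IsPrime := RingHom.ker_isPrime g
  have hdim : ringKrullDim (C ⧸ RingHom.ker g) = d :=
    (ringKrullDim_eq_of_ringEquiv (RingHom.quotientKerEquivOfSurjective hgs)).trans hPd
  let p0 : PrimeSpectrum C := ⟨RingHom.ker g, RingHom.ker_isPrime g⟩
  have hmin : p0.asIdeal ∈ minimalPrimes C :=
    ((coheight_lt_or_minimal heq.le p0).resolve_left fun hlt => by
      have := coheight_eq_dim_quotient (R := C) p0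
      rw [show ringKrullDim (C ⧸ p0.asIdeal) = d from hdim] at this
      exact hlt.ne (by exact_mod_cast this)).1
  obtain ⟨q, hq, hJq, hne⟩ := h p0 hmin hdim
  haveI hQ : (q.asIdeal.map g).IsPrime := Ideal.map_isPrime_of_surjective hgs hq
  haveI : (Ideal.comap ρ (q.asIdeal.map g)).IsPrime := Ideal.IsPrime.comap ρ
  have h1 : JK ⊔ P ≤ Ideal.comap ρ (q.asIdeal.map g) := by
    refine sup_le ?_ fun x hx => ?_
    · rw [← Ideal.map_le_iff_le_comap, hJK, Ideal.map_map]
      exact Ideal.map_mono hJq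
    · rw [Ideal.mem_comap, show ρ x = 0 from Ideal.Quotient.eq_zero_iff_mem.2 hx]
      exact zero_mem _
  have h2 := hprimes _ inferInstance h1
  have h3 : q.asIdeal = maximalIdeal C := by
    refine le_antisymm (IsLocalRing.le_maximalIdeal q.2.ne_top) fun c hc => ?_
    have h4 : algebraMap C K c ∈ Ideal.comap ρ (q.asIdeal.map g) := by
      rw [h2, AdicCompletion.maximalIdeal_eq_map]
      exact Ideal.mem_map_of_mem _ hc
    have h5 : c ∈ Ideal.comap g (q.asIdeal.map g) := h4
    rwa [Ideal.comap_map_of_surjective _ hgs, ← RingHom.ker_eq_comap_bot, sup_eq_left.2 hq] at h5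
  exact hne h3

variable {B : Type u} [CommRing B] [IsNoetherianRing B] [IsLocalRing B] (J : Ideal B)
  (hJ : J ≤ maximalIdeal B)

/-- the adic completion -/
abbrev Cp : Type u := AdicCompletion J B

include hJ

theorem isLocalRing_cp : IsLocalRing (Cp J) ∧
    ∀ Q : Ideal (Cp J), Q.IsMaximal → Q = (maximalIdeal B).map (algebraMap B (Cp J)) := by
  let mC := (maximalIdeal B).map (algebraMap B (Cp J))
  haveI hm : mC.IsMaximal := AdicCompletion.isMaximal_map_of_le J _ hJ J.fg_of_isNoetherianRing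
  haveI := AdicCompletion.isAdicComplete_self J J.fg_of_isNoetherianRing
  have huniq : ∀ Q : Ideal (Cp J), Q.IsMaximal → Q = mC := fun Q hQ => by
    have hJQ : J.map (algebraMap B (Cp J)) ≤ Q :=
      (IsAdicComplete.le_jacobson_bot (J.map (algebraMap B (Cp J)))).trans (sInf_le ⟨bot_le, hQ⟩)
    have hs : Function.Surjective ((Ideal.Quotient.mk Q).comp (algebraMap B (Cp J))) := fun y => by
      obtain ⟨x, rfl⟩ := Ideal.Quotient.mk_surjective y
      obtain ⟨b, hb⟩ := Ideal.Quotient.mk_surjective (AdicCompletion.evalOneₐ J x)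
      refine ⟨b, Ideal.Quotient.eq.2 (hJQ ?_)⟩
      refine (AdicCompletion.ker_evalOneₐ_eq_map (I := J) J.fg_of_isNoetherianRing).le ?_
      rw [RingHom.mem_ker, map_sub]
      exact sub_eq_zero.2 ((AlgHom.commutes _ b).trans hb)
    letI := Ideal.Quotient.field Q
    haveI := RingHom.ker_isMaximal_of_surjective _ hs
    have h1 : RingHom.ker ((Ideal.Quotient.mk Q).comp (algebraMap B (Cp J))) = maximalIdeal B :=
      IsLocalRing.eq_maximalIdeal inferInstance
    refine (hm.eq_of_le hQ.ne_top (Ideal.map_le_iff_le_comap.2 fun b hb => ?_)).symm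
    rw [← h1, RingHom.mem_ker, RingHom.comp_apply, Ideal.Quotient.eq_zero_iff_mem] at hb
    exact hb
  exact ⟨IsLocalRing.of_unique_max_ideal ⟨mC, hm, huniq⟩, huniq⟩

theorem ringKrullDim_cp_le (p : Ideal B) [p.IsPrime] (d : ℕ) (hd : ringKrullDim (B ⧸ p) ≤ d) :
    ringKrullDim (Cp J ⧸ p.map (algebraMap B (Cp J))) ≤ d := by
  let B' := Cp J
  obtain ⟨hloc, huniq⟩ := isLocalRing_cp J hJ
  haveI := hloc
  haveI : IsNoetherianRing B' := CAlg1.isNoetherianRing_adicCompletion J J.fg_of_isNoetherianRing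
  have hmax : maximalIdeal B' = (maximalIdeal B).map (algebraMap B B') :=
    huniq _ (IsLocalRing.maximalIdeal.isMaximal B')
  let pC := p.map (algebraMap B B')
  have hpC : pC ≠ ⊤ := fun ht => (IsLocalRing.maximalIdeal.isMaximal B').ne_top (top_le_iff.1 (by
    rw [hmax, ← ht]
    exact Ideal.map_mono (IsLocalRing.le_maximalIdeal (Ideal.IsPrime.ne_top inferInstance))))
  let C := B' ⧸ pC
  let π : B' →+* C := Ideal.Quotient.mk pC
  have hπ : Function.Surjective π := Ideal.Quotient.mk_surjective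
  haveI : Nontrivial C := Ideal.Quotient.nontrivial_iff.2 hpC
  haveI : IsLocalRing C := IsLocalRing.of_surjective' π hπ
  haveI : IsLocalRing (B ⧸ p) := IsLocalRing.of_surjective' _ Ideal.Quotient.mk_surjective
  have hmC : maximalIdeal C = (maximalIdeal B').map π :=
    (IsLocalRing.map_maximalIdeal_of_surjective π hπ).symm
  let θ : B ⧸ p →+* C := Ideal.quotientMap pC (algebraMap B B') Ideal.le_comap_map
  letI : Algebra (B ⧸ p) C := θ.toAlgebra
  have hmax' : (maximalIdeal (B ⧸ p)).map θ = maximalIdeal C := by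
    rw [← IsLocalRing.map_maximalIdeal_of_surjective (Ideal.Quotient.mk p) Ideal.Quotient.mk_surjective,
      Ideal.map_map, hmC, hmax, Ideal.map_map]
    rfl
  haveI : (maximalIdeal C).LiesOver (maximalIdeal (B ⧸ p)) :=
    ⟨((IsLocalRing.maximalIdeal.isMaximal (B ⧸ p)).eq_of_le (Ideal.IsPrime.under _ _).ne_top
      (Ideal.map_le_iff_le_comap.1 hmax'.le))⟩
  rw [← IsLocalRing.maximalIdeal_height_eq_ringKrullDim] at hd ⊢
  refine le_trans (WithBot.coe_le_coe.2 (Ideal.height_le_height_add_of_liesOver (maximalIdeal (B ⧸ p))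
    (maximalIdeal C))) ?_
  haveI : Nontrivial (C ⧸ (maximalIdeal (B ⧸ p)).map (algebraMap (B ⧸ p) C)) :=
    Ideal.Quotient.nontrivial_iff.2 (hmax'.trans_ne (IsLocalRing.maximalIdeal.isMaximal C).ne_top)
  haveI : ((maximalIdeal (B ⧸ p)).map (algebraMap (B ⧸ p) C)).IsMaximal :=
    hmax'.symm ▸ IsLocalRing.maximalIdeal.isMaximal C
  letI := Ideal.Quotient.field ((maximalIdeal (B ⧸ p)).map (algebraMap (B ⧸ p) C))
  rw [show (maximalIdeal C).map (Ideal.Quotient.mk ((maximalIdeal (B ⧸ p)).map (algebraMap (B ⧸ p) C))) = ⊥ from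
    Ideal.map_mk_eq_bot_of_le hmax'.ge, Ideal.height_bot, add_zero]
  exact hd

theorem ringKrullDim_quot_cp_le (p : Ideal B) [p.IsPrime] (d : ℕ) (hd : ringKrullDim (B ⧸ p) ≤ d)
    (P : Ideal (Cp J)) (hP : p.map (algebraMap B (Cp J)) ≤ P) : ringKrullDim (Cp J ⧸ P) ≤ d :=
  (ringKrullDim_le_of_surjective (Ideal.Quotient.factor hP) (Ideal.Quotient.factor_surjective hP)).trans
    (ringKrullDim_cp_le J hJ p d hd)

theorem subsingleton_H_quotient_prime (p : Ideal B) [p.IsPrime] (d : ℕ) (hd : ringKrullDim (B ⧸ p) ≤ d)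
    (h : ∀ p' : PrimeSpectrum (Cp J), p'.asIdeal ∈ (p.map (algebraMap B (Cp J))).minimalPrimes →
      ringKrullDim (Cp J ⧸ p'.asIdeal) = d →
      ∃ q' : PrimeSpectrum (Cp J), p' ≤ q' ∧ J.map (algebraMap B (Cp J)) ≤ q'.asIdeal ∧
        ¬ q'.asIdeal.IsMaximal) :
    Subsingleton (LocCoh.H J d (B ⧸ p)) := by
  let B' := Cp J
  obtain ⟨hloc, huniq⟩ := isLocalRing_cp J hJ
  haveI := hloc
  haveI : IsNoetherianRing B' := CAlg1.isNoetherianRing_adicCompletion J J.fg_of_isNoetherianRing
  haveI : Module.Flat B B' := AdicCompletion.flat_of_isNoetherian J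
  have hmax : maximalIdeal B' = (maximalIdeal B).map (algebraMap B B') :=
    huniq _ (IsLocalRing.maximalIdeal.isMaximal B')
  haveI : IsLocalHom (algebraMap B B') :=
    ((IsLocalRing.local_hom_TFAE (algebraMap B B')).out 2 0 rfl rfl).mp hmax.ge
  haveI : Module.FaithfullyFlat B B' := Module.FaithfullyFlat.of_flat_of_isLocalHom
  let pC := p.map (algebraMap B B')
  have hpC : pC ≠ ⊤ := fun ht => (IsLocalRing.maximalIdeal.isMaximal B').ne_top (top_le_iff.1 (by
    rw [hmax, ← ht]
    exact Ideal.map_mono (IsLocalRing.le_maximalIdeal (Ideal.IsPrime.ne_top inferInstance))))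
  let C := B' ⧸ pC
  let π : B' →+* C := Ideal.Quotient.mk pC
  have hπ : Function.Surjective π := Ideal.Quotient.mk_surjective
  haveI : Nontrivial C := Ideal.Quotient.nontrivial_iff.2 hpC
  haveI : IsLocalRing C := IsLocalRing.of_surjective' π hπ
  haveI : IsLocalRing (B ⧸ p) := IsLocalRing.of_surjective' _ Ideal.Quotient.mk_surjective
  have hmC : maximalIdeal C = (maximalIdeal B').map π :=
    (IsLocalRing.map_maximalIdeal_of_surjective π hπ).symm
  have hdC : ringKrullDim C ≤ d := ringKrullDim_cp_le J hJ p d hd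
  haveI := AdicCompletion.isAdicComplete_self J J.fg_of_isNoetherianRing
  have h0 : Subsingleton (LocCoh.H ((J.map (algebraMap B B')).map π) d C) := by
    refine subsingleton_H_top_of_precomplete _ π hπ ?_ d hdC fun P hP hPd => ?_
    · rw [hmC, hmax]
      exact Ideal.map_mono (Ideal.map_mono hJ)
    let p' : PrimeSpectrum B' := PrimeSpectrum.comap π P
    have hker : RingHom.ker π ≤ p'.asIdeal := fun x hx => by
      show π x ∈ P.asIdeal
      rw [show π x = 0 from hx]
      exact zero_mem _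
    have hmin : p'.asIdeal ∈ pC.minimalPrimes := by
      rw [Ideal.minimalPrimes_eq_comap]
      exact ⟨P.asIdeal, hP, rfl⟩
    have hdim : ringKrullDim (B' ⧸ p'.asIdeal) = d := by
      rw [← hPd]
      refine ringKrullDim_eq_of_ringEquiv (RingEquiv.trans (Ideal.quotEquivOfEq ?_)
        (RingHom.quotientKerEquivOfSurjective (f := (Ideal.Quotient.mk P.asIdeal).comp π)
          (Ideal.Quotient.mk_surjective.comp hπ)))
      ext x
      simp [p', Ideal.Quotient.eq_zero_iff_mem]
    obtain ⟨q', hq, hJq, hne⟩ := h p' hmin hdim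
    have hkq : RingHom.ker π ≤ q'.asIdeal := hker.trans hq
    haveI : (q'.asIdeal.map π).IsPrime := Ideal.map_isPrime_of_surjective hπ hkq
    have hcomap : (q'.asIdeal.map π).comap π = q'.asIdeal := by
      rw [Ideal.comap_map_of_surjective _ hπ, ← RingHom.ker_eq_comap_bot, sup_eq_left.2 hkq]
    refine ⟨⟨q'.asIdeal.map π, inferInstance⟩, ?_, Ideal.map_mono hJq, fun he => hne ?_⟩
    · exact fun x hx => by
        obtain ⟨y, rfl⟩ := hπ x
        exact Ideal.mem_map_of_mem π (hq hx)
    · rw [← hcomap]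
      haveI : (q'.asIdeal.map π).IsMaximal := by
        rw [show q'.asIdeal.map π = _ from he]
        exact IsLocalRing.maximalIdeal.isMaximal C
      exact Ideal.comap_isMaximal_of_surjective π hπ
  have h1 : Subsingleton (LocCoh.H (J.map (algebraMap B B')) d C) := by
    obtain ⟨φ, -⟩ := LC16.ChangeRings.exists_equiv (R := B') (R' := C) (J.map (algebraMap B B')) d C
    exact φ.symm.toEquiv.subsingleton
  obtain ⟨e⟩ := LC16.FlatBC.exists_equiv B' J d (B ⧸ p)
  haveI : Subsingleton (B' ⊗[B] LocCoh.H J d (B ⧸ p)) := by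
    haveI := ((Hequiv (J.map (algebraMap B B')) d
      (Algebra.TensorProduct.quotIdealMapEquivTensorQuot B' p).symm.toLinearEquiv).toEquiv.subsingleton_congr).2 h1
    exact e.toEquiv.subsingleton
  exact Module.FaithfullyFlat.lTensor_reflects_triviality B B' (LocCoh.H J d (B ⧸ p))

/-- Vanishing for a finite module. -/
theorem subsingleton_H_top_finite (F : Type u) [AddCommGroup F] [Module B F] [Module.Finite B F] (a : ℕ)
    (h : ∀ p : PrimeSpectrum B, p ∈ Module.support B F → ¬ J ≤ p.asIdeal →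
      ringKrullDim (B ⧸ p.asIdeal) ≤ (a + 1 : ℕ) ∧
      (ringKrullDim (B ⧸ p.asIdeal) = (a + 1 : ℕ) →
        ∀ p' : PrimeSpectrum (Cp J), p'.asIdeal ∈ (p.asIdeal.map (algebraMap B (Cp J))).minimalPrimes →
        ∃ q' : PrimeSpectrum (Cp J), p' ≤ q' ∧ J.map (algebraMap B (Cp J)) ≤ q'.asIdeal ∧
          ¬ q'.asIdeal.IsMaximal)) :
    Subsingleton (LocCoh.H J (a + 1) F) := by
  revert h
  induction ‹Module.Finite B F› using IsNoetherianRing.induction_on_isQuotientEquivQuotientPrime B with
  | subsingleton N => exact fun _ => subsingleton_H_of_subsingleton J (a + 1)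
  | quotient N p e =>
    intro h
    refine (Hequiv J (a + 1) e).toEquiv.subsingleton_congr.2 ?_
    have hp : p ∈ Module.support B N := by
      rw [e.support_eq, mem_support_quot_ideal]
    by_cases hJp : J ≤ p.asIdeal
    · have htop : gamma J (B ⧸ p.asIdeal) = ⊤ := by
        rw [gamma_eq_top_iff]
        refine fun x => ⟨1, fun c hc => ?_⟩
        obtain ⟨y, rfl⟩ := Ideal.Quotient.mk_surjective x
        rw [pow_one] at hc
        exact Ideal.Quotient.eq_zero_iff_mem.2 (Ideal.mul_mem_right _ _ (hJp hc))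
      haveI : Subsingleton ((B ⧸ p.asIdeal) ⧸ gamma J (B ⧸ p.asIdeal)) := by
        rw [Submodule.Quotient.subsingleton_iff]
        exact htop
      haveI := subsingleton_H_of_subsingleton J (a + 1) (M := (B ⧸ p.asIdeal) ⧸ gamma J (B ⧸ p.asIdeal))
      exact (Hmap_mkQ_gamma_bijective J (M := B ⧸ p.asIdeal) (Nat.succ_pos a)).1.subsingleton
    obtain ⟨h1, h2⟩ := h p hp hJp
    refine subsingleton_H_quotient_prime J hJ p.asIdeal (a + 1) h1 fun p' hp' hdim => ?_
    by_cases heq : ringKrullDim (B ⧸ p.asIdeal) = (a + 1 : ℕ)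
    · exact h2 heq p' hp'
    exfalso
    haveI : p.asIdeal.IsPrime := p.2
    haveI := (isLocalRing_cp J hJ).1
    haveI : IsLocalRing (B ⧸ p.asIdeal) := IsLocalRing.of_surjective' _ Ideal.Quotient.mk_surjective
    obtain ⟨e, he⟩ : ∃ e : ℕ, ringKrullDim (B ⧸ p.asIdeal) ≤ (e : WithBot ℕ∞) ∧ e < a + 1 := by
      have hlt := lt_of_le_of_ne h1 heq
      cases hD : ringKrullDim (B ⧸ p.asIdeal) with
      | bot => exact ⟨0, bot_le, Nat.succ_pos a⟩
      | coe D =>
        rw [hD] at hlt
        cases D with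
        | top => exact absurd hlt (by simp)
        | coe D => exact ⟨D, le_rfl, by exact_mod_cast hlt⟩
    have := ringKrullDim_quot_cp_le J hJ p.asIdeal e he.1 p'.asIdeal hp'.1.2
    rw [hdim] at this
    exact absurd (show a + 1 ≤ e by exact_mod_cast this) (by omega)
  | exact N₁ N₂ N₃ f g hf hg hfg ih₁ ih₃ =>
    intro h
    rw [Module.support_of_exact hfg hf hg] at h
    exact subsingleton_H_middle J (a + 1) hf hfg hg (ih₁ fun p hp => h p (Or.inl hp))
      (ih₃ fun p hp => h p (Or.inr hp))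

end Groth.Agent.DR39.Boot
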