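import Groth.Agent.DR39.Dualizing3
import Groth.Agent.EGA4Alg4.CMMod

/-! Supports of `Ext(M, ω)` and the dimension function of a dualizing complex. -/

set_option autoImplicit false
set_option linter.style.haveILetI false
set_option linter.unusedSectionVars false

universe u

open CategoryTheory CategoryTheory.Limits CategoryTheory.Pretriangulated TensorProduct

attribute [local instance] HasDerivedCategory.standard

namespace Groth.Agent.DR39

variable {A : Type u} [CommRing A] {ω : Dual.D A}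

/-- `Hom((A/p)[0], ω[i])` is nonzero at `p`. -/
def Mu (ω : Dual.D A) (p : Ideal A) (i : ℤ) : Prop := LC17.gAnn ω (ModuleCat.of A (A ⧸ p)) i ≤ p

theorem subsingleton_gm_iff {M : Type u} [AddCommGroup M] [Module A M] {i : ℤ} :
    Subsingleton (Dual.inD A M ⟶ ω⟦i⟧) ↔ LC17.gAnn ω (ModuleCat.of A M) i = ⊤ :=
  ⟨fun h => (LC17.gAnn_eq_top_iff ω).2 fun f => @Subsingleton.elim _ h f 0,
    fun h => subsingleton_of_forall_eq 0 fun f => (LC17.gAnn_eq_top_iff ω).1 h f⟩

theorem le_gAnn_quotient (I : Ideal A) (i : ℤ) : I ≤ LC17.gAnn ω (ModuleCat.of A (A ⧸ I)) i := by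
  intro x hx
  rw [LC17.mem_gAnn]
  intro f
  have h0 : x • 𝟙 (ModuleCat.of A (A ⧸ I)) = 0 := by
    ext y
    simp [Algebra.smul_def, Ideal.Quotient.eq_zero_iff_mem.2 hx]
  rw [← LC17.pre_smul_id ω x i f, h0]
  show (DerivedCategory.singleFunctor _ 0).map 0 ≫ f = 0
  rw [Functor.map_zero, zero_comp]

variable (hω : Dual.IsDualizing A ω)
include hω

theorem mem_support_gm (M : Type u) [AddCommGroup M] [Module A M] [Module.Finite A M] (i : ℤ)
    (q : PrimeSpectrum A) :
    q ∈ Module.support A (Dual.inD A M ⟶ ω⟦i⟧) ↔ LC17.gAnn ω (ModuleCat.of A M) i ≤ q.asIdeal :=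
  haveI := hω.isNoetherianRing
  haveI : Module.Finite A (Dual.inD A M ⟶ ω⟦i⟧) := LC17.finite_GM hω i M
  Module.mem_support_iff_of_finite

theorem nontrivial_localized_iff (M : Type u) [AddCommGroup M] [Module A M] [Module.Finite A M]
    (i : ℤ) (q : PrimeSpectrum A) :
    Nontrivial (LocalizedModule q.asIdeal.primeCompl (Dual.inD A M ⟶ ω⟦i⟧)) ↔
      LC17.gAnn ω (ModuleCat.of A M) i ≤ q.asIdeal :=
  Module.mem_support_iff.symm.trans (mem_support_gm hω M i q)

/-- dévissage at a prime `q` -/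
theorem exists_prime_of_gAnn_le (q : Ideal A) [q.IsPrime] (i : ℤ)
    (M : Type u) [AddCommGroup M] [Module A M] [Module.Finite A M]
    (h : LC17.gAnn ω (ModuleCat.of A M) i ≤ q) :
    ∃ p ∈ Module.support A M, LC17.gAnn ω (ModuleCat.of A (A ⧸ p.asIdeal)) i ≤ q ∧ p.asIdeal ≤ q := by
  haveI := hω.isNoetherianRing
  suffices ∃ p ∈ Module.support A M, LC17.gAnn ω (ModuleCat.of A (A ⧸ p.asIdeal)) i ≤ q by
    obtain ⟨p, hp, hle⟩ := this
    exact ⟨p, hp, hle, (le_gAnn_quotient p.asIdeal i).trans hle⟩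
  revert h
  induction ‹Module.Finite A M› using IsNoetherianRing.induction_on_isQuotientEquivQuotientPrime A with
  | subsingleton N =>
    intro h
    have : LC17.gAnn ω (ModuleCat.of A N) i = ⊤ := by
      rw [LC17.gAnn_eq_top_iff]
      intro f
      exact ((DerivedCategory.singleFunctor _ 0).map_isZero (ModuleCat.isZero_of_subsingleton
        (ModuleCat.of A N))).eq_of_src f 0
    exact absurd (top_le_iff.1 (this ▸ h)) (Ideal.IsPrime.ne_top ‹_›)
  | quotient N p e =>
    intro h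
    rw [LC17.gAnn_congr ω e.toModuleIso] at h
    refine ⟨p, ?_, h⟩
    rw [e.support_eq, Module.mem_support_iff_of_finite, Ideal.annihilator_quotient]
  | exact N₁ N₂ N₃ f g hf hg hfg ih₁ ih₃ =>
    intro h
    have hmul := (LC17.gAnn_mid ω (LC17.shortExact_of_exact f g hf hg hfg) i).trans h
    rw [Module.support_of_exact hfg hf hg]
    rcases ((‹q.IsPrime›).mul_le).1 hmul with h3 | h1
    · obtain ⟨p, hp, hle⟩ := ih₃ h3
      exact ⟨p, Or.inr hp, hle⟩
    · obtain ⟨p, hp, hle⟩ := ih₁ h1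
      exact ⟨p, Or.inl hp, hle⟩

theorem mem_support_gm_subset (M : Type u) [AddCommGroup M] [Module A M] [Module.Finite A M] (i : ℤ)
    {q : PrimeSpectrum A} (h : LC17.gAnn ω (ModuleCat.of A M) i ≤ q.asIdeal) :
    q ∈ Module.support A M := by
  obtain ⟨p, hp, -, hpq⟩ := exists_prime_of_gAnn_le hω q.asIdeal i M h
  exact Module.mem_support_mono hpq hp

theorem Mu.step {p q : Ideal A} [p.IsPrime] [q.IsPrime] {i : ℤ} (h : Mu ω p i) {x : A} (hxq : x ∈ q)
    (hxp : x ∉ p) (hpq : p ≤ q) (hmin : q ∈ (p ⊔ Ideal.span {x}).minimalPrimes) :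
    Mu ω q (i + 1) := by
  haveI := hω.isNoetherianRing
  let f : (A ⧸ p) →ₗ[A] A ⧸ p := x • LinearMap.id
  have hfinj : Function.Injective f := by
    rw [injective_iff_map_eq_zero]
    intro y hy
    obtain ⟨y, rfl⟩ := Ideal.Quotient.mk_surjective y
    rw [LinearMap.smul_apply, LinearMap.id_apply, ← Ideal.Quotient.mkₐ_eq_mk A, ← map_smul,
      Ideal.Quotient.mkₐ_eq_mk, Ideal.Quotient.eq_zero_iff_mem] at hy
    exact Ideal.Quotient.eq_zero_iff_mem.2 ((‹p.IsPrime›.mem_or_mem hy).resolve_left hxp)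
  let hS := LC17.shortExact_of_exact f (LinearMap.range f).mkQ hfinj (Submodule.mkQ_surjective _)
    (LinearMap.exact_map_mkQ_range f)
  let E := LC17.GM ω (ModuleCat.of A (A ⧸ p)) i
  haveI : Module.Finite A E := LC17.finite_GM hω i (A ⧸ p)
  have hC : LC17.gAnn ω (ModuleCat.of A ((A ⧸ p) ⧸ LinearMap.range f)) (i + 1) ≤ q := by
    intro s hs
    by_contra hsq
    have hkill : ∀ g : E, ∃ g', x • g' = s • g := by
      intro g
      obtain ⟨g', hg'⟩ := LC17.exact₁ ω hS i (i + 1) rfl (s • g) (by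
        rw [map_smul]; exact (LC17.mem_gAnn ω).1 hs _)
      refine ⟨g', ?_⟩
      rw [← hg']
      exact (LC17.pre_smul_id ω x i g').symm
    have hq1 : (⟨q, inferInstance⟩ : PrimeSpectrum A) ∈
        Module.support A (E ⧸ (Ideal.span {x} • (⊤ : Submodule A E))) := by
      rw [Module.support_quotient]
      refine ⟨Module.mem_support_mono (p := ⟨p, inferInstance⟩) hpq
        ((mem_support_gm hω (A ⧸ p) i ⟨p, inferInstance⟩).2 h), ?_⟩
      rw [PrimeSpectrum.mem_zeroLocus, SetLike.coe_subset_coe, Ideal.span_singleton_le_iff_mem]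
      exact hxq
    refine hsq ((Module.mem_support_iff_of_finite.1 hq1) (Module.mem_annihilator.2 fun y => ?_))
    obtain ⟨g, rfl⟩ := Submodule.Quotient.mk_surjective _ y
    obtain ⟨g', hg'⟩ := hkill g
    rw [← Submodule.Quotient.mk_smul, Submodule.Quotient.mk_eq_zero, ← hg']
    exact Submodule.smul_mem_smul (Ideal.mem_span_singleton_self x) trivial
  obtain ⟨Q, hQ, hle, hQq⟩ := exists_prime_of_gAnn_le hω q (i + 1) _ hC
  have hann := Module.mem_support_iff_of_finite.1 hQ
  have hsup : p ⊔ Ideal.span {x} ≤ Q.asIdeal := by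
    refine le_trans (sup_le (fun a ha => ?_) ((Ideal.span_singleton_le_iff_mem _).2 ?_)) hann
    · refine Module.mem_annihilator.2 fun y => ?_
      obtain ⟨y, rfl⟩ := Submodule.Quotient.mk_surjective _ y
      obtain ⟨y, rfl⟩ := Ideal.Quotient.mk_surjective y
      rw [← Submodule.Quotient.mk_smul, ← Ideal.Quotient.mkₐ_eq_mk A, ← map_smul,
        Ideal.Quotient.mkₐ_eq_mk, smul_eq_mul,
        Ideal.Quotient.eq_zero_iff_mem.2 (Ideal.mul_mem_right _ _ ha), Submodule.Quotient.mk_zero]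
    · refine Module.mem_annihilator.2 fun y => ?_
      obtain ⟨y, rfl⟩ := Submodule.Quotient.mk_surjective _ y
      exact (Submodule.Quotient.mk_eq_zero _).2 ⟨y, rfl⟩
  have hqQ : q ≤ Q.asIdeal := hmin.2 ⟨Q.2, hsup⟩ hQq
  show LC17.gAnn ω (ModuleCat.of A (A ⧸ q)) (i + 1) ≤ q
  obtain rfl := le_antisymm hqQ hQq
  exact hle

theorem Mu.exists_gt {q : Ideal A} [q.IsPrime] (p : Ideal A) :
    ∀ (_ : p.IsPrime) (i : ℤ), Mu ω p i → p < q → ∃ j, i < j ∧ Mu ω q j := by
  haveI := hω.isNoetherianRing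
  induction p using IsWellFounded.induction (· > · : Ideal A → Ideal A → Prop) with
  | ind p ih =>
    intro hp i h hpq
    obtain ⟨x, hxq, hxp⟩ := SetLike.exists_of_lt hpq
    obtain ⟨r, hr, hrq⟩ := Ideal.exists_minimalPrimes_le (I := p ⊔ Ideal.span {x}) (J := q)
      (sup_le hpq.le ((Ideal.span_singleton_le_iff_mem _).2 hxq))
    haveI : r.IsPrime := hr.1.1
    have hxr : x ∈ r := hr.1.2 (Submodule.mem_sup_right (Ideal.mem_span_singleton_self x))
    have hpr : p ≤ r := le_trans le_sup_left hr.1.2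
    have hs := Mu.step hω h hxr hxp hpr hr
    rcases eq_or_lt_of_le hrq with rfl | hlt
    · exact ⟨i + 1, by omega, hs⟩
    · obtain ⟨j, hj, hj'⟩ := ih r (lt_of_le_of_ne hpr fun he => hxp (he ▸ hxr)) inferInstance (i + 1) hs hlt
      exact ⟨j, by omega, hj'⟩

theorem Mu.exists_succ {p q : Ideal A} [p.IsPrime] [q.IsPrime] {i : ℤ} (h : Mu ω p i)
    (hpq : (⟨p, inferInstance⟩ : PrimeSpectrum A) ⋖ ⟨q, inferInstance⟩) : Mu ω q (i + 1) := by
  obtain ⟨x, hxq, hxp⟩ := SetLike.exists_of_lt (show p < q from hpq.lt)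
  obtain ⟨r, hr, hrq⟩ := Ideal.exists_minimalPrimes_le (I := p ⊔ Ideal.span {x}) (J := q)
    (sup_le (show p ≤ q from hpq.lt.le) ((Ideal.span_singleton_le_iff_mem _).2 hxq))
  haveI : r.IsPrime := hr.1.1
  have hxr : x ∈ r := hr.1.2 (Submodule.mem_sup_right (Ideal.mem_span_singleton_self x))
  have hpr : p ≤ r := le_trans le_sup_left hr.1.2
  have hs := Mu.step hω h hxr hxp hpr hr
  rcases eq_or_lt_of_le hrq with rfl | hlt
  · exact hs
  · exact absurd (show (⟨r, inferInstance⟩ : PrimeSpectrum A) < ⟨q, inferInstance⟩ from hlt)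
      (hpq.2 (show (⟨p, inferInstance⟩ : PrimeSpectrum A) < ⟨r, inferInstance⟩ from
        lt_of_le_of_ne hpr fun he => hxp (Eq.mpr (congrArg (x ∈ ·) (congrArg PrimeSpectrum.asIdeal he)) hxr)))

theorem Mu.chain (l : LTSeries (PrimeSpectrum A)) {i : ℤ} (h : Mu ω (RelSeries.head l).asIdeal i) :
    ∃ j, i + l.length ≤ j ∧ Mu ω (RelSeries.last l).asIdeal j := by
  suffices ∀ k : Fin (l.length + 1), ∃ j, i + (k : ℕ) ≤ j ∧ Mu ω (l k).asIdeal j from
    this (Fin.last l.length)
  intro k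
  induction k using Fin.induction with
  | zero => exact ⟨i, by simp, h⟩
  | succ k ih =>
    obtain ⟨j, hj, hj'⟩ := ih
    obtain ⟨j', hj1, hj2⟩ := Mu.exists_gt hω _ (l k.castSucc).2 j hj' (l.step k)
    refine ⟨j', ?_, hj2⟩
    simp only [Fin.val_castSucc] at hj
    simp only [Fin.val_succ]
    omega

section Local

variable [IsLocalRing A]

/-- A dualizing complex of a local ring sees the residue field. -/
theorem exists_mu_maximalIdeal : ∃ i, Mu ω (IsLocalRing.maximalIdeal A) i := by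
  haveI := hω.isNoetherianRing
  by_contra hno
  simp only [not_exists] at hno
  obtain ⟨a, b, hb, -⟩ := exists_bounds hω
  have hres : ∀ i, LC17.gAnn ω (ModuleCat.of A (A ⧸ IsLocalRing.maximalIdeal A)) i = ⊤ := fun i => by
    by_contra hne
    exact hno i (IsLocalRing.le_maximalIdeal hne)
  have hA : ∀ n : ℤ, Subsingleton (Dual.inD A A ⟶ ω⟦n⟧) := fun n => subsingleton_gm_iff.2
    (gAnn_top_of_residue (fun i hi => hb i (Or.inl hi)) hω.finite_cohomology (n - 1)
      (fun M hM i _ => by rw [IsLocalRing.eq_maximalIdeal hM]; exact hres i) A (by omega))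
  have hz : IsZero ω := isZero_of_forall fun n => isZero_HF_of_ext_ring (X := ω) (n := n) (hA n)
  exact one_ne_zero (hω.toEnd_bijective.1 (show (1 : A) • 𝟙 ω = (0 : A) • 𝟙 ω from hz.eq_of_src _ _))

variable (hn : Dual.IsNormalized A ω)
include hn

theorem eq_zero_of_mu_maximalIdeal {i : ℤ} (h : Mu ω (IsLocalRing.maximalIdeal A) i) : i = 0 := by
  by_contra hi
  haveI := hω.isNoetherianRing
  have h' : LC17.gAnn ω (ModuleCat.of A (A ⧸ IsLocalRing.maximalIdeal A)) i ≤
      IsLocalRing.maximalIdeal A := h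
  rw [LC17.gAnn_residue hω hn hi] at h'
  exact (IsLocalRing.maximalIdeal.isMaximal A).ne_top (top_le_iff.1 h')

/-- `Hom(M[0], ω[i]) = 0` for `i < -dim Supp M` -/
theorem gAnn_top_of_lt (d : ℕ) : ∀ (M : Type u) [AddCommGroup M] [Module A M] [Module.Finite A M],
    Module.supportDim A M ≤ (d : ℕ∞) → ∀ i : ℤ, i < -(d : ℤ) →
      LC17.gAnn ω (ModuleCat.of A M) i = ⊤ := by
  haveI := hω.isNoetherianRing
  induction d using Nat.strong_induction_on with
  | _ d ih =>
    intro M _ _ _ hd i hi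
    refine LC17.gAnn_eq_top_of_support ω i M fun p hp => ?_
    by_cases hpm : p.asIdeal = IsLocalRing.maximalIdeal A
    · rw [hpm]; exact LC17.gAnn_residue hω hn (by omega)
    have hdp : ringKrullDim (A ⧸ p.asIdeal) ≤ (d : ℕ∞) :=
      (EGA4Alg4.ringKrullDim_quotient_le_supportDim hp).trans hd
    obtain ⟨x, hxm, hxp⟩ := SetLike.exists_of_lt
      (lt_of_le_of_ne (IsLocalRing.le_maximalIdeal p.2.ne_top) hpm)
    let f : (A ⧸ p.asIdeal) →ₗ[A] A ⧸ p.asIdeal := x • LinearMap.id
    have hfinj : Function.Injective f := by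
      rw [injective_iff_map_eq_zero]
      intro y hy
      obtain ⟨y, rfl⟩ := Ideal.Quotient.mk_surjective y
      rw [LinearMap.smul_apply, LinearMap.id_apply, ← Ideal.Quotient.mkₐ_eq_mk A, ← map_smul,
        Ideal.Quotient.mkₐ_eq_mk, Ideal.Quotient.eq_zero_iff_mem] at hy
      exact Ideal.Quotient.eq_zero_iff_mem.2 ((p.2.mem_or_mem hy).resolve_left hxp)
    let hS := LC17.shortExact_of_exact f (LinearMap.range f).mkQ hfinj (Submodule.mkQ_surjective _)
      (LinearMap.exact_map_mkQ_range f)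
    have hC : LC17.gAnn ω (ModuleCat.of A ((A ⧸ p.asIdeal) ⧸ LinearMap.range f)) (i + 1) = ⊤ := by
      refine LC17.gAnn_eq_top_of_support ω (i + 1) _ fun Q hQ => ?_
      have hann := Module.mem_support_iff_of_finite.1 hQ
      have hlt : p.asIdeal < Q.asIdeal := by
        refine lt_of_le_of_ne (le_trans (fun a ha => Module.mem_annihilator.2 fun y => ?_) hann)
          fun heq => hxp (heq ▸ hann (Module.mem_annihilator.2 fun y => ?_))
        · obtain ⟨y, rfl⟩ := Submodule.Quotient.mk_surjective _ y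
          obtain ⟨y, rfl⟩ := Ideal.Quotient.mk_surjective y
          rw [← Submodule.Quotient.mk_smul, ← Ideal.Quotient.mkₐ_eq_mk A, ← map_smul,
            Ideal.Quotient.mkₐ_eq_mk, smul_eq_mul,
            Ideal.Quotient.eq_zero_iff_mem.2 (Ideal.mul_mem_right _ _ ha), Submodule.Quotient.mk_zero]
        · obtain ⟨y, rfl⟩ := Submodule.Quotient.mk_surjective _ y
          exact (Submodule.Quotient.mk_eq_zero _).2 ⟨y, rfl⟩
      have hQd := (EGA4Alg4.ringKrullDim_quotient_lt hlt).trans_le hdp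
      obtain ⟨e, he⟩ : ∃ e : ℕ, ringKrullDim (A ⧸ Q.asIdeal) = (e : ℕ∞) := by
        obtain ⟨e, he⟩ := EGA4Alg4.exists_supportDim_eq (A := A) (M := A ⧸ Q.asIdeal)
        exact ⟨e, by rw [← Module.supportDim_quotient_eq_ringKrullDim]; exact he⟩
      have hed : e < d := by
        rw [he] at hQd
        exact_mod_cast hQd
      exact ih e hed (A ⧸ Q.asIdeal)
        (by rw [Module.supportDim_quotient_eq_ringKrullDim, he]) (i + 1) (by omega)
    haveI := LC17.finite_GM hω i (A ⧸ p.asIdeal)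
    have htop : (⊤ : Submodule A (LC17.GM ω (ModuleCat.of A (A ⧸ p.asIdeal)) i)) ≤
        IsLocalRing.maximalIdeal A • ⊤ := fun g _ => by
      obtain ⟨h, hh⟩ := LC17.pre_surjective_of_gAnn_eq_top ω hS i (i + 1) rfl hC g
      rw [← hh, show LC17.pre ω (ModuleCat.ofHom f) i h = x • h from LC17.pre_smul_id ω x i h]
      exact Submodule.smul_mem_smul hxm trivial
    have := Submodule.eq_bot_of_le_smul_of_le_jacobson_bot _ _ Module.Finite.fg_top htop
      (IsLocalRing.jacobson_eq_maximalIdeal ⊥ bot_ne_top).ge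
    rw [LC17.gAnn_eq_top_iff]
    intro g
    exact (Submodule.mem_bot A).1 (this ▸ (trivial : g ∈ (⊤ : Submodule A _)))

theorem exists_dim_quotient (p : Ideal A) [p.IsPrime] : ∃ e : ℕ, ringKrullDim (A ⧸ p) = (e : ℕ∞) := by
  haveI := hω.isNoetherianRing
  haveI : Nontrivial (A ⧸ p) := Ideal.Quotient.nontrivial_iff.mpr ‹p.IsPrime›.ne_top
  obtain ⟨e, he⟩ := EGA4Alg4.exists_supportDim_eq (A := A) (M := A ⧸ p)
  exact ⟨e, by rw [← Module.supportDim_quotient_eq_ringKrullDim]; exact he⟩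

/-- For a normalized dualizing complex, only the degree `-dim A/p` occurs at `p`. -/
theorem Mu.eq_neg_dim {p : Ideal A} [p.IsPrime] {i : ℤ} (h : Mu ω p i) {e : ℕ}
    (he : ringKrullDim (A ⧸ p) = (e : ℕ∞)) : i = -(e : ℤ) := by
  haveI := hω.isNoetherianRing
  have h1 : -(e : ℤ) ≤ i := by
    by_contra hlt
    have : LC17.gAnn ω (ModuleCat.of A (A ⧸ p)) i = ⊤ := gAnn_top_of_lt hω hn e (A ⧸ p)
      (by rw [Module.supportDim_quotient_eq_ringKrullDim, he]) i (by omega)
    exact ‹p.IsPrime›.ne_top (top_le_iff.1 (this ▸ h))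
  have h2 : i + e ≤ 0 := by
    obtain ⟨l, hl⟩ : ∃ l : LTSeries (PrimeSpectrum (A ⧸ p)), e ≤ l.length := by
      by_contra hno
      simp only [not_exists, not_le] at hno
      have : ringKrullDim (A ⧸ p) ≤ ((e - 1 : ℕ) : ℕ∞) := iSup_le fun l => by
        have := hno l
        exact_mod_cast (show l.length ≤ e - 1 by omega)
      rw [he] at this
      have h0 : e ≤ e - 1 := by exact_mod_cast this
      have := hno (RelSeries.singleton _ (Classical.arbitrary _))
      omega
    let g : PrimeSpectrum (A ⧸ p) → PrimeSpectrum A := PrimeSpectrum.comap (Ideal.Quotient.mk p)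
    have hg : StrictMono g := Monotone.strictMono_of_injective
      (fun _ _ hab => Ideal.comap_mono hab)
      (PrimeSpectrum.comap_injective_of_surjective _ Ideal.Quotient.mk_surjective)
    let m := l.map g hg
    have hpl : ∀ k, p ≤ (m k).asIdeal := fun k => by
      intro a ha
      show Ideal.Quotient.mk p a ∈ (l k).asIdeal
      rw [Ideal.Quotient.eq_zero_iff_mem.2 ha]
      exact zero_mem _
    have hlen : m.length = l.length := rfl
    obtain ⟨j0, hj0, hj0'⟩ : ∃ j, i ≤ j ∧ Mu ω (RelSeries.head m).asIdeal j := by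
      rcases eq_or_lt_of_le (hpl 0) with heq | hlt
      · exact ⟨i, le_rfl, by rw [show (RelSeries.head m).asIdeal = p from heq.symm]; exact h⟩
      · obtain ⟨j, hj, hj'⟩ := Mu.exists_gt hω p inferInstance i h hlt
        exact ⟨j, hj.le, hj'⟩
    obtain ⟨j1, hj1, hj1'⟩ := Mu.chain hω m hj0'
    obtain ⟨j2, hj2, hj2'⟩ : ∃ j, j1 ≤ j ∧ Mu ω (IsLocalRing.maximalIdeal A) j := by
      rcases eq_or_lt_of_le (IsLocalRing.le_maximalIdeal (RelSeries.last m).2.ne_top) with heq | hlt
      · exact ⟨j1, le_rfl, heq ▸ hj1'⟩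
      · obtain ⟨j, hj, hj'⟩ := Mu.exists_gt hω _ (RelSeries.last m).2 j1 hj1' hlt
        exact ⟨j, hj.le, hj'⟩
    have := eq_zero_of_mu_maximalIdeal hω hn hj2'
    omega
  omega

end Local

end Groth.Agent.DR39
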