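import Groth.Agent.DR39.Residue
import Groth.Agent.DR39.LocalDual

/-! The residue field criterion for dualizing complexes of local rings. -/

set_option autoImplicit false
set_option linter.style.haveILetI false
set_option linter.unusedSectionVars false

universe u

open CategoryTheory CategoryTheory.Limits CochainComplex.HomComplex
open CategoryTheory.Pretriangulated

attribute [local instance] HasDerivedCategory.standard

namespace Groth.Agent.DR39

variable {A : Type u} [CommRing A]

theorem isIso_of_zero {C : Type*} [Category C] {X Y : C} (f : X ⟶ Y) (hX : IsZero X) (hY : IsZero Y) :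
    IsIso f :=
  ⟨hY.to_ X, hX.eq_of_src _ _, hY.eq_of_src _ _⟩

theorem quasiIso_of_isZero_X {K L : DRing.Cx A} (φ : K ⟶ L) (hK : ∀ i, IsZero (K.X i))
    (hL : ∀ i, IsZero (L.X i)) : QuasiIso φ := by
  refine ⟨fun i => ?_⟩
  rw [quasiIsoAt_iff_isIso_homologyMap]
  exact isIso_of_zero _ (ShortComplex.isZero_homology_of_isZero_X₂ _ (hK i))
    (ShortComplex.isZero_homology_of_isZero_X₂ _ (hL i))

theorem isZero_homCx_X {X I : DRing.Cx A} (hX : ∀ i, IsZero (X.X i)) (q : ℤ) :
    IsZero ((DRing.homCx X I).X q) :=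
  ModuleCat.isZero_iff_subsingleton.2
    ⟨fun (z z' : Cochain X I q) => Cochain.ext _ _ fun p _ _ => (hX p).eq_of_src _ _⟩

theorem shortExact_congr_f {X Y Z : DRing.Cx A} {f f' : X ⟶ Y} {g : Y ⟶ Z} {w : f ≫ g = 0} (h : f = f')
    {w' : f' ≫ g = 0} (hS : (ShortComplex.mk f g w).ShortExact) : (ShortComplex.mk f' g w').ShortExact := by
  subst h; exact hS

/-- scalar multiplication on homology -/
theorem homologyMap_smul_id (K : DRing.Cx A) (x : A) (i : ℤ) (c : K.homology i) :
    (HomologicalComplex.homologyMap (x • 𝟙 K) i).hom c = x • c := by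
  obtain ⟨z, rfl⟩ := hcls_surjective K i c
  rw [homologyMap_hcls, ← map_smul]
  rfl

theorem homCxPre_smul_id (P L : DRing.Cx A) (x : A) :
    homCxPre (x • 𝟙 P) L = x • 𝟙 (DRing.homCx P L) := by
  refine HomologicalComplex.hom_ext _ _ fun q => ModuleCat.hom_ext (LinearMap.ext fun (z : Cochain P L q) => ?_)
  show (Cochain.ofHom (x • 𝟙 P)).comp z (zero_add q) = x • z
  refine Cochain.ext _ _ fun p r hr => ?_
  rw [Cochain.zero_cochain_comp_v, Cochain.ofHom_v, Cochain.smul_v]
  simp

variable [IsNoetherianRing A] [IsLocalRing A] (I : DRing.Cx A) (a b : ℤ)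
  (hI : ∀ i, (i < a ∨ b < i) → IsZero (I.X i)) (hinj : ∀ i, INp (I.X i))
  (hfin : ∀ i : ℤ, Module.Finite A (Dual.HD A ((QA A).obj I) i)) (d : ℤ)
  (hvan : ∀ i : ℤ, i ≠ d →
    Subsingleton (LC17.GM ((QA A).obj I) (ModuleCat.of A (A ⧸ IsLocalRing.maximalIdeal A)) i))
  (hd : LC17.GM ((QA A).obj I) (ModuleCat.of A (A ⧸ IsLocalRing.maximalIdeal A)) d ≃ₗ[A]
    (A ⧸ IsLocalRing.maximalIdeal A))

include hI hinj in
theorem kinj_of_terms : I.IsKInjective :=
  isKInjective_of_rep I a (fun i hi => hI i (Or.inl hi)) hinj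

include hI hinj hfin in
theorem finite_homology_homCx (K : DRing.Cx A)
    (hK : ∀ j : ℤ, Module.Finite A (Dual.HD A ((QA A).obj K) j)) (i : ℤ) :
    Module.Finite A ((DRing.homCx K I).homology i) := by
  haveI := kinj_of_terms I a b hI hinj
  haveI : Module.Finite A ((QA A).obj K ⟶ ((QA A).obj I)⟦i⟧) := finite_hom_of_rep _ hK I a b hI hinj hfin i
  haveI : Module.Finite A ((QA A).obj K ⟶ (QA A).obj (I⟦i⟧)) :=
    finite_hom_congr (Iso.refl _) (((QA A).commShiftIso i).app I) ‹_›
  exact Module.Finite.equiv (homologyHomCxEquiv K I i).symm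

omit [IsNoetherianRing A] [IsLocalRing A] in
theorem finite_homology_sgl (M : Type u) [AddCommGroup M] [Module A M] [Module.Finite A M] (i : ℤ) :
    Module.Finite A ((sgl (ModuleCat.of A M)).homology i) := by
  by_cases hi : i = 0
  · subst hi
    exact Module.Finite.equiv
      (R := A) (M := M) (N := (sgl (ModuleCat.of A M)).homology 0)
      (HomologicalComplex.singleObjHomologySelfIso (ComplexShape.up ℤ) 0 (ModuleCat.of A M)).symm.toLinearEquiv
  · haveI := ModuleCat.subsingleton_of_isZero (M := (sgl (ModuleCat.of A M)).homology i)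
      (ShortComplex.isZero_homology_of_isZero_X₂ _ (HomologicalComplex.isZero_single_obj_X (ComplexShape.up ℤ) 0 _ i hi))
    exact Module.Finite.of_surjective (0 : A →ₗ[A] _) fun y => ⟨0, Subsingleton.elim _ _⟩

include hI hinj hfin in
theorem finite_homology_double (M : Type u) [AddCommGroup M] [Module A M] [Module.Finite A M] (i : ℤ) :
    Module.Finite A ((DRing.homCx (DRing.homCx (sgl (ModuleCat.of A M)) I) I).homology i) := by
  refine finite_homology_homCx I a b hI hinj hfin _ (fun j => ?_) i
  haveI := finite_homology_homCx I a b hI hinj hfin (sgl (ModuleCat.of A M))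
    (fun k => haveI := finite_homology_sgl (A := A) M k; Module.Finite.equiv (HQIso _ k).symm.toLinearEquiv) j
  exact Module.Finite.equiv (HQIso _ j).symm.toLinearEquiv

include hI hinj hvan hd in
theorem ev_residue : QuasiIso (ev (sgl (ModuleCat.of A (A ⧸ IsLocalRing.maximalIdeal A))) I) := by
  set m := IsLocalRing.maximalIdeal A with hm
  set k := ModuleCat.of A (A ⧸ m) with hk
  haveI := kinj_of_terms I a b hI hinj
  haveI : IsSimpleModule A (A ⧸ m) := isSimpleModule_iff_isCoatom.2 (Ideal.isMaximal_def.1 inferInstance)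
  haveI : Nontrivial (A ⧸ m) := Ideal.Quotient.nontrivial_iff.2 (IsLocalRing.maximalIdeal.isMaximal A).ne_top
  set V := DRing.homCx (sgl k) I with hV
  let eV : ∀ i, V.homology i ≃ₗ[A] LC17.GM ((QA A).obj I) k i := fun i =>
    (homologyHomCxEquiv (sgl k) I i).trans
      (CategoryTheory.Linear.homCongr A (sglQIso k) (((QA A).commShiftIso i).app I))
  -- W has its only cohomology in degree d
  have hVz : ∀ i, i ≠ d → IsZero ((HF A i).obj ((QA A).obj V)) := fun i hi => by
    rw [isZero_HF_Q_iff, ModuleCat.isZero_iff_subsingleton]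
    exact @Equiv.subsingleton _ _ (eV i).toEquiv (hvan i hi)
  obtain ⟨eS⟩ := exists_iso_single_homology ((QA A).obj V) d hVz
  let eM : (HF A d).obj ((QA A).obj V) ≅ k :=
    ((HQIso V d).toLinearEquiv.trans ((eV d).trans hd)).toModuleIso
  let eT : ∀ j, (DRing.homCx V I).homology j ≃ₗ[A] LC17.GM ((QA A).obj I) k (d + j) := fun j =>
    ((homologyHomCxEquiv V I j).trans (CategoryTheory.Linear.homCongr A
      (eS ≪≫ (DerivedCategory.singleFunctor (ModuleCat.{u} A) d).mapIso eM) (((QA A).commShiftIso j).app I))).trans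
      (snglGMEquiv ((QA A).obj I) k d j)
  refine ⟨fun j => ?_⟩
  rw [quasiIsoAt_iff_isIso_homologyMap]
  by_cases hj : j = 0
  swap
  · refine isIso_of_zero _ (ShortComplex.isZero_homology_of_isZero_X₂ _
      (HomologicalComplex.isZero_single_obj_X (ComplexShape.up ℤ) 0 _ j hj))
      (ModuleCat.isZero_iff_subsingleton.2 (@Equiv.subsingleton _ _ (eT j).toEquiv (hvan _ (by omega))))
  subst hj
  rw [isIso_iff_bijective]
  obtain ⟨u, hu⟩ := exists_ne (0 : A ⧸ m)
  obtain ⟨⟨z, hz⟩, hzc⟩ := hcls_surjective V d (((eV d).trans hd).symm u)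
  have hz0 : z ∉ LinearMap.range (V.d (d - 1) d).hom := fun h => hu (by
    rw [(hcls_eq_zero_iff V d ⟨z, hz⟩).2 h] at hzc
    exact ((eV d).trans hd).symm.injective (by rw [map_zero]; exact hzc.symm))
  have hin : Function.Injective (HomologicalComplex.homologyMap (ev (sgl k) I) 0).hom := by
    refine (injective_homologyMap_iff _ 0).2 fun x hx (y : Cochain V I (0 - 1)) hy => ⟨0, ?_⟩
    rw [map_zero]
    by_contra hne
    have hx0 : x ≠ 0 := fun h => hne h.symm
    let es : (sgl k).X 0 ≃ₗ[A] (A ⧸ m) :=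
      (HomologicalComplex.singleObjXSelf (ComplexShape.up ℤ) 0 k).toLinearEquiv
    have hgen : ∀ v : (sgl k).X 0, ∃ c : A, c • x = v := fun v => by
      obtain ⟨c, hc⟩ := IsSimpleModule.toSpanSingleton_surjective A
        (fun h => hx0 (es.injective (h.trans (map_zero es).symm))) (es v)
      exact ⟨c, es.injective (by rw [map_smul]; exact hc)⟩
    set zc : Cochain (sgl k) I d := z with hzdef
    let t : I.X (d - 1) := (y.v d (d - 1) (by omega)).hom z
    have ht : (I.d (d - 1) d).hom t = (zc.v 0 d (zero_add d)).hom x := by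
      have h1 : δ (0 - 1) 0 y = evC I x := hy
      have h2 := congrArg (fun w : Cochain V I 0 => (w.v d d (add_zero d)).hom z) h1
      simp only [δ_v (0 - 1) 0 (by omega) y d d (add_zero d) (d - 1) (d + 1) (by omega) rfl] at h2
      rw [evC_v] at h2
      simp only [ModuleCat.hom_add, LinearMap.add_apply, ModuleCat.hom_comp, LinearMap.comp_apply,
        units_smul_apply, zero_mul, Int.negOnePow_zero, one_smul] at h2
      rw [show (V.d d (d + 1)).hom z = 0 from hz, map_zero, add_zero] at h2
      exact h2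
    have hker : ∀ c : A, c • x = 0 → c • t = 0 := fun c hc => by
      have hzc0 : c • zc = 0 := by
        refine Cochain.ext _ _ fun p r hr => ?_
        by_cases hp : p = 0
        · subst hp
          refine ModuleCat.hom_ext (LinearMap.ext fun v => ?_)
          obtain ⟨e, rfl⟩ := hgen v
          rw [Cochain.smul_v, ModuleCat.hom_smul, LinearMap.smul_apply, ← map_smul, smul_comm, hc,
            smul_zero, map_zero, Cochain.zero_v]
          rfl
        · exact (HomologicalComplex.isZero_single_obj_X _ _ _ _ hp).eq_of_src _ _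
      show c • (y.v d (d - 1) _).hom z = 0
      rw [← map_smul, show c • z = 0 from hzc0, map_zero]
    let g := LinearMap.toSpanSingleton A ((sgl k).X 0) x
    let f : (sgl k).X 0 →ₗ[A] I.X (d - 1) :=
      ((LinearMap.ker g).liftQ (LinearMap.toSpanSingleton A (I.X (d - 1)) t) fun c hc => hker c hc) ∘ₗ
        (LinearMap.quotKerEquivOfSurjective g hgen).symm.toLinearMap
    have hf : ∀ c : A, f (c • x) = c • t := fun c => by
      have : (LinearMap.quotKerEquivOfSurjective g hgen).symm (g c) = Submodule.Quotient.mk c := by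
        rw [LinearEquiv.symm_apply_eq]
        rfl
      simp only [f, LinearMap.comp_apply, LinearEquiv.coe_coe]
      rw [show c • x = g c from rfl, this]
      rfl
    let w : Cochain (sgl k) I (d - 1) := Cochain.fromSingleMk
      ((HomologicalComplex.singleObjXSelf (ComplexShape.up ℤ) 0 k).inv ≫ ModuleCat.ofHom f)
      (zero_add (d - 1))
    refine hz0 ⟨w, ?_⟩
    show δ (d - 1) d w = zc
    show δ (d - 1) d (Cochain.fromSingleMk _ _) = zc
    rw [Cochain.δ_fromSingleMk _ (zero_add (d - 1)) d d (zero_add d)]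
    refine Cochain.ext _ _ fun p r hr => ?_
    by_cases hp : p = 0
    · subst hp
      obtain rfl : r = d := by omega
      rw [Cochain.fromSingleMk_v, Category.assoc, Iso.hom_inv_id_assoc]
      refine ModuleCat.hom_ext (LinearMap.ext fun v => ?_)
      obtain ⟨c, rfl⟩ := hgen v
      show (I.d _ _).hom (f (c • x)) = _
      rw [hf, map_smul, map_smul, ht]
      rfl
    · exact (HomologicalComplex.isZero_single_obj_X _ _ _ _ hp).eq_of_src _ _
  refine ⟨hin, ?_⟩
  let eT0 : (DRing.homCx V I).homology 0 ≃ₗ[A] (A ⧸ m) := by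
    have e := eT 0
    rw [add_zero] at e
    exact e.trans hd
  let e0 : (sgl k).homology 0 ≃ₗ[A] (A ⧸ m) :=
    (HomologicalComplex.singleObjHomologySelfIso (ComplexShape.up ℤ) 0 k).toLinearEquiv
  let h : (A ⧸ m) →ₗ[A] (A ⧸ m) := eT0.toLinearMap ∘ₗ
    (HomologicalComplex.homologyMap (ev (sgl k) I) 0).hom ∘ₗ e0.symm.toLinearMap
  have hh : Function.Injective h := eT0.injective.comp (hin.comp e0.symm.injective)
  have hs : Function.Surjective h := by
    rcases LinearMap.surjective_or_eq_zero h with h1 | h1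
    · exact h1
    · exact absurd (hh (show h u = h 0 by rw [h1]; rfl)) hu
  intro w
  obtain ⟨v, hv⟩ := hs (eT0 w)
  exact ⟨e0.symm v, eT0.injective hv⟩

omit I a b hI hinj hfin d hvan hd in
theorem quasiIso_of_nakayama {K L K3 L3 : DRing.Cx A} {x : A} (hx : x ∈ IsLocalRing.maximalIdeal A)
    (g : K ⟶ K3) (g' : L ⟶ L3) (w : (x • 𝟙 K) ≫ g = 0) (w' : (x • 𝟙 L) ≫ g' = 0)
    (hS : (ShortComplex.mk (x • 𝟙 K) g w).ShortExact) (hT : (ShortComplex.mk (x • 𝟙 L) g' w').ShortExact)
    (φ : K ⟶ L) (φ3 : K3 ⟶ L3) [QuasiIso φ3] (comm : φ ≫ g' = g ≫ φ3)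
    (hK : ∀ i, Module.Finite A (K.homology i)) (hL : ∀ i, Module.Finite A (L.homology i)) :
    QuasiIso φ := by
  let Φ : ShortComplex.mk (x • 𝟙 K) g w ⟶ ShortComplex.mk (x • 𝟙 L) g' w' :=
    { τ₁ := φ, τ₂ := φ, τ₃ := φ3, comm₁₂ := by simp, comm₂₃ := comm }
  let G := fun i => (HomologicalComplex.homologyMap φ i).hom
  let G3 := fun i => (HomologicalComplex.homologyMap φ3 i).hom
  let H := fun i => (HomologicalComplex.homologyMap g i).hom
  let H' := fun i => (HomologicalComplex.homologyMap g' i).hom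
  let dS : ∀ i j, (ComplexShape.up ℤ).Rel i j → (K3.homology i →ₗ[A] K.homology j) :=
    fun i j hij => (hS.δ i j hij).hom
  let dT : ∀ i j, (ComplexShape.up ℤ).Rel i j → (L3.homology i →ₗ[A] L.homology j) :=
    fun i j hij => (hT.δ i j hij).hom
  have hb3 : ∀ i, Function.Bijective (G3 i) := fun i => (isIso_iff_bijective _).1 inferInstance
  have hnat : ∀ i (c : K.homology i), G3 i (H i c) = H' i (G i c) := fun i c => by
    simp only [G3, H, H', G]
    rw [← LinearMap.comp_apply, ← ModuleCat.hom_comp, ← HomologicalComplex.homologyMap_comp,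
      ← LinearMap.comp_apply, ← ModuleCat.hom_comp, ← HomologicalComplex.homologyMap_comp, comm]
  have hnatδ : ∀ i j hij (q : K3.homology i), G j (dS i j hij q) = dT i j hij (G3 i q) := fun i j hij q =>
    congrArg (fun f : K3.homology i ⟶ L.homology j => f.hom q)
      (HomologicalComplex.HomologySequence.δ_naturality Φ hS hT i j hij)
  have hex₂S : ∀ i (u : K.homology i), H i u = 0 → ∃ u', x • u' = u := fun i u h => by
    obtain ⟨u', hu'⟩ := (exact_ff (hS.homology_exact₂ i) u).1 h
    exact ⟨u', (homologyMap_smul_id K x i u').symm.trans hu'⟩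
  have hex₂T : ∀ i (u : L.homology i), H' i u = 0 → ∃ u', x • u' = u := fun i u h => by
    obtain ⟨u', hu'⟩ := (exact_ff (hT.homology_exact₂ i) u).1 h
    exact ⟨u', (homologyMap_smul_id L x i u').symm.trans hu'⟩
  have hex₁T : ∀ i hr (u : L.homology i), x • u = 0 → ∃ q, dT (i - 1) i hr q = u := fun i hr u h =>
    (exact_ff (hT.homology_exact₁ (i - 1) i hr) u).1 ((homologyMap_smul_id L x i u).trans h)
  have hex₁S : ∀ i hr q, x • dS (i - 1) i hr q = 0 := fun i hr q =>
    (homologyMap_smul_id K x i _).symm.trans ((exact_ff (hS.homology_exact₁ (i - 1) i hr) _).2 ⟨q, rfl⟩)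
  have hinjG : ∀ i, Function.Injective (G i) := fun i => by
    haveI := hK i
    haveI : IsNoetherian A (K.homology i) := isNoetherian_of_isNoetherianRing_of_finite A _
    have hr : (ComplexShape.up ℤ).Rel (i - 1) i := show i - 1 + 1 = i by omega
    let N : Submodule A (K.homology i) := LinearMap.ker (G i)
    have hle : N ≤ IsLocalRing.maximalIdeal A • N := by
      intro u hu
      have hu0 : G i u = 0 := hu
      have h1 : H i u = 0 := (hb3 i).1 (by rw [hnat i u, hu0, map_zero, map_zero])
      obtain ⟨u', hu'⟩ := hex₂S i u h1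
      obtain ⟨q', hq'⟩ := hex₁T i hr (G i u') (by rw [← map_smul, hu', hu0])
      obtain ⟨q, rfl⟩ := (hb3 (i - 1)).2 q'
      have hwK : u' - dS (i - 1) i hr q ∈ N := by
        show G i (u' - dS (i - 1) i hr q) = 0
        rw [map_sub, hnatδ, hq', sub_self]
      have hxw : x • (u' - dS (i - 1) i hr q) = u := by rw [smul_sub, hu', hex₁S, sub_zero]
      rw [← hxw]
      exact Submodule.smul_mem_smul hx hwK
    exact LinearMap.ker_eq_bot.1 (Submodule.eq_bot_of_le_smul_of_le_jacobson_bot _ N (IsNoetherian.noetherian N)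
      hle (IsLocalRing.jacobson_eq_maximalIdeal ⊥ bot_ne_top).ge)
  refine ⟨fun i => ?_⟩
  rw [quasiIsoAt_iff_isIso_homologyMap, isIso_iff_bijective]
  refine ⟨hinjG i, ?_⟩
  haveI := hL i
  let C : Submodule A (L.homology i) := LinearMap.range (G i)
  have htop : (⊤ : Submodule A _) ≤ C ⊔ IsLocalRing.maximalIdeal A • ⊤ := by
    intro v _
    have hr : (ComplexShape.up ℤ).Rel i (i + 1) := rfl
    obtain ⟨q, hq⟩ := (hb3 i).2 (H' i v)
    have h0 : dS i (i + 1) hr q = 0 := hinjG (i + 1) (by
      rw [hnatδ, hq, map_zero]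
      exact (exact_ff (hT.homology_exact₃ i (i + 1) hr) _).2 ⟨v, rfl⟩)
    obtain ⟨u, hu⟩ := (exact_ff (hS.homology_exact₃ i (i + 1) hr) q).1 h0
    have hu' : H i u = q := hu
    obtain ⟨v', hv'⟩ := hex₂T i (v - G i u) (by rw [map_sub, ← hnat, hu', hq, sub_self])
    refine Submodule.mem_sup.2 ⟨G i u, ⟨u, rfl⟩, x • v', Submodule.smul_mem_smul hx trivial, ?_⟩
    rw [hv']
    abel
  have hC : C = ⊤ := top_le_iff.1 (Submodule.le_of_le_smul_of_le_jacobson_bot Module.Finite.fg_top
    (IsLocalRing.jacobson_eq_maximalIdeal ⊥ bot_ne_top).ge htop)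
  intro v
  have : v ∈ C := by rw [hC]; trivial
  exact this

include hI hinj hfin in
theorem ev_of_nakayama (N Q : Type u) [AddCommGroup N] [Module A N] [AddCommGroup Q] [Module A Q]
    [Module.Finite A N] {x : A} (hx : x ∈ IsLocalRing.maximalIdeal A) (g : N →ₗ[A] Q)
    (hinjx : Function.Injective (x • LinearMap.id : N →ₗ[A] N)) (hg : Function.Surjective g)
    (hex : Function.Exact (x • LinearMap.id : N →ₗ[A] N) g)
    (hQ : QuasiIso (ev (sgl (ModuleCat.of A Q)) I)) : QuasiIso (ev (sgl (ModuleCat.of A N)) I) := by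
  have hS := (LC17.shortExact_of_exact (x • LinearMap.id : N →ₗ[A] N) g hinjx hg hex).map_of_exact
    (HomologicalComplex.single (ModuleCat.{u} A) (ComplexShape.up ℤ) 0)
  have hT := homCxOpp_shortExact I hinj (homCxOpp_shortExact I hinj hS)
  let K := sgl (ModuleCat.of A N)
  let K3 := sgl (ModuleCat.of A Q)
  let f0 : K ⟶ K := (HomologicalComplex.single (ModuleCat.{u} A) (ComplexShape.up ℤ) 0).map
    (ModuleCat.ofHom (x • LinearMap.id : N →ₗ[A] N))
  let g0 : K ⟶ K3 := (HomologicalComplex.single (ModuleCat.{u} A) (ComplexShape.up ℤ) 0).map (ModuleCat.ofHom g)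
  have hf0 : f0 = x • 𝟙 K := by
    refine HomologicalComplex.from_single_hom_ext ?_
    refine ModuleCat.hom_ext (LinearMap.ext fun v => ?_)
    simp [f0, K, HomologicalComplex.single_map_f_self]
  have hf2 : homCxPre (homCxPre f0 I) I = x • 𝟙 (DRing.homCx (DRing.homCx K I) I) := by
    rw [hf0]
    exact (congrArg (homCxPre · I) (homCxPre_smul_id K I x)).trans (homCxPre_smul_id (DRing.homCx K I) I x)
  have w0 : f0 ≫ g0 = 0 := by
    rw [← Functor.map_comp, show (ModuleCat.ofHom (x • LinearMap.id : N →ₗ[A] N)) ≫ ModuleCat.ofHom g = 0 from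
      ModuleCat.hom_ext hex.linearMap_comp_eq_zero, Functor.map_zero]
  refine quasiIso_of_nakayama hx g0 (homCxPre (homCxPre g0 I) I) (hf0 ▸ w0) ?_ ?_ ?_
    (ev K I) (ev K3 I) (ev_naturality g0 I).symm (fun i => finite_homology_sgl N i)
    (finite_homology_double I a b hI hinj hfin N)
  · rw [← hf2]
    exact (homCxOpp I (homCxOpp I (ShortComplex.mk f0 g0 w0))).zero
  · exact shortExact_congr_f (w := w0) hf0 hS
  · exact shortExact_congr_f (w := (homCxOpp I (homCxOpp I (ShortComplex.mk f0 g0 w0))).zero) hf2 hT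

include hI hinj hfin hvan hd in
theorem ev_finite : ∀ (N : Type u) [AddCommGroup N] [Module A N] [Module.Finite A N],
    QuasiIso (ev (sgl (ModuleCat.of A N)) I) := by
  suffices key : ∀ p : Ideal A, p.IsPrime → QuasiIso (ev (sgl (ModuleCat.of A (A ⧸ p))) I) by
    intro N _ _ _
    induction ‹Module.Finite A N› using IsNoetherianRing.induction_on_isQuotientEquivQuotientPrime A with
    | subsingleton N =>
      have hz : ∀ i, IsZero ((sgl (ModuleCat.of A N)).X i) := fun i => by
        by_cases hi : i = 0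
        · subst hi
          exact (ModuleCat.isZero_of_subsingleton (ModuleCat.of A N)).of_iso
            (HomologicalComplex.singleObjXSelf (ComplexShape.up ℤ) 0 _)
        · exact HomologicalComplex.isZero_single_obj_X (ComplexShape.up ℤ) 0 _ i hi
      exact quasiIso_of_isZero_X _ hz (isZero_homCx_X fun i => isZero_homCx_X hz i)
    | quotient N p e =>
      have hS := (LC17.shortExact_of_exact e.symm.toLinearMap (0 : N →ₗ[A] PUnit.{u + 1}) e.symm.injective
        (fun y => ⟨0, Subsingleton.elim _ _⟩) (fun y => ⟨fun _ => e.symm.surjective y, fun _ => Subsingleton.elim _ _⟩)).map_of_exact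
        (HomologicalComplex.single (ModuleCat.{u} A) (ComplexShape.up ℤ) 0)
      have hz : ∀ i, IsZero ((sgl (ModuleCat.of A PUnit.{u + 1})).X i) := fun i => by
        by_cases hi : i = 0
        · subst hi
          exact (ModuleCat.isZero_of_subsingleton (ModuleCat.of A PUnit.{u + 1})).of_iso
            (HomologicalComplex.singleObjXSelf (ComplexShape.up ℤ) 0 _)
        · exact HomologicalComplex.isZero_single_obj_X (ComplexShape.up ℤ) 0 _ i hi
      exact quasiIso_τ₂' (evShort I _) hS (homCxOpp_shortExact I hinj (homCxOpp_shortExact I hinj hS))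
        (key p.asIdeal p.2) (quasiIso_of_isZero_X _ hz (isZero_homCx_X fun i => isZero_homCx_X hz i))
    | exact N₁ N₂ N₃ f g hf hg hfg ih₁ ih₃ =>
      have hS := (LC17.shortExact_of_exact f g hf hg hfg).map_of_exact
        (HomologicalComplex.single (ModuleCat.{u} A) (ComplexShape.up ℤ) 0)
      exact quasiIso_τ₂' (evShort I _) hS (homCxOpp_shortExact I hinj (homCxOpp_shortExact I hinj hS)) ih₁ ih₃
  intro p
  induction p using IsWellFounded.induction (· > · : Ideal A → Ideal A → Prop) with
  | ind p ih =>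
    intro hp
    by_cases hm : p = IsLocalRing.maximalIdeal A
    · rw [hm]; exact ev_residue I a b hI hinj d hvan hd
    obtain ⟨x, hxm, hxp⟩ := SetLike.exists_of_lt (lt_of_le_of_ne (IsLocalRing.le_maximalIdeal hp.ne_top) hm)
    let f : (A ⧸ p) →ₗ[A] A ⧸ p := x • LinearMap.id
    have hfinj : Function.Injective f := by
      rw [injective_iff_map_eq_zero]
      intro y hy
      obtain ⟨y, rfl⟩ := Ideal.Quotient.mk_surjective y
      rw [LinearMap.smul_apply, LinearMap.id_apply, ← Ideal.Quotient.mkₐ_eq_mk A, ← map_smul,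
        Ideal.Quotient.mkₐ_eq_mk, Ideal.Quotient.eq_zero_iff_mem] at hy
      exact Ideal.Quotient.eq_zero_iff_mem.2 ((hp.mem_or_mem hy).resolve_left hxp)
    refine ev_of_nakayama I a b hI hinj hfin (A ⧸ p) ((A ⧸ p) ⧸ LinearMap.range f) hxm
      (LinearMap.range f).mkQ hfinj (Submodule.mkQ_surjective _) (LinearMap.exact_map_mkQ_range f) ?_
    -- the quotient by x is built from larger primes
    suffices H : ∀ (Q : Type u) [AddCommGroup Q] [Module A Q] [Module.Finite A Q],
        (∀ q ∈ Module.support A Q, p < q.asIdeal) → QuasiIso (ev (sgl (ModuleCat.of A Q)) I) from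
      H _ (fun q hq => by
        have hann := Module.mem_support_iff_of_finite.1 hq
        refine lt_of_le_of_ne (le_trans (fun a ha => Module.mem_annihilator.2 fun y => ?_) hann)
          fun heq => hxp (heq ▸ hann (Module.mem_annihilator.2 fun y => ?_))
        · obtain ⟨y, rfl⟩ := Submodule.Quotient.mk_surjective _ y
          obtain ⟨y, rfl⟩ := Ideal.Quotient.mk_surjective y
          rw [← Submodule.Quotient.mk_smul, ← Ideal.Quotient.mkₐ_eq_mk A, ← map_smul,
            Ideal.Quotient.mkₐ_eq_mk, smul_eq_mul,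
            Ideal.Quotient.eq_zero_iff_mem.2 (Ideal.mul_mem_right _ _ ha), Submodule.Quotient.mk_zero]
        · obtain ⟨y, rfl⟩ := Submodule.Quotient.mk_surjective _ y
          exact (Submodule.Quotient.mk_eq_zero _).2 ⟨y, rfl⟩)
    intro Q _ _ _
    induction ‹Module.Finite A Q› using IsNoetherianRing.induction_on_isQuotientEquivQuotientPrime A with
    | subsingleton Q =>
      intro _
      have hz : ∀ i, IsZero ((sgl (ModuleCat.of A Q)).X i) := fun i => by
        by_cases hi : i = 0
        · subst hi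
          exact (ModuleCat.isZero_of_subsingleton (ModuleCat.of A Q)).of_iso
            (HomologicalComplex.singleObjXSelf (ComplexShape.up ℤ) 0 _)
        · exact HomologicalComplex.isZero_single_obj_X (ComplexShape.up ℤ) 0 _ i hi
      exact quasiIso_of_isZero_X _ hz (isZero_homCx_X fun i => isZero_homCx_X hz i)
    | quotient Q q e =>
      intro hQ
      have hS := (LC17.shortExact_of_exact e.symm.toLinearMap (0 : Q →ₗ[A] PUnit.{u + 1}) e.symm.injective
        (fun y => ⟨0, Subsingleton.elim _ _⟩) (fun y => ⟨fun _ => e.symm.surjective y, fun _ => Subsingleton.elim _ _⟩)).map_of_exact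
        (HomologicalComplex.single (ModuleCat.{u} A) (ComplexShape.up ℤ) 0)
      have hz : ∀ i, IsZero ((sgl (ModuleCat.of A PUnit.{u + 1})).X i) := fun i => by
        by_cases hi : i = 0
        · subst hi
          exact (ModuleCat.isZero_of_subsingleton (ModuleCat.of A PUnit.{u + 1})).of_iso
            (HomologicalComplex.singleObjXSelf (ComplexShape.up ℤ) 0 _)
        · exact HomologicalComplex.isZero_single_obj_X (ComplexShape.up ℤ) 0 _ i hi
      have hpq : p < q.asIdeal := hQ q (by
        rw [e.support_eq, Module.mem_support_iff_of_finite, Ideal.annihilator_quotient])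
      exact quasiIso_τ₂' (evShort I _) hS (homCxOpp_shortExact I hinj (homCxOpp_shortExact I hinj hS))
        (ih q.asIdeal hpq q.2) (quasiIso_of_isZero_X _ hz (isZero_homCx_X fun i => isZero_homCx_X hz i))
    | exact N₁ N₂ N₃ f g hf hg hfg ih₁ ih₃ =>
      intro hQ
      have hS := (LC17.shortExact_of_exact f g hf hg hfg).map_of_exact
        (HomologicalComplex.single (ModuleCat.{u} A) (ComplexShape.up ℤ) 0)
      have hsupp := Module.support_of_exact hfg hf hg
      exact quasiIso_τ₂' (evShort I _) hS (homCxOpp_shortExact I hinj (homCxOpp_shortExact I hinj hS))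
        (ih₁ fun q hq => hQ q (hsupp.symm ▸ Or.inl hq)) (ih₃ fun q hq => hQ q (hsupp.symm ▸ Or.inr hq))

include hI hinj hfin hvan hd in
theorem isDualizing_of_model : Dual.IsDualizing A ((QA A).obj I) := by
  haveI := kinj_of_terms I a b hI hinj
  set R := (QA A).obj I with hR
  have hev : QuasiIso (ev (sgl (ModuleCat.of A A)) I) := ev_finite I a b hI hinj hfin d hvan hd A
  set S := sgl (ModuleCat.of A A) with hS
  set V := DRing.homCx S I with hV
  let x1 : S.X 0 := (HomologicalComplex.singleObjXSelf (ComplexShape.up ℤ) 0 (ModuleCat.of A A)).toLinearEquiv.symm 1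
  have hx1 : ∀ v : S.X 0, ∃ c : A, c • x1 = v := fun v =>
    ⟨(HomologicalComplex.singleObjXSelf (ComplexShape.up ℤ) 0 (ModuleCat.of A A)).toLinearEquiv v, by
      simp only [x1, ← map_smul, smul_eq_mul, mul_one, LinearEquiv.symm_apply_apply]⟩
  have hd0 : (S.d 0 1).hom x1 = 0 := by
    rw [(HomologicalComplex.isZero_single_obj_X (ComplexShape.up ℤ) 0 _ (1 : ℤ) (by omega)).eq_of_tgt (S.d 0 1) 0]
    rfl
  let ψ : V ⟶ I := Cocycle.homOf ⟨evC I x1, (Cocycle.mem_iff 0 1 rfl _).2 (by
    have := δ_evC I 0 x1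
    rw [zero_add] at this
    rw [this, hd0]
    exact map_zero ((ev S I).f 1).hom)⟩
  have hψf : ∀ q, ψ.f q = (evC I x1).v q q (add_zero q) := fun q => rfl
  haveI hψ : ∀ q, IsIso (ψ.f q) := fun q => by
    rw [isIso_iff_bijective]
    constructor
    · intro (z : Cochain S I q) (z' : Cochain S I q) hzz
      rw [hψf, evC_v, evC_v, zero_mul, Int.negOnePow_zero, one_smul, one_smul] at hzz
      refine Cochain.ext _ _ fun p r hr => ?_
      by_cases hp : p = 0
      · subst hp
        obtain rfl : r = q := by omega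
        refine ModuleCat.hom_ext (LinearMap.ext fun v => ?_)
        obtain ⟨c, rfl⟩ := hx1 v
        rw [map_smul, map_smul]
        exact congrArg (c • ·) hzz
      · exact (HomologicalComplex.isZero_single_obj_X (ComplexShape.up ℤ) 0 _ p hp).eq_of_src _ _
    · intro (t : I.X q)
      let z0 : Cochain S I q := Cochain.fromSingleMk (p := 0) (ModuleCat.ofHom (X := A) (Y := I.X q)
        (LinearMap.toSpanSingleton A (I.X q) t)) (zero_add q)
      refine ⟨z0, ?_⟩
      show ((evC I x1).v q q (add_zero q)).hom z0 = t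
      rw [evC_v, zero_mul, Int.negOnePow_zero, one_smul]
      erw [Cochain.fromSingleMk_v]
      show LinearMap.toSpanSingleton A (I.X q) t
        ((HomologicalComplex.singleObjXSelf (ComplexShape.up ℤ) 0 (ModuleCat.of A A)).toLinearEquiv x1) = t
      simp only [x1, LinearEquiv.apply_symm_apply, LinearMap.toSpanSingleton_apply, one_smul]
  haveI : IsIso ψ := HomologicalComplex.Hom.isIso_of_components ψ
  -- homology of the double dual
  have hH : ∀ j : ℤ, j ≠ 0 → Subsingleton (R ⟶ R⟦j⟧) := fun j hj => by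
    have hz : IsZero ((DRing.homCx V I).homology j) := by
      haveI := hev.quasiIsoAt j
      exact (ShortComplex.isZero_homology_of_isZero_X₂ _
        (HomologicalComplex.isZero_single_obj_X (ComplexShape.up ℤ) 0 _ j hj)).of_iso
        (asIso (HomologicalComplex.homologyMap (ev S I) j)).symm
    haveI := ModuleCat.subsingleton_of_isZero hz
    exact @Equiv.subsingleton _ _ ((CategoryTheory.Linear.homCongr A ((QA A).mapIso (asIso ψ)).symm
      (Iso.refl _)).trans ((CategoryTheory.Linear.homCongr A (Iso.refl ((QA A).obj V))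
        (((QA A).commShiftIso j).app I)).symm.trans (homologyHomCxEquiv V I j).symm)).toEquiv this
  have hb : Function.Bijective fun c : A => c • 𝟙 R := by
    have hev0 := hev.quasiIsoAt 0
    rw [quasiIsoAt_iff_isIso_homologyMap, isIso_iff_bijective] at hev0
    constructor
    · intro c c' hcc
      rw [← sub_eq_zero]
      set e := c - c'
      have he : (QA A).map (e • ψ) = (QA A).map 0 := by
        rw [Functor.map_smul, Functor.map_zero, sub_smul, ← Category.comp_id ((QA A).map ψ),
          ← Linear.comp_smul, ← Linear.comp_smul, show c • 𝟙 R = c' • 𝟙 R from hcc, sub_self]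
      obtain ⟨H⟩ := (Q_map_eq_iff_of_kinj (e • ψ) 0).1 he
      have hH' := Cochain.ofHom (0 : V ⟶ I)
      have h1 : δ (0 - 1) 0 (Cochain.ofHomotopy H) = evC I (e • x1) := by
        show δ (-1) 0 (Cochain.ofHomotopy H) = _
        rw [δ_ofHomotopy, Cochain.ofHom_zero, sub_zero]
        refine Cochain.ext₀ _ _ fun p => ?_
        rw [Cochain.ofHom_v, show evC I (e • x1) = e • evC I x1 from map_smul ((ev S I).f 0).hom e x1,
          Cochain.smul_v]
        rfl
      have h2 := (injective_homologyMap_iff _ 0).1 hev0.1 (e • x1) (by rw [map_smul]; exact (congrArg (e • ·) hd0).trans (smul_zero e)) _ h1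
      obtain ⟨w, hw⟩ := h2
      rw [(HomologicalComplex.isZero_single_obj_X (ComplexShape.up ℤ) 0 _ (0 - 1 : ℤ) (by omega)).eq_of_src
        (S.d (0 - 1) 0) 0] at hw
      have h3 : e • x1 = 0 := hw.symm
      simpa [x1, ← map_smul] using h3
    · intro f
      obtain ⟨g, hg⟩ := Q_map_surjective_of_kinj V I ((QA A).map ψ ≫ f)
      obtain ⟨v, -, w, hw⟩ := (surjective_homologyMap_iff _ 0).1 hev0.2 (Cochain.ofHom g)
        (show δ 0 (0 + 1) (Cochain.ofHom g) = 0 by simp)
      obtain ⟨c, rfl⟩ := hx1 v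
      refine ⟨c, ?_⟩
      have hh : Cochain.ofHom (c • ψ) = δ (-1) 0 (show Cochain V I (-1) from w) + Cochain.ofHom g := by
        change δ (-1) 0 (show Cochain V I (-1) from w) = evC I (c • x1) - Cochain.ofHom g at hw
        rw [hw, sub_add_cancel]
        refine Cochain.ext₀ _ _ fun p => ?_
        rw [Cochain.ofHom_v, show evC I (c • x1) = c • evC I x1 from map_smul ((ev S I).f 0).hom c x1,
          Cochain.smul_v]
        rfl
      have h0 := DerivedCategory.Q_map_eq_of_homotopy (C := ModuleCat.{u} A)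
        ((Cochain.equivHomotopy _ _).symm ⟨_, hh⟩)
      change (QA A).map (c • ψ) = (QA A).map g at h0
      rw [hg, Functor.map_smul, ← Category.comp_id ((QA A).map ψ), ← Linear.comp_smul, Category.comp_id] at h0
      exact (cancel_epi ((QA A).map ψ)).1 h0
  refine ⟨inferInstance, ⟨a, b, fun M _ _ i hi => subsingleton_hom_of_ia (X := R) (a := a) (b := b)
      ⟨I, (vanishesOutside_iff _ _ _).2 fun j hj => hI j (by rw [Set.mem_Icc] at hj; omega), hinj,
        ⟨Iso.refl _⟩⟩ M hi⟩, hfin, hb, hH⟩

omit I a b hI hinj hfin d hvan hd in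
theorem isDualizing_of_residue (R : Dual.D A) (hfin : ∀ i : ℤ, Module.Finite A (Dual.HD A R i)) (a : ℤ)
    (hlow : ∀ i, i < a → IsZero ((HF A i).obj R)) (d : ℤ)
    (hvan : ∀ i : ℤ, i ≠ d → Subsingleton (Dual.inD A (A ⧸ IsLocalRing.maximalIdeal A) ⟶ R⟦i⟧))
    (hd : Nonempty ((Dual.inD A (A ⧸ IsLocalRing.maximalIdeal A) ⟶ R⟦d⟧) ≃ₗ[A]
      (A ⧸ IsLocalRing.maximalIdeal A))) : Dual.IsDualizing A R := by
  have hres : ∀ (M : Ideal A), M.IsMaximal → ∀ i, d < i → Subsingleton (Dual.inD A (A ⧸ M) ⟶ R⟦i⟧) :=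
    fun M hM i hi => by rw [IsLocalRing.eq_maximalIdeal hM]; exact hvan i (by omega)
  have hab : ∀ i, d < i → IsZero ((HF A i).obj R) := fun i hi => isZero_HF_of_ext_ring (X := R) (n := i)
    (subsingleton_gm_iff.2 (gAnn_top_of_residue hlow hfin d
      (fun M hM k hk => (LC17.gAnn_eq_top_iff R).2 fun f => @Subsingleton.elim _ (hres M hM k hk) f 0) A hi))
  obtain ⟨E, hv, hI, ⟨e⟩⟩ := ia_of_ext (X := R) a d fun J i hi => ia_of_residue hlow hfin d hab hres (A ⧸ J) i hi
  obtain ⟨hd⟩ := hd
  let c : ∀ i, LC17.GM ((QA A).obj E) (ModuleCat.of A (A ⧸ IsLocalRing.maximalIdeal A)) i ≃ₗ[A]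
      (Dual.inD A (A ⧸ IsLocalRing.maximalIdeal A) ⟶ R⟦i⟧) := fun i =>
    CategoryTheory.Linear.homCongr A (Iso.refl _) ((CategoryTheory.shiftFunctor (Dual.D A) i).mapIso e)
  refine isDualizing_of_iso (isDualizing_of_model E a d
    (fun i hi => hv i hi) hI (fun i => ?_) d
    (fun i hi => @Equiv.subsingleton _ _ (c i).toEquiv (hvan i hi)) ((c d).trans hd)) e
  haveI := hfin i
  exact Module.Finite.equiv ((HF A i).mapIso e).symm.toLinearEquiv

end Groth.Agent.DR39
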