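import Groth.Agent.DR39.LocalDual4
import Groth.Agent.DR39.Crit

/-! Pointwise dualizing complexes on a ring of finite dimension. -/

set_option autoImplicit false
set_option linter.style.haveILetI false
set_option linter.unusedSectionVars false

universe u

open CategoryTheory CategoryTheory.Limits CategoryTheory.Pretriangulated TensorProduct

attribute [local instance] HasDerivedCategory.standard

namespace Groth.Agent.DR39

variable {A : Type u} [CommRing A]

theorem nontrivial_HF_DF_iff (p : Ideal A) [p.IsPrime] (X : Dual.D A) (i : ℤ) :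
    Nontrivial ((HF (Localization.AtPrime p) i).obj ((DF (extA A (Localization.AtPrime p))).obj X)) ↔
      Nontrivial (LocalizedModule p.primeCompl ((HF A i).obj X)) := by
  obtain ⟨e⟩ := HF_DF (extA A (Localization.AtPrime p)) X i
  obtain ⟨e'⟩ := ext_tensorIso (Localization.AtPrime p) ((HF A i).obj X)
  exact ((e ≪≫ e').toLinearEquiv.toEquiv.trans
    (LocalizedModule.equivTensorProduct p.primeCompl ((HF A i).obj X)).symm.toEquiv).nontrivial_congr

theorem exists_HF_ne_zero {ω : Dual.D A} [Nontrivial A] (hω : Dual.IsDualizing A ω) :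
    ∃ i, Nontrivial ((HF A i).obj ω) := by
  by_contra h
  push Not at h
  have hz : IsZero ω := isZero_of_forall fun i =>
    ModuleCat.isZero_iff_subsingleton.2 (h i)
  exact one_ne_zero (hω.toEnd_bijective.1 (show (1 : A) • 𝟙 ω = (0 : A) • 𝟙 ω from hz.eq_of_src _ _))

theorem residue_vanish_above [IsLocalRing A] {ω : Dual.D A} (hω : Dual.IsDualizing A ω) {N : ℕ}
    (hN : ringKrullDim A ≤ (N : ℕ∞)) {i : ℤ} (hi : Nontrivial ((HF A i).obj ω)) {j : ℤ} (hj : i + N < j) :
    Subsingleton (Dual.inD A (A ⧸ IsLocalRing.maximalIdeal A) ⟶ ω⟦j⟧) := by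
  haveI := hω.isNoetherianRing
  obtain ⟨n, hn⟩ := exists_normalized hω
  obtain ⟨d, hd⟩ := EGA4Alg4.exists_supportDim_eq (A := A) (M := A)
  have hd' : Module.supportDim A A = (d : ℕ∞) := hd
  have hdN : d ≤ N := by
    have h1 := (Module.supportDim_le_ringKrullDim A A).trans hN
    rw [hd'] at h1
    exact_mod_cast h1
  have hnt : Nontrivial (Dual.inD A A ⟶ ω⟦n⟧⟦i - n⟧) :=
    ((Iso.homToEquiv ((CategoryTheory.shiftFunctorAdd' (Dual.D A) n (i - n) i (by omega)).app ω)).symm.trans
      (gmSelfEquiv ω i).toEquiv).nontrivial_congr.2 hi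
  have hb := bounds_of_nontrivial (isDualizing_shift hω n) hn A hd' hnt
  exact @Equiv.subsingleton _ _
    (Iso.homToEquiv ((CategoryTheory.shiftFunctorAdd' (Dual.D A) n (j - n) j (by omega)).app ω))
    (hn (j - n) (by omega))

theorem isDualizing_of_pointwise [IsNoetherianRing A] (hdim : ringKrullDim A < ⊤) {R : Dual.D A}
    (hfin : ∀ i : ℤ, Module.Finite A (Dual.HD A R i)) {a : ℤ} (hlow : ∀ i, i < a → IsZero ((HF A i).obj R))
    (h : ∀ p : Ideal A, ∀ [p.IsPrime], Dual.IsDualizing (Localization.AtPrime p)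
      ((DF (extA A (Localization.AtPrime p))).obj R)) :
    Dual.IsDualizing A R := by
  classical
  obtain ⟨N, hN⟩ : ∃ N : ℕ, ringKrullDim A ≤ (N : ℕ∞) := by
    cases hk : ringKrullDim A with
    | bot => exact ⟨0, bot_le⟩
    | coe d =>
      rw [hk] at hdim
      obtain ⟨N, rfl⟩ := ENat.ne_top_iff_exists.1 (fun htop : d = ⊤ => by simp [htop] at hdim)
      exact ⟨N, le_rfl⟩
  have hex : ∀ q : minimalPrimes A, ∃ i : ℤ,
      Nontrivial (LocalizedModule (Ideal.primeCompl q.1 (hp := q.2.1.1)) ((HF A i).obj R)) := fun q => by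
    haveI := q.2.1.1
    obtain ⟨i, hi⟩ := exists_HF_ne_zero (h q.1)
    exact ⟨i, (nontrivial_HF_DF_iff q.1 R i).1 hi⟩
  choose iq hiq using hex
  haveI : Finite (minimalPrimes A) := (minimalPrimes.finite_of_isNoetherianRing A).to_subtype
  cases nonempty_fintype (minimalPrimes A)
  let b : ℤ := ((Finset.univ : Finset (minimalPrimes A)).image fun q => iq q + N).fold max a id
  have hb : ∀ q, iq q + N ≤ b := fun q => by
    rw [Finset.le_fold_max]
    exact Or.inr ⟨iq q + N, Finset.mem_image_of_mem _ (Finset.mem_univ q), le_rfl⟩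
  have hres : ∀ (M : Ideal A), M.IsMaximal → ∀ j, b < j → Subsingleton (Dual.inD A (A ⧸ M) ⟶ R⟦j⟧) := by
    intro M hM j hj
    haveI : Module.Finite A (LC17.GM R (ModuleCat.of A (A ⧸ M)) j) := finite_hom_inD hlow hfin j (A ⧸ M)
    by_contra hne
    obtain ⟨P, hP⟩ := (Module.nonempty_support_iff (R := A) (M := LC17.GM R (ModuleCat.of A (A ⧸ M)) j)).2 (not_subsingleton_iff_nontrivial.1 hne)
    have hMP : M ≤ P.asIdeal := fun x hx => by
      refine Module.mem_support_iff_of_finite.1 hP (Module.mem_annihilator.2 fun f => ?_)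
      exact smul_gm_eq_zero M R j hx f
    have hPM : P.asIdeal = M := (hM.eq_of_le P.2.ne_top hMP).symm
    subst hPM
    haveI : P.asIdeal.IsMaximal := hM
    obtain ⟨q, hq, hqP⟩ := Ideal.exists_minimalPrimes_le (I := (⊥ : Ideal A)) (J := P.asIdeal) bot_le
    haveI := hq.1.1
    have hi : Nontrivial (LocalizedModule P.asIdeal.primeCompl ((HF A (iq ⟨q, hq⟩)).obj R)) := by
      haveI := hfin (iq ⟨q, hq⟩)
      rw [← Module.mem_support_iff]
      exact Module.mem_support_mono (p := ⟨q, hq.1.1⟩) hqP (Module.mem_support_iff.2 (hiq ⟨q, hq⟩))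
    let B := Localization.AtPrime P.asIdeal
    have hNB : ringKrullDim B ≤ (N : ℕ∞) :=
      ((IsLocalization.AtPrime.ringKrullDim_eq_height P.asIdeal B).trans_le (Ideal.height_le_ringKrullDim_of_ne_top P.2.ne_top)).trans hN
    have hz := residue_vanish_above (h P.asIdeal) hNB ((nontrivial_HF_DF_iff P.asIdeal R _).2 hi)
      (j := j) (by have := hb ⟨q, hq⟩; omega)
    obtain ⟨e'⟩ := exists_inD_quotient_iso B P.asIdeal
    rw [Localization.AtPrime.map_eq_maximalIdeal] at e'
    haveI hs : Subsingleton ((DF (extA A B)).obj (Dual.inD A (A ⧸ P.asIdeal)) ⟶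
        (DF (extA A B)).obj (R⟦j⟧)) :=
      @Equiv.subsingleton _ _ (Iso.homCongr e' (((DF (extA A B)).commShiftIso j).app R)) hz
    have hg : Good B (Dual.inD A (A ⧸ P.asIdeal)) (R⟦j⟧) := good_shift B (pc_inD (A ⧸ P.asIdeal)) hlow j
    have h1 := Module.mem_support_iff.1 hP
    have h2 : Nontrivial (B ⊗[A] (Dual.inD A (A ⧸ P.asIdeal) ⟶ R⟦j⟧)) :=
      (LocalizedModule.equivTensorProduct P.asIdeal.primeCompl
        (LC17.GM R (ModuleCat.of A (A ⧸ P.asIdeal)) j)).toEquiv.nontrivial_congr.1 h1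
    exact not_subsingleton _ hg.1.subsingleton
  have hab : ∀ i, b < i → IsZero ((HF A i).obj R) := fun i hi => isZero_HF_of_ext_ring (X := R) (n := i)
    (subsingleton_gm_iff.2 (gAnn_top_of_residue hlow hfin b
      (fun M hM k hk => (LC17.gAnn_eq_top_iff R).2 fun f => @Subsingleton.elim _ (hres M hM k hk) f 0) A hi))
  exact isDualizing_of_atMaximal hfin (ia_of_residue hlow hfin b hab hres) fun P hP => h P

end Groth.Agent.DR39
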