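import Groth.Agent.DR39.LocalDual4
import Groth.Agent.DR39.LocalDual3
import Groth.Agent.DR39.Pointwise
import Groth.Agent.EGA4Alg4.CMMod
import Groth.Agent.CAlg1.SerreNormal

/-! The bottom cohomology of a normalized dualizing complex satisfies (S₂). -/

set_option autoImplicit false
set_option linter.style.haveILetI false
set_option linter.unusedSectionVars false

universe u

open CategoryTheory CategoryTheory.Limits CategoryTheory.Pretriangulated TensorProduct RingTheory.Sequence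
open scoped Pointwise

attribute [local instance] HasDerivedCategory.standard

namespace Groth.Agent.DR39

section Local

variable {A : Type u} [CommRing A] [IsLocalRing A] {ω : Dual.D A} (hω : Dual.IsDualizing A ω)
  (hn : Dual.IsNormalized A ω)
include hω hn

theorem gm_eq_zero_of_dim (M : Type u) [AddCommGroup M] [Module A M] [Module.Finite A M] (k : ℕ)
    (hM : ∀ q ∈ Module.support A M, ringKrullDim (A ⧸ q.asIdeal) ≤ (k : ℕ∞)) (i : ℤ) (hi : i < -(k : ℤ))
    (f : LC17.GM ω (ModuleCat.of A M) i) : f = 0 :=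
  (LC17.gAnn_eq_top_iff ω).1 (gAnn_top_of_lt hω hn k M (le_supportDim_quotient hM) i (by omega)) f

theorem exists_bottom_embedding (M : Type u) [AddCommGroup M] [Module A M] [Module.Finite A M] (δ : ℕ)
    (hM : ∀ q ∈ Module.support A M, ringKrullDim (A ⧸ q.asIdeal) ≤ ((δ + 1 : ℕ) : ℕ∞)) (x : A)
    (hx : ∀ q ∈ Module.support A M, x ∈ q.asIdeal → ringKrullDim (A ⧸ q.asIdeal) ≤ (δ : ℕ∞)) :
    IsSMulRegular (LC17.GM ω (ModuleCat.of A M) (-((δ + 1 : ℕ) : ℤ))) x ∧
      ∃ (Q : Submodule A M) (Φ : QuotSMulTop x (LC17.GM ω (ModuleCat.of A M) (-((δ + 1 : ℕ) : ℤ))) →ₗ[A]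
          LC17.GM ω (ModuleCat.of A (M ⧸ Q)) (-(δ : ℤ))),
        Function.Injective Φ ∧ ∀ q ∈ Module.support A (M ⧸ Q), q ∈ Module.support A M ∧ x ∈ q.asIdeal := by
  haveI := hω.isNoetherianRing
  let μ : M →ₗ[A] M := x • LinearMap.id
  let K : Submodule A M := LinearMap.range μ
  let N : Submodule A M := LinearMap.ker μ.rangeRestrict
  let c : ℤ := -((δ + 1 : ℕ) : ℤ)
  have hN : ∀ q ∈ Module.support A N, q ∈ Module.support A M ∧ x ∈ q.asIdeal := fun q hq =>
    ⟨Module.support_subset_of_injective N.subtype N.injective_subtype hq,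
      Module.mem_support_iff_of_finite.1 hq (Module.mem_annihilator.2 fun m =>
        Subtype.ext (show x • (m : M) = 0 from congrArg Subtype.val (LinearMap.mem_ker.1 m.2)))⟩
  have hQ : ∀ q ∈ Module.support A (M ⧸ K), q ∈ Module.support A M ∧ x ∈ q.asIdeal := fun q hq =>
    ⟨Module.support_subset_of_surjective K.mkQ K.mkQ_surjective hq,
      Module.mem_support_iff_of_finite.1 hq (Module.mem_annihilator.2 fun m => by
        obtain ⟨m, rfl⟩ := Submodule.Quotient.mk_surjective _ m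
        exact (Submodule.Quotient.mk_eq_zero K).2 ⟨m, rfl⟩)⟩
  have dN : ∀ q ∈ Module.support A N, ringKrullDim (A ⧸ q.asIdeal) ≤ (δ : ℕ∞) := fun q hq =>
    hx q (hN q hq).1 (hN q hq).2
  have dQ : ∀ q ∈ Module.support A (M ⧸ K), ringKrullDim (A ⧸ q.asIdeal) ≤ (δ : ℕ∞) := fun q hq =>
    hx q (hQ q hq).1 (hQ q hq).2
  have hS1 := LC17.shortExact_of_exact K.subtype K.mkQ (Submodule.subtype_injective _)
    (Submodule.mkQ_surjective _) (LinearMap.exact_subtype_mkQ K)
  have hS2 := LC17.shortExact_of_exact N.subtype μ.rangeRestrict (Submodule.subtype_injective _)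
    μ.surjective_rangeRestrict (LinearMap.exact_subtype_ker_map _)
  let a : LC17.GM ω (ModuleCat.of A M) c →ₗ[A] LC17.GM ω (ModuleCat.of A K) c :=
    LC17.pre ω (ModuleCat.ofHom K.subtype) c
  let b : LC17.GM ω (ModuleCat.of A K) c →ₗ[A] LC17.GM ω (ModuleCat.of A M) c :=
    LC17.pre ω (ModuleCat.ofHom μ.rangeRestrict) c
  have hba : ∀ f, b (a f) = x • f := fun f => by
    show LC17.pre ω _ c (LC17.pre ω _ c f) = _
    rw [LC17.pre_pre, show ModuleCat.ofHom μ.rangeRestrict ≫ ModuleCat.ofHom K.subtype =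
      x • 𝟙 (ModuleCat.of A M) from rfl, LC17.pre_smul_id]
  have ha : Function.Injective a := (injective_iff_map_eq_zero a).2 fun f hf => by
    obtain ⟨g, rfl⟩ := LC17.exact₂ ω hS1 c f hf
    rw [gm_eq_zero_of_dim hω hn _ δ dQ c (by show -((δ + 1 : ℕ) : ℤ) < _; omega) g, map_zero]
  have hb : Function.Bijective b := by
    refine ⟨(injective_iff_map_eq_zero b).2 fun f hf => ?_, fun f => ?_⟩
    · obtain ⟨g, rfl⟩ := LC17.exact₃ ω hS2 (c - 1) c (by omega) f hf
      rw [gm_eq_zero_of_dim hω hn _ δ dN (c - 1) (by show -((δ + 1 : ℕ) : ℤ) - 1 < _; omega) g, map_zero]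
    · exact LC17.exact₂ ω hS2 c f
        (gm_eq_zero_of_dim hω hn _ δ dN c (by show -((δ + 1 : ℕ) : ℤ) < _; omega) _)
  refine ⟨fun f g hfg => ha (hb.1 ((hba f).trans (hfg.trans (hba g).symm))), K, ?_⟩
  have hc : c + 1 = -(δ : ℤ) := by show -((δ + 1 : ℕ) : ℤ) + 1 = _; omega
  let φ : LC17.GM ω (ModuleCat.of A M) c →ₗ[A] LC17.GM ω (ModuleCat.of A (M ⧸ K)) (-(δ : ℤ)) :=
    LC17.conn ω hS1 c (-(δ : ℤ)) hc ∘ₗ (LinearEquiv.ofBijective b hb).symm.toLinearMap
  have hconn : ∀ u, LC17.conn ω hS1 c (-(δ : ℤ)) hc (a u) = 0 := fun u => by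
    show hS1.singleδ ≫ (shiftFunctor (Dual.D A) (1 : ℤ)).map
      ((DerivedCategory.singleFunctor _ 0).map (ModuleCat.ofHom K.subtype) ≫ u) ≫ _ = 0
    rw [Functor.map_comp, Category.assoc, ← Category.assoc]
    refine Eq.trans (congrArg (· ≫ _) ?_) zero_comp
    exact comp_distTriang_mor_zero₃₁ _ hS1.singleTriangle_distinguished
  have hzero : (x • (⊤ : Submodule A (LC17.GM ω (ModuleCat.of A M) c))) ≤ LinearMap.ker φ := fun f hf => by
    obtain ⟨u, -, rfl⟩ := Submodule.mem_smul_pointwise_iff_exists _ _ _ |>.1 hf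
    show LC17.conn ω hS1 c (-(δ : ℤ)) hc ((LinearEquiv.ofBijective b hb).symm (x • u)) = 0
    rw [← hba u, show (LinearEquiv.ofBijective b hb).symm (b (a u)) = a u from
      (LinearEquiv.ofBijective b hb).symm_apply_apply (a u)]
    exact hconn u
  refine ⟨Submodule.liftQ _ φ hzero, (injective_iff_map_eq_zero _).2 fun f hf => ?_, hQ⟩
  obtain ⟨f, rfl⟩ := Submodule.Quotient.mk_surjective _ f
  obtain ⟨u, hu⟩ := LC17.exact₁ ω hS1 c (-(δ : ℤ)) hc _
    (show LC17.conn ω hS1 c (-(δ : ℤ)) hc ((LinearEquiv.ofBijective b hb).symm f) = 0 from hf)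
  refine (Submodule.Quotient.mk_eq_zero _).2 ((Submodule.mem_smul_pointwise_iff_exists _ _ _).2 ⟨u, trivial, ?_⟩)
  rw [← hba u, show a u = (LinearEquiv.ofBijective b hb).symm f from hu]
  exact (LinearEquiv.ofBijective b hb).apply_symm_apply f

theorem exists_dropping_element (M : Type u) [AddCommGroup M] [Module A M] [Module.Finite A M] (δ : ℕ)
    (hM : ∀ q ∈ Module.support A M, ringKrullDim (A ⧸ q.asIdeal) ≤ ((δ + 1 : ℕ) : ℕ∞)) :
    ∃ x ∈ IsLocalRing.maximalIdeal A,
      ∀ q ∈ Module.support A M, x ∈ q.asIdeal → ringKrullDim (A ⧸ q.asIdeal) ≤ (δ : ℕ∞) := by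
  haveI := hω.isNoetherianRing
  let s : Set (Ideal A) := {P ∈ (Module.annihilator A M).minimalPrimes | ringKrullDim (A ⧸ P) = ((δ + 1 : ℕ) : ℕ∞)}
  have hs : s.Finite := (Module.annihilator A M).finite_minimalPrimes_of_isNoetherianRing.subset fun P hP => hP.1
  have hne : ¬ ((IsLocalRing.maximalIdeal A : Set A) ⊆ ⋃ P ∈ s, (P : Ideal A)) := by
    intro hsub
    obtain ⟨P, hP, hle⟩ := (Ideal.subset_union_prime_finite hs (f := fun P : Ideal A => P) ⊥ ⊥
      fun P hP _ _ => hP.1.1.1).1 hsub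
    obtain rfl := (IsLocalRing.maximalIdeal.isMaximal A).eq_of_le hP.1.1.1.ne_top hle
    have h0 : ringKrullDim (A ⧸ IsLocalRing.maximalIdeal A) = 0 :=
      ringKrullDim_eq_zero_of_isField ((Ideal.Quotient.maximal_ideal_iff_isField_quotient _).1 inferInstance)
    rw [hP.2] at h0
    exact absurd h0 (by exact_mod_cast (show δ + 1 ≠ 0 by omega))
  obtain ⟨x, hxm, hxs⟩ := Set.not_subset.1 hne
  refine ⟨x, hxm, fun q hq hxq => ?_⟩
  obtain ⟨e, he⟩ := exists_dim_quotient hω hn q.asIdeal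
  have hle := hM q hq
  rw [he] at hle ⊢
  have hle' : e ≤ δ + 1 := by exact_mod_cast hle
  refine WithBot.coe_le_coe.2 (Nat.cast_le.2 ?_)
  by_contra hlt
  obtain rfl : e = δ + 1 := by omega
  obtain ⟨P, hP, hPq⟩ := Ideal.exists_minimalPrimes_le (Module.mem_support_iff_of_finite.1 hq)
  haveI : P.IsPrime := hP.1.1
  by_cases heq : P = q.asIdeal
  · refine hxs (Set.mem_biUnion (show P ∈ s from ⟨hP, heq ▸ he⟩) ?_)
    show x ∈ P
    rw [heq]; exact hxq
  · obtain ⟨e', he'⟩ := exists_dim_quotient hω hn P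
    have h1 := hM ⟨P, inferInstance⟩ (Module.mem_support_iff_of_finite.2 hP.1.2)
    have h2 := EGA4Alg4.ringKrullDim_quotient_lt (lt_of_le_of_ne hPq heq)
    rw [he'] at h1
    rw [he, he'] at h2
    have h1' : e' ≤ δ + 1 := by exact_mod_cast h1
    have h2' : δ + 1 < e' := by exact_mod_cast h2
    omega

theorem min_le_depth_bottom (δ : ℕ) (hd : ringKrullDim A ≤ (δ : ℕ∞)) :
    ((min δ 2 : ℕ) : ℕ∞) ≤ LocCoh.depth A (Dual.HD A ω (-(δ : ℤ))) := by
  haveI := hω.isNoetherianRing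
  haveI := hω.finite_cohomology (-(δ : ℤ))
  rcases subsingleton_or_nontrivial (Dual.HD A ω (-(δ : ℤ))) with h | h
  · rw [EGA4Alg4.depth_of_subsingleton]; exact le_top
  obtain _ | δ := δ
  · simp
  have hA : ∀ q ∈ Module.support A A, ringKrullDim (A ⧸ q.asIdeal) ≤ ((δ + 1 : ℕ) : ℕ∞) := fun q _ =>
    (ringKrullDim_le_of_surjective _ Ideal.Quotient.mk_surjective).trans hd
  obtain ⟨x, hxm, hx⟩ := exists_dropping_element hω hn A δ hA
  obtain ⟨hreg, Q, Φ, hΦ, hQ⟩ := exists_bottom_embedding hω hn A δ hA x hx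
  let e := gmSelfEquiv ω (-((δ + 1 : ℕ) : ℤ))
  obtain _ | δ := δ
  · refine EGA4Alg4.length_le_depth (rs := [x]) ?_ (by simpa using hxm)
    exact (e.isWeaklyRegular_congr [x]).1 ((isWeaklyRegular_singleton_iff _ _).2 hreg)
  have hQd : ∀ q ∈ Module.support A (A ⧸ Q), ringKrullDim (A ⧸ q.asIdeal) ≤ ((δ + 1 : ℕ) : ℕ∞) :=
    fun q hq => hx q (hQ q hq).1 (hQ q hq).2
  obtain ⟨y, hym, hy⟩ := exists_dropping_element hω hn (A ⧸ Q) δ hQd
  obtain ⟨hreg', -⟩ := exists_bottom_embedding hω hn (A ⧸ Q) δ hQd y hy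
  have hmin : min (δ + 1 + 1) 2 = 2 := by omega
  rw [hmin]
  refine EGA4Alg4.length_le_depth (rs := [x, y]) ?_ (fun r hr => by
    rcases List.mem_pair.1 hr with rfl | rfl
    exacts [hxm, hym])
  refine (e.isWeaklyRegular_congr [x, y]).1 ?_
  rw [isWeaklyRegular_cons_iff, isWeaklyRegular_singleton_iff]
  exact ⟨hreg, fun f g hfg => hΦ (hreg' (by
    show y • Φ f = y • Φ g
    rw [← map_smul, ← map_smul, show y • f = y • g from hfg]))⟩

theorem exists_atPrime_bottom {d : ℕ} (hd : ringKrullDim A = (d : ℕ∞)) (p : Ideal A) [p.IsPrime] {e : ℕ}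
    (he : ringKrullDim (A ⧸ p) = (e : ℕ∞)) :
    e ≤ d ∧ ringKrullDim (Localization.AtPrime p) ≤ ((d - e : ℕ) : ℕ∞) ∧
      Nonempty (LocalizedModule p.primeCompl (Dual.HD A ω (-(d : ℤ))) ≃ₗ[Localization.AtPrime p]
        Dual.HD (Localization.AtPrime p) (((DF (extA A (Localization.AtPrime p))).obj ω)⟦-(e : ℤ)⟧)
          (-((d - e : ℕ) : ℤ))) := by
  haveI := hω.isNoetherianRing
  have h1 : ringKrullDim (A ⧸ p) ≤ ringKrullDim A := ringKrullDim_le_of_surjective _ Ideal.Quotient.mk_surjective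
  rw [he, hd] at h1
  have hed : e ≤ d := by exact_mod_cast h1
  have h2 := EGA4Alg4.supportDim_localizedModule_add_le A p
  rw [Module.supportDim_eq_of_equiv (CAlg1.locSelfEquiv p), Module.supportDim_self_eq_ringKrullDim,
    Module.supportDim_self_eq_ringKrullDim, hd,
    EGA4Alg4.supportDim_quotient_prime (M := A) (p := ⟨p, inferInstance⟩)
      (by simp [Module.support_eq_zeroLocus, Module.annihilator_eq_bot.2])] at h2
  refine ⟨hed, ?_, ?_⟩
  · haveI : IsNoetherianRing (Localization.AtPrime p) := IsLocalization.isNoetherianRing p.primeCompl _ inferInstance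
    obtain ⟨m, hm⟩ := EGA4Alg4.exists_supportDim_eq (A := Localization.AtPrime p)
      (M := Localization.AtPrime p)
    rw [Module.supportDim_self_eq_ringKrullDim] at hm
    rw [hm]
    rw [hm, he] at h2
    have : m + e ≤ d := by exact_mod_cast h2
    exact_mod_cast (show m ≤ d - e by omega)
  · obtain ⟨e1⟩ := HF_DF (extA A (Localization.AtPrime p)) ω (-(d : ℤ))
    obtain ⟨e2⟩ := ext_tensorIso (Localization.AtPrime p) ((HF A (-(d : ℤ))).obj ω)
    let e3 := ((DerivedCategory.homologyFunctor (ModuleCat.{u} (Localization.AtPrime p)) 0).shiftIso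
      (-(e : ℤ)) (-((d - e : ℕ) : ℤ)) (-(d : ℤ)) (by omega)).app ((DF (extA A (Localization.AtPrime p))).obj ω)
    exact ⟨(LocalizedModule.equivTensorProduct p.primeCompl _).trans
      ((e3 ≪≫ e1 ≪≫ e2).toLinearEquiv.symm)⟩

end Local

theorem HD_bottom_support_and_S2 {A : Type u} [CommRing A] [IsLocalRing A] [IsNoetherianRing A] {ω : Dual.D A}
    (hω : Dual.IsDualizing A ω) (hn : Dual.IsNormalized A ω) (d : ℕ) (hd : ringKrullDim A = (d : ℕ∞)) :
    Module.support A (Dual.HD A ω (-(d : ℤ))) =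
        {p : PrimeSpectrum A | ∃ q ∈ minimalPrimes A, q ≤ p.asIdeal ∧ ringKrullDim (A ⧸ q) = d} ∧
      LocCoh.HasSk 2 A (Dual.HD A ω (-(d : ℤ))) := by
  haveI := hω.finite_cohomology (-(d : ℤ))
  have hdim : ∀ (p : Ideal A) [p.IsPrime] (e : ℕ), ringKrullDim (A ⧸ p) = (e : ℕ∞) →
      ((min (d - e) 2 : ℕ) : ℕ∞) ≤ LocCoh.depth (Localization.AtPrime p)
        (LocalizedModule p.primeCompl (Dual.HD A ω (-(d : ℤ)))) := fun p _ e he => by
    obtain ⟨-, h2, ⟨ε⟩⟩ := exists_atPrime_bottom hω hn hd p he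
    rw [EGA4Alg4.depth_eq_of_equiv ε]
    exact min_le_depth_bottom (isDualizing_shift (isDualizing_atPrime hω p) _)
      (isNormalized_atPrime hω hn p he) (d - e) h2
  refine ⟨Set.ext fun p => ⟨fun hp => ?_, fun ⟨q, hq, hqp, hqd⟩ => ?_⟩, fun p _ => ?_⟩
  · obtain ⟨q, hq, hqp⟩ := Ideal.exists_minimalPrimes_le (Module.mem_support_iff_of_finite.1 hp)
    haveI : q.IsPrime := hq.1.1
    obtain ⟨e, he⟩ := exists_dim_quotient hω hn q
    have hass := Module.associatedPrimes.mem_associatedPrimes_atPrime_of_mem_associatedPrimes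
      (Module.associatedPrimes.minimalPrimes_annihilator_subset_associatedPrimes A _ hq)
    obtain ⟨hed, hh, -⟩ := exists_atPrime_bottom hω hn hd q he
    haveI : IsNoetherianRing (Localization.AtPrime q) := IsLocalization.isNoetherianRing q.primeCompl _ inferInstance
    haveI : Nontrivial (LocalizedModule q.primeCompl (Dual.HD A ω (-(d : ℤ)))) :=
      Module.mem_support_iff.1 (Module.mem_support_iff_of_finite.2 hq.1.2 :
        (⟨q, inferInstance⟩ : PrimeSpectrum A) ∈ Module.support A _)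
    have h0 := hdim q e he
    rw [(EGA4Alg4.depth_eq_zero_iff).2 hass] at h0
    have h0' : min (d - e) 2 = 0 := by exact_mod_cast nonpos_iff_eq_zero.1 h0
    obtain rfl : e = d := by omega
    refine ⟨q, ?_, hqp, by rw [he]; rfl⟩
    obtain ⟨q', hq', hle⟩ := Ideal.exists_minimalPrimes_le (I := (⊥ : Ideal A)) (J := q) bot_le
    haveI : q'.IsPrime := hq'.1.1
    rcases hle.eq_or_lt with rfl | hlt
    · exact hq'
    · exfalso
      have h3 := EGA4Alg4.ringKrullDim_quotient_lt hlt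
      have h4 : ringKrullDim (A ⧸ q') ≤ ringKrullDim A := ringKrullDim_le_of_surjective _ Ideal.Quotient.mk_surjective
      rw [he] at h3
      rw [hd] at h4
      exact absurd (h3.trans_le h4) (lt_irrefl _)
  · haveI : q.IsPrime := hq.1.1
    refine Module.mem_support_mono hqp (p := ⟨q, inferInstance⟩) ?_
    have hqd' : ringKrullDim (A ⧸ q) = ((d : ℕ∞) : WithBot ℕ∞) := by rw [hqd]; rfl
    obtain ⟨-, hh, ⟨ε⟩⟩ := exists_atPrime_bottom hω hn hd q hqd'
    rw [Module.mem_support_iff, ε.toEquiv.nontrivial_congr, Nat.sub_self]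
    haveI : IsNoetherianRing (Localization.AtPrime q) := IsLocalization.isNoetherianRing q.primeCompl _ inferInstance
    have h0 : Module.supportDim (Localization.AtPrime q) (Localization.AtPrime q) = ((0 : ℕ) : ℕ∞) := by
      rw [Module.supportDim_self_eq_ringKrullDim]
      exact le_antisymm (by rw [Nat.sub_self] at hh; exact hh) ringKrullDim_nonneg_of_nontrivial
    exact (gmSelfEquiv _ _).toEquiv.nontrivial_congr.1
      (nontrivial_top (isDualizing_shift (isDualizing_atPrime hω q) _) (isNormalized_atPrime hω hn q hqd') _ h0)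
  · obtain ⟨e, he⟩ := exists_dim_quotient hω hn p
    obtain ⟨hed, hh, -⟩ := exists_atPrime_bottom hω hn hd p he
    have h1 : ((min (d - e) 2 : ℕ) : WithBot ℕ∞) ≤ ((LocCoh.depth (Localization.AtPrime p)
        (LocalizedModule p.primeCompl (Dual.HD A ω (-(d : ℤ)))) : ℕ∞) : WithBot ℕ∞) :=
      WithBot.coe_le_coe.2 (hdim p e he)
    refine le_trans ?_ h1
    have h2 := (Module.supportDim_le_ringKrullDim (Localization.AtPrime p)
      (LocalizedModule p.primeCompl (Dual.HD A ω (-(d : ℤ))))).trans hh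
    rcases Nat.lt_or_ge (d - e) 2 with h | h
    · rw [min_eq_left (by omega : d - e ≤ 2)]
      exact (min_le_right _ _).trans h2
    · rw [min_eq_right h]
      exact min_le_left _ _

end Groth.Agent.DR39
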