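import Groth.Agent.DR39.LocalDual4

/-! The Cohen–Macaulay locus in the presence of a dualizing complex. -/

set_option autoImplicit false
set_option linter.style.haveILetI false
set_option linter.unusedSectionVars false

universe u

open CategoryTheory CategoryTheory.Limits CategoryTheory.Pretriangulated TensorProduct

attribute [local instance] HasDerivedCategory.standard

namespace Groth.Agent.DR39

variable {A : Type u} [CommRing A] {ω : Dual.D A} (hω : Dual.IsDualizing A ω)
include hω

theorem cm_iff_single_degree [IsLocalRing A] (M : Type u) [AddCommGroup M] [Module A M] [Module.Finite A M]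
    [Nontrivial M] :
    LocCoh.IsCohenMacaulayModule A M ↔ ∀ i j, LC17.gAnn ω (ModuleCat.of A M) i ≠ ⊤ →
      LC17.gAnn ω (ModuleCat.of A M) j ≠ ⊤ → i = j := by
  haveI := hω.isNoetherianRing
  obtain ⟨n, hn⟩ := exists_normalized hω
  obtain ⟨d, hd⟩ := EGA4Alg4.exists_supportDim_eq (A := A) (M := M)
  have hω' := isDualizing_shift hω n
  have e : ∀ i, LC17.gAnn ω (ModuleCat.of A M) (n + i) = LC17.gAnn (ω⟦n⟧) (ModuleCat.of A M) i := fun i =>
    LinearEquiv.annihilator_eq (CategoryTheory.Linear.homCongr A (Iso.refl _)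
      ((CategoryTheory.shiftFunctorAdd' (Dual.D A) n i (n + i) rfl).app ω))
  have hd' : Module.supportDim A M = (d : ℕ∞) := hd
  rw [cm_iff hω' hn M hd']
  constructor
  · intro h
    have h0 : ∀ i, LC17.gAnn ω (ModuleCat.of A M) i ≠ ⊤ → i = n - d := fun i hi => by
      by_contra hne
      refine hi ?_
      rw [show i = n + -(n - i) by omega, e, ← subsingleton_gm_iff]
      exact h (n - i) (by omega)
    intro i j hi hj
    rw [h0 i hi, h0 j hj]
  · intro h i hi
    rw [subsingleton_gm_iff]
    by_contra hne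
    have h1 := nontrivial_top hω' hn M hd'
    rw [← not_subsingleton_iff_nontrivial, subsingleton_gm_iff] at h1
    have := h (n + -i) (n + -(d : ℤ)) (by rw [e]; exact hne) (by rw [e]; exact h1)
    omega

theorem cm_atPrime_iff (M : Type u) [AddCommGroup M] [Module A M] [Module.Finite A M] (p : Ideal A) [p.IsPrime]
    [Nontrivial (LocalizedModule p.primeCompl M)] :
    LocCoh.IsCohenMacaulayModule (Localization.AtPrime p) (LocalizedModule p.primeCompl M) ↔
      ∀ i j, LC17.gAnn ω (ModuleCat.of A M) i ≤ p → LC17.gAnn ω (ModuleCat.of A M) j ≤ p → i = j := by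
  haveI := hω.isNoetherianRing
  let e : LocalizedModule p.primeCompl M ≃ₗ[Localization.AtPrime p] Localization.AtPrime p ⊗[A] M :=
    LocalizedModule.equivTensorProduct p.primeCompl M
  haveI : Module.Finite (Localization.AtPrime p) (LocalizedModule p.primeCompl M) := Module.Finite.equiv e.symm
  rw [cm_iff_single_degree (isDualizing_atPrime hω p) (LocalizedModule p.primeCompl M)]
  refine forall₂_congr fun i j => ?_
  rw [gAnn_le_iff_atPrime hω M i p, gAnn_le_iff_atPrime hω M j p, LC17.gAnn_congr _ e.toModuleIso i,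
    LC17.gAnn_congr _ e.toModuleIso j]

/-- at a minimal point of the support a module is Cohen–Macaulay -/
theorem cm_of_minimal (M : Type u) [AddCommGroup M] [Module A M] [Module.Finite A M] (q : PrimeSpectrum A)
    (hq : Minimal (· ∈ Module.support A M) q) :
    LocCoh.IsCohenMacaulayModule (Localization.AtPrime q.asIdeal) (LocalizedModule q.asIdeal.primeCompl M) := by
  haveI := Module.mem_support_iff.1 hq.1
  refine (cm_atPrime_iff hω M q.asIdeal).2 fun i j hi hj => ?_
  have key : ∀ k, LC17.gAnn ω (ModuleCat.of A M) k ≤ q.asIdeal → Mu ω q.asIdeal k := fun k hk => by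
    obtain ⟨r, hr, hrk, hrq⟩ := exists_prime_of_gAnn_le hω q.asIdeal k M hk
    obtain rfl : r = q := le_antisymm hrq (hq.2 hr hrq)
    exact hrk
  exact mu_unique hω q.asIdeal (key i hi) (key j hj)

theorem exists_gm_bounds : ∃ a b : ℤ, ∀ (M : Type u) [AddCommGroup M] [Module A M] (p : PrimeSpectrum A) (i : ℤ),
    LC17.gAnn ω (ModuleCat.of A M) i ≤ p.asIdeal → a ≤ i ∧ i ≤ b := by
  obtain ⟨a, b, hab⟩ := hω.finite_injective_dimension
  refine ⟨a, b, fun M _ _ p i h => ?_⟩
  by_contra hne
  rw [subsingleton_gm_iff.1 (hab M i (by omega))] at h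
  exact p.2.ne_top (top_le_iff.1 h)

theorem isOpen_single_degree (M : Type u) [AddCommGroup M] [Module A M] :
    IsOpen {p : PrimeSpectrum A | ∀ i j, LC17.gAnn ω (ModuleCat.of A M) i ≤ p.asIdeal →
      LC17.gAnn ω (ModuleCat.of A M) j ≤ p.asIdeal → i = j} := by
  obtain ⟨a, b, hab⟩ := exists_gm_bounds hω
  let S : Finset (ℤ × ℤ) := ((Finset.Icc a b) ×ˢ (Finset.Icc a b)).filter fun x => x.1 ≠ x.2
  let Z : ℤ → Set (PrimeSpectrum A) := fun i =>
    PrimeSpectrum.zeroLocus (LC17.gAnn ω (ModuleCat.of A M) i : Set A)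
  have h : {p : PrimeSpectrum A | ∀ i j, LC17.gAnn ω (ModuleCat.of A M) i ≤ p.asIdeal →
      LC17.gAnn ω (ModuleCat.of A M) j ≤ p.asIdeal → i = j} = (⋃ x ∈ S, Z x.1 ∩ Z x.2)ᶜ := by
    ext p
    simp only [Set.mem_setOf_eq, Set.mem_compl_iff, Set.mem_iUnion, Set.mem_inter_iff, not_exists,
      Z, PrimeSpectrum.mem_zeroLocus, SetLike.coe_subset_coe]
    constructor
    · rintro h ⟨i, j⟩ hx ⟨h1, h2⟩
      simp only [S, Finset.mem_filter] at hx
      exact hx.2 (h i j h1 h2)
    · intro h i j h1 h2
      by_contra hne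
      refine h (i, j) ?_ ⟨h1, h2⟩
      simp only [S, Finset.mem_filter, Finset.mem_product, Finset.mem_Icc]
      exact ⟨⟨hab M p i h1, hab M p j h2⟩, hne⟩
  rw [h, isOpen_compl_iff]
  exact Set.Finite.isClosed_biUnion S.finite_toSet fun x _ =>
    (PrimeSpectrum.isClosed_zeroLocus _).inter (PrimeSpectrum.isClosed_zeroLocus _)

theorem isOpen_cm_module (M : Type u) [AddCommGroup M] [Module A M] [Module.Finite A M] :
    IsOpen {p : PrimeSpectrum A | Subsingleton (LocalizedModule p.asIdeal.primeCompl M) ∨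
      LocCoh.IsCohenMacaulayModule (Localization.AtPrime p.asIdeal) (LocalizedModule p.asIdeal.primeCompl M)} := by
  convert isOpen_single_degree hω M using 1
  ext p
  simp only [Set.mem_setOf_eq]
  rcases subsingleton_or_nontrivial (LocalizedModule p.asIdeal.primeCompl M) with h | h
  · refine iff_of_true (Or.inl h) fun i j hi _ => ?_
    have := Module.mem_support_iff.1 (mem_support_gm_subset hω M i hi)
    exact absurd h (not_subsingleton_iff_nontrivial.2 this)
  · rw [or_iff_right (not_subsingleton_iff_nontrivial.2 h), cm_atPrime_iff hω M p.asIdeal]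

theorem support_subset_closure_cm (M : Type u) [AddCommGroup M] [Module A M] [Module.Finite A M] :
    Module.support A M ⊆ closure ({p : PrimeSpectrum A | LocCoh.IsCohenMacaulayModule
      (Localization.AtPrime p.asIdeal) (LocalizedModule p.asIdeal.primeCompl M)} ∩ Module.support A M) := by
  intro p hp
  have hann := Module.mem_support_iff_of_finite.1 hp
  obtain ⟨q, hq, hqp⟩ := Ideal.exists_minimalPrimes_le hann
  let Q : PrimeSpectrum A := ⟨q, hq.1.1⟩
  have hQ : Minimal (· ∈ Module.support A M) Q := by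
    refine ⟨Module.mem_support_iff_of_finite.2 hq.1.2, fun r hr hle => ?_⟩
    exact hq.2 ⟨r.2, Module.mem_support_iff_of_finite.1 hr⟩ hle
  refine closure_mono (s := {Q}) ?_ ?_
  · rw [Set.singleton_subset_iff]
    exact Set.mem_inter (cm_of_minimal hω M Q hQ) hQ.1
  · rw [← specializes_iff_mem_closure, ← PrimeSpectrum.le_iff_specializes]
    exact hqp

theorem cm_ring_atPrime_iff (p : Ideal A) [p.IsPrime] :
    LocCoh.IsCohenMacaulayLocalRing (Localization.AtPrime p) ↔
      ∀ i j, LC17.gAnn ω (ModuleCat.of A A) i ≤ p → LC17.gAnn ω (ModuleCat.of A A) j ≤ p → i = j := by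
  haveI := hω.isNoetherianRing
  have hd := isDualizing_atPrime hω p
  haveI := hd.isNoetherianRing
  have h1 : LocCoh.IsCohenMacaulayLocalRing (Localization.AtPrime p) ↔
      LocCoh.IsCohenMacaulayModule (Localization.AtPrime p) (Localization.AtPrime p) :=
    ⟨fun h => h.supportDim_eq_depth,
      fun h => { supportDim_eq_depth := h }⟩
  rw [h1, cm_iff_single_degree hd]
  refine forall₂_congr fun i j => ?_
  rw [gAnn_le_iff_atPrime hω A i p, gAnn_le_iff_atPrime hω A j p,
    LC17.gAnn_congr _ (AlgebraTensorModule.rid A (Localization.AtPrime p) (Localization.AtPrime p)).toModuleIso i,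
    LC17.gAnn_congr _ (AlgebraTensorModule.rid A (Localization.AtPrime p) (Localization.AtPrime p)).toModuleIso j]

theorem isOpen_cm_ring :
    IsOpen {p : PrimeSpectrum A | LocCoh.IsCohenMacaulayLocalRing (Localization.AtPrime p.asIdeal)} := by
  convert isOpen_single_degree hω A using 1
  ext p
  exact cm_ring_atPrime_iff hω p.asIdeal

theorem dense_cm_ring :
    Dense {p : PrimeSpectrum A | LocCoh.IsCohenMacaulayLocalRing (Localization.AtPrime p.asIdeal)} := by
  haveI := hω.isNoetherianRing
  intro p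
  obtain ⟨q, hq, hqp⟩ := Ideal.exists_minimalPrimes_le (I := (⊥ : Ideal A)) (J := p.asIdeal) bot_le
  let Q : PrimeSpectrum A := ⟨q, hq.1.1⟩
  refine closure_mono (s := {Q}) (Set.singleton_subset_iff.2 ?_) ?_
  · haveI : q.IsPrime := hq.1.1
    refine (cm_ring_atPrime_iff hω q).2 fun i j hi hj => ?_
    have key : ∀ k, LC17.gAnn ω (ModuleCat.of A A) k ≤ q → Mu ω q k := fun k hk => by
      obtain ⟨r, -, hrk, hrq⟩ := exists_prime_of_gAnn_le hω q k A hk
      have : r.asIdeal = q := le_antisymm hrq (hq.2 ⟨r.2, bot_le⟩ hrq)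
      show LC17.gAnn ω (ModuleCat.of A (A ⧸ q)) k ≤ q
      subst this
      exact hrk
    exact mu_unique hω q (key i hi) (key j hj)
  · rw [← specializes_iff_mem_closure, ← PrimeSpectrum.le_iff_specializes]
    exact hqp

theorem isCohenMacaulayRing_of_single_degree {n : ℤ} (h : ∀ i, i ≠ n → IsZero ((HF A i).obj ω)) :
    LocCoh.IsCohenMacaulayRing A := by
  haveI := hω.isNoetherianRing
  refine { isCohenMacaulayLocalRing_localization := fun p _ => ?_ }
  refine (cm_ring_atPrime_iff hω p).2 fun i j hi hj => ?_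
  have key : ∀ k, LC17.gAnn ω (ModuleCat.of A A) k ≤ p → k = n := fun k hk => by
    by_contra hne
    haveI := ModuleCat.subsingleton_of_isZero (h k hne)
    have hs : Subsingleton (Dual.inD A A ⟶ ω⟦k⟧) := (gmSelfEquiv ω k).toEquiv.subsingleton
    rw [subsingleton_gm_iff.1 hs] at hk
    exact (‹p.IsPrime›).ne_top (top_le_iff.1 hk)
  rw [key i hi, key j hj]

end Groth.Agent.DR39
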