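import Groth.Agent.DR39.Perf
import Groth.Agent.DR39.SemiFree
import Groth.Agent.CohDer42.DerProd
import Groth.Agent.CohDer42.Compact
import Mathlib.Data.Int.Interval

/-! Compact objects of `D(A)` are the perfect ones. -/

set_option autoImplicit false
set_option linter.style.haveILetI false
set_option linter.unusedSectionVars false

universe u w v₁ u₁

open CategoryTheory CategoryTheory.Limits CategoryTheory.Pretriangulated

attribute [local instance] HasDerivedCategory.standard

namespace Groth.Agent.DR39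

variable {A : Type u} [CommRing A]

/-- Coproducts of complexes are coproducts in the derived category. -/
theorem isColimit_Q {I : Type w} {X : I → DRing.Cx A} {c : Cofan X} (hc : IsColimit c) :
    Nonempty (IsColimit (Cofan.mk ((QA A).obj c.pt) fun i => (QA A).map (c.inj i))) := by
  have hx : ∀ T : Dual.D A, ∃ J : DRing.Cx A, J.IsKInjective ∧ Nonempty ((QA A).obj J ≅ T) := fun T => by
    obtain ⟨K, ⟨e⟩⟩ := exists_complex_iso T
    obtain ⟨J, f, hJ, hf, -⟩ := CohDer42.exists_kinjective_resolution K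
    haveI : IsIso ((QA A).map f) :=
      (DerivedCategory.isIso_Q_map_iff_quasiIso (ModuleCat.{u} A) _).2 hf
    exact ⟨J, hJ, ⟨(asIso ((QA A).map f)).symm ≪≫ e⟩⟩
  have hu : ∀ (T : Dual.D A) (φ : ∀ i, (QA A).obj (X i) ⟶ T),
      ∃! m : (QA A).obj c.pt ⟶ T, ∀ i, (QA A).map (c.inj i) ≫ m = φ i := by
    intro T φ
    obtain ⟨J, hJ, ⟨e⟩⟩ := hx T
    choose g hg using fun i => CohDer42.Q_map_surjective_of_isKInjective (φ i ≫ e.inv)
    refine ⟨(QA A).map (Cofan.IsColimit.desc hc g) ≫ e.hom, fun i => ?_, fun m hm => ?_⟩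
    · rw [← Functor.map_comp_assoc, Cofan.IsColimit.fac, hg, Category.assoc, e.inv_hom_id, Category.comp_id]
    · obtain ⟨f, hf⟩ := CohDer42.Q_map_surjective_of_isKInjective (m ≫ e.inv)
      have H := fun i => (CohDer42.homotopy_of_Q_map_eq
        (f := c.inj i ≫ f) (g := c.inj i ≫ Cofan.IsColimit.desc hc g) (by
          rw [Functor.map_comp, hf, ← Category.assoc, hm, Cofan.IsColimit.fac, hg])).some
      let Φ : c.pt ⟶ HomologicalComplex.pathObject J :=
        Cofan.IsColimit.desc hc fun i => HomologicalComplex.pathObject.lift _ _ (H i)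
      have h₀ : Φ ≫ HomologicalComplex.pathObject.π₀ J = f :=
        Cofan.IsColimit.hom_ext hc _ _ fun i => by simp [Φ]
      have h₁ : Φ ≫ HomologicalComplex.pathObject.π₁ J = Cofan.IsColimit.desc hc g :=
        Cofan.IsColimit.hom_ext hc _ _ fun i => by simp [Φ]
      have : (QA A).map f = (QA A).map (Cofan.IsColimit.desc hc g) := by
        rw [← h₀, ← h₁, Functor.map_comp, Functor.map_comp, DerivedCategory.Q_map_eq_of_homotopy _
          (HomologicalComplex.pathObject.homotopy₀₁ J (fun j => ⟨j + 1, by simp⟩))]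
      rw [← this, hf, Category.assoc, e.inv_hom_id, Category.comp_id]
  exact ⟨Cofan.IsColimit.mk _ (fun s => (hu s.pt s.inj).choose)
    (fun s => (hu s.pt s.inj).choose_spec.1) fun s m hm => (hu s.pt s.inj).choose_spec.2 m hm⟩

/-- Reindexing a coproduct along `ULift`. -/
noncomputable def isColimitULift {I : Type u} (X : I → DRing.Cx A) :
    IsColimit (Cofan.mk (∐ X) fun i : ULift.{u + 1} I => Sigma.ι X i.down :
      Cofan fun i : ULift.{u + 1} I => X i.down) :=
  Cofan.IsColimit.mk _ (fun s => Sigma.desc fun i => s.inj ⟨i⟩)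
    (fun s j => Sigma.ι_desc _ _)
    (fun s (m : ∐ X ⟶ s.pt) hm => by
      refine Sigma.hom_ext _ _ fun i => ?_
      exact (hm ⟨i⟩).trans (Sigma.ι_desc (fun i => s.inj ⟨i⟩) i).symm)

/-- Maps into a sum are finite sums. -/
def SumSurj (K : Dual.D A) : Prop :=
  ∀ (I : Type u) (X : I → DRing.Cx A) (f : K ⟶ (QA A).obj (∐ X)),
    ∃ (S : Finset I) (g : ∀ i, K ⟶ (QA A).obj (X i)), f = ∑ i ∈ S, g i ≫ (QA A).map (Sigma.ι X i)

theorem SumSurj.of_iso {K K' : Dual.D A} (h : SumSurj K) (e : K ≅ K') : SumSurj K' := by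
  intro I X f
  obtain ⟨S, g, hg⟩ := h I X (e.hom ≫ f)
  refine ⟨S, fun i => e.inv ≫ g i, ?_⟩
  rw [← cancel_epi e.hom, hg, Preadditive.comp_sum]
  simp

theorem sumSurj_of_compact (K : Dual.D A)
    (hK : ∀ (I : Type u) (E : I → Dual.D A) [HasCoproduct fun i : ULift.{u + 1} I => E i.down],
      Function.Bijective (CohDer.homSumToHomCoprod K (fun i : ULift.{u + 1} I => E i.down))) :
    SumSurj K := by
  classical
  intro I X f
  obtain ⟨hl⟩ := isColimit_Q (isColimitULift X)
  haveI : HasCoproduct fun i : ULift.{u + 1} I => (QA A).obj (X i.down) := ⟨⟨⟨_, hl⟩⟩⟩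
  let φ := (coproductIsCoproduct fun i : ULift.{u + 1} I => (QA A).obj (X i.down)).coconePointUniqueUpToIso hl
  have hφ : ∀ i : ULift.{u + 1} I,
      Sigma.ι (fun i : ULift.{u + 1} I => (QA A).obj (X i.down)) i ≫ φ.hom = (QA A).map (Sigma.ι X i.down) :=
    fun i => IsColimit.comp_coconePointUniqueUpToIso_hom _ hl ⟨i⟩
  obtain ⟨s, hs⟩ := (hK I fun i => (QA A).obj (X i)).2 (f ≫ φ.inv)
  refine ⟨(DFinsupp.support s).map Equiv.ulift.toEmbedding, fun i => s ⟨i⟩, ?_⟩
  have : f = CohDer.homSumToHomCoprod K _ s ≫ φ.hom := by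
    rw [hs, Category.assoc, φ.inv_hom_id]; exact (Category.comp_id _).symm
  rw [this]
  conv_lhs => rw [← DirectSum.sum_support_of s]
  rw [map_sum, Preadditive.sum_comp, Finset.sum_map]
  refine Finset.sum_congr rfl fun i _ => ?_
  rw [CohDer42.homSum_of, Category.assoc, hφ]
  rfl

theorem cx_sum_f {P Q : DRing.Cx A} {I : Type w} (S : Finset I) (g : I → (P ⟶ Q)) (j : ℤ) :
    (∑ i ∈ S, g i).f j = ∑ i ∈ S, (g i).f j :=
  map_sum (AddMonoidHom.mk' (fun φ : P ⟶ Q => φ.f j) fun _ _ => rfl) g S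

theorem SumSurj.homotopic {P : DRing.Cx A} [P.IsKProjective] (h : SumSurj ((QA A).obj P)) {I : Type u}
    (X : I → DRing.Cx A) (f : P ⟶ ∐ X) :
    ∃ (S : Finset I) (g : ∀ i, P ⟶ X i), Nonempty (Homotopy f (∑ i ∈ S, g i ≫ Sigma.ι X i)) := by
  obtain ⟨S, g', hg⟩ := h I X ((QA A).map f)
  choose g hgg using fun i => Q_map_surjective P (X i) (g' i)
  refine ⟨S, g, (Q_map_eq_iff _ _).1 ?_⟩
  rw [Functor.map_sum]
  simpa [hgg] using hg

open Classical in
/-- Projection from a sum onto a summand. -/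
noncomputable def sPr {C : Type u₁} [Category.{v₁} C] [HasZeroMorphisms C] {I : Type w} (X : I → C)
    [HasCoproduct X] (i : I) : ∐ X ⟶ X i :=
  Sigma.desc fun k => if h : k = i then eqToHom (congrArg X h) else 0

theorem ι_sPr {C : Type u₁} [Category.{v₁} C] [HasZeroMorphisms C] {I : Type w} (X : I → C)
    [HasCoproduct X] (i : I) : Sigma.ι X i ≫ sPr X i = 𝟙 _ := by simp [sPr]

theorem ι_sPr_ne {C : Type u₁} [Category.{v₁} C] [HasZeroMorphisms C] {I : Type w} (X : I → C)
    [HasCoproduct X] {i k : I} (h : k ≠ i) : Sigma.ι X k ≫ sPr X i = 0 := by simp [sPr, h]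

/-- Degreewise, the coproduct of complexes is a coproduct. -/
noncomputable def isColimitEval {I : Type u} (X : I → DRing.Cx A) (j : ℤ) :
    IsColimit (Cofan.mk ((∐ X).X j) fun i => (Sigma.ι X i).f j : Cofan fun i => (X i).X j) :=
  isColimitCofanMkObjOfIsColimit (HomologicalComplex.eval (ModuleCat.{u} A) (ComplexShape.up ℤ) j) _ _
    (coproductIsCoproduct X)

theorem exists_bounded_endo {P : DRing.Cx A} [P.IsKProjective] (hP : ∀ i, Module.Projective A (P.X i))
    (h : SumSurj ((QA A).obj P)) : ∃ (a b : ℤ) (e : P ⟶ P), a ≤ b ∧ (QA A).map e = 𝟙 _ ∧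
      ∀ i, (i < a ∨ b < i) → e.f i = 0 := by
  classical
  let C : ℤ → ModuleCat.{u} A := fun n => ModuleCat.of A (P.X n ⧸ LinearMap.range (P.d (n - 1) n).hom)
  let X : ULift.{u} ℤ → DRing.Cx A := fun i =>
    (HomologicalComplex.single (ModuleCat.{u} A) (ComplexShape.up ℤ) i.down).obj (C i.down)
  let π : ∀ i : ULift.{u} ℤ, P ⟶ X i := fun i =>
    HomologicalComplex.mkHomToSingle (ModuleCat.ofHom (LinearMap.range (P.d (i.down - 1) i.down).hom).mkQ)
      fun j hj => by
        obtain rfl : j = i.down - 1 := by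
          have : j + 1 = i.down := hj
          omega
        exact ModuleCat.hom_ext (LinearMap.ext fun x => (Submodule.Quotient.mk_eq_zero _).2 ⟨x, rfl⟩)
  let f : P ⟶ ∐ X :=
    { f := fun j => (π ⟨j⟩).f j ≫ (Sigma.ι X ⟨j⟩).f j
      comm' := fun i j _ => by
        have e1 : (Sigma.ι X ⟨i⟩).f i ≫ (∐ X).d i j = 0 := by
          rw [HomologicalComplex.Hom.comm, HomologicalComplex.single_obj_d, zero_comp]
        have e2 : P.d i j ≫ (π ⟨j⟩).f j = 0 := by
          rw [← HomologicalComplex.Hom.comm, HomologicalComplex.single_obj_d, comp_zero]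
        rw [Category.assoc, e1, comp_zero, reassoc_of% e2, zero_comp] }
  obtain ⟨S, g, ⟨H⟩⟩ := h.homotopic X f
  obtain ⟨a, b, hab, hS⟩ : ∃ a b : ℤ, a ≤ b ∧ ∀ i ∈ S, a ≤ i.down ∧ i.down ≤ b := by
    obtain ⟨b, hb⟩ := (S.image fun i : ULift.{u} ℤ => i.down).bddAbove
    obtain ⟨a, ha⟩ := (S.image fun i : ULift.{u} ℤ => i.down).bddBelow
    exact ⟨min a b, max a b, le_trans (min_le_left _ _) (le_max_left _ _), fun i hi =>
      ⟨le_trans (min_le_left _ _) (ha (Finset.mem_image_of_mem _ hi)),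
        le_trans (hb (Finset.mem_image_of_mem _ hi)) (le_max_right _ _)⟩⟩
  let good : ℤ → Prop := fun n => n < a ∨ b < n
  have hG : ∀ i j, j + 1 = i → good i →
      ∃ G : P.X i ⟶ P.X j, ∀ x, (P.d i (i + 1)).hom x = 0 → (P.d j i).hom (G.hom x) = x := by
    intro i j hji hi
    obtain rfl : j = i - 1 := by omega
    have hiS : (⟨i⟩ : ULift.{u} ℤ) ∉ S := fun hm => by
      have := hS _ hm
      rcases hi with h | h <;> simp only at this <;> omega
    let pr := sPr X ⟨i⟩
    have hsum : (∑ k ∈ S, g k ≫ Sigma.ι X k) ≫ pr = 0 := by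
      rw [Preadditive.sum_comp]
      refine Finset.sum_eq_zero fun k hk => ?_
      rw [Category.assoc, ι_sPr_ne X (fun e => hiS (by rwa [← e])), comp_zero]
    let H' : Homotopy (f ≫ pr) 0 := (H.compRight pr).trans (Homotopy.ofEq hsum)
    have hc := H'.comm i
    rw [dNext_eq _ (show (ComplexShape.up ℤ).Rel i (i + 1) from rfl),
      prevD_eq _ (show (ComplexShape.up ℤ).Rel (i - 1) i from sub_add_cancel i 1),
      HomologicalComplex.zero_f, add_zero, HomologicalComplex.single_obj_d, comp_zero, add_zero] at hc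
    have hfp : (f ≫ pr).f i = (π ⟨i⟩).f i := by
      show ((π ⟨i⟩).f i ≫ (Sigma.ι X ⟨i⟩).f i) ≫ pr.f i = _
      rw [Category.assoc, ← HomologicalComplex.comp_f, ι_sPr, HomologicalComplex.id_f]
      exact Category.comp_id _
    rw [hfp] at hc
    let η := H'.hom (i + 1) i ≫ (HomologicalComplex.singleObjXSelf (ComplexShape.up ℤ) i (C i)).hom
    have hq : ModuleCat.ofHom (LinearMap.range (P.d (i - 1) i).hom).mkQ = P.d i (i + 1) ≫ η := by
      rw [← Category.assoc, ← hc]
      simp [π, HomologicalComplex.mkHomToSingle, HomologicalComplex.singleObjXSelf]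
    haveI := hP (i + 1)
    haveI := hP i
    obtain ⟨Hn, hHn⟩ := Module.projective_lifting_property (LinearMap.range (P.d (i - 1) i).hom).mkQ η.hom
      (Submodule.mkQ_surjective _)
    have hmem : ∀ x, (LinearMap.id - Hn ∘ₗ (P.d i (i + 1)).hom : P.X i →ₗ[A] P.X i) x ∈
        LinearMap.range (P.d (i - 1) i).hom := fun x => by
      rw [← Submodule.Quotient.mk_eq_zero, ← Submodule.mkQ_apply, LinearMap.sub_apply, map_sub, sub_eq_zero]
      exact (LinearMap.congr_fun (congrArg ModuleCat.Hom.hom hq) x).trans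
        (LinearMap.congr_fun hHn _).symm
    obtain ⟨G, hG⟩ := Module.projective_lifting_property (P.d (i - 1) i).hom.rangeRestrict
      (LinearMap.codRestrict _ _ hmem) (LinearMap.surjective_rangeRestrict _)
    refine ⟨ModuleCat.ofHom G, fun x hx => ?_⟩
    refine (congrArg Subtype.val (LinearMap.congr_fun hG x)).trans ?_
    show x - Hn ((P.d i (i + 1)).hom x) = x
    rw [hx, map_zero, sub_zero]
  let G : ∀ i j, P.X i ⟶ P.X j := fun i j =>
    if hij : j + 1 = i ∧ good i then (hG i j hij.1 hij.2).choose else 0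
  have hGs : ∀ i j, j + 1 = i → good i → ∀ x, (P.d i (i + 1)).hom x = 0 →
      (P.d j i).hom ((G i j).hom x) = x := fun i j hji hi => by
    simp only [G, dif_pos (And.intro hji hi)]
    exact (hG i j hji hi).choose_spec
  let p : ∀ i, P.X i ⟶ P.X i := fun i => G i (i - 1) ≫ P.d (i - 1) i
  have hdd : ∀ i j k (x : P.X i), (P.d j k).hom ((P.d i j).hom x) = 0 := fun i j k x =>
    LinearMap.congr_fun (congrArg ModuleCat.Hom.hom (P.d_comp_d i j k)) x
  have hpc : ∀ i k (x : P.X i), (P.d i k).hom ((p i).hom x) = 0 := fun i k x => hdd _ _ _ _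
  have hpf : ∀ i, good i → ∀ x, (P.d i (i + 1)).hom x = 0 → (p i).hom x = x := fun i hi x hx =>
    hGs i (i - 1) (sub_add_cancel i 1) hi x hx
  let s : ∀ i j, P.X i ⟶ P.X j := fun i j =>
    if j + 1 = i ∧ good i ∧ good j then p i ≫ G i j ≫ (𝟙 _ - p j) else 0
  have hs : ∀ i j, ¬(ComplexShape.up ℤ).Rel j i → s i j = 0 := fun i j hij => if_neg fun h => hij h.1
  let e : P ⟶ P := 𝟙 P - Homotopy.nullHomotopicMap s
  refine ⟨a - 1, b + 1, e, by omega, ?_, fun i hi => ?_⟩
  · rw [Functor.map_sub, CategoryTheory.Functor.map_id,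
      DerivedCategory.Q_map_eq_of_homotopy (C := ModuleCat.{u} A) (Homotopy.nullHomotopy s hs), Functor.map_zero, sub_zero]
  · have g0 : good i := hi.imp (fun h => by omega) (fun h => by omega)
    have g1 : good (i - 1) := hi.imp (fun h => by omega) (fun h => by omega)
    have g2 : good (i + 1) := hi.imp (fun h => by omega) (fun h => by omega)
    rw [HomologicalComplex.sub_f_apply, HomologicalComplex.id_f,
      Homotopy.nullHomotopicMap_f (k₂ := i - 1) (k₀ := i + 1) (sub_add_cancel i 1) rfl, sub_eq_zero]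
    refine ModuleCat.hom_ext (LinearMap.ext fun x => ?_)
    simp only [s, if_pos (show i + 1 = i + 1 ∧ good (i + 1) ∧ good i from ⟨rfl, g2, g0⟩),
      if_pos (show i - 1 + 1 = i ∧ good i ∧ good (i - 1) from ⟨sub_add_cancel i 1, g0, g1⟩)]
    have hcyc : (P.d (i + 1) (i + 1 + 1)).hom ((P.d i (i + 1)).hom x) = 0 := hdd _ _ _ _
    simp only [ModuleCat.hom_id, ModuleCat.hom_add, ModuleCat.hom_comp, ModuleCat.hom_sub,
      LinearMap.add_apply, LinearMap.comp_apply, LinearMap.sub_apply, LinearMap.id_apply, map_sub, hpc,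
      sub_zero, hpf _ g2 _ hcyc]
    rw [hGs i (i - 1) (sub_add_cancel i 1) g0 _ (hpc _ _ _)]
    set y := (G (i + 1) i).hom ((P.d i (i + 1)).hom x)
    have hy : (p i).hom (y - x) = y - x := hpf i g0 _ (by
      rw [map_sub, hGs (i + 1) i rfl g2 _ hcyc, sub_self])
    rw [map_sub] at hy
    have : (p i).hom x = (p i).hom y - (y - x) := by rw [← hy]; abel
    rw [this]; abel

/-- The span of some basis vectors. -/
noncomputable abbrev spanB {ι : Type u} {M : ModuleCat.{u} A} (B : Module.Basis ι A M) (T : Finset ι) :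
    Submodule A M :=
  Submodule.span A (B '' (T : Set ι))

open Classical in
/-- The projection to the span of some basis vectors. -/
noncomputable def retB {ι : Type u} {M : ModuleCat.{u} A} (B : Module.Basis ι A M) (T : Finset ι) :
    M →ₗ[A] spanB B T :=
  B.constr ℕ fun i => if h : i ∈ T then ⟨B i, Submodule.subset_span ⟨i, h, rfl⟩⟩ else 0

theorem retB_of_mem {ι : Type u} {M : ModuleCat.{u} A} (B : Module.Basis ι A M) (T : Finset ι) {y : M}
    (hy : y ∈ spanB B T) : (retB B T y : M) = y :=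
  LinearMap.eqOn_span (f := (spanB B T).subtype ∘ₗ retB B T) (g := LinearMap.id)
    (fun z hz => by obtain ⟨i, hi, rfl⟩ := hz; simp [retB, Finset.mem_coe.1 hi]) hy

theorem exists_finite_step {P : DRing.Cx A} [P.IsKProjective] (h : SumSurj ((QA A).obj P))
    (ι : ℤ → Type u) (B : ∀ n, Module.Basis (ι n) A (P.X n)) (k : ℤ)
    (e : P ⟶ P) (T : ∀ n, Finset (ι n))
    (h2 : ∀ n, n < k → ∀ x, (e.f n).hom x ∈ spanB (B n) (T n)) :
    ∃ (e' : P ⟶ P) (T' : Finset (ι k)), (QA A).map e' = (QA A).map e ∧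
      (∀ n, n < k → e'.f n = e.f n) ∧ (∀ x, (e'.f k).hom x ∈ spanB (B k) T') ∧
      ∀ x ∈ spanB (B (k - 1)) (T (k - 1)), (P.d (k - 1) k).hom x ∈ spanB (B k) T' := by
  classical
  let T0 : Finset (ι k) := (T (k - 1)).biUnion fun t => ((B k).repr ((P.d (k - 1) k).hom (B (k - 1) t))).support
  have hT0 : ∀ x ∈ spanB (B (k - 1)) (T (k - 1)), (P.d (k - 1) k).hom x ∈ spanB (B k) T0 := by
    intro x hx
    refine (Submodule.span_le.2 ?_ : spanB (B (k - 1)) (T (k - 1)) ≤ (spanB (B k) T0).comap (P.d (k - 1) k).hom) hx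
    rintro _ ⟨t, ht, rfl⟩
    refine Submodule.span_mono (Set.image_mono (fun i hi => ?_)) ((B k).mem_span_repr_support _)
    exact Finset.mem_biUnion.2 ⟨t, ht, hi⟩
  let Z := (HomologicalComplex.single (ModuleCat.{u} A) (ComplexShape.up ℤ) k).obj (ModuleCat.of A A)
  let σ := HomologicalComplex.singleObjXSelf (ComplexShape.up ℤ) k (ModuleCat.of A A)
  let X : ι k → DRing.Cx A := fun _ => Z
  have hd0 : ∀ i j, (∐ X).d i j = 0 := fun i j => Cofan.IsColimit.hom_ext (isColimitEval X i) _ _ fun t => by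
    show (Sigma.ι X t).f i ≫ _ = (Sigma.ι X t).f i ≫ 0
    rw [HomologicalComplex.Hom.comm, HomologicalComplex.single_obj_d, zero_comp, comp_zero]
  let c : P.X k ⟶ (∐ X).X k := ModuleCat.ofHom ((B k).constr ℕ fun i =>
    if i ∈ T0 then 0 else ((Sigma.ι X i).f k).hom (σ.inv.hom (1 : A)))
  have hc : ∀ y ∈ spanB (B k) T0, c.hom y = 0 := fun y hy =>
    LinearMap.eqOn_span (f := c.hom) (g := 0)
      (fun z hz => by obtain ⟨i, hi, rfl⟩ := hz; simp [c, Finset.mem_coe.1 hi]) hy
  let φ : P.X k ⟶ (∐ X).X k := e.f k ≫ c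
  have hφ : P.d (k - 1) k ≫ φ = 0 := ModuleCat.hom_ext (LinearMap.ext fun x => by
    show c.hom ((e.f k).hom ((P.d (k - 1) k).hom x)) = 0
    refine hc _ ?_
    rw [show (e.f k).hom ((P.d (k - 1) k).hom x) = (P.d (k - 1) k).hom ((e.f (k - 1)).hom x) from
      (LinearMap.congr_fun (congrArg ModuleCat.Hom.hom (e.comm (k - 1) k)) x).symm]
    exact hT0 _ (h2 _ (by omega) x))
  let f : P ⟶ ∐ X :=
    { f := fun j => if hj : j = k then (P.XIsoOfEq hj).hom ≫ φ ≫ ((∐ X).XIsoOfEq hj).inv else 0
      comm' := fun i j hij => by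
        rw [hd0, comp_zero]
        by_cases hj : j = k
        · subst hj
          obtain rfl : i = j - 1 := by
            have : i + 1 = j := hij
            omega
          simp [hφ]
        · simp [hj] }
  obtain ⟨S, g, ⟨H⟩⟩ := h.homotopic X f
  let θ : (∐ X).X k ⟶ P.X k := Cofan.IsColimit.desc (isColimitEval X k) fun i =>
    σ.hom ≫ ModuleCat.ofHom (LinearMap.toSpanSingleton A _ (B k i))
  have hθ : ∀ (i : ι k) (z : Z.X k), θ.hom (((Sigma.ι X i).f k).hom z) = (σ.hom.hom z : A) • B k i :=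
    fun i z => LinearMap.congr_fun (congrArg ModuleCat.Hom.hom
      (Cofan.IsColimit.fac (isColimitEval X k) (fun i => σ.hom ≫ ModuleCat.ofHom
        (LinearMap.toSpanSingleton A _ (B k i))) i)) z
  have hθc : ∀ y, y - θ.hom (c.hom y) ∈ spanB (B k) T0 := by
    intro y
    induction (B k).mem_span y using Submodule.span_induction with
    | mem y hy =>
      obtain ⟨i, rfl⟩ := hy
      by_cases hi : i ∈ T0
      · simp only [c, ModuleCat.hom_ofHom, Module.Basis.constr_basis, if_pos hi, map_zero, sub_zero]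
        exact Submodule.subset_span ⟨i, hi, rfl⟩
      · simp only [c, ModuleCat.hom_ofHom, Module.Basis.constr_basis, if_neg hi, hθ]
        rw [show σ.hom.hom (σ.inv.hom (1 : A)) = (1 : A) from
          LinearMap.congr_fun (congrArg ModuleCat.Hom.hom σ.inv_hom_id) (1 : A), one_smul, sub_self]
        exact zero_mem _
    | zero => simp
    | add y z _ _ hy hz =>
      rw [map_add, map_add, add_sub_add_comm]
      exact add_mem hy hz
    | smul r y _ hy =>
      rw [map_smul, map_smul, ← smul_sub]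
      exact Submodule.smul_mem _ r hy
  let s : ∀ i j, P.X i ⟶ P.X j := fun i j =>
    if hij : i = k + 1 ∧ j = k then
      (P.XIsoOfEq hij.1).hom ≫ (H.hom (k + 1) k ≫ θ) ≫ (P.XIsoOfEq hij.2).inv else 0
  have hs : ∀ i j, ¬(ComplexShape.up ℤ).Rel j i → s i j = 0 := fun i j hij =>
    dif_neg fun h => hij (show j + 1 = i by omega)
  refine ⟨e - Homotopy.nullHomotopicMap s, T0 ∪ S, ?_, fun n hn => ?_, fun x => ?_, fun x hx => ?_⟩
  · rw [Functor.map_sub, DerivedCategory.Q_map_eq_of_homotopy (C := ModuleCat.{u} A) (Homotopy.nullHomotopy s hs),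
      Functor.map_zero, sub_zero]
  · rw [HomologicalComplex.sub_f_apply,
      Homotopy.nullHomotopicMap_f (k₂ := n - 1) (k₀ := n + 1) (sub_add_cancel n 1) rfl,
      show s (n + 1) n = 0 from dif_neg fun h => by omega,
      show s n (n - 1) = 0 from dif_neg fun h => by omega]
    simp
  · have hk := congrArg (fun t => (t ≫ θ).hom x) (H.comm k)
    simp only [dNext_eq _ (show (ComplexShape.up ℤ).Rel k (k + 1) from rfl),
      prevD_eq _ (show (ComplexShape.up ℤ).Rel (k - 1) k from sub_add_cancel k 1), hd0, comp_zero,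
      add_zero] at hk
    rw [HomologicalComplex.sub_f_apply,
      Homotopy.nullHomotopicMap_f (k₂ := k - 1) (k₀ := k + 1) (sub_add_cancel k 1) rfl,
      show s k (k - 1) = 0 from dif_neg fun h => by omega,
      show s (k + 1) k = H.hom (k + 1) k ≫ θ from (dif_pos ⟨rfl, rfl⟩).trans (by simp), zero_comp, add_zero]
    simp only [ModuleCat.hom_sub, ModuleCat.hom_comp, ModuleCat.hom_add, LinearMap.sub_apply,
      LinearMap.add_apply, LinearMap.comp_apply, map_add] at hk ⊢
    have hfk : θ.hom ((f.f k).hom x) = θ.hom (c.hom ((e.f k).hom x)) := by simp [f, φ]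
    rw [hfk] at hk
    have e1 : (e.f k).hom x - θ.hom ((H.hom (k + 1) k).hom ((P.d k (k + 1)).hom x)) =
        ((e.f k).hom x - θ.hom (c.hom ((e.f k).hom x))) +
          θ.hom (((∑ i ∈ S, g i ≫ Sigma.ι X i).f k).hom x) := by
      rw [hk]; abel
    rw [e1]
    refine add_mem (Submodule.span_mono (Set.image_mono ?_) (hθc _)) ?_
    · exact Finset.coe_subset.2 Finset.subset_union_left
    · rw [cx_sum_f, ModuleCat.hom_sum, LinearMap.sum_apply, map_sum]
      refine Submodule.sum_mem _ fun i hi => ?_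
      rw [HomologicalComplex.comp_f, ModuleCat.hom_comp, LinearMap.comp_apply, hθ]
      exact Submodule.smul_mem _ _ (Submodule.subset_span ⟨i, Finset.mem_union_right _ hi, rfl⟩)
  · exact Submodule.span_mono (Set.image_mono (Finset.coe_subset.2 Finset.subset_union_left)) (hT0 x hx)

theorem exists_finite_endo {P : DRing.Cx A} [P.IsKProjective] (h : SumSurj ((QA A).obj P))
    (ι : ℤ → Type u) (B : ∀ n, Module.Basis (ι n) A (P.X n)) (e₀ : P ⟶ P) (a : ℤ)
    (ha : ∀ i < a, e₀.f i = 0) (m : ℕ) :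
    ∃ (e : P ⟶ P) (T : ∀ n, Finset (ι n)), (QA A).map e = (QA A).map e₀ ∧ (∀ n < a, T n = ∅) ∧
      (∀ n, n < a + m → ∀ x, (e.f n).hom x ∈ spanB (B n) (T n)) ∧
      ∀ i j, i + 1 = j → j < a + m → ∀ x ∈ spanB (B i) (T i), (P.d i j).hom x ∈ spanB (B j) (T j) := by
  classical
  induction m with
  | zero =>
    refine ⟨e₀, fun _ => ∅, rfl, fun _ _ => rfl, fun n hn x => ?_, fun i j _ _ x hx => ?_⟩
    · rw [ha n (by simpa using hn)]; exact zero_mem _
    · simp only [spanB, Finset.coe_empty, Set.image_empty, Submodule.span_empty, Submodule.mem_bot] at hx ⊢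
      simp [hx]
  | succ m ih =>
    obtain ⟨e, T, h1, h0, h2, h3⟩ := ih
    obtain ⟨e', T', h1', h2', h4, h5⟩ := exists_finite_step h ι B (a + m) e T h2
    refine ⟨e', Function.update T (a + m) T', h1'.trans h1, fun n hn => ?_, fun n hn x => ?_,
      fun i j hij hj x hx => ?_⟩
    · rw [Function.update_of_ne (by omega)]; exact h0 n hn
    · by_cases hk : n = a + m
      · subst hk; rw [Function.update_self]; exact h4 x
      · rw [Function.update_of_ne hk, h2' n (by push_cast at hn; omega)]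
        exact h2 n (by push_cast at hn; omega) x
    · push_cast at hj
      rw [Function.update_of_ne (by omega)] at hx
      by_cases hk : j = a + m
      · subst hk
        obtain rfl : i = a + m - 1 := by omega
        rw [Function.update_self]; exact h5 x hx
      · rw [Function.update_of_ne hk]; exact h3 i j hij (by omega) x hx

theorem perfect_of_split {X Y : Dual.D A} (i : X ⟶ Y) (p : Y ⟶ X) (hip : i ≫ p = 𝟙 _)
    (h : DRing.IsPerfect A Y) : DRing.IsPerfect A X := by
  obtain ⟨C, v, w, hT⟩ := distinguished_cocone_triangle i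
  have hz : w = 0 := (Triangle.mor₃_eq_zero_iff_mono₁ _ hT).2 (SplitMono.mk p hip).mono
  obtain ⟨f, -⟩ := exists_iso_binaryBiproduct_of_distTriang _ hT hz
  exact perfect_of_retract (Y := C) (perfect_of_iso h f)

theorem perfect_of_sumSurj {K : Dual.D A} (hK : SumSurj K) : DRing.IsPerfect A K := by
  classical
  obtain ⟨K0, ⟨e0⟩⟩ := exists_complex_iso K
  haveI := SF.isKProjective_res K0
  haveI : IsIso ((QA A).map (SF.aug K0)) :=
    (DerivedCategory.isIso_Q_map_iff_quasiIso (ModuleCat.{u} A) _).2 inferInstance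
  let P := SF.res K0
  let eP : (QA A).obj P ≅ K := asIso ((QA A).map (SF.aug K0)) ≪≫ e0
  have hP := hK.of_iso eP.symm
  haveI hfree : ∀ n, Module.Free A (P.X n) := SF.free_res K0
  refine perfect_of_iso ?_ eP
  obtain ⟨a, b, e₀, hab, he₀, hz⟩ := exists_bounded_endo (fun n => inferInstance) hP
  let B := fun n => Module.Free.chooseBasis A (P.X n)
  obtain ⟨e, T, he, hT0, hmem, hdT⟩ := exists_finite_endo hP _ B e₀ a (fun i hi => hz i (Or.inl hi))
    (b - a + 1).toNat
  have hm : a + ((b - a + 1).toNat : ℤ) = b + 1 := by omega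
  rw [hm] at hmem hdT
  let T' := fun n => if n ≤ b then T n else ∅
  let r := fun n => retB (B n) (T' n)
  have hr : ∀ n, n ≤ b → ∀ y ∈ spanB (B n) (T n), (r n y : P.X n) = y := fun n hn y hy =>
    retB_of_mem _ _ (by rwa [show T' n = T n from if_pos hn])
  have hsub : ∀ n, (n < a ∨ b < n) → Subsingleton (spanB (B n) (T' n)) := fun n hn => by
    have : T' n = ∅ := by
      by_cases h : n ≤ b
      · exact (if_pos h).trans (hT0 n (by omega))
      · exact if_neg h
    rw [this]
    simp only [spanB, Finset.coe_empty, Set.image_empty, Submodule.span_empty]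
    infer_instance
  have hin : ∀ n, n ≤ b → ∀ y : spanB (B n) (T' n), (y : P.X n) ∈ spanB (B n) (T n) := fun n hn y =>
    (show T' n = T n from if_pos hn) ▸ y.2
  let F : DRing.Cx A := CochainComplex.of (fun n => ModuleCat.of A (spanB (B n) (T' n)))
    (fun n => ModuleCat.ofHom (r (n + 1) ∘ₗ (P.d n (n + 1)).hom ∘ₗ (spanB (B n) (T' n)).subtype))
    (fun n => ModuleCat.hom_ext (LinearMap.ext fun y => by
      by_cases hn : n + 1 + 1 ≤ b
      · show r (n + 1 + 1) ((P.d (n + 1) (n + 1 + 1)).hom (r (n + 1) ((P.d n (n + 1)).hom y) : P.X (n + 1))) = 0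
        rw [hr (n + 1) (by omega) _ (hdT n (n + 1) rfl (by omega) _ (hin n (by omega) y)),
          show (P.d (n + 1) (n + 1 + 1)).hom ((P.d n (n + 1)).hom y) = 0 from
            LinearMap.congr_fun (congrArg ModuleCat.Hom.hom (P.d_comp_d n (n + 1) (n + 1 + 1))) _, map_zero]
      · haveI := hsub (n + 1 + 1) (Or.inr (by omega))
        exact Subsingleton.elim _ _))
  have hFd : ∀ n (y : spanB (B n) (T' n)),
      ((F.d n (n + 1)).hom y : spanB (B (n + 1)) (T' (n + 1))) = r (n + 1) ((P.d n (n + 1)).hom y) :=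
    fun n y => by simp [F]
  let u : P ⟶ F :=
    { f := fun n => ModuleCat.ofHom (r n ∘ₗ (e.f n).hom)
      comm' := fun i j hij => by
        obtain rfl : i + 1 = j := hij
        refine ModuleCat.hom_ext (LinearMap.ext fun x => ?_)
        show (F.d i (i + 1)).hom (r i ((e.f i).hom x)) = r (i + 1) ((e.f (i + 1)).hom ((P.d i (i + 1)).hom x))
        refine (hFd _ _).trans ?_
        by_cases hi : i + 1 ≤ b
        · rw [hr i (by omega) _ (hmem i (by omega) x)]
          exact congrArg _ (LinearMap.congr_fun (congrArg ModuleCat.Hom.hom (e.comm i (i + 1))) x)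
        · haveI := hsub (i + 1) (Or.inr (by omega))
          exact Subsingleton.elim _ _ }
  let v : F ⟶ P :=
    { f := fun n => ModuleCat.ofHom ((e₀.f n).hom ∘ₗ (spanB (B n) (T' n)).subtype)
      comm' := fun i j hij => by
        obtain rfl : i + 1 = j := hij
        refine ModuleCat.hom_ext (LinearMap.ext fun (y : spanB (B i) (T' i)) => ?_)
        show (P.d i (i + 1)).hom ((e₀.f i).hom y) =
          (e₀.f (i + 1)).hom ((spanB (B (i + 1)) (T' (i + 1))).subtype ((F.d i (i + 1)).hom y))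
        rw [hFd, show (P.d i (i + 1)).hom ((e₀.f i).hom y) = (e₀.f (i + 1)).hom ((P.d i (i + 1)).hom y) from
          LinearMap.congr_fun (congrArg ModuleCat.Hom.hom (e₀.comm i (i + 1))) _]
        by_cases hi : i + 1 ≤ b
        · exact (congrArg _ (hr (i + 1) hi _ (hdT i (i + 1) rfl (by omega) _ (hin i (by omega) y)))).symm
        · rw [hz (i + 1) (Or.inr (by omega))]; rfl }
  have huv : u ≫ v = e ≫ e₀ := HomologicalComplex.hom_ext _ _ fun n =>
    ModuleCat.hom_ext (LinearMap.ext fun x => by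
      show (e₀.f n).hom (r n ((e.f n).hom x) : P.X n) = (e₀.f n).hom ((e.f n).hom x)
      by_cases hn : n ≤ b
      · rw [hr n hn _ (hmem n (by omega) x)]
      · rw [hz n (Or.inr (by omega))]; rfl)
  refine perfect_of_split ((QA A).map u) ((QA A).map v) ?_ ⟨F, a, b, fun i hi => ?_, fun i => ?_, ⟨Iso.refl _⟩⟩
  · rw [← Functor.map_comp, huv, Functor.map_comp, he, he₀, Category.comp_id]
  · haveI := hsub i hi
    exact ModuleCat.isZero_of_subsingleton (ModuleCat.of A (spanB (B i) (T' i)))
  · show Module.Finite A (spanB (B i) (T' i)) ∧ Module.Projective A (spanB (B i) (T' i))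
    exact ⟨Module.Finite.span_of_finite A ((T' i).finite_toSet.image _),
      Module.Projective.of_split (spanB (B i) (T' i)).subtype (r i)
        (LinearMap.ext fun y => Subtype.ext (retB_of_mem _ _ y.2))⟩

theorem exists_finite_support {P : DRing.Cx A} (a b : ℤ) (hv : DRing.VanishesOutside P a b)
    (hP : DRing.TermwiseFiniteProjective P) {I : Type u} (X : I → DRing.Cx A) (f : P ⟶ ∐ X) :
    ∃ S : Finset I, f = ∑ i ∈ S, (f ≫ sPr X i) ≫ Sigma.ι X i := by
  classical
  have key : ∀ (j : ℤ) (x : (∐ X).X j), ∃ S : Finset I, ∀ S', S ⊆ S' →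
      x = ∑ i ∈ S', ((Sigma.ι X i).f j).hom (((sPr X i).f j).hom x) := by
    intro j
    let M : Submodule A ((∐ X).X j) :=
      { carrier := {x | ∃ S : Finset I, ∀ S', S ⊆ S' → x = ∑ i ∈ S', ((Sigma.ι X i).f j).hom (((sPr X i).f j).hom x)}
        zero_mem' := ⟨∅, fun S' _ => by simp⟩
        add_mem' := fun {x y} ⟨S, hS⟩ ⟨T, hT⟩ => ⟨S ∪ T, fun S' h => by
          simp only [map_add, Finset.sum_add_distrib]
          rw [← hS S' (Finset.union_subset_left h), ← hT S' (Finset.union_subset_right h)]⟩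
        smul_mem' := fun r x ⟨S, hS⟩ => ⟨S, fun S' h => by
          simp only [map_smul, ← Finset.smul_sum]
          rw [← hS S' h]⟩ }
    suffices hM : M = ⊤ from fun x => (Submodule.eq_top_iff'.1 hM x : x ∈ M)
    have h0 : ModuleCat.ofHom M.mkQ = 0 := Cofan.IsColimit.hom_ext (isColimitEval X j) _ _ fun k =>
      ModuleCat.hom_ext (LinearMap.ext fun y => (Submodule.Quotient.mk_eq_zero _).2 ⟨{k}, fun S' h => by
        rw [Finset.sum_eq_single k]
        · exact (congrArg ((Sigma.ι X k).f j).hom (LinearMap.congr_fun (congrArg ModuleCat.Hom.hom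
            (HomologicalComplex.congr_hom (ι_sPr X k) j)) y)).symm
        · intro i _ hi
          exact (congrArg ((Sigma.ι X i).f j).hom (LinearMap.congr_fun
            (congrArg ModuleCat.Hom.hom (HomologicalComplex.congr_hom (ι_sPr_ne X (Ne.symm hi)) j)) y)).trans (map_zero _)
        · exact fun hk => absurd (h (Finset.mem_singleton_self k)) hk⟩)
    exact eq_top_iff.2 fun x _ => (Submodule.Quotient.mk_eq_zero M).1
      (LinearMap.congr_fun (congrArg ModuleCat.Hom.hom h0) x)
  choose S hS using key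
  choose G hG using fun j => (hP j).1.fg_top
  let Sall : Finset I := (Finset.Icc a b).biUnion fun j => (G j).biUnion fun x => S j ((f.f j).hom x)
  refine ⟨Sall, HomologicalComplex.hom_ext _ _ fun j => ?_⟩
  by_cases hj : j < a ∨ b < j
  · exact (hv j hj).eq_of_src _ _
  refine ModuleCat.hom_ext (LinearMap.ext_on (hG j) fun x hx => ?_)
  rw [cx_sum_f, ModuleCat.hom_sum, LinearMap.sum_apply]
  refine hS j _ Sall fun i hi => ?_
  exact Finset.mem_biUnion.2 ⟨j, Finset.mem_Icc.2 (by omega), Finset.mem_biUnion.2 ⟨x, hx, hi⟩⟩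

theorem compact_of_perfect {K : Dual.D A} (hK : DRing.IsPerfect A K) (I : Type u) (E : I → Dual.D A)
    [HasCoproduct fun i : ULift.{u + 1} I => E i.down] :
    Function.Bijective (CohDer.homSumToHomCoprod K (fun i : ULift.{u + 1} I => E i.down)) := by
  classical
  let E' := fun i : ULift.{u + 1} I => E i.down
  refine ⟨(injective_iff_map_eq_zero _).2 fun s hs => DFinsupp.ext fun k => ?_, fun x => ?_⟩
  · have h0 : ∀ t : DirectSum (ULift.{u + 1} I) (fun i => K ⟶ E' i),
        CohDer.homSumToHomCoprod K E' t ≫ sPr E' k = t k := by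
      intro t
      induction t using DirectSum.induction_on with
      | zero => simp
      | of i x =>
        rw [CohDer42.homSum_of, Category.assoc]
        by_cases hik : i = k
        · subst hik; rw [ι_sPr, DirectSum.of_eq_same]; exact Category.comp_id _
        · rw [ι_sPr_ne E' hik, DirectSum.of_eq_of_ne _ _ _ (Ne.symm hik)]; exact comp_zero
      | add t₁ t₂ h₁ h₂ => rw [map_add, Preadditive.add_comp, h₁, h₂]; rfl
    rw [← h0 s, hs, zero_comp]; rfl
  · obtain ⟨P, a, b, hv, hP, ⟨eP⟩⟩ := hK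
    haveI : P.IsKProjective := by
      haveI : ∀ n, Projective (P.X n) := fun n => (IsProjective.iff_projective (R := A) _).1 (hP n).2
      haveI : CochainComplex.IsStrictlyLE P b := by
        rw [CochainComplex.isStrictlyLE_iff]
        exact fun n hn => hv n (Or.inr hn)
      exact CochainComplex.isKProjective_of_projective _ b
    choose X hX using fun i => exists_complex_iso (E i)
    obtain ⟨hl⟩ := isColimit_Q (isColimitULift X)
    let ψ : ∐ E' ⟶ (QA A).obj (∐ X) :=
      Sigma.desc fun i => (hX i.down).some.inv ≫ (QA A).map (Sigma.ι X i.down)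
    let θ : (QA A).obj (∐ X) ⟶ ∐ E' :=
      Cofan.IsColimit.desc hl fun i => (hX i.down).some.hom ≫ Sigma.ι E' i
    have hθ : ∀ i : ULift.{u + 1} I, (QA A).map (Sigma.ι X i.down) ≫ θ = (hX i.down).some.hom ≫ Sigma.ι E' i :=
      fun i => Cofan.IsColimit.fac hl _ i
    have hψθ : ψ ≫ θ = 𝟙 _ := Sigma.hom_ext _ _ fun i => by simp [ψ, hθ]
    obtain ⟨f, hf⟩ := Q_map_surjective P (∐ X) (eP.hom ≫ x ≫ ψ)
    obtain ⟨S, hS⟩ := exists_finite_support a b hv hP X f
    refine ⟨∑ i ∈ S, DirectSum.of (fun i => K ⟶ E' i) ⟨i⟩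
      (eP.inv ≫ (QA A).map (f ≫ sPr X i) ≫ (hX i).some.hom), ?_⟩
    rw [map_sum, ← cancel_epi eP.hom]
    calc eP.hom ≫ ∑ i ∈ S, CohDer.homSumToHomCoprod K E' (DirectSum.of (fun i => K ⟶ E' i) ⟨i⟩
          (eP.inv ≫ (QA A).map (f ≫ sPr X i) ≫ (hX i).some.hom))
        = (QA A).map (∑ i ∈ S, (f ≫ sPr X i) ≫ Sigma.ι X i) ≫ θ := by
          rw [Functor.map_sum, Preadditive.sum_comp, Preadditive.comp_sum]
          refine Finset.sum_congr rfl fun i _ => ?_
          rw [CohDer42.homSum_of, Functor.map_comp, Category.assoc]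
          simp only [Functor.map_comp, Category.assoc, Iso.hom_inv_id_assoc]
          exact congrArg (fun t => (QA A).map f ≫ (QA A).map (sPr X i) ≫ t) (hθ ⟨i⟩).symm
      _ = eP.hom ≫ x := by rw [← hS, hf, Category.assoc, Category.assoc, hψθ, Category.comp_id]

end Groth.Agent.DR39
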