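import Groth.Prelude.Def_DRing3
import Groth.Agent.DR39.Hom
import Groth.Agent.DR39.DCModule
import Mathlib.Algebra.Category.ModuleCat.Projective
import Mathlib.Algebra.Category.ModuleCat.Adjunctions
import Mathlib.Algebra.Category.ModuleCat.Kernels
import Mathlib.Algebra.Homology.ShortComplex.ModuleCat
import Mathlib.LinearAlgebra.Finsupp.LSum
import Mathlib.Algebra.Homology.DerivedCategory.SingleTriangle

/-! Criterion for derived completeness via cohomology modules. -/

set_option autoImplicit false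
set_option linter.style.haveILetI false
set_option linter.unusedSectionVars false

universe u

open CategoryTheory CategoryTheory.Limits CategoryTheory.Category CategoryTheory.Pretriangulated

attribute [local instance] HasDerivedCategory.standard

namespace Groth.Agent.DR39

section General

variable {C : Type*} [Category C] [Preadditive C] [HasZeroObject C] [HasShift C ℤ]
  [∀ n : ℤ, (shiftFunctor C n).Additive] [Pretriangulated C]

theorem precomp_shift_bijective {X Y : C} (φ : X ⟶ Y) (L : C)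
    (h : Function.Bijective (fun g : Y ⟶ L⟦(-1 : ℤ)⟧ => φ ≫ g)) :
    Function.Bijective (fun g : Y⟦(1 : ℤ)⟧ ⟶ L => φ⟦(1 : ℤ)⟧' ≫ g) := by
  let adj := (shiftEquiv C (1 : ℤ)).toAdjunction
  have : (fun g : Y⟦(1 : ℤ)⟧ ⟶ L => φ⟦(1 : ℤ)⟧' ≫ g) =
      (adj.homEquiv X L).symm ∘ (fun g : Y ⟶ L⟦(-1 : ℤ)⟧ => φ ≫ g) ∘ (adj.homEquiv Y L) := by
    funext g
    apply (adj.homEquiv X L).injective
    show adj.homEquiv X L _ = adj.homEquiv X L ((adj.homEquiv X L).symm (φ ≫ adj.homEquiv Y L g))
    rw [Equiv.apply_symm_apply]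
    exact adj.homEquiv_naturality_left φ g
  rw [this]
  exact ((adj.homEquiv X L).symm.bijective.comp h).comp (adj.homEquiv Y L).bijective

theorem precomp_iso_bijective {X Y : C} (φ : X ⟶ Y) {L L' : C} (e : L ≅ L')
    (h : Function.Bijective (fun g : Y ⟶ L => φ ≫ g)) :
    Function.Bijective (fun g : Y ⟶ L' => φ ≫ g) := by
  have : (fun g : Y ⟶ L' => φ ≫ g) =
      Iso.homToEquiv e ∘ (fun g : Y ⟶ L => φ ≫ g) ∘ (Iso.homToEquiv e).symm := by
    funext g
    simp
  rw [this]
  exact ((Iso.homToEquiv e).bijective.comp h).comp (Iso.homToEquiv e).symm.bijective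

theorem subsingleton_hom_shift_neg (Z L : C) (h : Subsingleton (Z ⟶ L⟦(1 : ℤ)⟧)) :
    Subsingleton (Z⟦(-1 : ℤ)⟧ ⟶ L) :=
  @Equiv.subsingleton _ _ ((shiftEquiv C (1 : ℤ)).symm.toAdjunction.homEquiv Z L) h

/-- `Hom(Z, L⟦n⟧) = 0` for all `n` iff precomposition with the first map of a triangle
`X ⟶ Y ⟶ Z ⟶` is bijective on all `Hom(-, L⟦n⟧)`. -/
theorem subsingleton_hom_iff_precomp_bijective (T : Triangle C) (hT : T ∈ distinguishedTriangles)
    (L : C) :
    (∀ n : ℤ, Subsingleton (T.obj₃ ⟶ L⟦n⟧)) ↔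
      ∀ n : ℤ, Function.Bijective (fun g : T.obj₂ ⟶ L⟦n⟧ => T.mor₁ ≫ g) := by
  constructor
  · intro hZ n
    refine ⟨fun g g' hg => ?_, fun g => ?_⟩
    · rw [← sub_eq_zero]
      have : T.mor₁ ≫ (g - g') = 0 := by
        rw [Preadditive.comp_sub, sub_eq_zero]; exact hg
      obtain ⟨h, hh⟩ := Triangle.yoneda_exact₂ T hT _ this
      haveI := hZ n
      rw [hh, Subsingleton.elim h 0, comp_zero]
    · have h0 : T.invRotate.mor₁ ≫ g = 0 := by
        haveI : Subsingleton (T.obj₃⟦(-1 : ℤ)⟧ ⟶ L⟦n⟧) := subsingleton_hom_shift_neg T.obj₃ _ (by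
          haveI := hZ (n + 1)
          exact (Iso.homToEquiv ((shiftFunctorAdd C n (1 : ℤ)).app L)).subsingleton_congr.1 inferInstance)
        exact Subsingleton.elim (α := T.obj₃⟦(-1 : ℤ)⟧ ⟶ L⟦n⟧) _ _
      obtain ⟨g', hg'⟩ := Triangle.yoneda_exact₂ _ (inv_rot_of_distTriang T hT) g h0
      exact ⟨g', hg'.symm⟩
  · intro hφ n
    refine ⟨fun a b => ?_⟩
    rw [← sub_eq_zero]
    have h1 : T.mor₂ ≫ (a - b) = 0 := (hφ n).1 (by
      simp [reassoc_of% (comp_distTriang_mor_zero₁₂ T hT)])
    obtain ⟨g, hg⟩ := Triangle.yoneda_exact₃ T hT _ h1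
    obtain ⟨g', hg'⟩ := (precomp_shift_bijective T.mor₁ (L⟦n⟧) (precomp_iso_bijective T.mor₁
      ((shiftFunctorAdd' C n (-1) (n - 1) (by lia)).app L) (hφ (n - 1)))).2 g
    rw [hg, ← hg']
    simp [reassoc_of% (comp_distTriang_mor_zero₃₁ T hT)]

end General

variable {A : Type u} [CommRing A] (f : A)

/-- Free module on `ℕ`. -/
noncomputable abbrev FN (A : Type u) [CommRing A] : ModuleCat.{u} A := ModuleCat.of A (ℕ →₀ A)

/-- `δ_i ↦ δ_i - f δ_{i+1}`. -/
noncomputable def phiN : (ℕ →₀ A) →ₗ[A] (ℕ →₀ A) :=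
  LinearMap.id - f • Finsupp.lmapDomain A A (fun i : ℕ => i + 1)

theorem phiN_single (i : ℕ) (c : A) :
    phiN f (Finsupp.single i c) = Finsupp.single i c - f • Finsupp.single (i + 1) c := by
  simp [phiN]

/-- `δ_i ↦ 1/f^i`. -/
noncomputable def piN : (ℕ →₀ A) →ₗ[A] Localization.Away f :=
  Finsupp.linearCombination A fun i : ℕ =>
    IsLocalization.mk' (Localization.Away f) (1 : A) (⟨f ^ i, i, rfl⟩ : Submonoid.powers f)

theorem piN_single (i : ℕ) (c : A) : piN f (Finsupp.single i c) =
    IsLocalization.mk' (Localization.Away f) c (⟨f ^ i, i, rfl⟩ : Submonoid.powers f) := by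
  simp [piN, Algebra.smul_def, IsLocalization.mul_mk'_eq_mk'_of_mul]

theorem piN_phiN (x : ℕ →₀ A) : piN f (phiN f x) = 0 := by
  induction x using Finsupp.induction_linear with
  | zero => simp
  | add a b ha hb => simp [ha, hb]
  | single i c =>
    rw [phiN_single, map_sub, Finsupp.smul_single', piN_single, piN_single, sub_eq_zero]
    refine IsLocalization.mk'_eq_of_eq ?_
    show f ^ i * (f * c) = f ^ (i + 1) * c
    ring

theorem phiN_injective : Function.Injective (phiN f) := by
  rw [injective_iff_map_eq_zero]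
  intro x hx
  have h : ∀ k, x k = f * (Finsupp.mapDomain (fun i : ℕ => i + 1) x) k := fun k => by
    have := congrArg (fun y : ℕ →₀ A => y k) hx
    simp [phiN, sub_eq_zero] at this
    exact this
  ext k
  induction k with
  | zero =>
    rw [h, Finsupp.mapDomain_of_notMem_range _ _ (by simp)]
    simp
  | succ k ih =>
    rw [h, Finsupp.mapDomain_apply (fun a b hab => by omega), ih]
    simp

theorem piN_surjective : Function.Surjective (piN f) := by
  intro y
  obtain ⟨⟨a, ⟨_, n, rfl⟩⟩, h⟩ := IsLocalization.mk'_surjective (Submonoid.powers f) y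
  exact ⟨Finsupp.single n a, by rw [piN_single]; exact h⟩

theorem ker_piN : LinearMap.ker (piN f) = LinearMap.range (phiN f) := by
  refine le_antisymm (fun x hx => ?_) ?_
  · let q := (LinearMap.range (phiN f)).mkQ
    have hq : ∀ i c k, q (Finsupp.single i c) = q (Finsupp.single (i + k) (f ^ k * c)) := by
      intro i c k
      induction k with
      | zero => simp
      | succ k ih =>
        rw [ih, ← sub_eq_zero, ← map_sub]
        refine (Submodule.Quotient.mk_eq_zero _).2 ⟨Finsupp.single (i + k) (f ^ k * c), ?_⟩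
        rw [phiN_single, Finsupp.smul_single']
        simp [add_assoc, pow_succ', mul_assoc]
    have hsum : ∀ y : ℕ →₀ A, ∃ N c, q y = q (Finsupp.single N c) := by
      intro y
      induction y using Finsupp.induction_linear with
      | zero => exact ⟨0, 0, by simp⟩
      | single i c => exact ⟨i, c, rfl⟩
      | add a b ha hb =>
        obtain ⟨N, c, ha⟩ := ha
        obtain ⟨M, d, hb⟩ := hb
        refine ⟨N + M, f ^ M * c + f ^ N * d, ?_⟩
        rw [map_add, ha, hb, hq N c M, hq M d N, add_comm M N, ← map_add, ← Finsupp.single_add]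
    obtain ⟨N, c, hN⟩ := hsum x
    have h0 : piN f (Finsupp.single N c) = 0 := by
      have : x - Finsupp.single N c ∈ LinearMap.range (phiN f) :=
        (Submodule.Quotient.eq _).1 hN
      obtain ⟨z, hz⟩ := this
      have := piN_phiN f z
      rw [hz, map_sub, LinearMap.mem_ker.1 hx, zero_sub, neg_eq_zero] at this
      exact this
    rw [piN_single, IsLocalization.mk'_eq_zero_iff] at h0
    obtain ⟨⟨_, k, rfl⟩, hk⟩ := h0
    refine (Submodule.Quotient.mk_eq_zero _).1 ?_
    show q x = 0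
    rw [hN, hq N c k]
    simp only at hk
    rw [hk, Finsupp.single_zero, map_zero]
  · rintro _ ⟨z, rfl⟩
    exact piN_phiN f z

/-- `0 → A^(ℕ) → A^(ℕ) → A_f → 0`. -/
noncomputable def seqN : ShortComplex (ModuleCat.{u} A) :=
  ShortComplex.mk (X₁ := FN A) (X₂ := FN A) (X₃ := ModuleCat.of A (Localization.Away f))
    (ModuleCat.ofHom (phiN f)) (ModuleCat.ofHom (piN f))
    (ModuleCat.hom_ext (LinearMap.ext fun x => piN_phiN f x))

theorem seqN_shortExact : (seqN f).ShortExact := by
  haveI : Mono (seqN f).f := (ModuleCat.mono_iff_injective _).2 (phiN_injective f)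
  haveI : Epi (seqN f).g := (ModuleCat.epi_iff_surjective _).2 (piN_surjective f)
  exact { exact := (ShortComplex.moduleCat_exact_iff_range_eq_ker _).2 (ker_piN f).symm }

/-- `Hom(A^(ℕ), M) ≃ (ℕ → M)`. -/
noncomputable def homFN (M : ModuleCat.{u} A) : (FN A ⟶ M) ≃ (ℕ → M) :=
  (ModuleCat.homEquiv).trans (Finsupp.llift M A A ℕ).symm.toEquiv

theorem homFN_apply (M : ModuleCat.{u} A) (g : FN A ⟶ M) (i : ℕ) :
    homFN M g i = g (Finsupp.single i 1) := by
  simp [homFN, ModuleCat.homEquiv]

theorem homFN_precomp (M : ModuleCat.{u} A) (g : FN A ⟶ M) :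
    homFN M ((seqN f).f ≫ g) = DCM.T f M (homFN M g) := by
  funext i
  rw [DCM.T_apply, homFN_apply, homFN_apply, homFN_apply]
  show g.hom (phiN f (Finsupp.single i 1)) = _
  rw [phiN_single, map_sub, map_smul]

/-- `Hom(A_f, K⟦n⟧) = 0` for all `n` iff `T_f` is bijective on all cohomology modules. -/
theorem subsingleton_iff_comp (K : Dual.D A) :
    (∀ n : ℤ, Subsingleton (Dual.inD A (Localization.Away f) ⟶ K⟦n⟧)) ↔
      ∀ n : ℤ, DCM.Comp f (Dual.HD A K n) := by
  refine Iff.trans (subsingleton_hom_iff_precomp_bijective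
    (seqN_shortExact f).singleTriangle (seqN_shortExact f).singleTriangle_distinguished K) ?_
  refine forall_congr' fun n => ?_
  let H0 := (DerivedCategory.homologyFunctor (ModuleCat.{u} A) 0).obj (K⟦n⟧)
  haveI : Projective (FN A) := (IsProjective.iff_projective (R := A) (ℕ →₀ A)).1 inferInstance
  let E : ((DerivedCategory.singleFunctor (ModuleCat.{u} A) 0).obj (FN A) ⟶ K⟦n⟧) ≃ (ℕ → H0) :=
    (Equiv.ofBijective _ (homToH0_bijective (FN A) (K⟦n⟧))).trans (homFN H0)
  have : (fun g : (seqN_shortExact f).singleTriangle.obj₂ ⟶ K⟦n⟧ =>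
      (seqN_shortExact f).singleTriangle.mor₁ ≫ g) = E.symm ∘ DCM.T f H0 ∘ E := by
    funext g
    apply E.injective
    show E _ = E (E.symm (DCM.T f H0 (E g)))
    rw [Equiv.apply_symm_apply]
    show homFN H0 (homToH0 (FN A) _ ((DerivedCategory.singleFunctor (ModuleCat.{u} A) 0).map
      (seqN f).f ≫ g)) = DCM.T f H0 (homFN H0 (homToH0 (FN A) _ g))
    exact (congrArg (homFN H0) (homToH0_precomp (seqN f).f _ g)).trans (homFN_precomp f H0 _)
  rw [this]
  let e : H0 ≅ (DerivedCategory.homologyFunctor (ModuleCat.{u} A) n).obj K :=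
    ((DerivedCategory.homologyFunctor (ModuleCat.{u} A) 0).shiftIso n 0 n (add_zero n)).app K
  constructor
  · intro h
    refine DCM.comp_equiv e.toLinearEquiv ?_
    have := (E.bijective.comp h).comp E.symm.bijective
    have hT : ⇑(DCM.T f H0) = (E ∘ (E.symm ∘ DCM.T f H0 ∘ E)) ∘ E.symm := by
      funext x; simp
    show Function.Bijective (DCM.T f H0)
    rw [hT]; exact this
  · intro h
    exact (E.symm.bijective.comp (DCM.comp_equiv e.symm.toLinearEquiv h)).comp E.bijective

theorem isDerivedComplete_iff (I : Ideal A) (K : Dual.D A) :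
    DRing.IsDerivedComplete I K ↔ ∀ g ∈ I, ∀ n : ℤ, DCM.Comp g (Dual.HD A K n) :=
  forall₂_congr fun g _ => subsingleton_iff_comp g K

theorem comp_of_subsingleton (M : Type*) [AddCommGroup M] [Module A M] [Subsingleton M] :
    DCM.Comp f M :=
  ⟨fun _ _ _ => Subsingleton.elim _ _, fun y => ⟨y, Subsingleton.elim _ _⟩⟩

theorem subsingleton_HD_inD (M : Type u) [AddCommGroup M] [Module A M] (n : ℤ) (hn : n ≠ 0) :
    Subsingleton (Dual.HD A (Dual.inD A M) n) := by
  refine ModuleCat.subsingleton_of_isZero (IsZero.of_iso ?_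
    ((DerivedCategory.homologyFunctorFactors (ModuleCat.{u} A) n).app
      ((HomologicalComplex.single _ (ComplexShape.up ℤ) 0).obj (ModuleCat.of A M))))
  exact HomologicalComplex.isZero_single_obj_homology _ _ _ _ hn

theorem isDerivedComplete_inD_iff (I : Ideal A) (M : Type u) [AddCommGroup M] [Module A M] :
    DRing.IsDerivedComplete I (Dual.inD A M) ↔ ∀ g ∈ I, DCM.Comp g M := by
  rw [isDerivedComplete_iff]
  refine forall₂_congr fun g _ => ⟨fun h => ?_, fun h n => ?_⟩
  · exact DCM.comp_equiv (singleH0Iso (ModuleCat.of A M)).toLinearEquiv (h 0)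
  · by_cases hn : n = 0
    · subst hn
      exact DCM.comp_equiv (singleH0Iso (ModuleCat.of A M)).symm.toLinearEquiv h
    · haveI := subsingleton_HD_inD (A := A) M n hn
      exact comp_of_subsingleton g _

end Groth.Agent.DR39
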