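import Groth.Agent.DR39.DerivedLocalDuality
import Groth.Agent.DR39.DC
import Groth.Agent.AdicC27.Approx

/-! Local duality over a complete ring, unbounded objects. -/

set_option autoImplicit false
set_option linter.style.haveILetI false
set_option linter.unusedSectionVars false
set_option backward.isDefEq.respectTransparency false

universe u

open CategoryTheory CategoryTheory.Limits IsLocalRing CochainComplex.HomComplex

attribute [local instance] HasDerivedCategory.standard

namespace Groth.Agent.DR39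

variable {A : Type u} [CommRing A]

theorem localDuality_complete_any [IsLocalRing A] [IsNoetherianRing A] [IsAdicComplete (maximalIdeal A) A]
    {ω : Dual.D A} (hω : Dual.IsDualizing A ω)
    (hn : Dual.IsNormalized A ω) (E : Type u) [AddCommGroup E] [Module A E] (f : ResidueField A →ₗ[A] E)
    (hf : InjHull.IsInjectiveHull f) (X : Dual.D A) (hX : ∀ i : ℤ, Module.Finite A (Dual.HD A X i)) (i : ℤ) :
    Nonempty ((X ⟶ ω⟦-i⟧) ≃ₗ[A] (Dual2.HDI A (maximalIdeal A) X i →ₗ[A] E)) := by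
  let m := maximalIdeal A
  obtain ⟨D, ⟨eD⟩⟩ := exists_dualModel hω
  haveI := D.isKInjective
  have hn' : Dual.IsNormalized A ((QA A).obj D.I) := fun i hi => @Equiv.subsingleton _ _
    (Iso.homToEquiv ((CategoryTheory.shiftFunctor (Dual.D A) i).mapIso eD)) (hn i hi)
  obtain ⟨-, ⟨eΓ⟩⟩ := gamma_dualModel D hn' E f hf
  obtain ⟨K, ⟨eK⟩⟩ := exists_complex_iso X
  obtain ⟨R, r, hR, hr, -, hRi⟩ := CohDer42.exists_kinjective_resolution K
  haveI := hR
  haveI := hr
  haveI := (DerivedCategory.isIso_Q_map_iff_quasiIso (ModuleCat.{u} A) r).2 hr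
  let eR : (QA A).obj R ≅ X := (asIso ((QA A).map r)).symm ≪≫ eK
  have hRinj : ∀ i, Module.Injective A (R.X i) := fun i =>
    have := hRi i
    Module.injective_module_of_injective_object A (R.X i)
  obtain ⟨fs, hfs⟩ := DR40.exists_list_of_fg (IsNoetherian.noetherian m)
  obtain ⟨eC⟩ := nonempty_cechOn_iso R hRinj fs
  rw [hfs] at eC
  let L := (QA A).obj (DRing.homCx R D.I)
  obtain ⟨η, hη⟩ := exists_cechOn_map m R D.I fs fun x hx => hfs ▸ Ideal.subset_span hx
  have hc : DR40.IsCompl m η := by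
    refine ⟨DR40.dc_of_generators _ hfs fun x hx => DR40.compD_homCx_of_tors x _ D.I
      ((DR40.torsD_iff x _).1 (((DR40.torsD_iff x _).2
        (tors_gCx m R (hfs ▸ Ideal.subset_span hx))).of_iso eC.symm)), hη⟩
  have hfin : ∀ j, Module.Finite A (Dual.HD A L j) := fun j => finite_HF_homCx D R (fun k => by
    haveI := hX k
    exact Module.Finite.equiv ((HF A k).mapIso eR).symm.toLinearEquiv) j
  have hL : DRing.IsDerivedComplete m L := (isDerivedComplete_iff m L).2 fun g hg j => by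
    haveI := hfin j
    haveI := AdicC27.isAdicComplete_of_finite (I := m) (Dual.HD A L j)
    exact DCM.comp_of_isAdicComplete m hg
  have hid : DR40.IsCompl m (𝟙 L) := ⟨hL, fun Y _ => ⟨fun a b h => by simpa using h, fun a => ⟨a, by simp⟩⟩⟩
  obtain ⟨c, -⟩ := hid.unique hc
  obtain ⟨e1⟩ := homCx_iso_of_iso D.I eC
  haveI := isIso_homCxMap_gIncl m R D.I
  haveI : (sgl (ModuleCat.of A E)).IsKInjective := isKInjective_sgl E hf.isInjective
  haveI : (gCx m D.I).IsKInjective := isKInjective_of_rep (gCx m D.I) D.a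
    (fun j hj => isZero_gCx m D.I (D.zero j (Or.inl hj))) (injective_gCx m D.I D.inj)
  obtain ⟨e2⟩ := homCx_iso_target (gCx m R) (eΓ ≪≫ (sglQIso (ModuleCat.of A E)).symm)
  let T : L ≅ (QA A).obj (DRing.homCx (gCx m R) (sgl (ModuleCat.of A E))) :=
    c ≪≫ e1 ≪≫ (QA A).mapIso (asIso (DRing.homCxMap (gCx m R) (gIncl m D.I))).symm ≪≫ e2
  let eh : (DRing.homCx R D.I).homology (-i) ≅ (DRing.homCx (gCx m R) (sgl (ModuleCat.of A E))).homology (-i) :=
    (HQIso _ _).symm ≪≫ (HF A (-i)).mapIso T ≪≫ HQIso _ _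
  obtain ⟨eΨ⟩ := HDI_equiv m R eR i
  obtain ⟨eH⟩ := hom_injective_equiv E hf.isInjective ((QA A).obj (gCx m R)) (-i)
  let e3 : (X ⟶ ω⟦-i⟧) ≃ₗ[A] (DRing.homCx R D.I).homology (-i) :=
    (CategoryTheory.Linear.homCongr A eR.symm
      ((CategoryTheory.shiftFunctor (Dual.D A) (-i)).mapIso eD.symm ≪≫
        (((QA A).commShiftIso (-i)).app D.I).symm)).trans (homologyHomCxEquiv R D.I (-i)).symm
  let e4 : (DRing.homCx (gCx m R) (sgl (ModuleCat.of A E))).homology (-i) ≃ₗ[A]
      ((QA A).obj (gCx m R) ⟶ (Dual.inD A E)⟦-i⟧) :=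
    (homologyHomCxEquiv (gCx m R) (sgl (ModuleCat.of A E)) (-i)).trans
      (CategoryTheory.Linear.homCongr A (Iso.refl _) (((QA A).commShiftIso (-i)).app _ ≪≫
        (CategoryTheory.shiftFunctor (Dual.D A) (-i)).mapIso (sglQIso (ModuleCat.of A E))))
  rw [neg_neg] at eH
  exact ⟨e3.trans (eh.toLinearEquiv.trans (e4.trans (eH.trans (LinearEquiv.congrLeft E A
    ((HQIso (gCx m R) i).toLinearEquiv.trans eΨ.symm)))))⟩

end Groth.Agent.DR39
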