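import Groth.Prelude.Def_QFDual
import Groth.Prelude.Def_EGA4b
import Groth.Agent.Unr55.TraceEtale
import Groth.Agent.S2139
import Mathlib

/-! Complementary module and trace over total rings of fractions. -/

set_option autoImplicit false
set_option linter.style.haveILetI false

universe u

open Polynomial

namespace Groth.Agent.DR39

/-- integrality is detected on the quotients by primes -/
theorem isIntegral_of_forall_prime {A K : Type u} [CommRing A] [CommRing K] [Algebra A K] (x : K)
    (h : ∀ P : Ideal K, P.IsPrime → IsIntegral A (Ideal.Quotient.mk P x)) : IsIntegral A x := by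
  let S : Submonoid K :=
    { carrier := {y | ∃ p : A[X], p.Monic ∧ aeval x p = y}
      one_mem' := ⟨1, monic_one, map_one _⟩
      mul_mem' := by
        rintro _ _ ⟨p, hp, rfl⟩ ⟨q, hq, rfl⟩
        exact ⟨p * q, hp.mul hq, map_mul _ _ _⟩ }
  by_cases h0 : (0 : K) ∈ S
  · obtain ⟨p, hp, hp0⟩ := h0
    exact ⟨p, hp, hp0⟩
  obtain ⟨P, hP, -, hd⟩ := Ideal.exists_le_prime_disjoint (⊥ : Ideal K) S (by
    rw [Set.disjoint_left]
    intro y hy hyS
    exact h0 ((show y = 0 from hy) ▸ hyS))
  obtain ⟨p, hp, hp0⟩ := h P hP
  have : aeval x p ∈ P := by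
    rw [← Ideal.Quotient.eq_zero_iff_mem]
    exact (aeval_algHom_apply (Ideal.Quotient.mkₐ A P) x p).symm.trans hp0
  exact absurd ⟨p, hp, rfl⟩ (Set.disjoint_left.1 hd this)

theorem isIntegral_matrix_trace_field {A F : Type u} [CommRing A] [Field F] [IsAlgClosed F] [Algebra A F]
    {n : Type*} [Fintype n] [DecidableEq n] (M : Matrix n n F) (hM : IsIntegral A M) :
    IsIntegral A M.trace := by
  rw [Matrix.trace_eq_sum_roots_charpoly]
  refine multiset_sum_mem (S := integralClosure A F) _ fun μ hμ => ?_
  obtain ⟨p, hp, hp0⟩ := hM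
  refine ⟨p, hp, ?_⟩
  have hroot : (M.charpoly).IsRoot μ := (mem_roots'.1 hμ).2
  have h1 := spectrum.subset_polynomial_aeval M (p.map (algebraMap A F))
    ⟨μ, Matrix.mem_spectrum_iff_isRoot_charpoly.2 hroot, rfl⟩
  rw [aeval_map_algebraMap, show aeval M p = 0 from hp0] at h1
  rcases isEmpty_or_nonempty n with hn | hn
  · rw [Matrix.charpoly_isEmpty] at hroot
    simp [IsRoot] at hroot
  rw [spectrum.zero_eq, Set.mem_singleton_iff] at h1
  exact (eval_map _ μ).symm.trans h1

theorem isIntegral_trace' {A K L : Type u} [CommRing A] [CommRing K] [CommRing L] [Algebra A K]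
    [Algebra K L] [Algebra A L] [IsScalarTower A K L] [Module.Free K L] [Module.Finite K L] {x : L}
    (hx : IsIntegral A x) : IsIntegral A (Algebra.trace K L x) := by
  classical
  let b := Module.Free.chooseBasis K L
  rw [Algebra.trace_eq_matrix_trace b]
  have hM : IsIntegral A (Algebra.leftMulMatrix b x) :=
    hx.map ((Algebra.leftMulMatrix b).restrictScalars A)
  refine isIntegral_of_forall_prime _ fun P hP => ?_
  haveI := hP
  let F := AlgebraicClosure (FractionRing (K ⧸ P))
  let ψ : (K ⧸ P) →ₐ[A] F := IsScalarTower.toAlgHom A (K ⧸ P) F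
  refine (isIntegral_algHom_iff ψ (fun y z hyz => ?_)).1 ?_
  · exact IsFractionRing.injective (K ⧸ P) (FractionRing (K ⧸ P))
      ((algebraMap (FractionRing (K ⧸ P)) F).injective (by
        rw [← IsScalarTower.algebraMap_apply, ← IsScalarTower.algebraMap_apply]; exact hyz))
  let χ : K →ₐ[A] F := ψ.comp (Ideal.Quotient.mkₐ A P)
  have h2 := isIntegral_matrix_trace_field (χ.mapMatrix (Algebra.leftMulMatrix b x)) (hM.map χ.mapMatrix)
  rwa [← show χ (Algebra.leftMulMatrix b x).trace = (χ.mapMatrix (Algebra.leftMulMatrix b x)).trace from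
    map_sum χ _ _] at h2

variable {A K B L : Type u} [CommRing A] [CommRing K] [CommRing B] [CommRing L] [Algebra A K]
  [Algebra A B] [Algebra B L] [Algebra K L] [Algebra A L] [IsScalarTower A K L] [IsScalarTower A B L]

theorem one_mem_complementary (h : QFDual.IsDedekindDefined A K B L) (hA : EGA4.IsNormalRing A) :
    (1 : L) ∈ QFDual.complementary A K B L := fun b => by
  haveI := h.isFractionRing
  haveI := h.isNoetherianRing
  haveI := h.finite
  haveI := h.free
  haveI := h.finiteKL
  haveI : IsReduced A := isReduced_ofLocalizationMaximal A fun p _ => by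
    haveI := (hA p).1
    exact inferInstance
  haveI := (S2139.result (R := A) (minimalPrimes.finite_of_isNoetherianRing A)).1 hA
  have hb : IsIntegral A (algebraMap B L b) :=
    (Algebra.IsIntegral.isIntegral (R := A) b).map (IsScalarTower.toAlgHom A B L)
  rw [one_mul]
  have ht := (isIntegral_trace' (K := K) hb).map
    (IsLocalization.algEquiv (nonZeroDivisors A) K (FractionRing A)).toAlgHom
  obtain ⟨a, ha⟩ := IsIntegrallyClosedIn.isIntegral_iff.1 ht
  refine ⟨a, (IsLocalization.algEquiv (nonZeroDivisors A) K (FractionRing A)).injective ?_⟩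
  rw [AlgEquiv.commutes]
  exact ha

theorem exists_complementary_equiv (h : QFDual.IsDedekindDefined A K B L) :
    ∃ e : QFDual.complementary A K B L ≃ₗ[B] Disc.Omega A B, ∀ (x : QFDual.complementary A K B L) (b : B),
      algebraMap A K ((e x).toLinearMap b) = Algebra.trace K L ((x : L) * algebraMap B L b) := by
  haveI := h.isFractionRing
  haveI := h.free
  haveI := h.finiteKL
  haveI := h.isLocalization
  haveI := h.etale
  have hb := (Unr55.etale_iff_bijective_traceForm K L).1 inferInstance
  have hinj : Function.Injective (algebraMap A K) := IsFractionRing.injective A K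
  let j : B →ₗ[A] L := (IsScalarTower.toAlgHom A B L).toLinearMap
  haveI : IsLocalizedModule (nonZeroDivisors A) j := isLocalizedModule_iff_isLocalization.2 h.isLocalization
  have hu : ∀ s : nonZeroDivisors A, IsUnit ((algebraMap A (Module.End A K)) s) :=
    IsLocalizedModule.map_units (Algebra.linearMap A K)
  choose g hg using fun (x : QFDual.complementary A K B L) (b : B) => x.2 b
  let φ : QFDual.complementary A K B L → Disc.Omega A B := fun x => ⟨
    { toFun := g x
      map_add' := fun b c => hinj (by simp only [hg, map_add, mul_add])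
      map_smul' := fun a b => hinj (by
        rw [RingHom.id_apply, smul_eq_mul, map_mul, hg, hg, ← Algebra.smul_def, ← LinearMap.map_smul_of_tower]
        congr 1
        rw [Algebra.smul_def, Algebra.smul_def a ((x : L) * _), (algebraMap B L).map_mul, ← IsScalarTower.algebraMap_apply A B L]
        ring) }⟩
  let Φ : QFDual.complementary A K B L →ₗ[B] Disc.Omega A B :=
    { toFun := φ
      map_add' := fun x y => Disc.Omega.ext (LinearMap.ext fun b => hinj (by
        show algebraMap A K (g (x + y) b) = algebraMap A K (g x b + g y b)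
        rw [map_add, hg, hg, hg, Submodule.coe_add, add_mul, map_add]))
      map_smul' := fun c x => Disc.Omega.ext (LinearMap.ext fun b => hinj (by
        show algebraMap A K (g (c • x) b) = algebraMap A K (g x (c * b))
        rw [hg, hg, Submodule.coe_smul, Algebra.smul_def c (x : L), (algebraMap B L).map_mul]
        congr 1
        ring)) }
  have hΦ : Function.Bijective Φ := by
    refine ⟨fun x y hxy => Subtype.ext (hb.1 ?_), fun ψ => ?_⟩
    · have := IsLocalizedModule.ext (nonZeroDivisors A) j hu
        (j := (Algebra.traceForm K L (x : L)).restrictScalars A)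
        (k := (Algebra.traceForm K L (y : L)).restrictScalars A) (LinearMap.ext fun b => by
          show Algebra.trace K L ((x : L) * algebraMap B L b) = Algebra.trace K L ((y : L) * algebraMap B L b)
          rw [← hg, ← hg]
          exact congrArg (fun w : Disc.Omega A B => algebraMap A K (w.toLinearMap b)) hxy)
      exact LinearMap.ext fun l => LinearMap.congr_fun this l
    · let ψ' : L →ₗ[A] K := IsLocalizedModule.lift (nonZeroDivisors A) j
        ((Algebra.linearMap A K).comp ψ.toLinearMap) hu
      obtain ⟨x, hx⟩ := hb.2 (LinearMap.extendScalarsOfIsLocalization (nonZeroDivisors A) K ψ')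
      have hx' : ∀ b, Algebra.trace K L (x * algebraMap B L b) = algebraMap A K (ψ.toLinearMap b) := fun b =>
        (LinearMap.congr_fun hx (algebraMap B L b)).trans (IsLocalizedModule.lift_apply _ j _ hu b)
      refine ⟨⟨x, fun b => ⟨_, (hx' b).symm⟩⟩, Disc.Omega.ext (LinearMap.ext fun b => hinj ?_)⟩
      exact (hg _ b).trans (hx' b)
  exact ⟨LinearEquiv.ofBijective Φ hΦ, fun x b => hg x b⟩

theorem dedekindDifferent_eq (h : QFDual.IsDedekindDefined A K B L) [Module.Finite A B] [Module.Free A B] :
    QFDual.dedekindDifferent A K B L =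
      Submodule.map (Algebra.linearMap B L) (QFDual.different B (Disc.Omega.trace A B)) := by
  haveI := h.isFractionRing
  haveI := h.isLocalization
  obtain ⟨e, he⟩ := exists_complementary_equiv h
  have hinj : Function.Injective (algebraMap A K) := IsFractionRing.injective A K
  have htr : ∀ b : B, Algebra.trace K L (algebraMap B L b) = algebraMap A K (Algebra.trace A B b) :=
    fun b => Algebra.trace_localization A (nonZeroDivisors A) b
  have h1 : (1 : L) ∈ QFDual.complementary A K B L := fun b => ⟨_, (by rw [one_mul, htr])⟩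
  have he1 : e ⟨1, h1⟩ = Disc.Omega.trace A B := Disc.Omega.ext (LinearMap.ext fun b => hinj (by
    rw [he, one_mul, htr]
    rfl))
  ext x
  constructor
  · intro hx
    obtain ⟨c, hc⟩ := hx 1 h1
    rw [mul_one] at hc
    refine ⟨c, (QFDual.mem_different_iff B _ c).2 fun w => ?_, hc⟩
    obtain ⟨d, hd⟩ := hx _ (e.symm w).2
    refine ⟨d, ?_⟩
    rw [← he1, ← e.map_smul, ← e.apply_symm_apply w, ← e.map_smul]
    refine congrArg e (Subtype.ext ?_)
    rw [Submodule.coe_smul, Submodule.coe_smul, Algebra.smul_def, Algebra.smul_def, mul_one, hd, hc]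
  · rintro ⟨c, hc, rfl⟩ y hy
    obtain ⟨d, hd⟩ := (QFDual.mem_different_iff B _ c).1 hc (e ⟨y, hy⟩)
    rw [← he1, ← e.map_smul, ← e.map_smul] at hd
    have h2 := congrArg Subtype.val (e.injective hd)
    rw [Submodule.coe_smul, Submodule.coe_smul, Algebra.smul_def, Algebra.smul_def, mul_one] at h2
    exact ⟨d, h2⟩

end Groth.Agent.DR39
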