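import Groth.Agent.DR39.LocalDuality
import Groth.Agent.DR39.Amp
import Groth.Agent.CohDer42.KInj
import Groth.Agent.Mod48.KInjDerived
import Groth.Prelude.Def_DRing3

/-! The derived torsion functor on a K-injective complex, and bounded representatives. -/

set_option autoImplicit false
set_option linter.style.haveILetI false
set_option linter.unusedSectionVars false
set_option backward.isDefEq.respectTransparency false

universe u

open CategoryTheory CategoryTheory.Limits

attribute [local instance] HasDerivedCategory.standard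

namespace Groth.Agent.DR39

variable {A : Type u} [CommRing A]

theorem nonempty_RgammaI_iso (I : Ideal A) [DRing.HasRgammaI I] (J : DRing.Cx A) (hJ : J.IsKInjective) :
    Nonempty ((QA A).obj (gCx I J) ≅ (DRing.RgammaI I).obj ((QA A).obj J)) := by
  have hK : Mod48.EnoughKInj (ModuleCat.{u} A) := fun M =>
    let ⟨J, f, h, h', _⟩ := CohDer42.exists_kinjective_resolution M
    ⟨J, f, h, h'⟩
  let α := (DRing.gammaIKh I).totalRightDerivedUnit DerivedCategory.Qh
    (HomotopyCategory.quasiIso (ModuleCat.{u} A) (ComplexShape.up ℤ))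
  have := Mod48.isIso_unit_of_kInjective (DRing.RgammaI I) α hK J hJ
  exact ⟨((DerivedCategory.quotientCompQhIso _).app _).symm ≪≫
    DerivedCategory.Qh.mapIso
      (((DRing.gammaI I).mapHomotopyCategoryFactors (ComplexShape.up ℤ)).app J).symm ≪≫
    asIso (α.app _) ≪≫ (DRing.RgammaI I).mapIso ((DerivedCategory.quotientCompQhIso _).app J)⟩

theorem exists_bounded_rep (X : Dual.D A) (a b : ℤ) (h : ∀ i, (i < a ∨ b < i) → IsZero ((HF A i).obj X)) :
    ∃ K : DRing.Cx A, (∀ i, (i < a ∨ b < i) → IsZero (K.X i)) ∧ Nonempty ((QA A).obj K ≅ X) := by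
  obtain ⟨E, hEv, -, ⟨e⟩⟩ := rep_free_of_acyc (X := X) (b := b) fun i hi => h i (Or.inr (by omega))
  haveI : E.IsGE a := by
    rw [CochainComplex.isGE_iff]
    intro i hi
    rw [HomologicalComplex.exactAt_iff_isZero_homology]
    exact (isZero_HF_Q_iff E i).1 (IsZero.of_iso (h i (Or.inl hi)) ((HF A i).mapIso e))
  have hv : DRing.VanishesAbove E b := (vanishesAbove_iff E b).2 fun i hi => hEv i (by omega)
  exact ⟨E.truncGE a, fun i hi => (vanishesOutside_iff _ a b).1 (vanishesOutside_truncGE E a b hv) i
      (fun hc => hi.elim (fun h => absurd hc.1 (not_le.2 h)) fun h => absurd hc.2 (not_le.2 h)),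
    ⟨(asIso ((QA A).map (E.πTruncGE a))).symm ≪≫ e⟩⟩

end Groth.Agent.DR39
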