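import Groth.Agent.DR39.LocalDuality
import Groth.Agent.DR39.RGamma
import Groth.Agent.DR40.CechRHom
import Groth.Agent.DR40.DCExist
import Groth.Agent.LC16.CechRgamma

/-! Local duality with derived completion. -/

set_option autoImplicit false
set_option linter.style.haveILetI false
set_option linter.unusedSectionVars false
set_option backward.isDefEq.respectTransparency false

universe u

open CategoryTheory CategoryTheory.Limits IsLocalRing CochainComplex.HomComplex

attribute [local instance] HasDerivedCategory.standard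

namespace Groth.Agent.DR39

variable {A : Type u} [CommRing A]

/-- The extended Cech complex of a complex. -/
noncomputable def cechOn (C : DRing.Cx A) : List A → DRing.Cx A
  | [] => C
  | f :: fs => CochainComplex.mappingCocone (DerCA.locCxUnit (Submonoid.powers f) (cechOn C fs))

/-- `Hom•(C, J) → Hom•(cechOn C fs, J)` is universal among maps to derived complete objects. -/
theorem exists_cechOn_map (I : Ideal A) (C J : DRing.Cx A) : ∀ fs : List A, (∀ f ∈ fs, f ∈ I) →
    ∃ η : (QA A).obj (DRing.homCx C J) ⟶ (QA A).obj (DRing.homCx (cechOn C fs) J),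
      ∀ E, DRing.IsDerivedComplete I E → Function.Bijective (fun g : _ ⟶ E => η ≫ g)
  | [], _ => ⟨𝟙 _, fun E _ => ⟨fun a b h => by simpa using h, fun a => ⟨a, by simp⟩⟩⟩
  | f :: fs, hf => by
    obtain ⟨η, hη⟩ := exists_cechOn_map I C J fs fun g hg => hf g (List.mem_cons_of_mem _ hg)
    let B := cechOn C fs
    let φ := DerCA.locCxUnit (Submonoid.powers f) B
    have hS := DR40.coconeSeq_homCx J φ
    haveI : IsIso (f • 𝟙 ((DerCA.locCx (Submonoid.powers f)).obj B)) := by
      haveI : ∀ j, IsIso ((f • 𝟙 ((DerCA.locCx (Submonoid.powers f)).obj B) : _ ⟶ _).f j) := fun j => by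
        rw [isIso_iff_bijective]
        exact DR40.bijective_smul_loc f (B.X j)
      exact HomologicalComplex.Hom.isIso_of_components _
    haveI : IsIso (f • 𝟙 (((DerCA.locCx (Submonoid.powers f)).obj B)⟦(-1 : ℤ)⟧)) := by
      rw [← CategoryTheory.Functor.map_id, ← Functor.map_smul]
      infer_instance
    refine ⟨η ≫ (QA A).map (homCxPre (CochainComplex.mappingCocone.fst φ) J), fun E hE => ?_⟩
    have h1 := DR40.bijective_of_orth (DerivedCategory.triangleOfSES_distinguished hS)
      (DR40.orth_homCx_of_isIso f (hf f (List.mem_cons_self ..))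
        (((DerCA.locCx (Submonoid.powers f)).obj B)⟦(-1 : ℤ)⟧) J) E hE
    have := (hη E hE).comp h1
    simp only [Function.comp_def] at this
    simp only [Category.assoc]
    exact this

/-- The Cech complex of a complex of injectives is its complex of torsion sections. -/
theorem nonempty_cechOn_iso [IsNoetherianRing A] (E : DRing.Cx A) (hE : ∀ i, Module.Injective A (E.X i)) :
    ∀ fs : List A, Nonempty ((QA A).obj (cechOn E fs) ≅ (QA A).obj (gCx (Ideal.span {x | x ∈ fs}) E))
  | [] => by
    rw [show ({x : A | x ∈ ([] : List A)}) = ∅ from by simp, Ideal.span_empty]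
    exact ⟨(QA A).mapIso (LC16.CechRgamma.gBotIso E).symm⟩
  | f :: fs => by
    obtain ⟨e'⟩ := nonempty_cechOn_iso E hE fs
    rw [show ({x : A | x ∈ f :: fs}) = insert f {x | x ∈ fs} from by ext; simp, Ideal.span_insert]
    exact LC16.CechRgamma.step _ f E hE (cechOn E fs) e'

theorem tors_gCx (I : Ideal A) (E : DRing.Cx A) {f : A} (hf : f ∈ I) : DR40.Tors f (gCx I E) := fun i x => by
  obtain ⟨z, hz⟩ := hcls_surjective (gCx I E) i x
  obtain ⟨n, hn⟩ := (z.1 : DRing.torsionSub I (E.X i)).2
  refine ⟨n, ?_⟩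
  have hz0 : f ^ n • z = 0 := Subtype.ext (Subtype.ext (hn _ (Ideal.pow_mem_pow hf n)))
  rw [← hz, ← map_smul, hz0, map_zero]

/-- Homs out of torsion complexes only see torsion sections. -/
theorem isIso_homCxMap_gIncl (I : Ideal A) (G J : DRing.Cx A) :
    IsIso (DRing.homCxMap (gCx I G) (gIncl I J)) := by
  let φ := DRing.homCxMap (gCx I G) (gIncl I J)
  have hv : ∀ (q : ℤ) (z : Cochain (gCx I G) (gCx I J) q) (p r : ℤ) (h : p + q = r),
      (show Cochain (gCx I G) J q from (φ.f q).hom z).v p r h = z.v p r h ≫ (gIncl I J).f r := fun q z p r h =>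
    Cochain.comp_zero_cochain_v z (Cochain.ofHom (gIncl I J)) p r h |>.trans (by rw [Cochain.ofHom_v])
  haveI : ∀ q, IsIso (φ.f q) := fun q => (isIso_iff_bijective _).2 ⟨fun (z w : Cochain (gCx I G) (gCx I J) q) hzw => by
    refine Cochain.ext _ _ fun p r h => ModuleCat.hom_ext (LinearMap.ext fun x => Subtype.ext ?_)
    have h1 := hv q z p r h
    rw [hzw, hv q w p r h] at h1
    exact congrArg (fun f : (gCx I G).X p ⟶ J.X r => f.hom x) h1.symm,
    fun (w : Cochain (gCx I G) J q) => ⟨Cochain.mk fun p r h => ModuleCat.ofHom (X := (gCx I G).X p) (Y := (gCx I J).X r)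
      ((w.v p r h).hom.codRestrict (DRing.torsionSub I (J.X r)) fun x => by
        obtain ⟨n, hn⟩ := (x : DRing.torsionSub I (G.X p)).2
        exact ⟨n, fun a ha => by rw [← map_smul, show a • x = 0 from Subtype.ext (hn a ha), map_zero]⟩), by
      refine Cochain.ext (show Cochain (gCx I G) J q from _) w fun p r h => ?_
      rw [hv, Cochain.mk_v]
      rfl⟩⟩
  exact HomologicalComplex.Hom.isIso_of_components _

/-- `Hom•(P, -)` respects isomorphisms of K-injective complexes in the derived category. -/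
theorem homCx_iso_target (P : DRing.Cx A) {J J' : DRing.Cx A} [J.IsKInjective] [J'.IsKInjective]
    (e : (QA A).obj J ≅ (QA A).obj J') :
    Nonempty ((QA A).obj (DRing.homCx P J) ≅ (QA A).obj (DRing.homCx P J')) := by
  let dd := homCxDeformation P
  obtain ⟨g, hg⟩ := Q_map_surjective_of_kinj J J' e.hom
  obtain ⟨g', hg'⟩ := Q_map_surjective_of_kinj J' J e.inv
  have h1 : (DRing.homCxQ P).map (g ≫ g') = (DRing.homCxQ P).map (𝟙 J) :=
    dd.inj _ _ ‹_› _ _ (by rw [Functor.map_comp, hg, hg', CategoryTheory.Functor.map_id]; exact e.hom_inv_id)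
  have h2 : (DRing.homCxQ P).map (g' ≫ g) = (DRing.homCxQ P).map (𝟙 J') :=
    dd.inj _ _ ‹_› _ _ (by rw [Functor.map_comp, hg, hg', CategoryTheory.Functor.map_id]; exact e.inv_hom_id)
  exact ⟨{ hom := (DRing.homCxQ P).map g
           inv := (DRing.homCxQ P).map g'
           hom_inv_id := by rw [← Functor.map_comp, h1, CategoryTheory.Functor.map_id]; rfl
           inv_hom_id := by rw [← Functor.map_comp, h2, CategoryTheory.Functor.map_id]; rfl }⟩

/-- Derived completion of the dual is the Matlis dual of derived torsion. -/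
theorem localDuality_completion [IsLocalRing A] [IsNoetherianRing A] {ω : Dual.D A} (hω : Dual.IsDualizing A ω)
    (hn : Dual.IsNormalized A ω) (E : Type u) [AddCommGroup E] [Module A E] (f : ResidueField A →ₗ[A] E)
    (hf : InjHull.IsInjectiveHull f) [DRing.HasRgammaI (maximalIdeal A)]
    [DRing.HasDerivedCompletion (maximalIdeal A)] (K : DRing.Cx A) [DRing.HasRHomCx K] (G : DRing.Cx A)
    [DRing.HasRHomCx G]
    (hG : Nonempty (DRing.toD G ≅ (DRing.RgammaI (maximalIdeal A)).obj (DRing.toD K))) :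
    Nonempty (((DRing.derivedCompletion (maximalIdeal A)).obj ((DRing.RHomCx K).obj ω)).obj ≅
      (DRing.RHomCx G).obj (Dual.inD A E)) := by
  let m := maximalIdeal A
  obtain ⟨D, ⟨eD⟩⟩ := exists_dualModel hω
  haveI := D.isKInjective
  have hn' : Dual.IsNormalized A ((QA A).obj D.I) := fun i hi => @Equiv.subsingleton _ _
    (Iso.homToEquiv ((CategoryTheory.shiftFunctor (Dual.D A) i).mapIso eD)) (hn i hi)
  obtain ⟨-, ⟨eΓ⟩⟩ := gamma_dualModel D hn' E f hf
  obtain ⟨R, r, hR, hr, -, hRi⟩ := CohDer42.exists_kinjective_resolution K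
  haveI := hR
  haveI := hr
  haveI := (DerivedCategory.isIso_Q_map_iff_quasiIso (ModuleCat.{u} A) r).2 hr
  have hRinj : ∀ i, Module.Injective A (R.X i) := fun i =>
    have := hRi i
    Module.injective_module_of_injective_object A (R.X i)
  obtain ⟨fs, hfs⟩ := DR40.exists_list_of_fg (IsNoetherian.noetherian m)
  obtain ⟨eC⟩ := nonempty_cechOn_iso R hRinj fs
  rw [hfs] at eC
  -- the completion
  let L := (DRing.RHomCx K).obj ω
  haveI := DR40.isIso_homCxUnit K D.I inferInstance
  obtain ⟨hRK⟩ := homCx_iso_of_iso D.I (asIso ((QA A).map r))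
  let eL : L ≅ (QA A).obj (DRing.homCx R D.I) :=
    (DRing.RHomCx K).mapIso eD.symm ≪≫
      (asIso ((DR40.homCxUnit K).app D.I)).symm ≪≫ hRK
  obtain ⟨η, hη⟩ := exists_cechOn_map m R D.I fs fun x hx => hfs ▸ Ideal.subset_span hx
  have hc : DR40.IsCompl m (eL.hom ≫ η) := by
    refine ⟨DR40.dc_of_generators _ hfs fun x hx => DR40.compD_homCx_of_tors x _ D.I
      ((DR40.torsD_iff x _).1 (((DR40.torsD_iff x _).2
        (tors_gCx m R (hfs ▸ Ideal.subset_span hx))).of_iso eC.symm)), fun Y hY => ?_⟩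
    have : Function.Bijective fun g : (QA A).obj (DRing.homCx R D.I) ⟶ Y => eL.hom ≫ g :=
      ⟨fun a b h => (cancel_epi _).1 h, fun a => ⟨eL.inv ≫ a, by simp⟩⟩
    simpa only [Function.comp_def, Category.assoc] using this.comp (hη Y hY)
  obtain ⟨i, -⟩ := (DR40.isCompl_unit m L).unique hc
  obtain ⟨e1⟩ := homCx_iso_of_iso D.I eC
  haveI := isIso_homCxMap_gIncl m R D.I
  -- the right hand side
  haveI : (sgl (ModuleCat.of A E)).IsKInjective := isKInjective_sgl E hf.isInjective
  haveI : (gCx m D.I).IsKInjective := isKInjective_of_rep (gCx m D.I) D.a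
    (fun j hj => isZero_gCx m D.I (D.zero j (Or.inl hj))) (injective_gCx m D.I D.inj)
  obtain ⟨e2⟩ := homCx_iso_target (gCx m R) (eΓ ≪≫ (sglQIso (ModuleCat.of A E)).symm)
  obtain ⟨hG⟩ := hG
  obtain ⟨eg⟩ := nonempty_RgammaI_iso m R hR
  obtain ⟨e3⟩ := homCx_iso_of_iso (sgl (ModuleCat.of A E))
    ((eg ≪≫ (DRing.RgammaI m).mapIso (asIso ((QA A).map r)).symm ≪≫ hG.symm) :
      (QA A).obj (gCx m R) ≅ (QA A).obj G)
  haveI := DR40.isIso_homCxUnit G (sgl (ModuleCat.of A E)) inferInstance
  exact ⟨i ≪≫ e1 ≪≫ (QA A).mapIso (asIso (DRing.homCxMap (gCx m R) (gIncl m D.I))).symm ≪≫ e2 ≪≫ e3 ≪≫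
    asIso ((DR40.homCxUnit G).app (sgl (ModuleCat.of A E))) ≪≫
    (DRing.RHomCx G).mapIso (sglQIso (ModuleCat.of A E))⟩

end Groth.Agent.DR39
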