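import Groth.Agent.DR39.EvalZero
import Mathlib.LinearAlgebra.Matrix.ToLin
import Mathlib.Algebra.Category.Ring.FilteredColimits
import Mathlib.CategoryTheory.Limits.ConcreteCategory.Basic
import Mathlib.CategoryTheory.Idempotents.Basic
import Mathlib.Data.Int.Interval

/-! Perfect objects descend along filtered colimits of rings. -/

set_option autoImplicit false
set_option linter.style.haveILetI false
set_option linter.unusedSectionVars false

universe u

open CategoryTheory CategoryTheory.Limits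

attribute [local instance] HasDerivedCategory.standard

namespace Groth.Agent.DR39

section Stage

variable {J : Type u} [SmallCategory J] [IsFiltered J] (F : J ⥤ CommRingCat.{u}) (c : Cocone F)
  (hc : IsColimit c)

theorem exists_stage {β : Type*} (S : Finset β) {j : J} (p : β → ∀ k : J, (j ⟶ k) → Prop)
    (hp : ∀ b ∈ S, ∃ (k : J) (u : j ⟶ k), p b k u)
    (hmono : ∀ b k l (u : j ⟶ k) (v : k ⟶ l), p b k u → p b l (u ≫ v)) :
    ∃ (k : J) (u : j ⟶ k), ∀ b ∈ S, p b k u := by
  classical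
  induction S using Finset.induction_on with
  | empty => exact ⟨j, 𝟙 j, fun b hb => absurd hb (Finset.notMem_empty b)⟩
  | insert b S hb ih =>
    obtain ⟨k, u, hk⟩ := ih (fun b hb => hp b (Finset.mem_insert_of_mem hb))
    obtain ⟨k', u', hk'⟩ := hp b (Finset.mem_insert_self _ _)
    obtain ⟨l, v, v', hv⟩ := IsFilteredOrEmpty.cocone_objs k k' |>.imp fun l ⟨v, v', _⟩ =>
      (⟨v, v', trivial⟩ : ∃ (v : k ⟶ l) (v' : k' ⟶ l), True)
    obtain ⟨m, w, hw⟩ := IsFilteredOrEmpty.cocone_maps (u ≫ v) (u' ≫ v')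
    refine ⟨m, u ≫ v ≫ w, fun x hx => ?_⟩
    rcases Finset.mem_insert.1 hx with rfl | hx
    · have := hmono x _ _ u' (v' ≫ w) hk'
      rwa [← Category.assoc u', ← hw, Category.assoc] at this
    · exact hmono x _ _ u (v ≫ w) (hk x hx)

include hc in
theorem exists_lift_matrix {m n : ℕ} (M : Matrix (Fin m) (Fin n) c.pt) :
    ∃ (j : J) (N : Matrix (Fin m) (Fin n) (F.obj j)), N.map (c.ι.app j).hom = M := by
  classical
  choose js xs hxs using fun p : Fin m × Fin n => Concrete.isColimit_exists_rep F hc (M p.1 p.2)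
  obtain ⟨j, hj⟩ := IsFiltered.sup_objs_exists (Finset.univ.image js)
  have hu : ∀ p, Nonempty (js p ⟶ j) := fun p => hj (Finset.mem_image_of_mem js (Finset.mem_univ p))
  refine ⟨j, fun a b => (F.map (hu (a, b)).some).hom (xs (a, b)), Matrix.ext fun a b => ?_⟩
  rw [Matrix.map_apply]
  refine Eq.trans ?_ (hxs (a, b))
  exact RingHom.congr_fun (congrArg CommRingCat.Hom.hom (c.w (hu (a, b)).some)) (xs (a, b))

include hc in
theorem exists_eq_matrix {j : J} {m n : ℕ} (M N : Matrix (Fin m) (Fin n) (F.obj j))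
    (h : M.map (c.ι.app j).hom = N.map (c.ι.app j).hom) :
    ∃ (k : J) (u : j ⟶ k), M.map (F.map u).hom = N.map (F.map u).hom := by
  classical
  obtain ⟨k, u, hu⟩ := exists_stage (Finset.univ : Finset (Fin m × Fin n))
    (fun p k (u : j ⟶ k) => (F.map u).hom (M p.1 p.2) = (F.map u).hom (N p.1 p.2))
    (fun p _ => by
      obtain ⟨k, u, v, huv⟩ := Concrete.isColimit_exists_of_rep_eq F hc (i := j) (j := j) (M p.1 p.2) (N p.1 p.2)
        (congrFun (congrFun h p.1) p.2)
      refine ⟨IsFiltered.coeq u v, u ≫ IsFiltered.coeqHom u v, ?_⟩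
      have := congrArg (F.map (IsFiltered.coeqHom u v)).hom huv
      simp only [F.map_comp, CommRingCat.hom_comp, RingHom.comp_apply]
      refine this.trans ?_
      change (F.map (IsFiltered.coeqHom u v)).hom ((F.map v).hom _) = _
      rw [← RingHom.comp_apply, ← CommRingCat.hom_comp, ← F.map_comp, ← IsFiltered.coeq_condition, F.map_comp]
      rfl)
    (fun p k l u v h => by
      simp only [F.map_comp, CommRingCat.hom_comp, RingHom.comp_apply]
      exact congrArg _ h)
  exact ⟨k, u, Matrix.ext fun a b => hu (a, b) (Finset.mem_univ _)⟩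

end Stage

section Free

variable {A B : Type u} [CommRing A] [CommRing B]

/-- The standard free module. -/
abbrev pw (A : Type u) [CommRing A] (n : ℕ) : ModuleCat.{u} A := ModuleCat.of A (Fin n → A)

/-- A matrix as a map of standard free modules. -/
noncomputable abbrev matHom {m n : ℕ} (M : Matrix (Fin m) (Fin n) A) : pw A n ⟶ pw A m :=
  ModuleCat.ofHom M.toLin'

/-- A complex of standard free modules. -/
noncomputable def fC (n : ℤ → ℕ) (D : ∀ i, Matrix (Fin (n (i + 1))) (Fin (n i)) A)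
    (h : ∀ i, D (i + 1) * D i = 0) : DRing.Cx A :=
  CochainComplex.of (fun i => pw A (n i)) (fun i => matHom (D i)) fun i =>
    ModuleCat.hom_ext (by
      show (D (i + 1)).toLin' ∘ₗ (D i).toLin' = 0
      rw [← Matrix.toLin'_mul, h, map_zero])

theorem fC_d (n : ℤ → ℕ) (D : ∀ i, Matrix (Fin (n (i + 1))) (Fin (n i)) A)
    (h : ∀ i, D (i + 1) * D i = 0) (i : ℤ) : (fC n D h).d i (i + 1) = matHom (D i) := by
  simp [fC]

/-- Base change of a standard free module. -/
noncomputable def extPwHom (φ : A →+* B) (n : ℕ) :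
    (ModuleCat.extendScalars.{u, u, u} φ).obj (pw A n) ⟶ pw B n :=
  ModuleCat.ExtendRestrictScalarsAdj.HomEquiv.fromExtendScalars φ (ModuleCat.ofHom
    (Y := (ModuleCat.restrictScalars φ).obj (pw B n))
    { toFun := fun v => (show (ModuleCat.restrictScalars φ).obj (pw B n) from fun i => φ (v i))
      map_add' := fun v w => funext fun i => map_add φ (v i) (w i)
      map_smul' := fun r v => funext fun i => map_mul φ r (v i) })

theorem extPwHom_oneL (φ : A →+* B) (n : ℕ) (v : Fin n → A) :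
    (extPwHom φ n).hom ((oneL φ (pw A n)).hom v) = fun i => φ (v i) :=
  fromExt_oneL (φ := φ) (M := pw A n) (N := pw B n) _ v

/-- Inverse of `extPwHom`. -/
noncomputable def extPwInv (φ : A →+* B) (n : ℕ) :
    pw B n ⟶ (ModuleCat.extendScalars.{u, u, u} φ).obj (pw A n) :=
  ModuleCat.ofHom (Y := (ModuleCat.extendScalars.{u, u, u} φ).obj (pw A n))
    ((Pi.basisFun B (Fin n)).constr (M' := ↥((ModuleCat.extendScalars.{u, u, u} φ).obj (pw A n))) ℕ
      fun i => (oneL φ (pw A n)).hom (Pi.single i (1 : A)))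

theorem extPwInv_basis (φ : A →+* B) (n : ℕ) (i : Fin n) :
    (extPwInv φ n).hom (Pi.basisFun B (Fin n) i) = (oneL φ (pw A n)).hom (Pi.single i (1 : A)) :=
  Module.Basis.constr_basis (M' := ↥((ModuleCat.extendScalars.{u, u, u} φ).obj (pw A n))) _ ℕ _ i

/-- Base change of a standard free module is standard free. -/
noncomputable def extPw (φ : A →+* B) (n : ℕ) :
    (ModuleCat.extendScalars.{u, u, u} φ).obj (pw A n) ≅ pw B n where
  hom := extPwHom φ n
  inv := extPwInv φ n
  hom_inv_id := ModuleCat.ExtendScalars.hom_ext fun v => by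
    show (extPwInv φ n).hom ((extPwHom φ n).hom ((oneL φ (pw A n)).hom v)) = (oneL φ (pw A n)).hom v
    rw [extPwHom_oneL]
    conv_rhs => rw [pi_eq_sum_univ' v, map_sum]
    rw [pi_eq_sum_univ' (fun i => φ (v i)), map_sum]
    refine Finset.sum_congr rfl fun i _ => ?_
    rw [map_smul, ← Pi.basisFun_apply, extPwInv_basis]
    exact ((oneL φ (pw A n)).hom.map_smul (v i) _).symm
  inv_hom_id := ModuleCat.hom_ext ((Pi.basisFun B (Fin n)).ext fun i => by
    show (extPwHom φ n).hom ((extPwInv φ n).hom (Pi.basisFun B (Fin n) i)) = Pi.basisFun B (Fin n) i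
    rw [extPwInv_basis, extPwHom_oneL]
    funext k
    simp [Pi.single_apply, apply_ite φ])

theorem extPw_mat (φ : A →+* B) {m n : ℕ} (M : Matrix (Fin m) (Fin n) A) :
    (ModuleCat.extendScalars.{u, u, u} φ).map (matHom M) ≫ (extPw φ m).hom =
      (extPw φ n).hom ≫ matHom (M.map φ) :=
  ModuleCat.ExtendScalars.hom_ext fun v => by
    show (extPwHom φ m).hom ((oneL φ (pw A m)).hom (M.toLin' v)) =
      (M.map φ).toLin' ((extPwHom φ n).hom ((oneL φ (pw A n)).hom v))
    rw [extPwHom_oneL, extPwHom_oneL]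
    funext i
    simp [Matrix.mulVec, dotProduct, map_sum]

theorem descend_complex (φ : A →+* B) (n : ℤ → ℕ) (D : ∀ i, Matrix (Fin (n (i + 1))) (Fin (n i)) A)
    (E : ∀ i, Matrix (Fin (n i)) (Fin (n i)) A) (hD : ∀ i, D (i + 1) * D i = 0)
    (hE : ∀ i, E i * E i = E i) (hc : ∀ i, E (i + 1) * D i = D i * E i)
    (a b : ℤ) (hn : ∀ i, (i < a ∨ b < i) → n i = 0)
    (P : DRing.Cx B) (s : ∀ i, P.X i ⟶ pw B (n i)) (g : ∀ i, pw B (n i) ⟶ P.X i)
    (hsg : ∀ i, s i ≫ g i = 𝟙 _) (hgs : ∀ i, g i ≫ s i = matHom ((E i).map φ))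
    (hDd : ∀ i, matHom ((D i).map φ) = g i ≫ P.d i (i + 1) ≫ s (i + 1)) :
    ∃ Y : DRing.Cx A, DRing.VanishesOutside Y a b ∧ DRing.TermwiseFiniteProjective Y ∧
      Nonempty (extCx φ Y ≅ P) := by
  let G := fC n D hD
  have hG : ∀ i, G.d i (i + 1) = matHom (D i) := fC_d n D hD
  let e : G ⟶ G :=
    { f := fun i => matHom (E i)
      comm' := fun i j hij => by
        obtain rfl : i + 1 = j := hij
        rw [hG]
        refine ModuleCat.hom_ext ?_
        show (D i).toLin' ∘ₗ (E i).toLin' = (E (i + 1)).toLin' ∘ₗ (D i).toLin'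
        rw [← Matrix.toLin'_mul, ← Matrix.toLin'_mul, hc] }
  have he : e ≫ e = e := HomologicalComplex.hom_ext _ _ fun i => ModuleCat.hom_ext (by
    show (E i).toLin' ∘ₗ (E i).toLin' = (E i).toLin'
    rw [← Matrix.toLin'_mul, hE])
  obtain ⟨Y, ι, π, hιπ, hπι⟩ := IsIdempotentComplete.idempotents_split G e he
  have hιπ' : ∀ i x, (π.f i).hom ((ι.f i).hom x) = x := fun i x =>
    LinearMap.congr_fun (congrArg ModuleCat.Hom.hom (HomologicalComplex.congr_hom hιπ i)) x
  refine ⟨Y, fun i hi => ?_, fun i => ?_, ?_⟩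
  · haveI : Subsingleton (G.X i) := by
      show Subsingleton (Fin (n i) → A)
      rw [hn i hi]; infer_instance
    haveI : Subsingleton (Y.X i) :=
      Function.LeftInverse.injective (hιπ' i) |>.subsingleton
    exact ModuleCat.isZero_of_subsingleton _
  · haveI : Module.Finite A (G.X i) := inferInstanceAs (Module.Finite A (Fin (n i) → A))
    haveI : Module.Projective A (G.X i) := inferInstanceAs (Module.Projective A (Fin (n i) → A))
    exact ⟨Module.Finite.of_surjective (π.f i).hom fun x => ⟨_, hιπ' i x⟩,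
      Module.Projective.of_split (ι.f i).hom (π.f i).hom (LinearMap.ext fun x => hιπ' i x)⟩
  let EF := (ModuleCat.extendScalars.{u, u, u} φ).mapHomologicalComplex (ComplexShape.up ℤ)
  have hPd : ∀ i, P.d i (i + 1) ≫ s (i + 1) = s i ≫ matHom ((D i).map φ) := fun i => by
    rw [hDd, reassoc_of% hsg]
  have hgd : ∀ i, matHom ((D i).map φ) ≫ g (i + 1) = g i ≫ P.d i (i + 1) := fun i => by
    rw [hDd, Category.assoc, Category.assoc, hsg, Category.comp_id]
  let u : extCx φ G ⟶ P :=
    { f := fun i => (extPw φ (n i)).hom ≫ g i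
      comm' := fun i j hij => by
        obtain rfl : i + 1 = j := hij
        show _ = (ModuleCat.extendScalars φ).map (G.d i (i + 1)) ≫ _
        rw [hG]
        exact (Category.assoc _ _ _).trans ((congrArg ((extPw φ (n i)).hom ≫ ·) (hgd i).symm).trans
          ((Category.assoc _ _ _).symm.trans ((congrArg (· ≫ g (i + 1)) (extPw_mat φ (D i)).symm).trans
            (Category.assoc _ _ _)))) }
  let v : P ⟶ extCx φ G :=
    { f := fun i => s i ≫ (extPw φ (n i)).inv
      comm' := fun i j hij => by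
        obtain rfl : i + 1 = j := hij
        show _ ≫ (ModuleCat.extendScalars φ).map (G.d i (i + 1)) = _
        rw [hG]
        have hinv : (extPw φ (n i)).inv ≫ (ModuleCat.extendScalars.{u, u, u} φ).map (matHom (D i)) =
            matHom ((D i).map φ) ≫ (extPw φ (n (i + 1))).inv := by
          rw [Iso.eq_comp_inv, Category.assoc, extPw_mat, Iso.inv_hom_id_assoc]
        exact (Category.assoc _ _ _).trans ((congrArg (s i ≫ ·) hinv).trans
          ((Category.assoc _ _ _).symm.trans ((congrArg (· ≫ (extPw φ (n (i + 1))).inv) (hPd i).symm).trans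
            (Category.assoc _ _ _)))) }
  have hvu : v ≫ u = 𝟙 P := HomologicalComplex.hom_ext _ _ fun i => by
    simp [u, v, hsg]
  have huv : u ≫ v = EF.map e := HomologicalComplex.hom_ext _ _ fun i => by
    show ((extPw φ (n i)).hom ≫ g i) ≫ s i ≫ (extPw φ (n i)).inv = (ModuleCat.extendScalars φ).map (matHom (E i))
    rw [Category.assoc, reassoc_of% hgs, ← Category.assoc, Iso.comp_inv_eq, extPw_mat]
  exact ⟨{ hom := EF.map ι ≫ u
           inv := v ≫ EF.map π
           hom_inv_id := by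
            show (EF.map ι ≫ u) ≫ v ≫ EF.map π = 𝟙 _
            rw [Category.assoc, reassoc_of% huv, ← hπι, EF.map_comp, Category.assoc, ← EF.map_comp ι π, hιπ,
              EF.map_id, Category.comp_id, ← EF.map_comp, hιπ, EF.map_id]
           inv_hom_id := by
            show (v ≫ EF.map π) ≫ EF.map ι ≫ u = 𝟙 P
            rw [Category.assoc, ← EF.map_comp_assoc, hπι, ← huv, Category.assoc, hvu, Category.comp_id, hvu] }⟩

end Free

theorem descend_main {J : Type u} [SmallCategory J] [IsFiltered J] (F : J ⥤ CommRingCat.{u}) (c : Cocone F)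
    (hc : IsColimit c) (P : DRing.Cx c.pt) (a b : ℤ) (hv : DRing.VanishesOutside P a b)
    (hP : DRing.TermwiseFiniteProjective P) :
    ∃ (j : J) (Y : DRing.Cx (F.obj j)), DRing.VanishesOutside Y a b ∧ DRing.TermwiseFiniteProjective Y ∧
      Nonempty (extCx (c.ι.app j).hom Y ≅ P) := by
  classical
  let R := c.pt
  have hsplit : ∀ i, ∃ (k : ℕ) (s : P.X i ⟶ pw R k) (g : pw R k ⟶ P.X i), s ≫ g = 𝟙 _ ∧
      ((i < a ∨ b < i) → k = 0) := fun i => by
    by_cases hi : i < a ∨ b < i
    · exact ⟨0, 0, 0, (hv i hi).eq_of_src _ _, fun _ => rfl⟩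
    · haveI := (hP i).1
      haveI := (hP i).2
      obtain ⟨k, g, hg⟩ := Module.Finite.exists_fin' R (P.X i)
      obtain ⟨s, hs⟩ := Module.projective_lifting_property g LinearMap.id hg
      exact ⟨k, ModuleCat.ofHom s, ModuleCat.ofHom g, ModuleCat.hom_ext hs, fun h => absurd h hi⟩
  choose n s g hsg hn using hsplit
  let D : ∀ i, Matrix (Fin (n (i + 1))) (Fin (n i)) R := fun i =>
    LinearMap.toMatrix' (g i ≫ P.d i (i + 1) ≫ s (i + 1)).hom
  let E : ∀ i, Matrix (Fin (n i)) (Fin (n i)) R := fun i => LinearMap.toMatrix' (g i ≫ s i).hom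
  have hD : ∀ i, D (i + 1) * D i = 0 := fun i => Matrix.toLin'.injective (by
    rw [Matrix.toLin'_mul, Matrix.toLin'_toMatrix', Matrix.toLin'_toMatrix', map_zero]
    refine (ModuleCat.hom_comp _ _).symm.trans ((congrArg ModuleCat.Hom.hom ?_).trans ModuleCat.hom_zero)
    simp [reassoc_of% hsg])
  have hE : ∀ i, E i * E i = E i := fun i => Matrix.toLin'.injective (by
    rw [Matrix.toLin'_mul, Matrix.toLin'_toMatrix']
    refine (ModuleCat.hom_comp _ _).symm.trans (congrArg ModuleCat.Hom.hom ?_)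
    simp [reassoc_of% hsg])
  have hEc : ∀ i, E (i + 1) * D i = D i * E i := fun i => Matrix.toLin'.injective (by
    rw [Matrix.toLin'_mul, Matrix.toLin'_mul, Matrix.toLin'_toMatrix', Matrix.toLin'_toMatrix', Matrix.toLin'_toMatrix']
    refine (ModuleCat.hom_comp _ _).symm.trans ((congrArg ModuleCat.Hom.hom ?_).trans (ModuleCat.hom_comp _ _))
    simp [reassoc_of% hsg, hsg])
  have hlift : ∀ i, ∃ (j : J) (D' : Matrix (Fin (n (i + 1))) (Fin (n i)) (F.obj j))
      (E' : Matrix (Fin (n i)) (Fin (n i)) (F.obj j)),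
      D'.map (c.ι.app j).hom = D i ∧ E'.map (c.ι.app j).hom = E i := fun i => by
    obtain ⟨j₁, D', hD'⟩ := exists_lift_matrix F c hc (D i)
    obtain ⟨j₂, E', hE'⟩ := exists_lift_matrix F c hc (E i)
    refine ⟨IsFiltered.max j₁ j₂, D'.map (F.map (IsFiltered.leftToMax j₁ j₂)).hom,
      E'.map (F.map (IsFiltered.rightToMax j₁ j₂)).hom, ?_, ?_⟩
    · rw [Matrix.map_map, ← RingHom.coe_comp, ← CommRingCat.hom_comp, c.w, hD']
    · rw [Matrix.map_map, ← RingHom.coe_comp, ← CommRingCat.hom_comp, c.w, hE']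
  choose js D0 E0 hD0 hE0 using hlift
  obtain ⟨j, hj⟩ := IsFiltered.sup_objs_exists ((Finset.Icc (a - 1) b).image js)
  have hsub : ∀ {T : Type u} [CommRing T] (i : ℤ), i ∉ Finset.Icc (a - 1) b →
      Subsingleton (Matrix (Fin (n (i + 1))) (Fin (n i)) T) ∧ Subsingleton (Matrix (Fin (n i)) (Fin (n i)) T) := by
    intro T _ i hi
    haveI : IsEmpty (Fin (n i)) := by
      rw [hn i (by simp only [Finset.mem_Icc] at hi; omega)]; infer_instance
    exact ⟨⟨fun M N => Matrix.ext fun x y => isEmptyElim y⟩, ⟨fun M N => Matrix.ext fun x y => isEmptyElim y⟩⟩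
  let D1 : ∀ i, Matrix (Fin (n (i + 1))) (Fin (n i)) (F.obj j) := fun i =>
    if h : Nonempty (js i ⟶ j) then (D0 i).map (F.map h.some).hom else 0
  let E1 : ∀ i, Matrix (Fin (n i)) (Fin (n i)) (F.obj j) := fun i =>
    if h : Nonempty (js i ⟶ j) then (E0 i).map (F.map h.some).hom else 0
  have h1 : ∀ i, (D1 i).map (c.ι.app j).hom = D i ∧ (E1 i).map (c.ι.app j).hom = E i := fun i => by
    by_cases hi : i ∈ Finset.Icc (a - 1) b
    · have h : Nonempty (js i ⟶ j) := hj (Finset.mem_image_of_mem js hi)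
      simp only [D1, E1, dif_pos h, Matrix.map_map, ← RingHom.coe_comp, ← CommRingCat.hom_comp, c.w, hD0, hE0,
        and_self]
    · haveI : IsEmpty (Fin (n i)) := by
        rw [hn i (by simp only [Finset.mem_Icc] at hi; omega)]; infer_instance
      exact ⟨Matrix.ext fun x y => isEmptyElim y, Matrix.ext fun x y => isEmptyElim y⟩
  let p : ℤ → ∀ k : J, (j ⟶ k) → Prop := fun i k u =>
    ((D1 (i + 1)).map (F.map u).hom * (D1 i).map (F.map u).hom = 0) ∧
    ((E1 i).map (F.map u).hom * (E1 i).map (F.map u).hom = (E1 i).map (F.map u).hom) ∧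
    ((E1 (i + 1)).map (F.map u).hom * (D1 i).map (F.map u).hom =
      (D1 i).map (F.map u).hom * (E1 i).map (F.map u).hom)
  have hpm : ∀ i k l (u : j ⟶ k) (v : k ⟶ l), p i k u → p i l (u ≫ v) := by
    intro i k l u v h
    simp only [p, F.map_comp, CommRingCat.hom_comp, RingHom.coe_comp, ← Matrix.map_map]
    refine ⟨?_, ?_, ?_⟩
    · rw [← Matrix.map_mul, h.1, Matrix.map_zero _ (map_zero _)]
    · rw [← Matrix.map_mul, h.2.1]
    · rw [← Matrix.map_mul, h.2.2, Matrix.map_mul]
  have hpe : ∀ i ∈ Finset.Icc (a - 1) b, ∃ (k : J) (u : j ⟶ k), p i k u := by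
    intro i _
    obtain ⟨k₁, u₁, e₁⟩ := exists_eq_matrix F c hc (D1 (i + 1) * D1 i) 0 (by
      rw [Matrix.map_mul, (h1 _).1, (h1 _).1, hD, Matrix.map_zero _ (map_zero _)])
    obtain ⟨k₂, u₂, e₂⟩ := exists_eq_matrix F c hc (E1 i * E1 i) (E1 i) (by
      rw [Matrix.map_mul, (h1 _).2, hE])
    obtain ⟨k₃, u₃, e₃⟩ := exists_eq_matrix F c hc (E1 (i + 1) * D1 i) (D1 i * E1 i) (by
      rw [Matrix.map_mul, Matrix.map_mul, (h1 _).1, (h1 _).2, (h1 _).2, hEc])
    obtain ⟨k, v₁, v₂, v₃, w1, w2⟩ : ∃ (k : J) (v₁ : k₁ ⟶ k) (v₂ : k₂ ⟶ k) (v₃ : k₃ ⟶ k),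
        u₁ ≫ v₁ = u₂ ≫ v₂ ∧ u₁ ≫ v₁ = u₃ ≫ v₃ := by
      let m1 := IsFiltered.max k₁ k₂
      let q := IsFiltered.coeq (u₁ ≫ IsFiltered.leftToMax k₁ k₂) (u₂ ≫ IsFiltered.rightToMax k₁ k₂)
      let q' := IsFiltered.coeqHom (u₁ ≫ IsFiltered.leftToMax k₁ k₂) (u₂ ≫ IsFiltered.rightToMax k₁ k₂)
      let m2 := IsFiltered.max q k₃
      let r := IsFiltered.coeqHom ((u₁ ≫ IsFiltered.leftToMax k₁ k₂ ≫ q') ≫ IsFiltered.leftToMax q k₃)
        (u₃ ≫ IsFiltered.rightToMax q k₃)
      refine ⟨_, IsFiltered.leftToMax k₁ k₂ ≫ q' ≫ IsFiltered.leftToMax q k₃ ≫ r,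
        IsFiltered.rightToMax k₁ k₂ ≫ q' ≫ IsFiltered.leftToMax q k₃ ≫ r,
        IsFiltered.rightToMax q k₃ ≫ r, ?_, ?_⟩
      · have := IsFiltered.coeq_condition (u₁ ≫ IsFiltered.leftToMax k₁ k₂) (u₂ ≫ IsFiltered.rightToMax k₁ k₂)
        simp only [Category.assoc] at this ⊢
        rw [reassoc_of% this]
      · have := IsFiltered.coeq_condition ((u₁ ≫ IsFiltered.leftToMax k₁ k₂ ≫ q') ≫ IsFiltered.leftToMax q k₃)
          (u₃ ≫ IsFiltered.rightToMax q k₃)
        simp only [Category.assoc] at this ⊢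
        exact this
    refine ⟨k, u₁ ≫ v₁, ?_, ?_, ?_⟩
    · simp only [F.map_comp, CommRingCat.hom_comp, RingHom.coe_comp, ← Matrix.map_map, ← Matrix.map_mul]
      rw [e₁, Matrix.map_zero _ (map_zero _), Matrix.map_zero _ (map_zero _)]
    · rw [w1]
      simp only [F.map_comp, CommRingCat.hom_comp, RingHom.coe_comp, ← Matrix.map_map, ← Matrix.map_mul]
      rw [e₂]
    · rw [w2]
      simp only [F.map_comp, CommRingCat.hom_comp, RingHom.coe_comp, ← Matrix.map_map, ← Matrix.map_mul]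
      rw [e₃]
  obtain ⟨k, u, hk⟩ := exists_stage (Finset.Icc (a - 1) b) p hpe hpm
  have hall : ∀ i, p i k u := fun i => by
    by_cases hi : i ∈ Finset.Icc (a - 1) b
    · exact hk i hi
    · haveI := (hsub (T := F.obj k) i hi).1
      haveI := (hsub (T := F.obj k) i hi).2
      haveI : IsEmpty (Fin (n i)) := by
        rw [hn i (by simp only [Finset.mem_Icc] at hi; omega)]; infer_instance
      exact ⟨Matrix.ext fun x y => isEmptyElim y, Subsingleton.elim _ _, Subsingleton.elim _ _⟩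
  have hφ : ∀ {p q : ℕ} (M : Matrix (Fin p) (Fin q) (F.obj j)),
      (M.map (F.map u).hom).map (c.ι.app k).hom = M.map (c.ι.app j).hom := fun M => by
    rw [Matrix.map_map, ← RingHom.coe_comp, ← CommRingCat.hom_comp, c.w]
  refine ⟨k, descend_complex (c.ι.app k).hom n (fun i => (D1 i).map (F.map u).hom)
    (fun i => (E1 i).map (F.map u).hom) (fun i => (hall i).1) (fun i => (hall i).2.1) (fun i => (hall i).2.2)
    a b hn P s g hsg (fun i => ?_) (fun i => ?_)⟩
  · rw [hφ, (h1 i).2]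
    exact ModuleCat.hom_ext (Matrix.toLin'_toMatrix' _).symm
  · rw [hφ, (h1 i).1]
    exact ModuleCat.hom_ext (Matrix.toLin'_toMatrix' _)

end Groth.Agent.DR39
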