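import Groth.Agent.DR39.RHom
import Groth.Agent.DR39.Perf
import Mathlib.Algebra.Homology.HomotopyCategory.HomComplexSingle
import Mathlib.LinearAlgebra.Dual.Lemmas

/-! Duals of perfect complexes. -/

set_option autoImplicit false
set_option linter.style.haveILetI false
set_option linter.unusedSectionVars false

universe u

open CategoryTheory CategoryTheory.Limits CochainComplex CochainComplex.HomComplex

attribute [local instance] HasDerivedCategory.standard

namespace Groth.Agent.DR39

variable {A : Type u} [CommRing A]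

/-- `A` in degree zero. -/
noncomputable abbrev unitCx (A : Type u) [CommRing A] : DRing.Cx A :=
  (CochainComplex.singleFunctor (ModuleCat.{u} A) 0).obj (ModuleCat.of A A)

/-- The termwise dual. -/
noncomputable def dualA (F : DRing.Cx A) : DRing.Cx A where
  X n := ModuleCat.of A (Module.Dual A (F.X (-n)))
  d i j := ModuleCat.ofHom (j.negOnePow • (F.d (-j) (-i)).hom.dualMap)
  shape i j hij := by
    rw [F.shape (-j) (-i) (fun h => hij (by have h' : -j + 1 = -i := h; show i + 1 = j; omega))]
    ext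
    simp
  d_comp_d' i j k _ _ := by
    refine ModuleCat.hom_ext (LinearMap.ext fun f => LinearMap.ext fun x => ?_)
    have h := d_apply_d F (-k) (-j) (-i) x
    simp [h]

theorem dualA_d_apply (F : DRing.Cx A) (i j : ℤ) (f : Module.Dual A (F.X (-i))) (x : F.X (-j)) :
    (show Module.Dual A (F.X (-j)) from ((dualA F).d i j).hom f) x =
      j.negOnePow • f ((F.d (-j) (-i)).hom x) := rfl

/-- The component of the comparison with `Hom•(F, A)`. -/
noncomputable def toHomCxX (F : DRing.Cx A) (n : ℤ) :
    Module.Dual A (F.X (-n)) →ₗ[A] Cochain F (unitCx A) n where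
  toFun f := Cochain.toSingleMk (ModuleCat.ofHom (X := F.X (-n)) (Y := A) f) (neg_add_cancel n)
  map_add' f g := (congrArg (fun h => Cochain.toSingleMk h (neg_add_cancel n)) (ModuleCat.hom_ext rfl :
    ModuleCat.ofHom (X := F.X (-n)) (Y := A) (f + g) = ModuleCat.ofHom f + ModuleCat.ofHom g)).trans
    (Cochain.toSingleMk_add _ _ _)
  map_smul' a f := by
    refine (Cochain.toSingleEquiv (neg_add_cancel n)).injective ?_
    refine Eq.trans (Cochain.toSingleEquiv_toSingleMk _ _) ?_
    show _ = (a • Cochain.toSingleMk (ModuleCat.ofHom (X := F.X (-n)) (Y := A) f) (neg_add_cancel n)).v (-n) 0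
      (neg_add_cancel n) ≫ _
    rw [Cochain.smul_v, Linear.smul_comp, Cochain.toSingleMk_v]
    erw [Category.assoc, Iso.inv_hom_id, Category.comp_id]
    rfl

theorem toHomCxX_bijective (F : DRing.Cx A) (n : ℤ) : Function.Bijective (toHomCxX F n) := by
  refine ⟨fun f g h => ?_, fun z => ⟨(Cochain.toSingleEquiv (neg_add_cancel n) z).hom, ?_⟩⟩
  · exact congrArg ModuleCat.Hom.hom ((Cochain.toSingleEquiv (neg_add_cancel n)).symm.injective h)
  · exact (Cochain.toSingleEquiv (neg_add_cancel n)).symm_apply_apply z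

/-- `Hom•(F, A)` is the termwise dual. -/
theorem homCx_unit_iso (F : DRing.Cx A) : Nonempty (dualA F ≅ DRing.homCx F (unitCx A)) := by
  refine ⟨HomologicalComplex.Hom.isoOfComponents
    (fun n => ((LinearEquiv.ofBijective (toHomCxX F n) (toHomCxX_bijective F n)).toModuleIso :
      (dualA F).X n ≅ (DRing.homCx F (unitCx A)).X n)) fun i j hij => ?_⟩
  refine ModuleCat.hom_ext (LinearMap.ext fun f => ?_)
  show δ i j (toHomCxX F i f) = toHomCxX F j (((dualA F).d i j).hom f)
  refine (Cochain.δ_toSingleMk _ (neg_add_cancel i) j (-j) (neg_add_cancel j)).trans ?_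
  refine (Cochain.toSingleEquiv (neg_add_cancel j)).injective ?_
  rcases Int.even_or_odd j with h | h
  · rw [Int.negOnePow_even j h, one_smul]
    refine (Cochain.toSingleEquiv_toSingleMk _ _).trans ((Cochain.toSingleEquiv_toSingleMk _ _).trans ?_).symm
    exact ModuleCat.hom_ext (LinearMap.ext fun x => by
      show (show Module.Dual A (F.X (-j)) from ((dualA F).d i j).hom f) x = _
      rw [dualA_d_apply, Int.negOnePow_even j h, one_smul]
      rfl)
  · rw [Int.negOnePow_odd j h, Units.neg_smul, one_smul, map_neg]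
    rw [Cochain.toSingleEquiv_toSingleMk]
    refine ((Cochain.toSingleEquiv_toSingleMk _ _).trans ?_).symm
    exact ModuleCat.hom_ext (LinearMap.ext fun x => by
      show (show Module.Dual A (F.X (-j)) from ((dualA F).d i j).hom f) x = _
      rw [dualA_d_apply, Int.negOnePow_odd j h, Units.neg_smul, one_smul]
      rfl)

theorem dualA_fp {F : DRing.Cx A} (h : ∀ i, FPp (F.X i)) (i : ℤ) : FPp ((dualA F).X i) := by
  haveI := (h (-i)).1; haveI := (h (-i)).2
  exact ⟨(inferInstance : Module.Finite A (Module.Dual A (F.X (-i)))),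
    (inferInstance : Module.Projective A (Module.Dual A (F.X (-i))))⟩

theorem dualA_vanishes {F : DRing.Cx A} {a b : ℤ} (h : DRing.VanishesOutside F a b) :
    DRing.VanishesOutside (dualA F) (-b) (-a) := fun i hi => by
  haveI := ModuleCat.subsingleton_of_isZero (h (-i) (by omega))
  exact @ModuleCat.isZero_of_subsingleton A _ _ (inferInstanceAs (Subsingleton (Module.Dual A (F.X (-i)))))

/-- Reindexing does not change the differential. -/
theorem d_reindex (F : DRing.Cx A) {i i' j j' : ℤ} (hi : i = i') (hj : j = j') (x : F.X i) :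
    (F.d i' j').hom ((F.XIsoOfEq hi).hom.hom x) = (F.XIsoOfEq hj).hom.hom ((F.d i j).hom x) := by
  subst hi hj
  simp [HomologicalComplex.XIsoOfEq]

/-- The double dual. -/
theorem dualA_dualA {F : DRing.Cx A} (h : ∀ i, FPp (F.X i)) : Nonempty (F ≅ dualA (dualA F)) := by
  haveI : ∀ i, Module.IsReflexive A (F.X i) := fun i => by
    haveI := (h i).1; haveI := (h i).2; infer_instance
  let c : ∀ n : ℤ, F.X n ≃ₗ[A] Module.Dual A (Module.Dual A (F.X (- -n))) := fun n =>
    (F.XIsoOfEq (neg_neg n).symm).toLinearEquiv ≪≫ₗ Module.evalEquiv A _ ≪≫ₗ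
      LinearEquiv.smulOfUnit (Units.map (Int.castRingHom A).toMonoidHom n.negOnePow)
  refine ⟨HomologicalComplex.Hom.isoOfComponents
    (fun n => ((c n).toModuleIso : F.X n ≅ (dualA (dualA F)).X n)) fun i j hij => ?_⟩
  obtain rfl : i + 1 = j := hij
  refine ModuleCat.hom_ext (LinearMap.ext fun x => LinearMap.ext fun (g : Module.Dual A (F.X (- -(i + 1)))) => ?_)
  show (show Module.Dual A (Module.Dual A (F.X (- -(i + 1)))) from ((dualA (dualA F)).d i (i + 1)).hom (c i x)) g =
    c (i + 1) ((F.d i (i + 1)).hom x) g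
  refine (dualA_d_apply (dualA F) i (i + 1) _ _).trans ?_
  show (i + 1).negOnePow • ((((i.negOnePow : ℤ) : A)) • ((show Module.Dual A (F.X (- -i)) from
      ((dualA F).d (-(i + 1)) (-i)).hom g) ((F.XIsoOfEq (neg_neg i).symm).hom.hom x))) =
    (((i + 1).negOnePow : ℤ) : A) • g ((F.XIsoOfEq (neg_neg (i + 1)).symm).hom.hom ((F.d i (i + 1)).hom x))
  rw [dualA_d_apply F (-(i + 1)) (-i), d_reindex F (neg_neg i).symm (neg_neg (i + 1)).symm x]
  simp only [Int.negOnePow_succ, Int.negOnePow_neg]
  rcases Int.even_or_odd i with h | h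
  · simp [Int.negOnePow_even i h]
  · simp [Int.negOnePow_odd i h]

/-- The dual of a perfect object, in any presentation. -/
theorem RHomCx_unit_iso (F : DRing.Cx A) (a b : ℤ) (hv : DRing.VanishesOutside F a b) (hF : ∀ i, FPp (F.X i))
    (E : DRing.Cx A) [DRing.HasRHomCx E] (e : DRing.toD F ≅ DRing.toD E) :
    Nonempty ((DRing.RHomCx E).obj (Dual.inD A A) ≅ DRing.toD (dualA F)) := by
  haveI := isKProjective_of_bddAbove F b (fun i hi => hv i (Or.inr hi)) fun i => (hF i).2
  obtain ⟨t⟩ := RHomCx_iso_of_rep E F e (unitCx A)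
  obtain ⟨s⟩ := homCx_unit_iso F
  exact ⟨(t ≪≫ (DerivedCategory.Q.mapIso s).symm :)⟩

end Groth.Agent.DR39
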