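import Groth.Agent.DR39.HasRHom
import Groth.Agent.DR39.Bidual3

/-! The two versions of `RHom` agree. -/

set_option autoImplicit false
set_option linter.style.haveILetI false
set_option linter.unusedSectionVars false

universe u

open CategoryTheory CategoryTheory.Limits CochainComplex CochainComplex.HomComplex HomologicalComplex
open MonoidalCategory

attribute [local instance] HasDerivedCategory.standard

namespace Groth.Agent.DR39

variable {A : Type u} [CommRing A] [DTen.HasLTen A] [DTen.HasLTen₃ A] [DTen.IsSymMonoidal A] [DTen.HasRHom A]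

/-- `RHom` out of a K-projective complex. -/
theorem nonempty_RHomR_Q (P : DRing.Cx A) [hPp : P.IsKProjective] (hP : DRing.IsKFlat A P) (L : DRing.Cx A) :
    Nonempty ((DTen.RHomR A (DerivedCategory.Q.obj P)).obj (DerivedCategory.Q.obj L) ≅
      DerivedCategory.Q.obj (DRing.homCx P L)) := by
  let W := HomologicalComplex.quasiIso (ModuleCat.{u} A) (ComplexShape.up ℤ)
  let Q := DerivedCategory.Q (C := ModuleCat.{u} A)
  have hG : W.IsInvertedBy (tensorRight P ⋙ Q) := fun X Y f hf => by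
    haveI : QuasiIso f := hf
    haveI := quasiIso_whiskerRight hP f
    exact DTen43.isIso_Q_map (f ▷ P)
  have hF : W.IsInvertedBy (DRing.homCxFunctor P ⋙ Q) := fun X Y f hf => by
    haveI : QuasiIso f := hf
    haveI := quasiIso_homCxMap P f
    exact DTen43.isIso_Q_map (DRing.homCxMap P f)
  let G' := Localization.lift (tensorRight P ⋙ Q) hG Q
  let F' := Localization.lift (DRing.homCxFunctor P ⋙ Q) hF Q
  haveI : CatCommSq (tensorRight P) Q Q G' := ⟨(Localization.fac (tensorRight P ⋙ Q) hG Q).symm⟩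
  haveI : CatCommSq (DRing.homCxFunctor P) Q Q F' :=
    ⟨(Localization.fac (DRing.homCxFunctor P ⋙ Q) hF Q).symm⟩
  have adj : G' ⊣ F' := (homCxAdj P).localization Q W Q W G' F'
  let ν : Q ⋙ DTen.tensorRightD A (Q.obj P) ≅ tensorRight P ⋙ Q :=
    NatIso.ofComponents (fun X => @asIso _ _ _ _ (DTen43.μ X P) (DTen43.isIso_μ X P (Or.inr hP)))
      fun {X Y} f => by
        have := DTen43.μ_natural f (𝟙 P)
        rw [CategoryTheory.Functor.map_id] at this
        exact this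
  letI : Localization.Lifting Q W (tensorRight P ⋙ Q) G' := ⟨Localization.fac (tensorRight P ⋙ Q) hG Q⟩
  letI : Localization.Lifting Q W (Q ⋙ DTen.tensorRightD A (Q.obj P)) (DTen.tensorRightD A (Q.obj P)) :=
    ⟨Iso.refl _⟩
  let iso : G' ≅ DTen.tensorRightD A (Q.obj P) :=
    (Localization.liftNatIso Q W (Q ⋙ DTen.tensorRightD A (Q.obj P)) (tensorRight P ⋙ Q) _ _ ν).symm
  exact ⟨((DTen.rhomAdj A (Q.obj P)).rightAdjointUniq (adj.ofNatIsoLeft iso)).app (Q.obj L) ≪≫
    (Localization.fac (DRing.homCxFunctor P ⋙ Q) hF Q).app L⟩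

/-- The derived functor of `Hom•(E, -)` is the internal hom out of `E`. -/
theorem nonempty_RHomCx_iso_RHomR (E : DRing.Cx A) [DRing.HasRHomCx E] (M : Dual.D A) :
    Nonempty ((DRing.RHomCx E).obj M ≅ (DTen.RHomR A (DRing.toD E)).obj M) := by
  obtain ⟨P, hPp, hP, ⟨e⟩⟩ := DTen43.exists_kproj (DRing.toD E)
  obtain ⟨C, ⟨eM⟩⟩ := exists_complex_iso M
  obtain ⟨I, f, hI, hf, -⟩ := CohDer42.exists_kinjective_resolution C
  haveI := hPp
  haveI := hI
  haveI := (DerivedCategory.isIso_Q_map_iff_quasiIso (ModuleCat.{u} A) f).2 hf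
  let m : DerivedCategory.Q.obj I ≅ M := (asIso (DerivedCategory.Q.map f)).symm ≪≫ eM
  obtain ⟨r⟩ := RHomCx_iso_kinj E I
  obtain ⟨g⟩ := homCx_iso_of_iso I e
  obtain ⟨q⟩ := nonempty_RHomR_Q P hP I
  exact ⟨(DRing.RHomCx E).mapIso m.symm ≪≫ r ≪≫ g.symm ≪≫ q.symm ≪≫ (DTen.RHomR A _).mapIso m ≪≫
    ((DTen.RHom A).mapIso e.symm.op).app M⟩

/-- The internal hom into a K-injective complex. -/
theorem nonempty_RHomR_Q_kinj (E I : DRing.Cx A) [I.IsKInjective] :
    Nonempty ((DTen.RHomR A (DerivedCategory.Q.obj E)).obj (DerivedCategory.Q.obj I) ≅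
      DerivedCategory.Q.obj (DRing.homCx E I)) := by
  obtain ⟨P, hPp, hP, ⟨e⟩⟩ := DTen43.exists_kproj (DRing.toD E)
  haveI := hPp
  obtain ⟨g⟩ := homCx_iso_of_iso I e
  obtain ⟨q⟩ := nonempty_RHomR_Q P hP I
  exact ⟨((DTen.RHom A).mapIso e.op).app (DerivedCategory.Q.obj I) ≪≫ q ≪≫ g⟩

/-- Biduality for the internal hom. -/
theorem nonempty_rhomR_bidual [IsNoetherianRing A] {ω : Dual.D A} (hω : Dual.IsDualizing A ω) (K : DRing.Cx A)
    [DRing.HasRHomCx K] (hK : ∀ i : ℤ, Module.Finite A (Dual.HD A (DRing.toD K) i)) :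
    Nonempty ((DTen.RHomR A ((DRing.RHomCx K).obj ω)).obj ω ≅ DRing.toD K) := by
  obtain ⟨D, ⟨e⟩⟩ := exists_dualModel hω
  haveI := D.isKInjective
  obtain ⟨r⟩ := RHomCx_iso_kinj K D.I
  let eK : (DRing.RHomCx K).obj ω ≅ (QA A).obj (DRing.homCx K D.I) :=
    (DRing.RHomCx K).mapIso e.symm ≪≫ r
  obtain ⟨q⟩ := nonempty_RHomR_Q_kinj (DRing.homCx K D.I) D.I
  obtain ⟨b⟩ := bidual_iso D K hK
  exact ⟨(((DTen.RHom A).mapIso eK.op).app ω).symm ≪≫ (DTen.RHomR A _).mapIso e.symm ≪≫ q ≪≫ b⟩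

end Groth.Agent.DR39
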