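import Groth.Agent.DR39.BC
import Groth.Agent.Shriek42.CompBC
import Groth.Agent.LCI19.Presentation
import Groth.Agent.Div89.KoszulH1
import Groth.Agent.An92.Nrm.QuasiRegular

/-! The upper shriek of a local complete intersection is locally a shift of the structure sheaf. -/

set_option autoImplicit false
set_option linter.style.haveILetI false
set_option linter.unusedSectionVars false

universe u

open CategoryTheory CategoryTheory.Limits RingTheory.Sequence
open scoped TensorProduct

namespace Groth.Agent.DR39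

attribute [local instance] HasDerivedCategory.standard
attribute [local instance] Shriek42.hasLB

open Shriek42 in
/-- `Sh` along the quotient by a weakly regular list. -/
theorem sh_of_weaklyRegular : ∀ (k : ℕ) {R S B : Type u} [CommRing R] [CommRing S] [CommRing B]
    (i : R →+* S) (π : S →+* B) (_ : Function.Surjective π) (l : List S) (_ : l.length = k)
    (_ : RingHom.ker π = Ideal.ofList l) (_ : IsWeaklyRegular S l), Sh i π k
  | 0, R, S, B, _, _, _, i, π, hπ, l, hl, hker, _ => by
    obtain rfl := List.length_eq_zero_iff.1 hl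
    rw [Ideal.ofList_nil] at hker
    let e := RingEquiv.ofBijective π ⟨(RingHom.injective_iff_ker_eq_bot _).2 hker, hπ⟩
    exact Sh.of_inverse i (ψ := e.symm.toRingHom) (RingHom.ext e.symm_apply_apply)
      (RingHom.ext e.apply_symm_apply)
  | k + 1, R, S, B, _, _, _, i, π, hπ, [], hl, _, _ => by simp at hl
  | k + 1, R, S, B, _, _, _, i, π, hπ, t :: l, hl, hker, hreg => by
    rw [isWeaklyRegular_cons_iff] at hreg
    have hle : Ideal.span {t} ≤ RingHom.ker π := by
      rw [hker, Ideal.ofList_cons]; exact le_sup_left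
    let π₁ : S →+* S ⧸ Ideal.span {t} := Ideal.Quotient.mk _
    let π₂ : S ⧸ Ideal.span {t} →+* B := Ideal.Quotient.lift _ π fun a ha => RingHom.mem_ker.1 (hle ha)
    have hπ₂ : Function.Surjective π₂ := fun b => (hπ b).elim fun a ha => ⟨π₁ a, ha⟩
    have hk : RingHom.ker π₂ = Ideal.ofList (l.map π₁) := by
      rw [Ideal.ker_quotient_lift, hker, Ideal.ofList_cons, Ideal.map_sup, Ideal.map_span, Set.image_singleton,
        Ideal.map_ofList, Ideal.Quotient.mk_singleton_self, Ideal.span_singleton_eq_bot.2 rfl, bot_sup_eq]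
    have hwr : IsWeaklyRegular (S ⧸ Ideal.span {t}) (l.map π₁) := by
      rw [show π₁ = algebraMap S (S ⧸ Ideal.span {t}) from rfl, isWeaklyRegular_map_algebraMap_iff]
      refine ((Submodule.quotEquivOfEq _ (Ideal.span {t}) ?_).isWeaklyRegular_congr l).1 hreg.2
      ext x
      simp [Submodule.mem_smul_pointwise_iff_exists, Ideal.mem_span_singleton', mul_comm, eq_comm]
    have h₁ : Sh i π₁ 1 := Sh.of_regular i Ideal.Quotient.mk_surjective t Ideal.mk_ker hreg.1
    have h₂ := sh_of_weaklyRegular k (π₁.comp i) π₂ hπ₂ (l.map π₁)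
      (by rw [List.length_map]; simpa using hl) hk hwr
    exact (h₁.comp h₂).congr rfl (Ideal.Quotient.lift_comp_mk _ _ _) (by omega)

open scoped TensorProduct in
/-- derived base change of the free module of rank one -/
theorem nonempty_lb_inD_self {A B : Type u} [CommRing A] [CommRing B] (φ : A →+* B) :
    Nonempty ((DRing.LBaseChange φ).obj (Dual.inD A A) ≅ Dual.inD B B) := by
  letI : Algebra A B := φ.toAlgebra
  haveI : Projective (ModuleCat.of A A) := (IsProjective.iff_projective _).1 inferInstance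
  let P : DRing.Cx A :=
    (HomologicalComplex.single (ModuleCat.{u} A) (ComplexShape.up ℤ) 0).obj (ModuleCat.of A A)
  haveI : CochainComplex.IsKProjective P := isKProjective_single _ 0
  obtain ⟨e⟩ := ext_tensorIso B (ModuleCat.of A A)
  let eX : (ModuleCat.extendScalars.{u, u, u} φ).obj (ModuleCat.of A A) ≅ ModuleCat.of B B :=
    e ≪≫ (TensorProduct.AlgebraTensorModule.rid A B B).toModuleIso
  exact ⟨(DRing.LBaseChange φ).mapIso ((DerivedCategory.singleFunctorIsoCompQ (ModuleCat.{u} A) 0).app _) ≪≫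
    LBaseChangeIso φ P isKFlat_of_isKProjective ≪≫
    DerivedCategory.Q.mapIso ((HomologicalComplex.singleMapHomologicalComplex
        (ModuleCat.extendScalars.{u, u, u} φ) (ComplexShape.up ℤ) 0).app _ ≪≫
      (HomologicalComplex.single (ModuleCat.{u} B) (ComplexShape.up ℤ) 0).mapIso eX) ≪≫
    ((DerivedCategory.singleFunctorIsoCompQ (ModuleCat.{u} B) 0).app _).symm⟩

/-- Near a point where the kernel is generated by a regular sequence. -/
theorem shriek_away_of_regular {R A : Type u} [CommRing R] [CommRing A] [IsNoetherianRing R] [Algebra R A]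
    (n : ℕ) (ψ : MvPolynomial (Fin n) R →ₐ[R] A) (hψ : Function.Surjective ψ)
    (Rψ : Dual.D (MvPolynomial (Fin n) R) ⥤ Dual.D A) (adj : DRing.restrictD ψ.toRingHom ⊣ Rψ)
    (s : MvPolynomial (Fin n) R) (C : Type u) [CommRing C] [Algebra (MvPolynomial (Fin n) R) C]
    [IsLocalization.Away s C] (l : List C) (hl : IsWeaklyRegular C l)
    (hker : (RingHom.ker ψ.toRingHom).map (algebraMap (MvPolynomial (Fin n) R) C) = Ideal.ofList l) :
    Nonempty ((DRing.LBaseChange (algebraMap A (Localization.Away (ψ s)))).obj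
        (Dual2.shriekVia n Rψ (Dual.inD R R)) ≅
      (Dual.inD (Localization.Away (ψ s)) (Localization.Away (ψ s)))⟦((n : ℤ) - l.length)⟧) := by
  let P := MvPolynomial (Fin n) R
  let A' := Localization.Away (ψ s)
  letI : Algebra P A := ψ.toRingHom.toAlgebra
  have hT : (Submonoid.powers s).map ψ.toRingHom = Submonoid.powers (ψ s) := Submonoid.map_powers _ s
  let π : C →+* A' := IsLocalization.map A' ψ.toRingHom
    (Submonoid.map_le_iff_le_comap.1 hT.le : Submonoid.powers s ≤ (Submonoid.powers (ψ s)).comap ψ.toRingHom)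
  letI : Algebra C A' := π.toAlgebra
  haveI : IsScalarTower P C A' := IsScalarTower.of_algebraMap_eq fun x =>
    (IsScalarTower.algebraMap_apply P A A' x).trans (IsLocalization.map_eq _ x).symm
  haveI : IsLocalization (Algebra.algebraMapSubmonoid A (Submonoid.powers s)) A' :=
    (congrArg (fun T => IsLocalization T A') hT).symm ▸ inferInstance
  haveI : Algebra.IsPushout P C A A' := (Algebra.isPushout_of_isLocalization (Submonoid.powers s) C A A').symm
  haveI : Module.Flat P C := IsLocalization.flat C (Submonoid.powers s)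
  haveI : Module.Flat A A' := IsLocalization.flat A' (Submonoid.powers (ψ s))
  have hπ : Function.Surjective π := by
    intro z
    obtain ⟨⟨a, ⟨_, k, rfl⟩⟩, rfl⟩ := IsLocalization.mk'_surjective (Submonoid.powers (ψ s)) z
    obtain ⟨p, rfl⟩ := hψ a
    exact ⟨IsLocalization.mk' C p (⟨s ^ k, k, rfl⟩ : Submonoid.powers s), by
      rw [IsLocalization.map_mk']; congr 1; exact Subtype.ext (map_pow ψ s k)⟩
  have hk : RingHom.ker π = Ideal.ofList l := by
    rw [← hker]; exact IsLocalization.ker_map (S := C) A' ψ.toRingHom hT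
  obtain ⟨eP⟩ := nonempty_lb_inD_self (algebraMap R P)
  have hM : ∀ i : ℤ, i < 0 →
      IsZero ((HF P i).obj ((DRing.LBaseChange (algebraMap R P)).obj (Dual.inD R R))) := fun i hi =>
    (DerivedCategory.isZero_of_isGE
      ((DerivedCategory.singleFunctor (ModuleCat.{u} P) 0).obj (ModuleCat.of P P)) 0 i hi).of_iso ((HF P i).mapIso eP)
  obtain ⟨eb⟩ := Shriek42.flat_baseChange (P := P) (P' := C) (B := A) (B' := A') hπ
    (fun m => Shriek42.pc_restrictD_inD (P := P) (B := A) hψ m) adj (Shriek42.rightDAdj (algebraMap C A'))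
    ((DRing.LBaseChange (algebraMap R P)).obj (Dual.inD R R)) 0 hM
  obtain ⟨eS⟩ := sh_of_weaklyRegular _ ((algebraMap P C).comp (algebraMap R P)) (algebraMap C A') hπ l rfl
    hk hl (Shriek42.rightD _) (Shriek42.rightDAdj _) (Dual.inD R R)
  obtain ⟨eA⟩ := nonempty_lb_inD_self ((algebraMap C A').comp ((algebraMap P C).comp (algebraMap R P)))
  obtain ⟨es⟩ := Shriek42.nonempty_lb_shift (algebraMap A A')
    (Rψ.obj ((DRing.LBaseChange (algebraMap R P)).obj (Dual.inD R R))) (n : ℤ)
  exact ⟨es ≪≫ (shiftFunctor (Dual.D A') (n : ℤ)).mapIso (eb ≪≫ (Shriek42.rightD (algebraMap C A')).mapIso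
      ((Shriek42.lbComp rfl).app (Dual.inD R R)).symm) ≪≫
    (shiftFunctorAdd' (Dual.D A') (l.length : ℤ) ((n : ℤ) - l.length) (n : ℤ) (by ring)).app _ ≪≫
    (shiftFunctor (Dual.D A') ((n : ℤ) - l.length)).mapIso (eS ≪≫ eA)⟩

theorem exists_shriek_away {R A : Type u} [CommRing R] [CommRing A] [IsNoetherianRing R] [Algebra R A]
    (hl : LCI.IsLCI R A) (n : ℕ) (ψ : MvPolynomial (Fin n) R →ₐ[R] A) (hψ : Function.Surjective ψ)
    (Rψ : Dual.D (MvPolynomial (Fin n) R) ⥤ Dual.D A) (adj : DRing.restrictD ψ.toRingHom ⊣ Rψ)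
    (q : PrimeSpectrum A) :
    ∃ (f : A) (_ : f ∉ q.asIdeal) (m : ℤ),
      Nonempty ((DRing.LBaseChange (algebraMap A (Localization.Away f))).obj
        (Dual2.shriekVia n Rψ (Dual.inD R R)) ≅
      (Dual.inD (Localization.Away f) (Localization.Away f))⟦m⟧) := by
  let P := MvPolynomial (Fin n) R
  let Q : Ideal P := q.asIdeal.comap ψ.toRingHom
  haveI : Q.IsPrime := Ideal.IsPrime.comap _
  have hJQ : RingHom.ker ψ.toRingHom ≤ Q := fun x hx => by
    rw [Ideal.mem_comap, RingHom.mem_ker.1 hx]; exact zero_mem _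
  obtain ⟨g, hg, l, hK, hI⟩ := LCI19.isKoszulRegularIdeal_ker_of_isLCI hl ψ hψ ⟨Q, inferInstance⟩ hJQ
  let B := Localization.Away g
  haveI : (Q.map (algebraMap P B)).IsPrime := IsLocalization.isPrime_of_isPrime_disjoint (Submonoid.powers g) B Q
    inferInstance ((Ideal.disjoint_powers_iff_notMem_of_isPrime g).2 hg)
  haveI : IsNoetherianRing B := IsLocalization.isNoetherianRing (Submonoid.powers g) B inferInstance
  have hlQ : ∀ r ∈ l, r ∈ Q.map (algebraMap P B) := fun r hr =>
    Ideal.map_mono hJQ (hI.ge (Ideal.subset_span hr))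
  obtain ⟨h, hh, hreg⟩ := An92.Nrm.exists_regular_away (Q.map (algebraMap P B)) l hlQ
    (CAlg1.isQuasiRegular_of_isH1Regular _ (Div89.isH1Regular_of_koszul l hK))
  obtain ⟨⟨a, t⟩, hat⟩ := IsLocalization.surj (Submonoid.powers g) h
  have hass : Associated h (algebraMap P B a) :=
    ⟨(IsLocalization.map_units B t).unit, hat⟩
  have haQ : a ∉ Q := fun ha => by
    have := Ideal.mem_map_of_mem (algebraMap P B) ha
    rw [← hat] at this
    exact hh ((Ideal.mul_unit_mem_iff_mem _ (IsLocalization.map_units B t)).1 this)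
  let C := Localization.Away (algebraMap P B a)
  haveI : IsLocalization.Away h C := IsLocalization.Away.of_associated hass.symm
  haveI : IsLocalization.Away (g * a) C := IsLocalization.Away.mul' B C g a
  have hC := hreg C inferInstance
  have hne : g * a ∉ Q := fun hm => ((Ideal.IsPrime.mem_or_mem ‹Q.IsPrime›) hm).elim hg haQ
  have hker : (RingHom.ker ψ.toRingHom).map (algebraMap P C) = Ideal.ofList (l.map (algebraMap B C)) := by
    rw [IsScalarTower.algebraMap_eq P B C, ← Ideal.map_map, hI, ← Ideal.map_ofList]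
  exact ⟨ψ (g * a), hne, _, shriek_away_of_regular n ψ hψ Rψ adj (g * a) C _ hC.1 hker⟩

end Groth.Agent.DR39
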