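import Groth.Agent.DR39.PresPerfect
import Groth.Agent.DTen43.RelHom
import Groth.Agent.Shriek42.Adj
import Groth.Agent.DR39.LciShriek
import Groth.Agent.DR39.Derived

/-! The upper shriek of a flat finite type algebra is tensoring with the relative dualizing complex. -/

set_option autoImplicit false
set_option linter.style.haveILetI false
set_option linter.unusedSectionVars false

universe u

open CategoryTheory CategoryTheory.Limits MonoidalCategory

attribute [local instance] HasDerivedCategory.standard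

namespace Groth.Agent.DR39

theorem isIso_toLTensorCx {A : Type u} [CommRing A] [DTen.HasLTen A] (E : DRing.Cx A) [DRing.HasLTensorCx A E]
    (X : Dual.D A) : IsIso ((DTen.toLTensorCx A E).app X) := by
  obtain ⟨K, -, hK, ⟨e⟩⟩ := DTen43.exists_kproj X
  rw [← NatTrans.isIso_app_iff_of_iso (DTen.toLTensorCx A E) e]
  have h := DTen.toLTensorCx_fac A E K
  haveI := isIso_tensorCxCounit E K hK
  haveI : IsIso ((DTen.ε A).app (K, E)) := DTen43.isIso_ε K E (Or.inl hK)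
  haveI : IsIso ((DTen.toLTensorCx A E).app (DerivedCategory.Q.obj K) ≫ (tensorCxCounit E).app K) :=
    h ▸ inferInstanceAs (IsIso ((DTen.ε A).app (K, E)))
  exact IsIso.of_isIso_comp_right _ ((tensorCxCounit E).app K)

theorem exists_shift_tensor {A : Type u} [CommRing A] [DTen.HasLTen A] (X Y : Dual.D A) (n : ℤ) :
    Nonempty (((DTen.LTen₂ A).obj (X, Y))⟦n⟧ ≅ (DTen.LTen₂ A).obj (X⟦n⟧, Y)) := by
  obtain ⟨P, -, hP, ⟨e₁⟩⟩ := DTen43.exists_kproj X
  obtain ⟨S, -, hS, ⟨e₂⟩⟩ := DTen43.exists_kproj Y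
  haveI : IsIso ((DTen.ε A).app (P, S)) := DTen43.isIso_ε P S (Or.inr hS)
  haveI : IsIso ((DTen.ε A).app (P⟦n⟧, S)) := DTen43.isIso_ε _ S (Or.inr hS)
  exact ⟨(shiftFunctor (Dual.D A) n).mapIso
      ((DTen.LTen₂ A).mapIso (Iso.prod e₁.symm e₂.symm) ≪≫ asIso ((DTen.ε A).app (P, S))) ≪≫
    ((DerivedCategory.Q.commShiftIso n).app (P ⊗ S)).symm ≪≫
    DerivedCategory.Q.mapIso (CochainComplex.mapBifunctorShift₁Iso P S (curriedTensor (ModuleCat.{u} A)) n).symm ≪≫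
    (asIso ((DTen.ε A).app (P⟦n⟧, S))).symm ≪≫
    (DTen.LTen₂ A).mapIso (Iso.prod (((DerivedCategory.Q.commShiftIso n).app P) ≪≫
      (shiftFunctor (Dual.D A) n).mapIso e₁) e₂)⟩

/-- `RHom_P(A, M) ≅ RHom_P(A, P) ⊗^L_A (A ⊗^L_P M)` for `A` perfect over `P`. -/
theorem rightAdjoint_iso_tensor {P A : Type u} [CommRing P] [CommRing A] [Algebra P A]
    [DTen.HasLTen A] [DTen.HasLBase (algebraMap P A)]
    (hA : DRing.IsPerfect P (Dual.inD P A))
    {Rψ : Dual.D P ⥤ Dual.D A} (adj : DRing.restrictD (algebraMap P A) ⊣ Rψ) (M : Dual.D P) :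
    Nonempty (Rψ.obj M ≅ (DTen.LTen₂ A).obj (Rψ.obj (Dual.inD P P), (DTen.LBase (algebraMap P A)).obj M)) := by
  let φ := algebraMap P A
  haveI := DTen43.hasLTen P
  haveI := DTen43.hasResTen φ
  haveI := DTen43.resLegIso φ
  haveI := DTen43.hasLTen₃ P
  haveI := DTen43.hasLTen₃ A
  haveI := DTen43.isSymMonoidal P
  haveI := DTen43.isSymMonoidal A
  obtain ⟨A', ⟨hp⟩⟩ := DTen43.exists_exactPairing _
    (perfect_of_iso hA (DTen43.restrictUnitIso P A).symm)
  letI : ExactPairing ((DRing.restrictD φ).obj (𝟙_ (Dual.D A))) A' := hp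
  haveI : ∀ E X, IsIso (DTen43.projMap (DTen.LBase φ) (DTen.baseAdj φ) (DTen43.κ φ) E X) :=
    DTen43.isIso_projD φ
  obtain ⟨i⟩ := @DTen43.exists_natIso_relHom (Dual.D P) _ _ (Dual.D A) _ _ (DTen.LBase φ) (DRing.restrictD φ)
    (DTen.baseAdj φ) (DTen43.κ φ) (DTen43.κ_natural φ) _ Rψ adj _ (DTen43.κ_assoc φ)
    (fun f hf => @DTen43.isIso_of_isIso_restrictD P A _ _ φ _ _ _ _ _ _ _ f hf) A' _
  let e1 : DTen.unit P ≅ Dual.inD P P :=
    ((DerivedCategory.singleFunctorIsoCompQ (ModuleCat.{u} P) 0).app (ModuleCat.of P P)).symm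
  exact ⟨(i.app M).symm ≪≫ (DTen.LTen₂ A).mapIso (Iso.prod (Rψ.mapIso e1) (Iso.refl _))⟩

theorem nonempty_lbase_comp {R P A : Type u} [CommRing R] [CommRing P] [CommRing A] (g : R →+* P) (ψ : P →+* A)
    (χ : R →+* A) (h : χ = ψ.comp g) [DRing.HasLBaseChange g] [DRing.HasLBaseChange χ] [DTen.HasLBase ψ] :
    Nonempty (DRing.LBaseChange g ⋙ DTen.LBase ψ ≅ DRing.LBaseChange χ) :=
  ⟨(((Shriek42.lbAdj g).comp (DTen.baseAdj ψ)).ofNatIsoRight (Shriek42.restrictCompIso h).symm).leftAdjointUniq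
    (Shriek42.lbAdj χ)⟩

theorem shriekVia_iso_tensor {R A : Type u} [CommRing R] [CommRing A] [IsNoetherianRing R] [Algebra R A]
    [Module.Flat R A] (n : ℕ) (ψ : MvPolynomial (Fin n) R →ₐ[R] A) (hψ : Function.Surjective ψ)
    [DRing.HasLBaseChange (algebraMap R (MvPolynomial (Fin n) R))]
    (Rψ : Dual.D (MvPolynomial (Fin n) R) ⥤ Dual.D A) (adj : DRing.restrictD ψ.toRingHom ⊣ Rψ)
    (W : DRing.Cx A) (hW : Nonempty (DRing.toD W ≅ Dual2.shriekVia n Rψ (Dual.inD R R)))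
    [DRing.HasLBaseChange (algebraMap R A)] [DRing.HasLTensorCx A W] (K : Dual.D R) :
    Nonempty (Dual2.shriekVia n Rψ K ≅
      (DRing.LTensorCx A W).obj ((DRing.LBaseChange (algebraMap R A)).obj K)) := by
  let P := MvPolynomial (Fin n) R
  letI : Algebra P A := ψ.toRingHom.toAlgebra
  haveI : IsScalarTower R P A := IsScalarTower.of_algebraMap_eq fun r => (ψ.commutes r).symm
  haveI := DTen43.hasLTen A
  haveI := DTen43.hasLBase (algebraMap P A)
  haveI := DTen43.hasLTen₃ A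
  haveI := DTen43.isSymMonoidal A
  obtain ⟨eW⟩ := hW
  obtain ⟨eP⟩ := nonempty_lb_inD_self (algebraMap R P)
  obtain ⟨e⟩ := rightAdjoint_iso_tensor (perfect_presentation n hψ).1 adj
    ((DRing.LBaseChange (algebraMap R P)).obj K)
  obtain ⟨c⟩ := nonempty_lbase_comp (algebraMap R P) (algebraMap P A) (algebraMap R A)
    (IsScalarTower.algebraMap_eq R P A)
  let X := (DRing.LBaseChange (algebraMap R A)).obj K
  haveI := isIso_toLTensorCx W X
  let e2 : (Dual2.shriekVia n Rψ (Dual.inD R R) : Dual.D A) ≅ (Rψ.obj (Dual.inD P P))⟦(n : ℤ)⟧ :=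
    (shiftFunctor (Dual.D A) (n : ℤ)).mapIso (Rψ.mapIso eP)
  obtain ⟨s⟩ := exists_shift_tensor (Rψ.obj (Dual.inD P P)) X (n : ℤ)
  exact ⟨(shiftFunctor (Dual.D A) (n : ℤ)).mapIso (e ≪≫ (DTen.LTen₂ A).mapIso (Iso.prod (Iso.refl _) (c.app K))) ≪≫
    s ≪≫ (DTen.LTen₂ A).mapIso (Iso.prod (e2.symm ≪≫ eW.symm) (Iso.refl _)) ≪≫
    DTen.braiding X (DerivedCategory.Q.obj W) ≪≫ asIso ((DTen.toLTensorCx A W).app X)⟩

end Groth.Agent.DR39
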