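import Groth.Agent.DR39.EvalTenFin
import Groth.Agent.DR39.RHomBridge
import Groth.Agent.DR39.ShriekTensor

/-! The upper shriek functor and duality. -/

set_option autoImplicit false
set_option linter.style.haveILetI false
set_option linter.unusedSectionVars false

universe u

open CategoryTheory CategoryTheory.Limits MonoidalCategory

attribute [local instance] HasDerivedCategory.standard

namespace Groth.Agent.DR39

open Groth.Agent.DTen43 Groth.Agent.DR39.RelDual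

/-- `φ^!(K) = RHom_B(D_A(K) ⊗ B, φ^! ω)`. -/
theorem shriekVia_dual {A B : Type u} [CommRing A] [CommRing B] [IsNoetherianRing A] [Algebra A B]
    (n : ℕ) (ψ : MvPolynomial (Fin n) A →ₐ[A] B)
    [DRing.HasLBaseChange (algebraMap A (MvPolynomial (Fin n) A))]
    (Rψ : Dual.D (MvPolynomial (Fin n) A) ⥤ Dual.D B) (adj : DRing.restrictD ψ.toRingHom ⊣ Rψ)
    [DRing.HasLBaseChange (algebraMap A B)] (ω : Dual.D A) (hω : Dual.IsDualizing A ω) (K : DRing.Cx A)
    [DRing.HasRHomCx K] (hK : ∀ i : ℤ, Module.Finite A (Dual.HD A (DRing.toD K) i))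
    (E : DRing.Cx B) [DRing.HasRHomCx E]
    (hE : Nonempty (DRing.toD E ≅ (DRing.LBaseChange (algebraMap A B)).obj ((DRing.RHomCx K).obj ω))) :
    Nonempty (Dual2.shriekVia n Rψ (DRing.toD K) ≅ (DRing.RHomCx E).obj (Dual2.shriekVia n Rψ ω)) := by
  let P := MvPolynomial (Fin n) A
  let i : A →+* P := algebraMap A P
  let p : P →+* B := ψ.toRingHom
  haveI := DTen43.hasLTen A
  haveI := DTen43.hasLTen P
  haveI := DTen43.hasLTen B
  haveI := DTen43.hasLTen₃ A
  haveI := DTen43.hasLTen₃ P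
  haveI := DTen43.hasLTen₃ B
  haveI := DTen43.isSymMonoidal A
  haveI := DTen43.isSymMonoidal P
  haveI := DTen43.isSymMonoidal B
  haveI := hasRHom (A := A)
  haveI := hasRHom (A := P)
  haveI := hasRHom (A := B)
  haveI := DTen43.hasLBase i
  haveI := DTen43.hasResTen i
  haveI := DTen43.resLegIso i
  haveI := DTen43.hasLBase p
  haveI := DTen43.hasResTen p
  haveI := DTen43.resLegIso p
  obtain ⟨eE⟩ := hE
  obtain ⟨k⟩ := nonempty_rhomR_bidual hω K hK
  have hDK := (biduality hω K hK).1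
  let X : Dual.D A := (DRing.RHomCx K).obj ω
  haveI := isIso_rhomBC i X ((DTen.LBase i).obj ω)
  haveI := isIso_evalTen_of_finiteInjDim ((ta_inD_of_flat (A := A) P).of_iso (restrictUnitIso A P).symm)
    X ω hDK (exists_ia hω)
  haveI := isIso_bcRHom_of_isIso_evalTen i X ω
  obtain ⟨a⟩ := nonempty_lbase_lb i ((DTen.RHomR A X).obj ω)
  obtain ⟨x⟩ := nonempty_lbase_lb i X
  obtain ⟨w⟩ := nonempty_lbase_lb i ω
  obtain ⟨c⟩ := nonempty_rhom_rightAdjoint p adj ((DTen.LBase i).obj X) ((DTen.LBase i).obj ω)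
  obtain ⟨l⟩ := nonempty_lbase_comp i p (algebraMap A B) (RingHom.ext fun r => (ψ.commutes r).symm)
  let g : (DTen.LBase p).obj ((DTen.LBase i).obj X) ≅ DRing.toD E :=
    (DTen.LBase p).mapIso x ≪≫ l.app X ≪≫ eE.symm
  obtain ⟨h⟩ := nonempty_rhom_congr g.symm (Rψ.obj ((DTen.LBase i).obj ω))
  obtain ⟨s⟩ := nonempty_rhom_shift (DRing.toD E) (Rψ.obj ((DTen.LBase i).obj ω)) (n : ℤ)
  obtain ⟨b⟩ := nonempty_RHomCx_iso_RHomR E (Dual2.shriekVia n Rψ ω)
  exact ⟨(shiftFunctor (Dual.D B) (n : ℤ)).mapIso (Rψ.mapIso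
      ((DRing.LBaseChange i).mapIso k.symm ≪≫ a.symm ≪≫ asIso (DTen.bcRHom i X ω)) ≪≫ c ≪≫ h) ≪≫
    s ≪≫ (DTen.RHomR B (DRing.toD E)).mapIso ((shiftFunctor (Dual.D B) (n : ℤ)).mapIso (Rψ.mapIso w)) ≪≫
    b.symm⟩

end Groth.Agent.DR39
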