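import Groth.Agent.DR39.HomBC
import Groth.Agent.DR39.InjAmp
import Groth.Agent.DR39.Perf
import Groth.Prelude.Def_Wider
import Mathlib.RingTheory.TensorProduct.Quotient
import Mathlib.RingTheory.LocalProperties.Exactness

/-! Dualizing complexes: generalities, localization, local to global. -/

set_option autoImplicit false
set_option linter.style.haveILetI false
set_option linter.unusedSectionVars false

universe u

open CategoryTheory CategoryTheory.Limits CategoryTheory.Pretriangulated TensorProduct

attribute [local instance] HasDerivedCategory.standard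

namespace Groth.Agent.DR39

variable {A : Type u} [CommRing A]

theorem pc_of_noetherian [IsNoetherianRing A] {X : Dual.D A} {b : ℤ} (hb : Acyc b X)
    (hf : ∀ i, Module.Finite A (Dual.HD A X i)) (m : ℤ) : PC m X :=
  pc_of_homology hb fun i _ => by
    haveI := hf i
    exact pc_inD_of_fp_of_coherent
      (fun I _ => @Module.finitePresentation_of_finite A _ _ _ _ _ (Module.Finite.of_fg (IsNoetherian.noetherian I)))
      _ (Module.finitePresentation_of_finite A _) _

theorem hom_eq_zero_of_homology {X Y : Dual.D A} {c d : ℤ} (hd : Acyc (d + 1) X)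
    (hc : ∀ i, i < c → IsZero ((HF A i).obj X))
    (h : ∀ i, c ≤ i → i ≤ d → ∀ f : sngl i ((HF A i).obj X) ⟶ Y, f = 0) (f : X ⟶ Y) : f = 0 := by
  refine (induction_homology (P := fun X' => ∀ g : X' ⟶ Y, g = 0) ?_ ?_ c X ?_ ?_ (d + 1) hd) f
  · intro X' X'' e hX g
    rw [← cancel_epi e.hom, hX (e.hom ≫ g), comp_zero]
  · intro T hT h1 h3 g
    obtain ⟨q, rfl⟩ := Triangle.yoneda_exact₂ T hT g (h1 _)
    rw [h3 q, comp_zero]
  · intro Z hZ hlow g
    refine (isZero_of_forall fun i => ?_).eq_of_src g 0
    by_cases hi : c ≤ i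
    · exact hZ i hi
    · obtain ⟨e⟩ := hlow i (by omega)
      exact (hc i (by omega)).of_iso e
  · intro i hi g
    by_cases hid : i ≤ d
    · exact h i hi hid g
    · exact ((DerivedCategory.singleFunctor _ i).map_isZero (hd i (by omega))).eq_of_src g 0

theorem hom_sngl_eq_zero {M : ModuleCat.{u} A} {X : Dual.D A} {n k : ℤ}
    (h : Subsingleton (Dual.inD A M ⟶ X⟦n + k⟧)) (f : sngl n M ⟶ X⟦k⟧) : f = 0 := by
  refine hom_single_eq_zero (n := n) ?_ f
  exact ((Iso.homToEquiv ((shiftFunctorAdd' (Dual.D A) k n (n + k) (by omega)).app X)).symm).subsingleton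

section Basic

variable {ω : Dual.D A} (hω : Dual.IsDualizing A ω)
include hω

theorem exists_ia : ∃ a b : ℤ, DRing.HasInjAmplitudeIn A a b ω := by
  obtain ⟨a, b, h⟩ := hω.finite_injective_dimension
  exact ⟨a, b, ia_of_ext a b fun I i hi => h (A ⧸ I) i hi⟩

theorem exists_bounds : ∃ a b : ℤ, (∀ i, (i < a ∨ b < i) → IsZero ((HF A i).obj ω)) ∧
    ∀ (M : Type u) [AddCommGroup M] [Module A M] (i : ℤ),
      (i < a ∨ b < i) → Subsingleton (Dual.inD A M ⟶ ω⟦i⟧) := by
  obtain ⟨a, b, h⟩ := hω.finite_injective_dimension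
  exact ⟨a, b, fun i hi => isZero_HF_of_ext_ring (h A i hi), fun M _ _ i hi => h M i hi⟩

theorem pc_dualizing (m : ℤ) : PC m ω := by
  obtain ⟨a, b, hb, -⟩ := exists_bounds hω
  haveI := hω.isNoetherianRing
  exact pc_of_noetherian (b := b + 1) (fun i hi => hb i (Or.inr (by omega))) hω.finite_cohomology m

end Basic

section DF

variable (B : Type u) [CommRing B] [Algebra A B] [Module.Flat A B]

theorem subsingleton_tensor {M : Type*} [AddCommGroup M] [Module A M] [Subsingleton M] :
    Subsingleton (B ⊗[A] M) := by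
  refine subsingleton_of_forall_eq 0 fun x => ?_
  induction x using TensorProduct.induction_on with
  | zero => rfl
  | tmul b f => rw [Subsingleton.elim f 0, tmul_zero]
  | add x y hx hy => rw [hx, hy, add_zero]

theorem Good.subsingleton {K L : Dual.D A} (h : Good B K L) [Subsingleton (K ⟶ L)] :
    Subsingleton ((DF (extA A B)).obj K ⟶ (DF (extA A B)).obj L) := by
  haveI := subsingleton_tensor (A := A) B (M := K ⟶ L)
  exact h.2.subsingleton

theorem good_shift {K L : Dual.D A} {c : ℤ} (hK : ∀ m, PC m K)
    (hL : ∀ i, i < c → IsZero ((HF A i).obj L)) (k : ℤ) : Good B K (L⟦k⟧) :=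
  good_of_pc B (c := c - k) (hK _) fun i hi =>
    (hL (i + k) (by omega)).of_iso
      (((DerivedCategory.homologyFunctor _ 0).shiftIso k i (i + k) (by omega)).app L)

theorem subsingleton_hom_DF {K L : Dual.D A} {c : ℤ} (hK : ∀ m, PC m K)
    (hL : ∀ i, i < c → IsZero ((HF A i).obj L)) (k : ℤ) (h : Subsingleton (K ⟶ L⟦k⟧)) :
    Subsingleton ((DF (extA A B)).obj K ⟶ ((DF (extA A B)).obj L)⟦k⟧) := by
  haveI : Subsingleton ((DF (extA A B)).obj K ⟶ (DF (extA A B)).obj (L⟦k⟧)) :=
    (good_shift B hK hL k).subsingleton B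
  exact @Equiv.subsingleton _ _ (Iso.homToEquiv (((DF (extA A B)).commShiftIso k).app L)).symm this

theorem lbcIso [DRing.HasLBaseChange (algebraMap A B)] (X : Dual.D A) :
    Nonempty ((DRing.LBaseChange (algebraMap A B)).obj X ≅ (DF (extA A B)).obj X) := by
  obtain ⟨E, ⟨e⟩⟩ := exists_complex_iso X
  haveI := SF.isKProjective_res E
  let e' : (QA A).obj (SF.res E) ≅ X := asIso ((QA A).map (SF.aug E)) ≪≫ e
  exact ⟨(DRing.LBaseChange _).mapIso e'.symm ≪≫
    LBaseChangeIso (algebraMap A B) (SF.res E) isKFlat_of_isKProjective ≪≫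
    (DFQ (extA A B) (SF.res E)).symm ≪≫ (DF (extA A B)).mapIso e'⟩

theorem finite_HF_DF {X : Dual.D A} {i : ℤ} [Module.Finite A (Dual.HD A X i)] :
    Module.Finite B (Dual.HD B ((DF (extA A B)).obj X) i) := by
  obtain ⟨e⟩ := HF_DF (extA A B) X i
  obtain ⟨e'⟩ := ext_tensorIso B ((HF A i).obj X)
  exact Module.Finite.equiv (e ≪≫ e').toLinearEquiv.symm

theorem toEnd_bijective_DF {K : Dual.D A} (h : Good B K K)
    (hK : Function.Bijective fun a : A => a • 𝟙 K) :
    Function.Bijective fun b : B => b • 𝟙 ((DF (extA A B)).obj K) := by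
  let u : A ≃ₗ[A] (K ⟶ K) := LinearEquiv.ofBijective (LinearMap.toSpanSingleton A _ (𝟙 K)) hK
  have : (fun b : B => b • 𝟙 ((DF (extA A B)).obj K)) =
      thetaBar B K K ∘ ((TensorProduct.rid A B).symm ≪≫ₗ u.lTensor B) := by
    funext b
    simp [u, thetaBar_tmul]
  rw [this]
  exact h.comp (LinearEquiv.bijective _)

theorem exists_inD_quotient_iso (I : Ideal A) :
    Nonempty ((DF (extA A B)).obj (Dual.inD A (A ⧸ I)) ≅ Dual.inD B (B ⧸ I.map (algebraMap A B))) := by
  obtain ⟨e⟩ := rep_inD_baseChange (A := A) (B := B) (A ⧸ I)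
  exact ⟨e ≪≫ (DerivedCategory.singleFunctor (ModuleCat.{u} B) 0).mapIso
    ((Algebra.TensorProduct.quotIdealMapEquivTensorQuot B I).toLinearEquiv.symm.toModuleIso)⟩

theorem pc_inD [IsNoetherianRing A] (M : Type u) [AddCommGroup M] [Module A M] [Module.Finite A M]
    (m : ℤ) : PC m (Dual.inD A M) :=
  pc_inD_of_fp_of_coherent
    (fun I _ => @Module.finitePresentation_of_finite A _ _ _ _ _ (Module.Finite.of_fg (IsNoetherian.noetherian I)))
    _ (Module.finitePresentation_of_finite A M) m

/-- Flat base change preserves everything except perhaps finite injective dimension. -/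
theorem isDualizing_DF [IsNoetherianRing B] {ω : Dual.D A} (hω : Dual.IsDualizing A ω)
    (hid : ∃ a b : ℤ, ∀ (M : Type u) [AddCommGroup M] [Module B M] (i : ℤ), (i < a ∨ b < i) →
      Subsingleton (Dual.inD B M ⟶ ((DF (extA A B)).obj ω)⟦i⟧)) :
    Dual.IsDualizing B ((DF (extA A B)).obj ω) := by
  obtain ⟨a, b, hb, -⟩ := exists_bounds hω
  refine ⟨inferInstance, hid, fun i => ?_, ?_, fun i hi => ?_⟩
  · haveI := hω.finite_cohomology i
    exact finite_HF_DF B
  · exact toEnd_bijective_DF B (good_of_pc B (c := a) (pc_dualizing hω _) fun i hi => hb i (Or.inl hi))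
      hω.toEnd_bijective
  · exact subsingleton_hom_DF B (pc_dualizing hω) (c := a) (fun j hj => hb j (Or.inl hj)) i
      (hω.ext_self_subsingleton i hi)

/-- Localization (or any flat map all of whose ideals are extended) preserves dualizing complexes. -/
theorem isDualizing_DF_of_extended [IsNoetherianRing B] {ω : Dual.D A} (hω : Dual.IsDualizing A ω)
    (hI : ∀ J : Ideal B, ∃ I : Ideal A, I.map (algebraMap A B) = J) :
    Dual.IsDualizing B ((DF (extA A B)).obj ω) := by
  refine isDualizing_DF B hω ?_
  obtain ⟨a, b, hb, hid⟩ := exists_bounds hω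
  haveI := hω.isNoetherianRing
  refine ⟨a, b, fun M _ _ i hi => subsingleton_hom_of_ia
    (ia_of_ext a b fun J j hj => ?_) M hi⟩
  obtain ⟨I, rfl⟩ := hI J
  obtain ⟨e⟩ := exists_inD_quotient_iso B I
  haveI := subsingleton_hom_DF B (pc_inD (A ⧸ I)) (c := a) (fun k hk => hb k (Or.inl hk)) j
    (hid (A ⧸ I) j hj)
  exact ((Iso.homFromEquiv e).symm).subsingleton

end DF

section Local

theorem bijective_of_atPrime {M N : Type*} [AddCommGroup M] [Module A M] [AddCommGroup N]
    [Module A N] (f : M →ₗ[A] N)
    (h : ∀ P : Ideal A, ∀ [P.IsMaximal],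
      Function.Bijective (f.baseChange (Localization.AtPrime P))) : Function.Bijective f := by
  refine bijective_of_isLocalized_maximal (fun P _ => Localization.AtPrime P ⊗[A] M)
    (fun P _ => TensorProduct.mk A (Localization.AtPrime P) M 1)
    (fun P _ => Localization.AtPrime P ⊗[A] N)
    (fun P _ => TensorProduct.mk A (Localization.AtPrime P) N 1) f fun P _ => ?_
  have : IsLocalizedModule.map P.primeCompl (TensorProduct.mk A (Localization.AtPrime P) M 1)
      (TensorProduct.mk A (Localization.AtPrime P) N 1) f =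
      (f.baseChange (Localization.AtPrime P)).restrictScalars A := by
    refine IsLocalizedModule.linearMap_ext P.primeCompl (TensorProduct.mk A (Localization.AtPrime P) M 1)
      (TensorProduct.mk A (Localization.AtPrime P) N 1) (LinearMap.ext fun x => ?_)
    rw [LinearMap.comp_apply]
    refine (IsLocalizedModule.map_apply P.primeCompl (TensorProduct.mk A (Localization.AtPrime P) M 1)
      (TensorProduct.mk A (Localization.AtPrime P) N 1) f x).trans ?_
    rfl
  rw [this]
  exact h P

theorem subsingleton_of_atPrime {M : Type*} [AddCommGroup M] [Module A M]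
    (h : ∀ P : Ideal A, ∀ [P.IsMaximal], Subsingleton (Localization.AtPrime P ⊗[A] M)) :
    Subsingleton M := by
  have := bijective_of_atPrime (0 : M →ₗ[A] M) fun P _ => by
    haveI := h P
    exact ⟨fun _ _ _ => Subsingleton.elim _ _, fun y => ⟨y, Subsingleton.elim _ _⟩⟩
  exact ⟨fun x y => this.1 rfl⟩

/-- finite cohomology and finite injective dimension: dualizing can be checked at maximal ideals -/
theorem isDualizing_of_atMaximal [IsNoetherianRing A] {R : Dual.D A} {a b : ℤ}
    (hfin : ∀ i : ℤ, Module.Finite A (Dual.HD A R i))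
    (hid : ∀ (M : Type u) [AddCommGroup M] [Module A M] (i : ℤ), (i < a ∨ b < i) →
      Subsingleton (Dual.inD A M ⟶ R⟦i⟧))
    (h : ∀ P : Ideal A, ∀ [P.IsMaximal], Dual.IsDualizing (Localization.AtPrime P)
      ((DF (extA A (Localization.AtPrime P))).obj R)) :
    Dual.IsDualizing A R := by
  have hH : ∀ i, (i < a ∨ b < i) → IsZero ((HF A i).obj R) := fun i hi =>
    isZero_HF_of_ext_ring (hid A i hi)
  have hpc : ∀ m, PC m R := pc_of_noetherian (b := b + 1) (fun i hi => hH i (Or.inr (by omega))) hfin
  refine ⟨inferInstance, ⟨a, b, hid⟩, hfin, ?_, fun i hi => subsingleton_of_atPrime (A := A) fun P _ => ?_⟩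
  · show Function.Bijective (LinearMap.toSpanSingleton A _ (𝟙 R))
    refine bijective_of_atPrime _ fun P _ => ?_
    have hg : Good (Localization.AtPrime P) R R :=
      good_of_pc _ (c := a) (hpc _) fun i hi => hH i (Or.inl hi)
    refine (Function.Bijective.of_comp_iff' hg _).1 ?_
    have : thetaBar (Localization.AtPrime P) R R ∘
        ((LinearMap.toSpanSingleton A _ (𝟙 R)).baseChange (Localization.AtPrime P)) =
        (fun x : Localization.AtPrime P => x • 𝟙 ((DF (extA A (Localization.AtPrime P))).obj R)) ∘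
          (AlgebraTensorModule.rid A (Localization.AtPrime P) (Localization.AtPrime P)) := by
      funext w
      induction w using TensorProduct.induction_on with
      | zero => simp
      | tmul x a =>
        simp only [Function.comp_apply, LinearMap.baseChange_tmul, LinearMap.toSpanSingleton_apply,
          thetaBar_tmul, DF_map_smul, CategoryTheory.Functor.map_id, smul_smul,
          AlgebraTensorModule.rid_tmul, Algebra.smul_def, mul_comm]
      | add x y hx hy =>
        simp only [Function.comp_apply] at hx hy ⊢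
        simp only [map_add, add_smul, hx, hy]
    rw [this]
    exact (h P).toEnd_bijective.comp (LinearEquiv.bijective _)
  · haveI : Subsingleton ((DF (extA A (Localization.AtPrime P))).obj R ⟶
        (DF (extA A (Localization.AtPrime P))).obj (R⟦i⟧)) :=
      @Equiv.subsingleton _ _ (Iso.homToEquiv (((DF (extA A (Localization.AtPrime P))).commShiftIso i).app R))
        ((h P).ext_self_subsingleton i hi)
    exact (good_shift (Localization.AtPrime P) hpc (c := a) (fun j hj => hH j (Or.inl hj)) i).1.subsingleton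

end Local

end Groth.Agent.DR39
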