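import Groth.Agent.DR39.TorChain
import Mathlib.RingTheory.IsTensorProduct

/-! The comparison of the two ways of base changing a complex along a pushout square of rings. -/

set_option autoImplicit false
set_option linter.style.haveILetI false
set_option linter.unusedSectionVars false
set_option backward.isDefEq.respectTransparency false

universe u

open CategoryTheory CategoryTheory.Limits MonoidalCategory HomologicalComplex
open scoped TensorProduct

attribute [local instance] HasDerivedCategory.standard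

namespace Groth.Agent.DR39.TorBC

open Groth.Agent.DTen43 (incl)

section Unit

variable {S T : Type u} [CommRing S] [CommRing T] (φ : S →+* T)

/-- The map `S → T` of complexes in degree zero. -/
noncomputable def unitRes : 𝟙_ (DRing.Cx S) ⟶ resOne φ :=
  mkHomFromSingle (ModuleCat.ofHom (X := S) (Y := (resOne φ).X 0)
    { toFun := fun s => oneR φ (φ s)
      map_add' := fun a b => by
        show (one₀ (φ (a + b)) : (𝟙_ (DRing.Cx T)).X 0) = _
        rw [map_add, one₀, map_add]
        rfl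
      map_smul' := fun a b => by
        show (one₀ (φ (a * b)) : (𝟙_ (DRing.Cx T)).X 0) = φ a • (one₀ (φ b) : (𝟙_ (DRing.Cx T)).X 0)
        rw [one₀_smul, map_mul] })
    (fun k hk => IsZero.eq_of_tgt (Functor.map_isZero (DTen.resM φ) (isZero_unit_X (by
      change (0 : ℤ) + 1 = k at hk
      omega))) _ _)

theorem unitRes_one₀ (s : S) : ((unitRes φ).f 0).hom (one₀ s) = oneR φ (φ s) := by
  rw [unitRes, mkHomFromSingle]
  simp only [↓reduceDIte]
  show oneR φ (φ ((singleObjXSelf (ComplexShape.up ℤ) 0 (𝟙_ (ModuleCat.{u} S))).hom.hom (one₀ s))) = _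
  rw [one₀, Iso.inv_hom_id_apply]

/-- `T ⊗ S → T` in degree zero. -/
noncomputable def unitExt : (DTen.extCx φ).obj (𝟙_ (DRing.Cx S)) ⟶ 𝟙_ (DRing.Cx T) :=
  ((DTen43.cxAdj φ).homEquiv _ _).symm (unitRes φ)

theorem adjunct_apply {K : DRing.Cx S} {L : DRing.Cx T} (f : K ⟶ (DTen.resCx φ).obj L) (i : ℤ) (x : K.X i) :
    (((((DTen43.cxAdj φ).homEquiv _ _).symm f)).f i).hom
        (show ((DTen.extCx φ).obj K).X i from (((DTen.unitCx φ).app K).f i).hom x) =
      (show L.X i from (f.f i).hom x) := by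
  have h := (DTen43.cxAdj φ).homEquiv_unit (f := ((DTen43.cxAdj φ).homEquiv _ _).symm f)
  rw [Equiv.apply_symm_apply] at h
  exact (LinearMap.congr_fun (congrArg (fun g : K ⟶ _ => (g.f i).hom) h) x).symm

theorem nMap_counit {Z : DRing.Cx S} (ε : Z ⟶ 𝟙_ (DRing.Cx S)) :
    nMap φ Z ≫ (DTen.resCx φ).map ((DTen.extCx φ).map ε ≫ unitExt φ) =
      (ε ▷ resOne φ) ≫ (λ_ (resOne φ)).hom := by
  refine hom_ext_one φ fun i z t => ?_
  rw [HomologicalComplex.comp_f, HomologicalComplex.comp_f, ModuleCat.hom_comp, ModuleCat.hom_comp,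
    LinearMap.comp_apply, LinearMap.comp_apply, nMap_incl, ← tensorHom_id, DTen43.incl_map]
  refine (LinearMap.map_smul ((((DTen.extCx φ).map ε ≫ unitExt φ)).f i).hom t _).trans ?_
  have hn := LinearMap.congr_fun (congrArg (fun g : Z ⟶ _ => (g.f i).hom) ((DTen.unitCx φ).naturality ε)) z
  have h1 : ((((DTen.extCx φ).map ε ≫ unitExt φ)).f i).hom
      (show ((DTen.extCx φ).obj Z).X i from (((DTen.unitCx φ).app Z).f i).hom z) =
      (show (𝟙_ (DRing.Cx T)).X i from ((unitRes φ).f i).hom ((ε.f i).hom z)) :=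
    (congrArg ((unitExt φ).f i).hom hn.symm).trans (adjunct_apply φ (unitRes φ) i ((ε.f i).hom z))
  rw [h1]
  by_cases hi : i = 0
  · subst hi
    obtain ⟨a, ha⟩ := one₀_surjective ((ε.f 0).hom z)
    rw [← ha, unitRes_one₀]
    refine Eq.trans ?_ (leftUnitor_incl (resOne φ) 0 (oneR φ t) a).symm
    show t • (one₀ (φ a) : (𝟙_ (DRing.Cx T)).X 0) = φ a • (one₀ t : (𝟙_ (DRing.Cx T)).X 0)
    rw [one₀_smul, one₀_smul, mul_comm]
  · haveI : Subsingleton ((𝟙_ (DRing.Cx S)).X i) := ModuleCat.subsingleton_of_isZero (isZero_unit_X hi)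
    rw [Subsingleton.elim ((ε.f i).hom z) 0, map_zero, DTen43.incl_zero, map_zero]
    exact smul_zero t

end Unit

section Square

variable {P P' A A' : Type u} [CommRing P] [CommRing P'] [CommRing A] [CommRing A']
  {g : P →+* P'} {ψ : P →+* A} {h : A →+* A'} {ψ' : P' →+* A'}
  (sq : h.comp ψ = ψ'.comp g)

/-- Restriction of scalars along the two composites agree. -/
noncomputable def compIso (X : DRing.Cx A') :
    (DTen.resCx ψ).obj ((DTen.resCx h).obj X) ≅ (DTen.resCx g).obj ((DTen.resCx ψ').obj X) :=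
  HomologicalComplex.Hom.isoOfComponents (fun i => LinearEquiv.toModuleIso
    (({ toFun := fun x => (show X.X i from x)
        invFun := fun x => (show X.X i from x)
        map_add' := fun _ _ => rfl
        map_smul' := fun p x => congrArg (· • (show X.X i from x)) (RingHom.congr_fun sq p)
        left_inv := fun _ => rfl
        right_inv := fun _ => rfl } :
      (((DTen.resCx ψ).obj ((DTen.resCx h).obj X)).X i : ModuleCat.{u} P) ≃ₗ[P]
        (((DTen.resCx g).obj ((DTen.resCx ψ').obj X)).X i : ModuleCat.{u} P))))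
    (fun i j _ => ModuleCat.hom_ext (LinearMap.ext fun _ => rfl))

theorem compIso_natural {X X' : DRing.Cx A'} (v : X ⟶ X') :
    (DTen.resCx ψ).map ((DTen.resCx h).map v) ≫ (compIso sq X').hom =
      (compIso sq X).hom ≫ (DTen.resCx g).map ((DTen.resCx ψ').map v) :=
  HomologicalComplex.hom_ext _ _ fun _ => ModuleCat.hom_ext (LinearMap.ext fun _ => rfl)

/-- The base change map `P' ⊗_P X → (A' ⊗_A X)`. -/
noncomputable def piMap (X : DRing.Cx A) :
    (DTen.extCx g).obj ((DTen.resCx ψ).obj X) ⟶ (DTen.resCx ψ').obj ((DTen.extCx h).obj X) :=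
  ((DTen43.cxAdj g).homEquiv _ _).symm
    ((DTen.resCx ψ).map ((DTen.unitCx h).app X) ≫ (compIso sq ((DTen.extCx h).obj X)).hom)

theorem unit_piMap (X : DRing.Cx A) :
    (DTen.unitCx g).app ((DTen.resCx ψ).obj X) ≫ (DTen.resCx g).map (piMap sq X) =
      (DTen.resCx ψ).map ((DTen.unitCx h).app X) ≫ (compIso sq ((DTen.extCx h).obj X)).hom :=
  ((DTen43.cxAdj g).homEquiv_unit (f := piMap sq X)).symm.trans (Equiv.apply_symm_apply _ _)

/-- `T → T'` over the square. -/
noncomputable def sigma₀ : resOne g ⟶ (DTen.resCx ψ).obj (resOne h) :=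
  (DTen.resCx g).map (unitRes ψ') ≫ (compIso sq (𝟙_ (DRing.Cx A'))).inv

/-- `Y ⊗_A (A ⊗_P P') → (A' ⊗_A Y)`. -/
noncomputable def theta (Y : DRing.Cx A) :
    Y ⊗ (DTen.extCx ψ).obj (resOne g) ⟶ (DTen.resCx h).obj ((DTen.extCx h).obj Y) :=
  (Y ◁ ((DTen43.cxAdj ψ).homEquiv _ _).symm (sigma₀ sq)) ≫ nMap h Y

theorem theta_square (Y : DRing.Cx A) :
    DTen43.pfCx ψ Y (resOne g) ≫ (DTen.resCx ψ).map (theta sq Y) =
      nMap g ((DTen.resCx ψ).obj Y) ≫ (DTen.resCx g).map (piMap sq Y) ≫
        (compIso sq ((DTen.extCx h).obj Y)).inv := by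
  refine hom_ext_one g fun i y t => ?_
  simp only [HomologicalComplex.comp_f, ModuleCat.hom_comp, LinearMap.comp_apply]
  rw [nMap_incl g, DTen43.pfCx, HomologicalComplex.comp_f, ModuleCat.hom_comp, LinearMap.comp_apply,
    ← id_tensorHom, DTen43.incl_map]
  erw [resTen_incl ψ Y ((DTen.extCx ψ).obj (resOne g))]
  show ((theta sq Y).f i).hom _ = _
  rw [theta, HomologicalComplex.comp_f, ModuleCat.hom_comp, LinearMap.comp_apply, ← id_tensorHom,
    DTen43.incl_map]
  erw [adjunct_apply ψ (sigma₀ sq) 0 (oneR g t)]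
  have hs : ((sigma₀ sq).f 0).hom (oneR g t) =
      (show ((DTen.resCx ψ).obj (resOne h)).X 0 from oneR h (ψ' t)) := by
    show ((unitRes ψ').f 0).hom (one₀ t) = _
    rw [unitRes_one₀]
    rfl
  erw [hs, nMap_incl h Y i]
  refine Eq.trans ?_ (congrArg (fun w => (((compIso sq ((DTen.extCx h).obj Y)).inv).f i).hom w)
    (LinearMap.map_smul ((piMap sq Y).f i).hom t _)).symm
  have hu := LinearMap.congr_fun (congrArg (fun v : (DTen.resCx ψ).obj Y ⟶ _ => (v.f i).hom) (unit_piMap sq Y)) y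
  exact congrArg (fun w : ((DTen.extCx h).obj Y).X i => ψ' t • w) hu.symm

end Square

section Pushout

variable {P P' A A' : Type u} [CommRing P] [CommRing P'] [CommRing A] [CommRing A']
  [Algebra P P'] [Algebra P A] [Algebra P' A'] [Algebra A A'] [Algebra P A']
  [IsScalarTower P P' A'] [IsScalarTower P A A'] [Algebra.IsPushout P P' A A']

theorem sq_of_tower : (algebraMap A A').comp (algebraMap P A) = (algebraMap P' A').comp (algebraMap P P') := by
  rw [← IsScalarTower.algebraMap_eq, ← IsScalarTower.algebraMap_eq]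

theorem piMap_bijective (X : DRing.Cx A) (i : ℤ) :
    Function.Bijective ((piMap (sq_of_tower (P := P) (P' := P') (A := A) (A' := A')) X).f i).hom := by
  rename_i aPP' aPA aP'A' aAA' _ _ _ _
  obtain ⟨g, rfl⟩ : ∃ g : P →+* P', aPP' = g.toAlgebra :=
    ⟨algebraMap P P', Algebra.algebra_ext _ _ fun _ => rfl⟩
  obtain ⟨h, rfl⟩ : ∃ h : A →+* A', aAA' = h.toAlgebra :=
    ⟨algebraMap A A', Algebra.algebra_ext _ _ fun _ => rfl⟩
  obtain ⟨ψ, rfl⟩ : ∃ ψ : P →+* A, aPA = ψ.toAlgebra :=
    ⟨algebraMap P A, Algebra.algebra_ext _ _ fun _ => rfl⟩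
  obtain ⟨ψ', rfl⟩ : ∃ ψ' : P' →+* A', aP'A' = ψ'.toAlgebra :=
    ⟨algebraMap P' A', Algebra.algebra_ext _ _ fun _ => rfl⟩
  letI := g.toAlgebra
  letI := h.toAlgebra
  letI := ψ.toAlgebra
  letI := ψ'.toAlgebra
  letI : Module P (X.X i) := Module.compHom (X.X i) ψ
  haveI : IsScalarTower P A (X.X i) := ⟨fun p a m => by
    show (ψ p * a) • m = ψ p • a • m
    rw [mul_smul]⟩
  let e := Algebra.IsPushout.cancelBaseChange P P' A A' (X.X i)
  suffices ∀ z : P' ⊗[P] (X.X i : Type u),
      ((piMap (sq_of_tower (P := P) (P' := P') (A := A) (A' := A')) X).f i).hom z = e.symm z by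
    have hf : ⇑((piMap (sq_of_tower (P := P) (P' := P') (A := A) (A' := A')) X).f i).hom = ⇑e.symm := funext this
    rw [hf]
    exact e.symm.bijective
  intro z
  induction z using TensorProduct.induction_on with
  | zero => exact (LinearMap.map_zero _).trans (map_zero e.symm).symm
  | add a b ha hb =>
    erw [map_add, map_add, ha, hb]
  | tmul t m =>
    have hu := LinearMap.congr_fun (congrArg (fun v : (DTen.resCx ψ).obj X ⟶ _ => (v.f i).hom)
      (unit_piMap (sq_of_tower (P := P) (P' := P') (A := A) (A' := A')) X)) m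
    have hl := LinearMap.map_smul ((piMap (sq_of_tower (P := P) (P' := P') (A := A) (A' := A')) X).f i).hom t
      (show ((DTen.extCx g).obj ((DTen.resCx ψ).obj X)).X i from (1 : P') ⊗ₜ[P] m)
    rw [show t ⊗ₜ[P] m = t • ((1 : P') ⊗ₜ[P] m) from by rw [TensorProduct.smul_tmul', smul_eq_mul, mul_one]]
    refine hl.trans ?_
    rw [map_smul]
    refine congrArg₂ (fun (a : P') b => a • b) rfl (Eq.trans hu ?_)
    simp [e]
    rfl

end Pushout

end Groth.Agent.DR39.TorBC
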