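import Groth.Agent.DR39.TorExt
import Groth.Agent.DR39.TorSquare
import Groth.Agent.DR39.ShriekTensor
import Groth.Agent.Shriek42.FlatBC

/-! Tor independent base change of `RHom_P(A, P)` for `A` perfect over `P`. -/

set_option autoImplicit false
set_option linter.style.haveILetI false
set_option linter.unusedSectionVars false
set_option backward.isDefEq.respectTransparency false

universe u v₁ v₂ u₁ u₂

open CategoryTheory CategoryTheory.Limits MonoidalCategory

attribute [local instance] HasDerivedCategory.standard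

namespace Groth.Agent.DR39.TorBC

section Abstract

open Groth.Agent.DTen43 in
/-- For a dualisable restricted unit the right adjoint of restriction is tensoring (proof as in `exists_natIso_relHom`). -/
theorem isIso_relT_abstract {C : Type u₁} [Category.{v₁} C] [MonoidalCategory C] [SymmetricCategory C] {D : Type u₂}
    [Category.{v₂} D] [MonoidalCategory D] (F : C ⥤ D) {G : D ⥤ C} (adj : F ⊣ G)
    (δ : ∀ X Y : C, F.obj (X ⊗ Y) ⟶ F.obj X ⊗ F.obj Y)
    (hδ : ∀ {X X' Y Y' : C} (f : X ⟶ X') (g : Y ⟶ Y'),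
      F.map (f ⊗ₘ g) ≫ δ X' Y' = δ X Y ≫ (F.map f ⊗ₘ F.map g))
    {RR : C ⥤ D} (adj₂ : G ⊣ RR) [∀ E X, IsIso (projMap F adj δ E X)]
    (hδa : ∀ X Y Z : C, F.map (α_ X Y Z).hom ≫ δ X (Y ⊗ Z) ≫ (F.obj X ◁ δ Y Z) =
      δ (X ⊗ Y) Z ≫ (δ X Y ▷ F.obj Z) ≫ (α_ _ _ _).hom)
    (hrefl : ∀ {X Y : D} (f : X ⟶ Y), IsIso (G.map f) → IsIso f)
    {A' : C} [ExactPairing (G.obj (𝟙_ D)) A'] (L : C) :
    IsIso (adj₂.homEquiv _ _ (inv (projMap F adj δ (RR.obj (𝟙_ C)) L) ≫
      adj₂.counit.app (𝟙_ C) ▷ L ≫ (λ_ L).hom)) := by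
  let A := G.obj (𝟙_ D)
  let w : ∀ L : C, G.obj (RR.obj L) ⊗ A ⟶ L := fun L =>
    (β_ _ _).hom ≫ act F adj δ (RR.obj L) ≫ adj₂.counit.app L
  have hw : ∀ L, IsIHom (w L) := fun L X => by
    let E : (X ⟶ G.obj (RR.obj L)) ≃ (X ⊗ A ⟶ L) :=
      ((adj.homEquiv _ _).symm.trans (adj₂.homEquiv _ _).symm).trans
        (((β_ X A) ≪≫ asIso (projMap F adj δ (𝟙_ D) X) ≪≫ G.mapIso (λ_ (F.obj X))).symm.homFromEquiv)
    have : (fun g : X ⟶ G.obj (RR.obj L) => g ▷ A ≫ w L) = E := by
      funext g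
      show g ▷ A ≫ (β_ _ _).hom ≫ act F adj δ (RR.obj L) ≫ adj₂.counit.app L =
        ((β_ X A).hom ≫ projMap F adj δ (𝟙_ D) X ≫ G.map (λ_ _).hom) ≫
          (adj₂.homEquiv _ _).symm ((adj.homEquiv _ _).symm g)
      rw [BraidedCategory.braiding_naturality_left_assoc, reassoc_of% (whiskerLeft_act F adj δ hδ g),
        adj₂.homEquiv_counit]
      simp
    rw [this]
    exact E.bijective
  let E₀ := RR.obj (𝟙_ C)
  let p : ∀ L, G.obj E₀ ⊗ L ⟶ G.obj (E₀ ⊗ F.obj L) := fun L => projMap F adj δ E₀ L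
  let T : ∀ L, E₀ ⊗ F.obj L ⟶ RR.obj L := fun L =>
    adj₂.homEquiv _ _ (inv (p L) ≫ adj₂.counit.app (𝟙_ C) ▷ L ≫ (λ_ L).hom)
  show IsIso (T L)
  apply hrefl
  haveI : IsIso (p L ≫ G.map (T L)) := by
    refine (hw L).isIso (isIHom_tensor (Y' := A') (hw (𝟙_ C)) L) _ ?_
    show (p L ≫ G.map (T L)) ▷ A ≫ (β_ _ _).hom ≫ act F adj δ (RR.obj L) ≫ adj₂.counit.app L = _
    have hTc : G.map (T L) ≫ adj₂.counit.app L = inv (p L) ≫ adj₂.counit.app (𝟙_ C) ▷ L ≫ (λ_ L).hom :=
      (adj₂.homEquiv_counit _ _ _).symm.trans (Equiv.symm_apply_apply _ _)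
    rw [BraidedCategory.braiding_naturality_left_assoc, MonoidalCategory.whiskerLeft_comp_assoc,
      reassoc_of% (act_natural F adj δ hδ (T L)), hTc, reassoc_of% (act_projMap F adj δ hδ hδa E₀ L)]
    rw [IsIso.hom_inv_id_assoc]
    simp [w, A, E₀]
  exact IsIso.of_isIso_comp_left (p L) _

end Abstract

section Tau

variable {P A : Type u} [CommRing P] [CommRing A] (φ : P →+* A)
  [DTen.HasLTen P] [DTen.HasLTen A] [DTen.HasLBase φ] [DTen.HasResTen φ] [DTen.ResLegIso φ]
  [DTen.HasLTen₃ P] [DTen.IsSymMonoidal P] [DTen.HasLTen₃ A] [DTen.IsSymMonoidal A]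

open Groth.Agent.DTen43

theorem projD_natural {E E' : Dual.D A} (e : E ⟶ E') (X : Dual.D P) :
    ((DRing.restrictD φ).map e ▷ X) ≫ projD φ E' X =
      projD φ E X ≫ (DRing.restrictD φ).map (e ▷ (DTen.LBase φ).obj X) := by
  rw [projD, projD, projMap, projMap, ← Adjunction.homEquiv_naturality_left,
    ← Adjunction.homEquiv_naturality_right, ← tensorHom_id, reassoc_of% κ_natural]
  simp only [← tensorHom_id, Category.assoc, tensorHom_comp_tensorHom, CategoryTheory.Functor.map_id,
    Category.id_comp, Category.comp_id]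
  erw [Adjunction.counit_naturality]

/-- The projection map on complexes. -/
theorem projD_key (Y : DRing.Cx A) (S : DRing.Cx P) :
    projD φ (DerivedCategory.Q.obj Y) (DerivedCategory.Q.obj S) ≫
      (DRing.restrictD φ).map (𝟙 (DerivedCategory.Q.obj Y) ⊗ₘ (DTen.baseCmp φ).app S) ≫
        (DRing.restrictD φ).map (μ Y ((DTen.extCx φ).obj S)) ≫
          (DTen.resFactors φ).hom.app (Y ⊗ (DTen.extCx φ).obj S) =
      ((DTen.resFactors φ).hom.app Y ⊗ₘ 𝟙 (DerivedCategory.Q.obj S)) ≫ μ ((DTen.resCx φ).obj Y) S ≫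
        DerivedCategory.Q.map (pfCx φ Y S) := by
  rw [projD_eq]
  let c := (DTen.baseCmp φ).app S
  let rY := (DTen.resFactors φ).hom.app Y
  let rP := (DTen.resFactors φ).hom.app ((DTen.extCx φ).obj S)
  have hn : ((DRing.restrictD φ).map (𝟙 (DerivedCategory.Q.obj Y)) ⊗ₘ (DRing.restrictD φ).map c) ≫
        (DTen.resPF φ).app (DerivedCategory.Q.obj Y, DerivedCategory.Q.obj ((DTen.extCx φ).obj S)) =
      (DTen.resPF φ).app (DerivedCategory.Q.obj Y, (DTen.LBase φ).obj (DerivedCategory.Q.obj S)) ≫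
        (DRing.restrictD φ).map (𝟙 (DerivedCategory.Q.obj Y) ⊗ₘ c) :=
    (DTen.resPF φ).naturality (Prod.mkHom (𝟙 (DerivedCategory.Q.obj Y)) c)
  have hfac : (DTen.resPF φ).app (DerivedCategory.Q.obj Y, DerivedCategory.Q.obj ((DTen.extCx φ).obj S)) ≫
      (DTen.resβB φ).app (Y, (DTen.extCx φ).obj S) =
    (rY ⊗ₘ rP) ≫ μ ((DTen.resCx φ).obj Y) ((DTen.resCx φ).obj ((DTen.extCx φ).obj S)) ≫
      DerivedCategory.Q.map (DTen.resTenCx φ Y ((DTen.extCx φ).obj S)) :=
    DTen.resPF_fac φ (Y, (DTen.extCx φ).obj S)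
  have hγ : ((DTen.baseAdj φ).unit.app (DerivedCategory.Q.obj S) ≫ (DRing.restrictD φ).map c) ≫ rP =
      DerivedCategory.Q.map ((DTen.unitCx φ).app S) := by
    rw [DTen.baseCmp_fac]
    exact (Category.assoc _ _ _).trans
      ((congrArg (_ ≫ ·) ((DTen.resFactors φ).inv_hom_id_app _)).trans (Category.comp_id _))
  show _ ≫ (DRing.restrictD φ).map (𝟙 (DerivedCategory.Q.obj Y) ⊗ₘ c) ≫
    (DTen.resβB φ).app (Y, (DTen.extCx φ).obj S) = _
  simp only [Category.assoc]
  rw [← reassoc_of% hn, hfac, CategoryTheory.Functor.map_id, ← id_tensorHom,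
    tensorHom_comp_tensorHom_assoc, tensorHom_comp_tensorHom_assoc]
  rw [show pfCx φ Y S = (𝟙 ((DTen.resCx φ).obj Y) ⊗ₘ (DTen.unitCx φ).app S) ≫
    DTen.resTenCx φ Y ((DTen.extCx φ).obj S) from by rw [id_tensorHom]; rfl, Functor.map_comp,
    ← reassoc_of% μ_natural, CategoryTheory.Functor.map_id, tensorHom_comp_tensorHom_assoc]
  rw [hγ, Category.id_comp, Category.id_comp, Category.id_comp]
  exact congrArg (fun t => (t ⊗ₘ _) ≫ _) (Category.comp_id rY).symm

/-- A model of the evaluation map is adjunct to an isomorphism. -/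
theorem bijective_tau (hA : DRing.IsPerfect P ((DRing.restrictD φ).obj (DTen.unit A)))
    {Rψ : Dual.D P ⥤ Dual.D A} (adj : DRing.restrictD φ ⊣ Rψ)
    (Y : DRing.Cx A) (ey : DerivedCategory.Q.obj Y ≅ Rψ.obj (DTen.unit P))
    (Z : DRing.Cx P) (hZ : DRing.IsKFlat P Z) (ζ : Z ⟶ (DTen.resCx φ).obj Y) [QuasiIso ζ]
    (ε : Z ⟶ 𝟙_ (DRing.Cx P))
    (hε : (DTen.resFactors φ).inv.app Y ≫ (DRing.restrictD φ).map ey.hom ≫ adj.counit.app (DTen.unit P) =
      @inv _ _ _ _ (DerivedCategory.Q.map ζ) (isIso_Q_map ζ) ≫ DerivedCategory.Q.map ε)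
    (S : DRing.Cx P) [IsIso (DerivedCategory.Q.map (ζ ▷ S))]
    (τ : (DRing.restrictD φ).obj (DerivedCategory.Q.obj (Y ⊗ (DTen.extCx φ).obj S)) ⟶ DerivedCategory.Q.obj S)
    (hτ : (DerivedCategory.Q.map (ζ ▷ S ≫ pfCx φ Y S) ≫ (DTen.resFactors φ).inv.app (Y ⊗ (DTen.extCx φ).obj S)) ≫ τ =
      DerivedCategory.Q.map (ε ▷ S ≫ (λ_ S).hom)) (X : Dual.D A) :
    Function.Bijective fun x : X ⟶ DerivedCategory.Q.obj (Y ⊗ (DTen.extCx φ).obj S) =>
      (DRing.restrictD φ).map x ≫ τ := by
  obtain ⟨A', ⟨hp⟩⟩ := exists_exactPairing _ hA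
  letI : ExactPairing ((DRing.restrictD φ).obj (𝟙_ (Dual.D A))) A' := hp
  haveI : ∀ E X, IsIso (projMap (DTen.LBase φ) (DTen.baseAdj φ) (κ φ) E X) := isIso_projD φ
  let ω₀ := Rψ.obj (DTen.unit P)
  let QS := DerivedCategory.Q.obj S
  haveI : IsIso (projD φ ω₀ QS) := isIso_projD φ _ _
  let T := adj.homEquiv _ _ (inv (projD φ ω₀ QS) ≫ adj.counit.app (DTen.unit P) ▷ QS ≫ (λ_ QS).hom)
  haveI hT : IsIso T := @isIso_relT_abstract (Dual.D P) _ _ _ (Dual.D A) _ _ (DTen.LBase φ) (DRing.restrictD φ)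
    (DTen.baseAdj φ) (κ φ) (κ_natural φ) Rψ adj _ (κ_assoc φ)
    (fun f hf => @isIso_of_isIso_restrictD P A _ _ φ _ _ _ _ _ _ _ f hf) A' _ QS
  let a₀ : DerivedCategory.Q.obj Y ⊗ (DTen.LBase φ).obj QS ⟶ DerivedCategory.Q.obj (Y ⊗ (DTen.extCx φ).obj S) :=
    (𝟙 (DerivedCategory.Q.obj Y) ⊗ₘ (DTen.baseCmp φ).app S) ≫ μ Y ((DTen.extCx φ).obj S)
  haveI := DTen43.isIso_Q_map ζ
  haveI hμ : IsIso (μ ((DTen.resCx φ).obj Y) S) := by
    haveI := isIso_μ Z S (Or.inl hZ)
    haveI := DTen43.isIso_tensorHom (DerivedCategory.Q.map ζ) (DerivedCategory.Q.map (𝟙 S))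
    haveI : IsIso (DerivedCategory.Q.map (ζ ⊗ₘ 𝟙 S)) := by rw [tensorHom_id]; infer_instance
    haveI : IsIso ((DerivedCategory.Q.map ζ ⊗ₘ DerivedCategory.Q.map (𝟙 S)) ≫ μ ((DTen.resCx φ).obj Y) S) := by
      rw [μ_natural]; infer_instance
    exact IsIso.of_isIso_comp_left (DerivedCategory.Q.map ζ ⊗ₘ DerivedCategory.Q.map (𝟙 S)) _
  haveI : IsIso (pfCx φ Y S) := inferInstance
  have key : projD φ (DerivedCategory.Q.obj Y) QS ≫ (DRing.restrictD φ).map a₀ =
      ((DTen.resFactors φ).hom.app Y ⊗ₘ 𝟙 QS) ≫ μ ((DTen.resCx φ).obj Y) S ≫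
        DerivedCategory.Q.map (pfCx φ Y S) ≫ (DTen.resFactors φ).inv.app (Y ⊗ (DTen.extCx φ).obj S) := by
    have h := projD_key φ Y S
    rw [← cancel_mono ((DTen.resFactors φ).hom.app (Y ⊗ (DTen.extCx φ).obj S))]
    simp only [a₀, Functor.map_comp, Category.assoc, Iso.inv_hom_id_app]
    exact h.trans (congrArg (fun t => _ ≫ _ ≫ t) (Category.comp_id _).symm)
  haveI := DTen43.isIso_tensorHom ((DTen.resFactors φ).hom.app Y) (𝟙 QS)
  haveI : IsIso (projD φ (DerivedCategory.Q.obj Y) QS) := isIso_projD φ _ _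
  haveI : IsIso ((DRing.restrictD φ).map a₀) := by
    haveI : IsIso (projD φ (DerivedCategory.Q.obj Y) QS ≫ (DRing.restrictD φ).map a₀) := by
      rw [key]; infer_instance
    exact IsIso.of_isIso_comp_left (projD φ (DerivedCategory.Q.obj Y) QS) _
  haveI : IsIso a₀ := isIso_of_isIso_restrictD φ a₀
  let a := (ey.inv ▷ (DTen.LBase φ).obj QS) ≫ a₀
  haveI : IsIso (ey.inv ▷ (DTen.LBase φ).obj QS) := by
    rw [← tensorHom_id]; exact DTen43.isIso_tensorHom _ _
  have hTa : a ≫ adj.homEquiv _ _ τ = T := by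
    rw [← Adjunction.homEquiv_naturality_left]
    refine congrArg _ ?_
    haveI : IsIso (projD φ ω₀ QS) := isIso_projD φ _ _
    rw [← cancel_epi (projD φ ω₀ QS), IsIso.hom_inv_id_assoc]
    simp only [a, Functor.map_comp, Category.assoc]
    rw [← reassoc_of% (projD_natural φ ey.inv QS), reassoc_of% key]
    haveI : IsIso (DerivedCategory.Q.map (ζ ▷ S)) := ‹_›
    have hτ' : DerivedCategory.Q.map (pfCx φ Y S) ≫
        (DTen.resFactors φ).inv.app (Y ⊗ (DTen.extCx φ).obj S) ≫ τ =
        inv (DerivedCategory.Q.map (ζ ▷ S)) ≫ DerivedCategory.Q.map (ε ▷ S) ≫ DerivedCategory.Q.map (λ_ S).hom := by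
      rw [← Functor.map_comp, ← hτ, Functor.map_comp]
      simp only [Category.assoc, IsIso.inv_hom_id_assoc]
    rw [hτ']
    have h1 : μ ((DTen.resCx φ).obj Y) S ≫ inv (DerivedCategory.Q.map (ζ ▷ S)) =
        (inv (DerivedCategory.Q.map ζ) ⊗ₘ 𝟙 QS) ≫ μ Z S := by
      rw [IsIso.comp_inv_eq, Category.assoc, ← tensorHom_id ζ, ← μ_natural, CategoryTheory.Functor.map_id,
        tensorHom_comp_tensorHom_assoc, IsIso.inv_hom_id, Category.id_comp, id_tensor_id, Category.id_comp]
    rw [reassoc_of% h1, ← tensorHom_id ε, ← reassoc_of% μ_natural, ← μ_left]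
    simp only [← tensorHom_id, CategoryTheory.Functor.map_id, ← Category.assoc, tensorHom_comp_tensorHom, Category.comp_id]
    congr 2
    simp only [Category.assoc]
    rw [← hε, Iso.hom_inv_id_app_assoc, ← Functor.map_comp_assoc, Iso.inv_hom_id, CategoryTheory.Functor.map_id,
      Category.id_comp]
  haveI : IsIso a := IsIso.comp_isIso' ‹_› ‹_›
  haveI : IsIso (adj.homEquiv _ _ τ) := by
    haveI : IsIso (a ≫ adj.homEquiv _ _ τ) := by rw [hTa]; exact hT
    exact IsIso.of_isIso_comp_left a _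
  have hb : (fun x : X ⟶ DerivedCategory.Q.obj (Y ⊗ (DTen.extCx φ).obj S) => (DRing.restrictD φ).map x ≫ τ) =
      (adj.homEquiv _ _).symm ∘ (asIso (adj.homEquiv _ _ τ)).homToEquiv := by
    funext x
    simp only [Function.comp_apply]
    erw [Adjunction.homEquiv_naturality_left_symm, Equiv.symm_apply_apply]
  rw [hb]
  exact (Equiv.bijective _).comp (Equiv.bijective _)

end Tau

section Main

open Groth.Agent.DTen43

variable {R R' P P' A A' : Type u} [CommRing R] [CommRing R'] [CommRing P] [CommRing P'] [CommRing A] [CommRing A']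
  [Algebra R R'] [Algebra R P] [Algebra P P'] [Algebra R' P'] [Algebra R P'] [Algebra R A] [Algebra P A]
  [Algebra P' A'] [Algebra A A'] [Algebra P A']
  [IsScalarTower R R' P'] [IsScalarTower R P P'] [Algebra.IsPushout R R' P P']
  [IsScalarTower R P A] [IsScalarTower P P' A'] [IsScalarTower P A A'] [Algebra.IsPushout P P' A A']

/-- `R`-flatness of a free module over a flat algebra. -/
theorem flat_rs_free [Module.Flat R P] (M : ModuleCat.{u} P) [Module.Free P M] :
    Module.Flat R ((ModuleCat.restrictScalars (algebraMap R P)).obj M) :=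
  flat_restrict_of_flat R P M

theorem flat_rs_rs [Module.Flat R A] (M : ModuleCat.{u} A) [Module.Free A M] :
    Module.Flat R ((ModuleCat.restrictScalars (algebraMap R P)).obj
      ((ModuleCat.restrictScalars (algebraMap P A)).obj M)) := by
  haveI := flat_restrict_of_flat R A M
  exact Module.Flat.of_linearEquiv (M := ((ModuleCat.restrictScalars (algebraMap R A)).obj M : ModuleCat.{u} R))
    { toFun := fun x => (show M from x)
      invFun := fun x => (show M from x)
      map_add' := fun _ _ => rfl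
      map_smul' := fun r x => congrArg (· • (show M from x)) (IsScalarTower.algebraMap_apply R P A r).symm
      left_inv := fun _ => rfl
      right_inv := fun _ => rfl }

variable [Module.Flat R P] [Module.Flat R A]

include R R' in
/-- Tor independent base change of `RHom_P(A, P)`. -/
theorem nonempty_baseChange [DRing.HasLBaseChange (algebraMap A A')] (hA : DRing.IsPerfect P (Dual.inD P A))
    {Rψ : Dual.D P ⥤ Dual.D A} (adj : DRing.restrictD (algebraMap P A) ⊣ Rψ)
    {Rψ' : Dual.D P' ⥤ Dual.D A'} (adj' : DRing.restrictD (algebraMap P' A') ⊣ Rψ')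
    (hb : ∃ b : ℤ, Acyc (b + 1) (Rψ.obj (Dual.inD P P))) :
    Nonempty ((DRing.LBaseChange (algebraMap A A')).obj (Rψ.obj (Dual.inD P P)) ≅
      Rψ'.obj (Dual.inD P' P')) := by
  let g := algebraMap P P'
  let φ := algebraMap P A
  let h := algebraMap A A'
  let φ' := algebraMap P' A'
  haveI := hasLTen P
  haveI := hasLTen A
  haveI := hasLBase φ
  haveI := hasResTen φ
  haveI := resLegIso φ
  haveI := hasLTen₃ P
  haveI := hasLTen₃ A
  haveI := isSymMonoidal P
  haveI := isSymMonoidal A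
  have hA' := perfect_of_iso hA (restrictUnitIso P A).symm
  let e1 : DTen.unit P ≅ Dual.inD P P :=
    ((DerivedCategory.singleFunctorIsoCompQ (ModuleCat.{u} P) 0).app (ModuleCat.of P P)).symm
  let e1' : DTen.unit P' ≅ Dual.inD P' P' :=
    ((DerivedCategory.singleFunctorIsoCompQ (ModuleCat.{u} P') 0).app (ModuleCat.of P' P')).symm
  obtain ⟨b, hb⟩ := hb
  obtain ⟨Y, hYv, hYfree, ⟨eY⟩⟩ := rep_free_of_acyc hb
  have hYv : DRing.VanishesAbove Y b := (vanishesAbove_iff Y b).2 hYv
  let ey : DerivedCategory.Q.obj Y ≅ Rψ.obj (DTen.unit P) := eY ≪≫ (Rψ.mapIso e1).symm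
  let RY := (DTen.resCx φ).obj Y
  have hRYv : DRing.VanishesAbove RY b := fun i hi => Functor.map_isZero (DTen.resM φ) (hYv i hi)
  have hRYf : ∀ i, Module.Flat R ((ModuleCat.restrictScalars (algebraMap R P)).obj (RY.X i)) := fun i => by
    haveI : Module.Free A (Y.X i) := hYfree i
    exact flat_rs_rs (P := P) (Y.X i)
  have hRYh : ∀ j, b < j → IsZero (RY.homology j) := fun j hj =>
    (isZero_homology_iff RY j).2 fun x _ => ⟨0, @Subsingleton.elim _ (ModuleCat.subsingleton_of_isZero (hRYv j hj)) _ _⟩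
  obtain ⟨Z, hZv, hZfree, ζ, hζ⟩ : ∃ (Z : DRing.Cx P) (_ : DRing.VanishesAbove Z b)
      (_ : ∀ i, Module.Free P (Z.X i)) (ζ : Z ⟶ RY), QuasiIso ζ :=
    ⟨_, Res.vanishesAbove RY b hRYh, Res.free RY b hRYh, Res.aug RY b hRYh, Res.quasiIso_aug RY b hRYh⟩
  haveI := hζ
  have hZp : ∀ i, Projective (Z.X i) := fun i => by
    haveI := hZfree i
    exact (IsProjective.iff_projective (R := P) (Z.X i)).1 (Module.Projective.of_free)
  haveI hZK : Z.IsKProjective := isKProjective_of_bddAbove Z b hZv fun i => by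
    haveI := hZfree i
    exact Module.Projective.of_free
  haveI := DTen43.isIso_Q_map ζ
  obtain ⟨ε, hε⟩ := Q_map_surjective Z (𝟙_ (DRing.Cx P)) (DerivedCategory.Q.map ζ ≫
    (DTen.resFactors φ).inv.app Y ≫ (DRing.restrictD φ).map ey.hom ≫ adj.counit.app (DTen.unit P))
  have hε' : (DTen.resFactors φ).inv.app Y ≫ (DRing.restrictD φ).map ey.hom ≫ adj.counit.app (DTen.unit P) =
      inv (DerivedCategory.Q.map ζ) ≫ DerivedCategory.Q.map ε := by
    rw [IsIso.eq_inv_comp, hε]
  -- the chain level comparison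
  have sq := sq_of_tower (P := P) (P' := P') (A := A) (A' := A')
  let S := resOne g
  let c2 := (DTen.extCx g).map ζ ≫ piMap sq Y
  let c3 := (DTen.extCx g).map ε ≫ unitExt g
  have hπ : ∀ X : DRing.Cx A, IsIso (piMap sq X) := fun X => by
    haveI : ∀ i, IsIso ((piMap sq X).f i) := fun i =>
      (ConcreteCategory.isIso_iff_bijective _).2 (piMap_bijective X i)
    exact HomologicalComplex.Hom.isIso_of_components _
  haveI := hπ Y
  have hqis : ∀ {U V : DRing.Cx P} (f : U ⟶ V) [QuasiIso f] {c d : ℤ}, DRing.VanishesAbove U c →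
      DRing.VanishesAbove V d →
      (∀ i, Module.Flat R ((ModuleCat.restrictScalars (algebraMap R P)).obj (U.X i))) →
      (∀ i, Module.Flat R ((ModuleCat.restrictScalars (algebraMap R P)).obj (V.X i))) →
      QuasiIso ((DTen.extCx g).map f) := fun f _ _ _ hU hV fU fV => quasiIso_ext_of_flat (R' := R') f hU hV fU fV
  haveI hext : QuasiIso ((DTen.extCx g).map ζ) := hqis ζ hZv hRYv (fun i => by
    haveI := hZfree i
    exact flat_rs_free (Z.X i)) hRYf
  haveI : QuasiIso c2 := inferInstance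
  haveI := DTen43.isIso_Q_map c2
  haveI : QuasiIso ((DTen.resCx g).map c2) := inferInstance
  haveI := DTen43.isIso_Q_map ((DTen.resCx g).map c2)
  haveI : QuasiIso ((DTen.resCx g).map ((DTen.extCx g).map ζ)) := inferInstance
  haveI hζS : IsIso (DerivedCategory.Q.map (ζ ▷ S)) := by
    haveI := DTen43.isIso_Q_map ((DTen.resCx g).map ((DTen.extCx g).map ζ))
    haveI : IsIso (DerivedCategory.Q.map (ζ ▷ S ≫ nMap g RY)) := by
      rw [nMap_natural, Functor.map_comp]; infer_instance
    rw [Functor.map_comp] at this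
    exact IsIso.of_isIso_comp_right _ (DerivedCategory.Q.map (nMap g RY))
  let θ := theta sq Y
  haveI hθ₀ : IsIso ((DTen.resCx φ).map θ) := by
    haveI : IsIso (pfCx φ Y S ≫ (DTen.resCx φ).map θ) := by
      rw [theta_square]; infer_instance
    exact IsIso.of_isIso_comp_left (pfCx φ Y S) _
  haveI hθ : IsIso (DerivedCategory.Q.map θ) := by
    haveI : IsIso ((DRing.restrictD φ).map (DerivedCategory.Q.map θ)) :=
      (NatIso.isIso_map_iff (DTen.resFactors φ) θ).2 (inferInstanceAs (IsIso (DerivedCategory.Q.map ((DTen.resCx φ).map θ))))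
    exact isIso_of_isIso_restrictD φ _
  let F := Y ⊗ (DTen.extCx φ).obj S
  haveI : IsIso (DerivedCategory.Q.map (ζ ▷ S ≫ pfCx φ Y S)) := by
    rw [Functor.map_comp]; infer_instance
  let τ : (DRing.restrictD φ).obj (DerivedCategory.Q.obj F) ⟶ DerivedCategory.Q.obj S :=
    (DTen.resFactors φ).hom.app F ≫ inv (DerivedCategory.Q.map (ζ ▷ S ≫ pfCx φ Y S)) ≫
      DerivedCategory.Q.map (ε ▷ S ≫ (λ_ S).hom)
  have hτ : ∀ X, Function.Bijective fun x : X ⟶ DerivedCategory.Q.obj F => (DRing.restrictD φ).map x ≫ τ :=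
    bijective_tau φ hA' adj Y ey Z (isKFlat_of_isKProjective) ζ ε hε' S τ (by
      simp only [τ, F, Category.assoc, Iso.inv_hom_id_app_assoc, IsIso.hom_inv_id_assoc])
  let Y' := (DTen.extCx h).obj Y
  let ε₀ : (DRing.restrictD φ').obj (DerivedCategory.Q.obj Y') ⟶ DTen.unit P' :=
    (DTen.resFactors φ').hom.app Y' ≫ inv (DerivedCategory.Q.map c2) ≫ DerivedCategory.Q.map c3
  let β := adj'.homEquiv _ _ ε₀
  have hbij : ∀ k : ℤ, Function.Bijective fun u : DerivedCategory.Q.obj ((DTen.extCx h).obj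
      ((HomologicalComplex.single (ModuleCat.{u} A) (ComplexShape.up ℤ) k).obj (ModuleCat.of A A))) ⟶
        DerivedCategory.Q.obj Y' => (DRing.restrictD φ').map u ≫ ε₀ := by
    intro k
    let Am := (HomologicalComplex.single (ModuleCat.{u} A) (ComplexShape.up ℤ) k).obj (ModuleCat.of A A)
    haveI : Projective (ModuleCat.of A A) := (IsProjective.iff_projective (R := A) _).1 inferInstance
    haveI : CochainComplex.IsKProjective Am := isKProjective_single _ k
    let RAm := (DTen.resCx φ).obj Am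
    have hRAv : DRing.VanishesAbove RAm k := fun i hi => Functor.map_isZero (DTen.resM φ)
      (HomologicalComplex.isZero_single_obj_X _ _ _ _ (by omega))
    have hRAh : ∀ j, k < j → IsZero (RAm.homology j) := fun j hj =>
      (isZero_homology_iff RAm j).2 fun x _ => ⟨0, @Subsingleton.elim _ (ModuleCat.subsingleton_of_isZero (hRAv j hj)) _ _⟩
    have hRAf : ∀ i, Module.Flat R ((ModuleCat.restrictScalars (algebraMap R P)).obj (RAm.X i)) := fun i => by
      haveI : Module.Free A (Am.X i) := by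
        by_cases hi : i = k
        · subst hi
          exact Module.Free.of_equiv
            (HomologicalComplex.singleObjXSelf (ComplexShape.up ℤ) i (ModuleCat.of A A)).toLinearEquiv.symm
        · haveI : Subsingleton (Am.X i) := ModuleCat.subsingleton_of_isZero
            (HomologicalComplex.isZero_single_obj_X _ _ _ _ hi)
          infer_instance
      exact flat_rs_rs (P := P) (Am.X i)
    obtain ⟨E, hEv, hEfree, aug, haug⟩ : ∃ (E : DRing.Cx P) (_ : DRing.VanishesAbove E k)
        (_ : ∀ i, Module.Free P (E.X i)) (aug : E ⟶ RAm), QuasiIso aug :=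
      ⟨_, Res.vanishesAbove RAm k hRAh, Res.free RAm k hRAh, Res.aug RAm k hRAh, Res.quasiIso_aug RAm k hRAh⟩
    haveI := haug
    haveI : E.IsKProjective := isKProjective_of_bddAbove E k hEv fun i => by
      haveI := hEfree i
      exact Module.Projective.of_free
    haveI : QuasiIso ((DTen.extCx g).map aug) := hqis aug hEv hRAv (fun i => by
      haveI := hEfree i
      exact flat_rs_free (E.X i)) hRAf
    haveI := hπ Am
    haveI := DTen43.isIso_Q_map aug
    haveI : IsIso (DerivedCategory.Q.map ((DTen.extCx g).map aug ≫ piMap sq Am)) := by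
      haveI := DTen43.isIso_Q_map ((DTen.extCx g).map aug)
      rw [Functor.map_comp]; infer_instance
    let Jaug : DerivedCategory.Q.obj ((DTen.extCx g).obj E) ≅
        (DRing.restrictD φ').obj (DerivedCategory.Q.obj ((DTen.extCx h).obj Am)) :=
      asIso (DerivedCategory.Q.map ((DTen.extCx g).map aug ≫ piMap sq Am)) ≪≫
        ((DTen.resFactors φ').app _).symm
    let L := fun w : (DRing.restrictD φ').obj (DerivedCategory.Q.obj ((DTen.extCx h).obj Am)) ⟶ DTen.unit P' =>
      ((DerivedCategory.Q.map ((DTen.unitCx g).app E) ≫ (DTen.resFactors g).inv.app _) ≫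
        (DRing.restrictD g).map (Jaug.hom ≫ w)) ≫ (DTen.resFactors g).hom.app (𝟙_ (DRing.Cx P'))
    have hL : Function.Bijective L :=
      ((((DTen.resFactors g).app (𝟙_ (DRing.Cx P'))).homToEquiv).bijective.comp
        (baseCmp_bijective g E (DTen.unit P'))).comp (Jaug.symm.homFromEquiv).bijective
    let B := fun u : DerivedCategory.Q.obj ((DTen.extCx h).obj Am) ⟶ DerivedCategory.Q.obj Y' =>
      (((DerivedCategory.Q.map ((DTen.unitCx h).app Am) ≫ (DTen.resFactors h).inv.app _) ≫
        (DRing.restrictD h).map u) ≫ (DTen.resFactors h).hom.app Y') ≫ inv (DerivedCategory.Q.map θ)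
    have hB : Function.Bijective B :=
      ((asIso (DerivedCategory.Q.map θ)).symm.homToEquiv.bijective.comp
        (((DTen.resFactors h).app Y').homToEquiv.bijective)).comp (baseCmp_bijective h Am _)
    let W := asIso (DerivedCategory.Q.map aug) ≪≫ ((DTen.resFactors φ).app Am).symm
    have hRhs : Function.Bijective fun u => W.hom ≫ (DRing.restrictD φ).map (B u) ≫ τ :=
      (W.symm.homFromEquiv.bijective.comp (hτ _)).comp hB
    have hLR : (L ∘ fun u => (DRing.restrictD φ').map u ≫ ε₀) =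
        fun u => W.hom ≫ (DRing.restrictD φ).map (B u) ≫ τ := by
      funext u
      obtain ⟨v, rfl⟩ := Q_map_surjective _ _ u
      have n1 := (DTen.resFactors φ').hom.naturality v
      have n2 := (DTen.resFactors h).hom.naturality v
      simp only [Functor.comp_map] at n1 n2
      let f₁ := (DTen.unitCx h).app Am ≫ (DTen.resCx h).map v
      have hB' : B (DerivedCategory.Q.map v) = DerivedCategory.Q.map f₁ ≫ inv (DerivedCategory.Q.map θ) := by
        simp only [B, f₁, Category.assoc, Functor.map_comp]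
        rw [reassoc_of% n2, Iso.inv_hom_id_app_assoc]
      let c1 := ((DTen.extCx g).map aug ≫ piMap sq Am) ≫ (DTen.resCx φ').map v
      have hinner : Jaug.hom ≫ (DRing.restrictD φ').map (DerivedCategory.Q.map v) ≫ ε₀ =
          DerivedCategory.Q.map c1 ≫ inv (DerivedCategory.Q.map c2) ≫ DerivedCategory.Q.map c3 := by
        simp only [Jaug, ε₀, c1, Iso.trans_hom, asIso_hom, Iso.symm_hom, Iso.app_inv, Category.assoc, Functor.map_comp]
        rw [reassoc_of% n1, Iso.inv_hom_id_app_assoc]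
      have hg : ∀ {K K' : DRing.Cx P'} (c : K ⟶ K'), (DRing.restrictD g).map (DerivedCategory.Q.map c) =
          (DTen.resFactors g).hom.app K ≫ DerivedCategory.Q.map ((DTen.resCx g).map c) ≫
            (DTen.resFactors g).inv.app K' := fun c => by
        have n := (DTen.resFactors g).hom.naturality c
        simp only [Functor.comp_map] at n
        rw [← reassoc_of% n, Iso.hom_inv_id_app]
        exact (Category.comp_id _).symm
      have hginv : (DRing.restrictD g).map (inv (DerivedCategory.Q.map c2)) =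
          (DTen.resFactors g).hom.app _ ≫ inv (DerivedCategory.Q.map ((DTen.resCx g).map c2)) ≫
            (DTen.resFactors g).inv.app _ := by
        rw [Functor.map_inv, IsIso.inv_eq_of_hom_inv_id]
        rw [hg]
        simp
      have hfψ : ∀ {K K' : DRing.Cx A} (c : K ⟶ K'), (DRing.restrictD φ).map (DerivedCategory.Q.map c) =
          (DTen.resFactors φ).hom.app K ≫ DerivedCategory.Q.map ((DTen.resCx φ).map c) ≫
            (DTen.resFactors φ).inv.app K' := fun c => by
        have n := (DTen.resFactors φ).hom.naturality c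
        simp only [Functor.comp_map] at n
        rw [← reassoc_of% n, Iso.hom_inv_id_app]
        exact (Category.comp_id _).symm
      have hfinv : (DRing.restrictD φ).map (inv (DerivedCategory.Q.map θ)) =
          (DTen.resFactors φ).hom.app _ ≫ inv (DerivedCategory.Q.map ((DTen.resCx φ).map θ)) ≫
            (DTen.resFactors φ).inv.app _ := by
        rw [Functor.map_inv, IsIso.inv_eq_of_hom_inv_id]
        rw [hfψ]
        simp
      have hlhs : L ((DRing.restrictD φ').map (DerivedCategory.Q.map v) ≫ ε₀) =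
          DerivedCategory.Q.map ((DTen.unitCx g).app E ≫ (DTen.resCx g).map c1) ≫
            inv (DerivedCategory.Q.map ((DTen.resCx g).map c2)) ≫ DerivedCategory.Q.map ((DTen.resCx g).map c3) := by
        simp only [L]
        rw [hinner]
        simp only [Functor.map_comp, Category.assoc]
        rw [hg, hginv, hg]
        simp
        erw [Iso.inv_hom_id_app_assoc]
      have hrhs : W.hom ≫ (DRing.restrictD φ).map (B (DerivedCategory.Q.map v)) ≫ τ =
          DerivedCategory.Q.map (aug ≫ (DTen.resCx φ).map f₁) ≫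
            inv (DerivedCategory.Q.map ((DTen.resCx φ).map θ)) ≫
              inv (DerivedCategory.Q.map (ζ ▷ S ≫ pfCx φ Y S)) ≫
                DerivedCategory.Q.map (ε ▷ S ≫ (λ_ S).hom) := by
        simp only [hB', W, τ, Iso.trans_hom, asIso_hom, Iso.symm_hom, Iso.app_inv, Functor.map_comp, Category.assoc]
        rw [hfψ, hfinv]
        simp only [Category.assoc, Functor.map_comp]
        erw [Iso.inv_hom_id_app_assoc, Iso.inv_hom_id_app_assoc, Iso.inv_hom_id_app_assoc]
      show L ((DRing.restrictD φ').map (DerivedCategory.Q.map v) ≫ ε₀) = _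
      rw [hlhs, hrhs]
      have k1 : ((DTen.unitCx g).app E ≫ (DTen.resCx g).map c1) ≫ (compIso sq Y').inv =
          aug ≫ (DTen.resCx φ).map f₁ := by
        have hu := (DTen.unitCx g).naturality aug
        simp only [Functor.id_map, Functor.comp_map] at hu
        simp only [c1, f₁, Functor.map_comp, Category.assoc]
        rw [← reassoc_of% hu, reassoc_of% (unit_piMap sq Am), ← reassoc_of% (compIso_natural sq v),
          Iso.hom_inv_id, Category.comp_id]
      have k2 : nMap g Z ≫ (DTen.resCx g).map c2 =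
          (ζ ▷ S ≫ pfCx φ Y S) ≫ (DTen.resCx φ).map θ ≫ (compIso sq Y').hom := by
        simp only [c2, Functor.map_comp, Category.assoc]
        rw [← reassoc_of% (nMap_natural g ζ), reassoc_of% (theta_square sq Y), Iso.inv_hom_id, Category.comp_id]
      have key2 : inv (DerivedCategory.Q.map ((DTen.resCx g).map c2)) =
          DerivedCategory.Q.map (compIso sq Y').inv ≫ inv (DerivedCategory.Q.map ((DTen.resCx φ).map θ)) ≫
            inv (DerivedCategory.Q.map (ζ ▷ S ≫ pfCx φ Y S)) ≫ DerivedCategory.Q.map (nMap g Z) := by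
        apply IsIso.inv_eq_of_hom_inv_id
        haveI : IsIso (nMap g Z) := inferInstance
        rw [← cancel_epi (DerivedCategory.Q.map (nMap g Z)), Category.comp_id, ← Category.assoc, ← Functor.map_comp, k2,
          Functor.map_comp DerivedCategory.Q (ζ ▷ S ≫ pfCx φ Y S) ((DTen.resCx φ).map θ ≫ (compIso sq Y').hom),
          Functor.map_comp DerivedCategory.Q ((DTen.resCx φ).map θ) (compIso sq Y').hom]
        simp only [Category.assoc]
        rw [← Functor.map_comp_assoc DerivedCategory.Q (compIso sq Y').hom, Iso.hom_inv_id,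
          CategoryTheory.Functor.map_id, Category.id_comp, IsIso.hom_inv_id_assoc, IsIso.hom_inv_id_assoc]
      rw [← k1, ← nMap_counit g ε, key2]
      simp only [Functor.map_comp, Category.assoc, c3]
    have := hLR ▸ hRhs
    exact (hL.of_comp_iff' _).1 this
  haveI : IsIso β := Shriek42.isIso_of_bijective β fun m => by
    let eh : ModuleCat.of A' A' ≅ (DTen.extM h).obj (ModuleCat.of A A) :=
      ((ext_tensorIso A' (ModuleCat.of A A)).some ≪≫
        (TensorProduct.AlgebraTensorModule.rid A A' A').toModuleIso).symm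
    let i : (Dual.inD A' A')⟦m⟧ ≅ DerivedCategory.Q.obj ((DTen.extCx h).obj
        ((HomologicalComplex.single (ModuleCat.{u} A) (ComplexShape.up ℤ) (-m)).obj (ModuleCat.of A A))) :=
      (((DerivedCategory.singleFunctors (ModuleCat.{u} A')).shiftIso m (-m) 0 (by omega)).app _) ≪≫
        (DerivedCategory.singleFunctorIsoCompQ (ModuleCat.{u} A') (-m)).app _ ≪≫
        DerivedCategory.Q.mapIso ((HomologicalComplex.single _ _ (-m)).mapIso eh ≪≫
          ((HomologicalComplex.singleMapHomologicalComplex (DTen.extM h) (ComplexShape.up ℤ) (-m)).app _).symm)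
    have hfun : (fun x : (Dual.inD A' A')⟦m⟧ ⟶ DerivedCategory.Q.obj Y' => x ≫ β) =
        (fun y => i.hom ≫ adj'.homEquiv _ _ y) ∘ (fun u => (DRing.restrictD φ').map u ≫ ε₀) ∘
          (fun x => i.inv ≫ x) := by
      funext x
      simp only [Function.comp_apply, β]
      rw [Adjunction.homEquiv_naturality_left, Category.assoc, Iso.hom_inv_id_assoc]
    rw [hfun]
    exact (i.symm.homFromEquiv.bijective.comp (adj'.homEquiv _ _).bijective).comp
      ((hbij (-m)).comp i.homFromEquiv.bijective)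
  have hYk : DRing.IsKFlat A Y := isKFlat_of_flat b hYv fun i => by
    haveI : Module.Free A (Y.X i) := hYfree i
    infer_instance
  exact ⟨(DRing.LBaseChange h).mapIso eY.symm ≪≫ LBaseChangeIso h Y hYk ≪≫
    asIso β ≪≫ Rψ'.mapIso e1'⟩

end Main

end Groth.Agent.DR39.TorBC
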