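import Groth.Agent.DR39.HasRHom
import Groth.Agent.DR39.ShriekTensor
import Groth.Agent.DR39.TorBC
import Groth.Agent.DTen43.EvalTenPC
import Groth.Agent.Shriek42.Calc

/-! Internal homs, shifts and the base change along a flat coprojection followed by a section. -/

set_option autoImplicit false
set_option linter.style.haveILetI false
set_option linter.unusedSectionVars false

universe u

open CategoryTheory CategoryTheory.Limits MonoidalCategory

attribute [local instance] HasDerivedCategory.standard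

namespace Groth.Agent.DR39.RelDual

open Groth.Agent.DTen43

section One

variable {A : Type u} [CommRing A] [DTen.HasLTen A] [DTen.HasLTen₃ A] [DTen.IsSymMonoidal A] [DTen.HasRHom A]

/-- The unit object as a module in degree zero. -/
noncomputable def unitIso (A : Type u) [CommRing A] : DTen.unit A ≅ Dual.inD A A :=
  ((DerivedCategory.singleFunctorIsoCompQ (ModuleCat.{u} A) 0).app (ModuleCat.of A A)).symm

theorem perfect_unit (A : Type u) [CommRing A] : DRing.IsPerfect A (DTen.unit A) :=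
  perfect_of_iso ((perfect_iff_rep _).2 ⟨0, 0, (Rep.single isModClass_FP 0 (M := ModuleCat.of A A)
    ⟨inferInstance, inferInstance⟩).mono (by simp)⟩) (unitIso A).symm

theorem nonempty_rhom_congr {X X' : Dual.D A} (g : X ≅ X') (M : Dual.D A) :
    Nonempty ((DTen.RHomR A X').obj M ≅ (DTen.RHomR A X).obj M) :=
  ⟨((DTen.RHom A).mapIso g.op).app M⟩

/-- `RHom` out of the unit is the identity. -/
theorem nonempty_rhom_unit (M : Dual.D A) :
    Nonempty ((DTen.RHomR A (𝟙_ (Dual.D A))).obj M ≅ M) := by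
  let i : DTen.tensorRightD A (𝟙_ (Dual.D A)) ≅ 𝟭 (Dual.D A) :=
    NatIso.ofComponents (fun Z => (ρ_ Z)) fun {Z Z'} f => rightUnitor_naturality f
  exact ⟨(((DTen.rhomAdj A (𝟙_ (Dual.D A)))).rightAdjointUniq (Adjunction.id.ofNatIsoLeft i.symm)).app M⟩

theorem nonempty_shift_tensor_unit (M : Dual.D A) (n : ℤ) :
    Nonempty (M⟦n⟧ ≅ (𝟙_ (Dual.D A))⟦n⟧ ⊗ M) := by
  obtain ⟨s⟩ := exists_shift_tensor (𝟙_ (Dual.D A)) M n
  exact ⟨(shiftFunctor (Dual.D A) n).mapIso (λ_ M).symm ≪≫ s⟩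

/-- `RHom(X, -)` commutes with shifts. -/
theorem nonempty_rhom_shift (X M : Dual.D A) (n : ℤ) :
    Nonempty (((DTen.RHomR A X).obj M)⟦n⟧ ≅ (DTen.RHomR A X).obj (M⟦n⟧)) := by
  let U : Dual.D A := (𝟙_ (Dual.D A))⟦n⟧
  haveI := isIso_evalTen_left U M X (perfect_shift (perfect_unit A) n)
  obtain ⟨a⟩ := nonempty_shift_tensor_unit ((DTen.RHomR A X).obj M) n
  obtain ⟨b⟩ := nonempty_shift_tensor_unit M n
  exact ⟨a ≪≫ asIso (DTen.evalTen U M X) ≪≫ (DTen.RHomR A X).mapIso b.symm⟩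

end One

section Adjoint

variable {S T : Type u} [CommRing S] [CommRing T] (φ : S →+* T)
variable [DTen.HasLTen S] [DTen.HasLTen T] [DTen.HasLBase φ] [DTen.HasResTen φ] [DTen.ResLegIso φ]
variable [DTen.HasLTen₃ S] [DTen.IsSymMonoidal S] [DTen.HasLTen₃ T] [DTen.IsSymMonoidal T]
variable [DTen.HasRHom S] [DTen.HasRHom T]

/-- A right adjoint of restriction turns `RHom(Y, -)` into `RHom` out of the base change. -/
theorem nonempty_rhom_rightAdjoint {Rφ : Dual.D S ⥤ Dual.D T} (adj : DRing.restrictD φ ⊣ Rφ) (Y M : Dual.D S) :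
    Nonempty (Rφ.obj ((DTen.RHomR S Y).obj M) ≅
      (DTen.RHomR T ((DTen.LBase φ).obj Y)).obj (Rφ.obj M)) := by
  let i : DRing.restrictD φ ⋙ DTen.tensorRightD S Y ≅
      DTen.tensorRightD T ((DTen.LBase φ).obj Y) ⋙ DRing.restrictD φ :=
    NatIso.ofComponents (fun Z => @asIso _ _ _ _ (projD φ Z Y) (isIso_projD φ Z Y))
      fun {Z Z'} f => TorBC.projD_natural φ f Y
  exact ⟨((adj.comp (DTen.rhomAdj S Y)).rightAdjointUniq
    (((DTen.rhomAdj T ((DTen.LBase φ).obj Y)).comp adj).ofNatIsoLeft i.symm)).app M⟩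

theorem nonempty_lbase_lb [DRing.HasLBaseChange φ] (X : Dual.D S) :
    Nonempty ((DTen.LBase φ).obj X ≅ (DRing.LBaseChange φ).obj X) :=
  ⟨((DTen.baseAdj φ).leftAdjointUniq (Shriek42.lbAdj φ)).app X⟩

end Adjoint

/-- The base change along a composite equal to the identity. -/
theorem nonempty_lbase_id {A S : Type u} [CommRing A] [CommRing S] (i : A →+* S) (μ : S →+* A)
    [DTen.HasLBase i] [DTen.HasLBase μ] (h : μ.comp i = RingHom.id A) (X : Dual.D A) :
    Nonempty ((DTen.LBase μ).obj ((DTen.LBase i).obj X) ≅ X) := by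
  let a := (DTen.baseAdj i).comp (DTen.baseAdj μ)
  let e : DRing.restrictD μ ⋙ DRing.restrictD i ≅ 𝟭 (Dual.D A) :=
    (Shriek42.restrictCompIso (φ := i) (ψ := μ) rfl).symm ≪≫ Shriek42.restrictIdIso h
  exact ⟨((a.ofNatIsoRight e).leftAdjointUniq Adjunction.id).app X⟩

/-- `RHom_S(A, RHom_A(X, ω) ⊗ S) = RHom_A(X, RHom_S(A, ω ⊗ S))` for a flat algebra `S` with a section. -/
theorem nonempty_rightAdjoint_rhom {A S : Type u} [CommRing A] [CommRing S] [Algebra A S] [Module.Flat A S]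
    [DTen.HasLTen A] [DTen.HasLTen₃ A] [DTen.IsSymMonoidal A] [DTen.HasRHom A]
    (i : A →+* S) (hi : i = algebraMap A S) (μ : S →+* A) (hμ : μ.comp i = RingHom.id A)
    [DRing.HasLBaseChange i] {Rμ : Dual.D S ⥤ Dual.D A} (adj : DRing.restrictD μ ⊣ Rμ)
    (X ω : Dual.D A) (hX : DRing.IsPseudoCoherent' A X) (n : ℤ) (hω : DerivedCategory.IsGE ω n) :
    Nonempty (Rμ.obj ((DRing.LBaseChange i).obj ((DTen.RHomR A X).obj ω)) ≅
      (DTen.RHomR A X).obj (Rμ.obj ((DRing.LBaseChange i).obj ω))) := by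
  subst hi
  let i := algebraMap A S
  haveI := hasLTen (A := S)
  haveI := hasLTen₃ S
  haveI := isSymMonoidal S
  haveI := hasRHom (A := S)
  haveI := hasLBase i
  haveI := hasResTen i
  haveI := resLegIso i
  haveI := hasLBase μ
  haveI := hasResTen μ
  haveI := resLegIso μ
  haveI := isIso_rhomBC i X ((DTen.LBase i).obj ω)
  haveI := isIso_evalTen_of_pseudoCoherent
    ((ta_inD_of_flat (A := A) S).of_iso (restrictUnitIso A S).symm) X ω hX n hω
  haveI := isIso_bcRHom_of_isIso_evalTen i X ω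
  obtain ⟨a⟩ := nonempty_lbase_lb i ((DTen.RHomR A X).obj ω)
  obtain ⟨b⟩ := nonempty_lbase_lb i ω
  obtain ⟨c⟩ := nonempty_rhom_rightAdjoint μ adj ((DTen.LBase i).obj X) ((DTen.LBase i).obj ω)
  obtain ⟨d⟩ := nonempty_lbase_id i μ hμ X
  obtain ⟨g⟩ := nonempty_rhom_congr d.symm (Rμ.obj ((DTen.LBase i).obj ω))
  exact ⟨Rμ.mapIso (a.symm ≪≫ asIso (DTen.bcRHom i X ω)) ≪≫ c ≪≫ g ≪≫
    (DTen.RHomR A X).mapIso (Rμ.mapIso b)⟩

end Groth.Agent.DR39.RelDual
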