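import Groth.Agent.DR39.PC2
import Mathlib.LinearAlgebra.Finsupp.LinearCombination
import Mathlib.LinearAlgebra.FreeModule.Finite.Basic

/-! Bounded above free resolutions, finite in case the complex is pseudo-coherent. -/

set_option autoImplicit false
set_option linter.style.haveILetI false
set_option linter.unusedSectionVars false

universe u

open CategoryTheory CategoryTheory.Limits CategoryTheory.Pretriangulated

attribute [local instance] HasDerivedCategory.standard

namespace Groth.Agent.DR39.Res

variable {A : Type u} [CommRing A]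

/-- One level of a resolution. -/
structure Lev (K : DRing.Cx A) (i : ℤ) where
  P : ModuleCat.{u} A
  free : Module.Free A P
  f : P →ₗ[A] K.X i
  Z : Submodule A P
  cyc : ∀ z ∈ Z, (K.d i (i + 1)).hom (f z) = 0
  surj : ∀ y : K.X i, (K.d i (i + 1)).hom y = 0 →
    ∃ z ∈ Z, f z - y ∈ LinearMap.range (K.d (i - 1) i).hom

variable {K : DRing.Cx A}

/-- The level in a degree where `K` is acyclic. -/
noncomputable def triv (i : ℤ) (hK : IsZero (K.homology i)) : Lev K i where
  P := ModuleCat.of A PUnit
  free := Module.Free.of_subsingleton A _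
  f := 0
  Z := ⊤
  cyc := fun _ _ => map_zero _
  surj y hy := ⟨0, trivial, by
    rw [map_zero, zero_sub]
    exact Submodule.neg_mem _ ((isZero_homology_iff K i).1 hK y hy)⟩

variable {i : ℤ} (l' : Lev K (i + 1))

/-- Pairs compatible with the next level. -/
def W : Submodule A (K.X i × l'.P) :=
  l'.Z.comap (LinearMap.snd A _ _) ⊓
    LinearMap.ker ((K.d i (i + 1)).hom ∘ₗ LinearMap.fst A _ _ - l'.f ∘ₗ LinearMap.snd A _ _)

theorem mem_W (w : K.X i × l'.P) :
    w ∈ W l' ↔ w.2 ∈ l'.Z ∧ (K.d i (i + 1)).hom w.1 = l'.f w.2 := by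
  simp [W, sub_eq_zero]

/-- Irrelevant pairs. -/
def Bd : Submodule A (K.X i × l'.P) := (LinearMap.range (K.d (i - 1) i).hom).prod ⊥

theorem mem_Bd (w : K.X i × l'.P) :
    w ∈ Bd l' ↔ w.1 ∈ LinearMap.range (K.d (i - 1) i).hom ∧ w.2 = 0 := by
  simp [Bd, Submodule.mem_prod]

/-- Generators of pairs. -/
structure Gen where
  P : ModuleCat.{u} A
  free : Module.Free A P
  g : P →ₗ[A] K.X i × l'.P
  memW : ∀ p, g p ∈ W l'
  gen : ∀ w ∈ W l', ∃ p, w - g p ∈ Bd l'

open Classical in
/-- A choice of generators, finite if possible. -/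
noncomputable def gens : Gen l' :=
  if h : ∃ G : Gen l', Module.Finite A G.P then h.choose else
    { P := ModuleCat.of A (W l' →₀ A)
      free := inferInstanceAs (Module.Free A (W l' →₀ A))
      g := (W l').subtype ∘ₗ Finsupp.linearCombination A id
      memW := fun p => (Finsupp.linearCombination A id p).2
      gen := fun w hw => ⟨Finsupp.single ⟨w, hw⟩ 1, by simp⟩ }

theorem finite_gens (h : ∃ G : Gen l', Module.Finite A G.P) : Module.Finite A (gens l').P := by
  unfold gens
  rw [dif_pos h]
  exact h.choose_spec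

/-- The next level. -/
noncomputable def next : Lev K i where
  P := (gens l').P
  free := (gens l').free
  f := LinearMap.fst A _ _ ∘ₗ (gens l').g
  Z := LinearMap.ker (LinearMap.snd A _ _ ∘ₗ (gens l').g)
  cyc z hz := by
    obtain ⟨-, h⟩ := (mem_W l' _).1 ((gens l').memW z)
    exact h.trans ((congrArg l'.f hz).trans (map_zero _))
  surj y hy := by
    obtain ⟨p, hp⟩ := (gens l').gen (y, 0) ((mem_W l' _).2 ⟨Submodule.zero_mem _, by simp [hy]⟩)
    rw [mem_Bd] at hp
    refine ⟨p, ?_, ?_⟩
    · simpa [LinearMap.mem_ker, sub_eq_zero, eq_comm] using hp.2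
    · have := Submodule.neg_mem _ hp.1
      simpa using this

/-- The relation of consecutive levels. -/
structure Step (l : Lev K i) where
  d : l.P →ₗ[A] l'.P
  mem : ∀ p, d p ∈ l'.Z
  ker : ∀ p, p ∈ l.Z ↔ d p = 0
  comm : ∀ p, (K.d i (i + 1)).hom (l.f p) = l'.f (d p)
  inj : ∀ z ∈ l'.Z, l'.f z ∈ LinearMap.range (K.d i (i + 1)).hom → ∃ p, d p = z

/-- The step to the next level. -/
noncomputable def nextStep : Step l' (next l') where
  d := LinearMap.snd A _ _ ∘ₗ (gens l').g
  mem p := ((mem_W l' _).1 ((gens l').memW p)).1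
  ker p := Iff.rfl
  comm p := ((mem_W l' _).1 ((gens l').memW p)).2
  inj z hz hf := by
    obtain ⟨y, hy⟩ := hf
    obtain ⟨p, hp⟩ := (gens l').gen (y, z) ((mem_W l' _).2 ⟨hz, hy⟩)
    rw [mem_Bd] at hp
    exact ⟨p, (sub_eq_zero.1 hp.2).symm⟩

variable (K) (b : ℤ) (hb : ∀ j, b < j → IsZero (K.homology j))

/-- All levels. -/
noncomputable def lev (i : ℤ) : Lev K i :=
  if h : b < i then triv i (hb i h) else next (lev (i + 1))
termination_by (b + 1 - i).toNat
decreasing_by omega

theorem lev_of_le {i : ℤ} (h : i ≤ b) : lev K b hb i = next (lev K b hb (i + 1)) := by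
  rw [lev, dif_neg (by omega)]

theorem lev_of_lt {i : ℤ} (h : b < i) : lev K b hb i = triv i (hb i h) := by
  rw [lev, dif_pos h]

theorem subsingleton_of_lt {i : ℤ} (h : b < i) : Subsingleton (lev K b hb i).P := by
  rw [lev_of_lt K b hb h]
  exact inferInstanceAs (Subsingleton PUnit)

theorem nonempty_step (i : ℤ) : Nonempty (Step (lev K b hb (i + 1)) (lev K b hb i)) := by
  by_cases h : i ≤ b
  · rw [lev_of_le K b hb h]
    exact ⟨nextStep _⟩
  · rw [lev_of_lt K b hb (show b < i by omega), lev_of_lt K b hb (show b < i + 1 by omega)]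
    exact ⟨{ d := 0
             mem := fun _ => trivial
             ker := fun _ => ⟨fun _ => rfl, fun _ => trivial⟩
             comm := fun _ => (map_zero (K.d i (i + 1)).hom : (K.d i (i + 1)).hom 0 = 0)
             inj := fun z _ _ => ⟨0, Subsingleton.elim (α := PUnit) _ _⟩ }⟩

/-- The chosen step. -/
noncomputable def step (i : ℤ) : Step (lev K b hb (i + 1)) (lev K b hb i) :=
  (nonempty_step K b hb i).some

/-- The resolution. -/
noncomputable def cx : DRing.Cx A :=
  CochainComplex.of (fun i => (lev K b hb i).P) (fun i => ModuleCat.ofHom (step K b hb i).d)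
    fun i => ModuleCat.hom_ext (LinearMap.ext fun p =>
      ((step K b hb (i + 1)).ker _).1 ((step K b hb i).mem p))

theorem cx_d (i : ℤ) : (cx K b hb).d i (i + 1) = ModuleCat.ofHom (step K b hb i).d := by
  unfold cx
  exact CochainComplex.of_d (fun i => (lev K b hb i).P)
    (fun i => ModuleCat.ofHom (step K b hb i).d) i

/-- The augmentation. -/
noncomputable def aug : cx K b hb ⟶ K where
  f i := ModuleCat.ofHom (lev K b hb i).f
  comm' i j hij := by
    change i + 1 = j at hij
    subst hij
    rw [cx_d]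
    exact ModuleCat.hom_ext (LinearMap.ext (step K b hb i).comm)

theorem vanishesAbove : DRing.VanishesAbove (cx K b hb) b := fun i hi =>
  haveI := subsingleton_of_lt K b hb hi
  ModuleCat.isZero_of_subsingleton (lev K b hb i).P

theorem free (i : ℤ) : Module.Free A ((cx K b hb).X i) := (lev K b hb i).free

theorem quasiIso_aug : QuasiIso (aug K b hb) := by
  refine ⟨fun i => quasiIsoAt_of_elements _ _ ?_ ?_⟩
  · obtain ⟨j, rfl⟩ : ∃ j, i = j + 1 := ⟨i - 1, by omega⟩
    intro x hx y hy
    rw [cx_d] at hx
    obtain ⟨p, hp⟩ := (step K b hb j).inj x (((step K b hb (j + 1)).ker x).2 hx) (by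
      refine ⟨(K.XIsoOfEq (show j + 1 - 1 = j by omega)).hom y, ?_⟩
      rw [← LinearMap.comp_apply, ← ModuleCat.hom_comp, HomologicalComplex.XIsoOfEq_hom_comp_d]
      exact hy)
    refine ⟨((cx K b hb).XIsoOfEq (show j = j + 1 - 1 by omega)).hom p, ?_⟩
    rw [← LinearMap.comp_apply, ← ModuleCat.hom_comp, HomologicalComplex.XIsoOfEq_hom_comp_d, cx_d]
    exact hp
  · intro z hz
    obtain ⟨x, hx, hxz⟩ := (lev K b hb i).surj z hz
    refine ⟨x, ?_, hxz⟩
    rw [cx_d]
    exact ((step K b hb i).ker x).1 hx

/-- If the cohomology of `K` is pseudo-coherent, all levels are finite. -/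
theorem finite_of_pc (m₀ : ℤ) (hpc : ∀ m, m₀ ≤ m → PC m ((QA A).obj K)) (i : ℤ) (hi₀ : m₀ ≤ i) :
    Module.Finite A ((cx K b hb).X i) := by
  suffices key : ∀ (k : ℕ) (j : ℤ), m₀ ≤ j → b < j + k → Module.Finite A ((cx K b hb).X j) from
    key (b - i + 1).toNat i hi₀ (by omega)
  intro k
  induction k with
  | zero => exact fun j _ hj => finite_of_isZero (vanishesAbove K b hb j (by omega))
  | succ k ih =>
    intro i hi₀ hi
    by_cases hib : b < i
    · exact finite_of_isZero (vanishesAbove K b hb i hib)
    suffices h : ∃ G : Gen (lev K b hb (i + 1)), Module.Finite A G.P by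
      show Module.Finite A (lev K b hb i).P
      rw [lev_of_le K b hb (by omega)]
      exact finite_gens _ h
    let E := cx K b hb
    let n := i + 1
    let g : cutGE E n ⟶ K := cutι E n ≫ aug K b hb
    haveI := quasiIso_aug K b hb
    have hbff : BFF ((QA A).obj (cutGE E n)) := by
      refine ⟨n, b, cutGE E n, fun j hj => ?_, fun j => ?_, ⟨Iso.refl _⟩⟩
      · rw [Set.mem_Icc, not_and_or, not_le, not_le] at hj
        rcases hj with hj | hj
        · exact isZero_cutGE E hj
        · exact isZero_cutGE_of_isZero E (vanishesAbove K b hb j hj)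
      · by_cases hj : n ≤ j
        · haveI : IsIso ((cutι E n).f j) := (isIso_iff_bijective _).2 (cutι_bijective E hj)
          exact isModClass_FF.of_iso (asIso ((cutι E n).f j)).symm
            ⟨ih j (by omega) (by omega), free K b hb j⟩
        · exact isModClass_FF.of_isZero (isZero_cutGE E (by omega))
    let T := (QA A).mapTriangle.obj (CochainComplex.mappingCone.triangle g)
    have hT : T ∈ distinguishedTriangles := DerivedCategory.mappingCone_triangle_distinguished g
    have hacyc : Acyc n T.obj₃ := (approx_iff_acyc T hT n).1 (by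
      show Approx n ((QA A).map g)
      rw [Functor.map_comp]
      exact (approx_cutι E n).comp (Approx.of_isIso n _))
    have hfin : Module.Finite A ((CochainComplex.mappingCone g).homology i) := by
      haveI : Module.Finite A ((HF A i).obj ((QA A).obj (CochainComplex.mappingCone g))) :=
        finite_HF_top (m := i) (PC.obj₃ hT (pc_of_bff hbff) (hpc i hi₀)) hacyc
      exact Module.Finite.equiv (HQIso (CochainComplex.mappingCone g) i).toLinearEquiv
    let C := CochainComplex.mappingCone g
    let fs : C.X i →ₗ[A] (cutGE E n).X n :=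
      ((CochainComplex.mappingCone.fst g).1.v i n rfl).hom
    let sn : C.X i →ₗ[A] K.X i :=
      ((CochainComplex.mappingCone.snd g).v i i (add_zero i)).hom
    let ψ : C.X i →ₗ[A] K.X i × (lev K b hb n).P :=
      (-sn).prod (((cutι E n).f n).hom ∘ₗ fs)
    have hd : ∀ v : C.X i, (C.d i n).hom v = 0 ↔ ψ v ∈ W (lev K b hb n) := by
      intro v
      have e1 : ((CochainComplex.mappingCone.fst g).1.v n (n + 1) rfl).hom ((C.d i n).hom v) =
          -((cutGE E n).d n (n + 1)).hom (fs v) := by
        refine (congrArg (fun F : C.X i ⟶ (cutGE E n).X (n + 1) => F.hom v)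
          (CochainComplex.mappingCone.d_fst_v g i n (n + 1) rfl rfl)).trans ?_
        simp [fs]
      have e2 : ((CochainComplex.mappingCone.snd g).v n n (add_zero n)).hom ((C.d i n).hom v) =
          (g.f n).hom (fs v) + (K.d i n).hom (sn v) :=
        congrArg (fun F : C.X i ⟶ K.X n => F.hom v) (CochainComplex.mappingCone.d_snd_v g i n rfl)
      have hzero : (C.d i n).hom v = 0 ↔
          ((CochainComplex.mappingCone.fst g).1.v n (n + 1) rfl).hom ((C.d i n).hom v) = 0 ∧
          ((CochainComplex.mappingCone.snd g).v n n (add_zero n)).hom ((C.d i n).hom v) = 0 := by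
        refine ⟨fun h => by simp [h], fun ⟨h1, h2⟩ => ?_⟩
        have := congrArg (fun F : C.X n ⟶ C.X n => F.hom ((C.d i n).hom v))
          (CochainComplex.mappingCone.id_X g n (n + 1) rfl)
        simp only [ModuleCat.hom_add, ModuleCat.hom_comp, LinearMap.add_apply, LinearMap.comp_apply,
          ModuleCat.hom_id, LinearMap.id_apply, h1, h2, map_zero, add_zero] at this
        exact this.symm
      rw [hzero, e1, e2, mem_W, neg_eq_zero]
      refine and_congr ?_ ?_
      · rw [((step K b hb n).ker _)]
        constructor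
        · intro h
          have := congrArg (((cutι E n).f (n + 1)).hom) h
          rw [f_apply_d, map_zero, cx_d] at this
          exact this
        · intro h
          apply (cutι_bijective E (show n ≤ n + 1 by omega)).1
          rw [f_apply_d, map_zero, cx_d]
          exact h
      · show (lev K b hb n).f (((cutι E n).f n).hom (fs v)) + (K.d i n).hom (sn v) = 0 ↔
          (K.d i (i + 1)).hom (-sn v) = (lev K b hb n).f (((cutι E n).f n).hom (fs v))
        rw [map_neg, neg_eq_iff_add_eq_zero, add_comm]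
    have hB : ∀ v : Zd C i, hcls C i v = 0 → ψ v ∈ Bd (lev K b hb n) := by
      intro v hv
      obtain ⟨w, hw⟩ := (hcls_eq_zero_iff C i v).1 hv
      have hw0 : ((CochainComplex.mappingCone.fst g).1.v (i - 1) i (by omega)).hom w = 0 := by
        haveI := ModuleCat.subsingleton_of_isZero (isZero_cutGE E (show i < n by omega))
        exact Subsingleton.elim _ _
      have e1 : fs ((C.d (i - 1) i).hom w) = 0 := by
        refine (congrArg (fun F : C.X (i - 1) ⟶ (cutGE E n).X n => F.hom w)
          (CochainComplex.mappingCone.d_fst_v g (i - 1) i n (by omega) rfl)).trans ?_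
        simp [hw0]
      have e2 : sn ((C.d (i - 1) i).hom w) =
          (K.d (i - 1) i).hom (((CochainComplex.mappingCone.snd g).v (i - 1) (i - 1) (add_zero _)).hom w) := by
        refine (congrArg (fun F : C.X (i - 1) ⟶ K.X i => F.hom w)
          (CochainComplex.mappingCone.d_snd_v g (i - 1) i (by omega))).trans ?_
        simp [hw0]
      rw [mem_Bd, ← hw]
      refine ⟨?_, ?_⟩
      · exact Submodule.neg_mem _ ⟨_, e2.symm⟩
      · show ((cutι E n).f n).hom (fs ((C.d (i - 1) i).hom w)) = 0
        rw [e1, map_zero]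
    obtain ⟨k', q, hq⟩ := Module.Finite.exists_fin' A (C.homology i)
    obtain ⟨γ, hγ⟩ := Module.projective_lifting_property (hcls C i) q (hcls_surjective C i)
    refine ⟨{ P := ModuleCat.of A (Fin k' → A)
              free := inferInstanceAs (Module.Free A (Fin k' → A))
              g := ψ ∘ₗ (Zd C i).subtype ∘ₗ γ
              memW := fun p => (hd _).1 (γ p).2
              gen := fun w hw => ?_ }, (inferInstance : Module.Finite A (Fin k' → A))⟩
    obtain ⟨z', hz'⟩ := (cutι_bijective E (le_refl n)).2 w.2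
    let v : C.X i := ((CochainComplex.mappingCone.inl g).v n i (by omega)).hom z' -
      ((CochainComplex.mappingCone.inr g).f i).hom w.1
    have hψ : ψ v = w := by
      have a1 : fs v = z' := by
        simp only [v, map_sub, fs]
        erw [congrArg (fun F : (cutGE E n).X n ⟶ (cutGE E n).X n => F.hom z')
            (CochainComplex.mappingCone.inl_v_fst_v g n i rfl),
          congrArg (fun F : K.X i ⟶ (cutGE E n).X n => F.hom w.1)
            (CochainComplex.mappingCone.inr_f_fst_v g i n rfl)]
        simp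
      have a2 : sn v = -w.1 := by
        simp only [v, map_sub, sn]
        erw [congrArg (fun F : (cutGE E n).X n ⟶ K.X i => F.hom z')
            (CochainComplex.mappingCone.inl_v_snd_v g n i (by omega)),
          congrArg (fun F : K.X i ⟶ K.X i => F.hom w.1)
            (CochainComplex.mappingCone.inr_f_snd_v g i)]
        simp
      refine Prod.ext ?_ ?_
      · show -sn v = w.1
        rw [a2, neg_neg]
      · show ((cutι E n).f n).hom (fs v) = w.2
        rw [a1, hz']
    have hv : (C.d i n).hom v = 0 := (hd v).2 (hψ ▸ hw)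
    obtain ⟨p, hp⟩ := hq (hcls C i ⟨v, hv⟩)
    refine ⟨p, ?_⟩
    have := hB (⟨v, hv⟩ - γ p) (by
      rw [map_sub, sub_eq_zero, ← hp]
      exact (LinearMap.congr_fun hγ p).symm)
    simpa [hψ] using this

end Groth.Agent.DR39.Res

namespace Groth.Agent.DR39

variable {A : Type u} [CommRing A]

/-- Free modules. -/
def FRp (M : ModuleCat.{u} A) : Prop := Module.Free A M

theorem rep_free_of_acyc {X : Dual.D A} {b : ℤ} (h : Acyc (b + 1) X) :
    Rep FRp (Set.Iic b) X := by
  obtain ⟨K, ⟨e⟩⟩ := exists_complex_iso X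
  have hb : ∀ j, b < j → IsZero (K.homology j) := fun j hj =>
    (isZero_HF_Q_iff K j).1 ((h j (by omega)).of_iso ((HF A j).mapIso e))
  haveI := Res.quasiIso_aug K b hb
  exact ⟨_, (vanishesAbove_iff _ b).1 (Res.vanishesAbove K b hb), Res.free K b hb,
    ⟨asIso ((QA A).map (Res.aug K b hb)) ≪≫ e⟩⟩

theorem baff_of_forall_pc {X : Dual.D A} {b : ℤ} (hX : Acyc (b + 1) X) (h : ∀ m, PC m X) :
    Rep FFp (Set.Iic b) X := by
  obtain ⟨K, ⟨e⟩⟩ := exists_complex_iso X
  have hb : ∀ j, b < j → IsZero (K.homology j) := fun j hj =>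
    (isZero_HF_Q_iff K j).1 ((hX j (by omega)).of_iso ((HF A j).mapIso e))
  haveI := Res.quasiIso_aug K b hb
  exact ⟨_, (vanishesAbove_iff _ b).1 (Res.vanishesAbove K b hb),
    fun i => ⟨Res.finite_of_pc K b hb i (fun m _ => (h m).of_iso e.symm) i le_rfl, Res.free K b hb i⟩,
    ⟨asIso ((QA A).map (Res.aug K b hb)) ≪≫ e⟩⟩

theorem exists_finite_free_above {X : Dual.D A} {b m : ℤ} (hX : Acyc (b + 1) X) (h : PC m X) :
    ∃ E : DRing.Cx A, DRing.VanishesAbove E b ∧ (∀ i, Module.Free A (E.X i)) ∧
      (∀ i, m ≤ i → Module.Finite A (E.X i)) ∧ Nonempty ((QA A).obj E ≅ X) := by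
  obtain ⟨K, ⟨e⟩⟩ := exists_complex_iso X
  have hb : ∀ j, b < j → IsZero (K.homology j) := fun j hj =>
    (isZero_HF_Q_iff K j).1 ((hX j (by omega)).of_iso ((HF A j).mapIso e))
  haveI := Res.quasiIso_aug K b hb
  exact ⟨_, Res.vanishesAbove K b hb, Res.free K b hb,
    Res.finite_of_pc K b hb m fun n hn => (h.mono hn).of_iso e.symm,
    ⟨asIso ((QA A).map (Res.aug K b hb)) ≪≫ e⟩⟩

theorem pc'_iff_forall_pc (X : Dual.D A) : DRing.IsPseudoCoherent' A X ↔ ∀ m, PC m X := by
  refine ⟨fun h m => pc_of_pc' h m, fun h => (pc'_iff X).2 ?_⟩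
  obtain ⟨b, hb⟩ := acyc_of_pc (h 0)
  exact ⟨b, baff_of_forall_pc (hb.mono (by omega)) h⟩

end Groth.Agent.DR39
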