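import Groth.Agent.DTen43.EvalTenPC
import Groth.Agent.DR39.Dualizing
import Groth.Agent.DR39.Resolution
import Groth.Agent.DR39.RelHom

/-! The evaluation map for finite cohomology and finite injective dimension. -/

set_option autoImplicit false
set_option linter.style.haveILetI false
set_option linter.unusedSectionVars false

universe u

open CategoryTheory CategoryTheory.Limits CategoryTheory.Pretriangulated MonoidalCategory

attribute [local instance] HasDerivedCategory.standard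

namespace Groth.Agent.DR39

open Groth.Agent.DTen43 Groth.Agent.DR39.RelDual

variable {A : Type u} [CommRing A]

theorem isIso_πTruncGE_f (P : DRing.Cx A) (m q : ℤ) (hq : m < q) :
    IsIso ((CochainComplex.πTruncGE P m).f q) := by
  obtain ⟨k, hk⟩ : ∃ k : ℕ, m + k = q := ⟨(q - m).toNat, by omega⟩
  let e := ComplexShape.embeddingUpIntGE m
  have hb : ¬ e.BoundaryGE k := by
    rw [ComplexShape.boundaryGE_embeddingUpIntGE_iff]
    omega
  exact (e.isIso_liftExtend_f_iff _ (P.restrictionToTruncGE'_hasLift e) (i := k) hk).2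
    (P.isIso_restrictionToTruncGE' e k hb)

variable [DTen.HasLTen A] [DTen.HasLTen₃ A] [DTen.IsSymMonoidal A]

/-- `X ⊗ u` is invertible in high degrees when `u` is, for `X` of finite tor amplitude. -/
theorem isIso_HF_whiskerLeft_high {a b : ℤ} {X : Dual.D A} (hX : TA a b X) {Y Z : Dual.D A} (u : Y ⟶ Z)
    (i : ℤ) (h : ∀ j, i - 2 - b ≤ j → IsIso ((HF A j).map u)) :
    IsIso ((HF A i).map (X ◁ u)) := by
  obtain ⟨F, hFv, hFl, ⟨eX⟩⟩ := hX
  have hF : DRing.IsKFlat A F := isKFlat_of_flat b (fun j hj => hFv j (Or.inr hj)) hFl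
  obtain ⟨P₀, ⟨eY⟩⟩ := exists_complex_iso Y
  obtain ⟨Q₀, ⟨eZ⟩⟩ := exists_complex_iso Z
  obtain ⟨P, s, hs, g, hg⟩ := DerivedCategory.right_fac (eY.hom ≫ u ≫ eZ.inv)
  haveI := hs
  let m : ℤ := i - 2 - b
  let eP : (QA A).obj P ≅ Y := asIso ((QA A).map s) ≪≫ eY
  have hu : (QA A).map g = eP.hom ≫ u ≫ eZ.inv := by
    show (QA A).map g = ((QA A).map s ≫ eY.hom) ≫ u ≫ eZ.inv
    rw [Category.assoc, hg]
    exact (IsIso.hom_inv_id_assoc _ _).symm
  have hg' : ∀ j, m ≤ j → QuasiIsoAt g j := fun j hj => by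
    rw [quasiIsoAt_iff_isIso_homologyMap, ← isIso_HF_Q_map_iff, hu, Functor.map_comp, Functor.map_comp]
    haveI := h j hj
    infer_instance
  haveI : QuasiIso (CochainComplex.truncGEMap g m) := (CochainComplex.quasiIso_truncGEMap_iff g m).2 hg'
  haveI h₁ : IsIso (HomologicalComplex.homologyMap (F ◁ CochainComplex.truncGEMap g m) i) := by
    rw [← isIso_HF_whisker_iff F hF]
    haveI : IsIso ((QA A).map (CochainComplex.truncGEMap g m)) :=
      (DerivedCategory.isIso_Q_map_iff_quasiIso _ _).2 inferInstance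
    infer_instance
  have hι : ∀ R : DRing.Cx A, IsIso (HomologicalComplex.homologyMap (F ◁ CochainComplex.πTruncGE R m) i) := by
    intro R
    have hf : ∀ n, i - 1 ≤ n → IsIso ((F ◁ CochainComplex.πTruncGE R m).f n) := fun n hn =>
      Groth.Agent.DTen43.isIso_whiskerLeft_f F _ n fun p q hpq => by
        by_cases hp : b < p
        · exact Or.inl (hFv p (Or.inr hp))
        · exact Or.inr (isIso_πTruncGE_f R m q (by omega))
    exact isIso_homologyMap_of_isIso_f _ i (hf _ le_rfl) (hf _ (by omega)) (hf _ (by omega))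
  haveI := hι P
  haveI := hι Q₀
  haveI : IsIso (HomologicalComplex.homologyMap (F ◁ g) i) := by
    have hsq := congrArg (fun t => HomologicalComplex.homologyMap (F ◁ t) i)
      (CochainComplex.πTruncGE_naturality g m)
    simp only [MonoidalCategory.whiskerLeft_comp, HomologicalComplex.homologyMap_comp] at hsq
    exact IsIso.of_isIso_fac_right hsq.symm
  haveI : IsIso ((HF A i).map ((QA A).obj F ◁ (QA A).map g)) := (isIso_HF_whisker_iff F hF g i).2 inferInstance
  have e : X ◁ u = (eX.inv ▷ Y ≫ (QA A).obj F ◁ eP.inv) ≫ (QA A).obj F ◁ (QA A).map g ≫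
      (QA A).obj F ◁ eZ.hom ≫ eX.hom ▷ Z := by
    rw [hu]
    simp only [MonoidalCategory.whiskerLeft_comp, Category.assoc, whiskerLeft_inv_hom_assoc]
    rw [← whisker_exchange_assoc]
    simp
  rw [e]
  simp only [Functor.map_comp]
  infer_instance

theorem isLE_tensor_of_ta {a b : ℤ} {X : Dual.D A} (hX : TA a b X) (M : Dual.D A) (n : ℤ) (hM : M.IsLE n) :
    (X ⊗ M).IsLE (b + n) := by
  obtain ⟨F, hFv, hFl, ⟨eX⟩⟩ := hX
  have hF : DRing.IsKFlat A F := isKFlat_of_flat b (fun j hj => hFv j (Or.inr hj)) hFl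
  obtain ⟨P, hP, ⟨eM⟩⟩ := DerivedCategory.exists_iso_Q_obj_of_isLE M n
  haveI := isIso_μ F P (Or.inl hF)
  let e : X ⊗ M ≅ DerivedCategory.Q.obj (F ⊗ P) := (eX.symm ⊗ᵢ eM) ≪≫ asIso (μ F P)
  haveI : CochainComplex.IsStrictlyLE (F ⊗ P) (b + n) := by
    rw [CochainComplex.isStrictlyLE_iff]
    intro k hk
    refine Groth.Agent.DTen43.isZero_tensor_X F P k fun p q hpq => ?_
    by_cases hp : b < p
    · exact Or.inl (hFv p (Or.inr hp))
    · exact Or.inr (P.isZero_of_isStrictlyLE n q (by omega))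
  exact DerivedCategory.TStructure.t.isLE_of_iso e.symm (b + n)

/-- No maps from objects concentrated in degrees at least `c`. -/
def Van (c : ℤ) (T : Dual.D A) : Prop :=
  ∀ (d : ℤ) (W : Dual.D A), c ≤ d → W.IsGE d → ∀ g : W ⟶ T, g = 0

variable [DTen.HasRHom A]

/-- `RHomMap α T` in high degrees, the cone of `α` living in high degrees. -/
theorem isIso_HF_RHomMap_high {E K C : Dual.D A} (α : E ⟶ K) {g : K ⟶ C} {δ : C ⟶ E⟦(1 : ℤ)⟧}
    (hT : Triangle.mk α g δ ∈ distinguishedTriangles) (s : ℤ) (hC : C.IsGE s)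
    (T : Dual.D A) (c : ℤ) (hc : Van c T) (i : ℤ) (hi : c + 1 ≤ i + s) :
    IsIso ((HF A i).map (DTen.RHomMap α T)) := by
  have hu : ∀ j, c ≤ s + j → Function.Bijective
      (fun f : unitAt A j ⟶ (DTen.RHomR A K).obj T => f ≫ DTen.RHomMap α T) := fun j hj => by
    refine bijective_RHomMap α T (unitAt A j) (bijective_precomp hT _ (fun f => ?_) fun f => ?_)
    · refine hom_rhom_eq_zero _ _ _ (fun x => ?_) f
      exact hc (s + j) _ hj (isGE_tensor_unitAt _ s j hC) x
    · refine hom_rhom_eq_zero _ _ _ (fun x => ?_) f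
      exact hc (s + 1 + j) _ (by omega) (isGE_tensor_unitAt _ (s + 1) j
        (DerivedCategory.TStructure.t.isGE_shift C s (-1) (s + 1) (by omega))) x
  obtain ⟨W, g', δ', hT'⟩ := distinguished_cocone_triangle (DTen.RHomMap α T)
  have hz : ∀ j, i - 1 ≤ j → IsZero ((HF A j).obj W) := fun j hj =>
    isZero_HF_of_hom_unitAt W j (hom_cone_eq_zero hT' j (hu j (by omega)) (hu (j + 1) (by omega)))
  have := (DerivedCategory.HomologySequence.mono_homologyMap_mor₁_iff _ hT' (i - 1) i (by omega)).2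
    ((hz (i - 1) le_rfl).eq_of_src _ _)
  have := (DerivedCategory.HomologySequence.epi_homologyMap_mor₁_iff _ hT' i).2
    ((hz i (by omega)).eq_of_tgt _ _)
  exact @isIso_of_mono_of_epi _ _ _ _ _ ((HF A i).map (DTen.RHomMap α T)) ‹Mono _› ‹Epi _›

variable [IsNoetherianRing A]

theorem pc'_inD (N : Type u) [AddCommGroup N] [Module A N] [Module.Finite A N] :
    DRing.IsPseudoCoherent' A (Dual.inD A N) :=
  (pc'_iff_forall_pc _).2 fun m => pc_inD N m

theorem pc'_of_isLE {X : Dual.D A} (n : ℤ) (h : X.IsLE n) (hf : ∀ i, Module.Finite A (Dual.HD A X i)) :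
    DRing.IsPseudoCoherent' A X :=
  (pc'_iff_forall_pc _).2 (pc_of_noetherian (b := n + 1) ((acyc_iff_isLE _ _).2 (by simpa using h)) hf)

/-- `X ⊗ M` has finite injective dimension, `X` of finite tor amplitude. -/
theorem finiteInjDim_tensor {a b : ℤ} {X : Dual.D A} (hX : TA a b X) {M : Dual.D A}
    (hM : DRing.HasFiniteInjDim A M) : DRing.HasFiniteInjDim A (X ⊗ M) := by
  obtain ⟨c, hc⟩ := exists_hom_vanish_of_finiteInjDim hM
  obtain ⟨n, hn⟩ : ∃ n : ℤ, M.IsGE n := by
    obtain ⟨p, q, E, hE, -, ⟨e⟩⟩ := hM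
    haveI : CochainComplex.IsStrictlyGE E p :=
      (CochainComplex.isStrictlyGE_iff _ _).2 fun i hi => hE i (Or.inl hi)
    exact ⟨p, DerivedCategory.TStructure.t.isGE_of_iso e p⟩
  refine ⟨a + n, b + c, ia_of_ext (a + n) (b + c) fun I i hi => ?_⟩
  let N : Dual.D A := Dual.inD A (A ⧸ I)
  haveI := isIso_evalTen_of_pseudoCoherent hX N M (pc'_inD _) n hn
  have hz : IsZero ((HF A i).obj ((DTen.RHomR A N).obj (X ⊗ M))) := by
    refine IsZero.of_iso ?_ ((HF A i).mapIso (asIso (DTen.evalTen X M N))).symm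
    rcases hi with hi | hi
    · refine (DerivedCategory.isGE_iff _ (a + n)).1 (isGE_tensor_of_ta hX _ n ?_) i hi
      refine (DerivedCategory.isGE_iff _ n).2 fun j hj => isZero_HF_of_hom_unitAt _ j fun g => ?_
      refine hom_rhom_eq_zero _ _ _ (fun x => ?_) g
      haveI : (N ⊗ unitAt A j).IsLE j := by simpa using isLE_tensor_unitAt N 0 j inferInstance
      exact eq_zero_of_le_of_ge x (p := j) (q := n)
        (DerivedCategory.TStructure.t.isLE_of_iso (β_ N (unitAt A j)) j) hn hj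
    · refine (DerivedCategory.isLE_iff _ (b + c)).1 (isLE_tensor_of_ta hX _ c ?_) i hi
      refine (DerivedCategory.isLE_iff _ c).2 fun j hj => isZero_HF_of_hom_unitAt _ j fun g => ?_
      refine hom_rhom_eq_zero _ _ _ (fun x => ?_) g
      haveI : (N ⊗ unitAt A j).IsGE j := by simpa using isGE_tensor_unitAt N 0 j inferInstance
      exact hc j _ hj.le (DerivedCategory.TStructure.t.isGE_of_iso (β_ N (unitAt A j)) j) x
  obtain ⟨s⟩ := nonempty_rhom_shift N (X ⊗ M) i
  have h0 : IsZero ((HF A 0).obj ((DTen.RHomR A N).obj ((X ⊗ M)⟦i⟧))) :=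
    (hz.of_iso (((HF A 0).shiftIso i 0 i (add_zero i)).app _)).of_iso ((HF A 0).mapIso s).symm
  have h1 : ∀ f : Dual.inD A A ⟶ (DTen.RHomR A N).obj ((X ⊗ M)⟦i⟧), f = 0 := fun f => by
    haveI : Projective (ModuleCat.of A A) := (IsProjective.iff_projective (R := A) A).1 inferInstance
    exact (homToH0_bijective (ModuleCat.of A A) _).1 (h0.eq_of_tgt _ _)
  have h2 : ∀ f : N ⟶ (X ⊗ M)⟦i⟧, f = 0 := fun f => by
    have := (DTen.rhomHomEquiv (DTen.unit A) N ((X ⊗ M)⟦i⟧)).injective
      (a₁ := (λ_ N).hom ≫ f) (a₂ := 0) ?_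
    · exact (cancel_epi (λ_ N).hom).1 (this.trans comp_zero.symm)
    · rw [← cancel_epi (unitIso A).inv]
      exact (h1 _).trans (h1 _).symm
  exact ⟨fun f g => (h2 f).trans (h2 g).symm⟩

/-- The evaluation map, `X` of finite tor amplitude, `K` with finite cohomology, `M` of finite injective dimension. -/
theorem isIso_evalTen_of_finiteInjDim {a b : ℤ} {X : Dual.D A} (hX : TA a b X) (K M : Dual.D A)
    (hK : ∀ i, Module.Finite A (Dual.HD A K i)) (hM : DRing.HasFiniteInjDim A M) :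
    IsIso (DTen.evalTen X M K) := by
  obtain ⟨c, hc⟩ := exists_hom_vanish_of_finiteInjDim hM
  obtain ⟨c', hc'⟩ := exists_hom_vanish_of_finiteInjDim (finiteInjDim_tensor hX hM)
  obtain ⟨n, hn⟩ : ∃ n : ℤ, M.IsGE n := by
    obtain ⟨p, q, E, hE, -, ⟨e⟩⟩ := hM
    haveI : CochainComplex.IsStrictlyGE E p :=
      (CochainComplex.isStrictlyGE_iff _ _).2 fun i hi => hE i (Or.inl hi)
    exact ⟨p, DerivedCategory.TStructure.t.isGE_of_iso e p⟩
  rw [DerivedCategory.isIso_iff]
  intro i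
  obtain ⟨N, hN₁, hN₂⟩ : ∃ N : ℤ, c + 3 + b ≤ i + N ∧ c' + 1 ≤ i + N :=
    ⟨max (c + 3 + b - i) (c' + 1 - i), by omega, by omega⟩
  obtain ⟨L, C, hL, hC, α, g, δ, hT⟩ :=
    DerivedCategory.TStructure.t.exists_triangle K (N - 1) N (by omega)
  have hLf : ∀ j, Module.Finite A (Dual.HD A L j) := fun j => by
    by_cases hj : j ≤ N - 1
    · have hz : ∀ k, k < N → IsZero ((HF A k).obj C) := (DerivedCategory.isGE_iff C N).1 ⟨hC⟩
      have := (DerivedCategory.HomologySequence.mono_homologyMap_mor₁_iff _ hT (j - 1) j (by omega)).2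
        ((hz (j - 1) (by omega)).eq_of_src _ _)
      have := (DerivedCategory.HomologySequence.epi_homologyMap_mor₁_iff _ hT j).2
        ((hz j (by omega)).eq_of_tgt _ _)
      haveI := @isIso_of_mono_of_epi _ _ _ _ _ ((HF A j).map α) ‹Mono _› ‹Epi _›
      haveI := hK j
      exact Module.Finite.equiv (asIso ((HF A j).map α)).toLinearEquiv.symm
    · haveI := ModuleCat.subsingleton_of_isZero
        ((DerivedCategory.isLE_iff L (N - 1)).1 ⟨hL⟩ j (by omega))
      infer_instance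
  haveI := isIso_evalTen_of_pseudoCoherent hX L M (pc'_of_isLE (N - 1) ⟨hL⟩ hLf) n hn
  haveI := isIso_HF_RHomMap_high α hT N ⟨hC⟩ (X ⊗ M) c' hc' i (by omega)
  haveI := isIso_HF_whiskerLeft_high hX (DTen.RHomMap α M) i fun j hj =>
    isIso_HF_RHomMap_high α hT N ⟨hC⟩ M c hc j (by omega)
  have hsq := congrArg (HF A i).map (evalTen_natural α X M)
  rw [Functor.map_comp, Functor.map_comp] at hsq
  exact IsIso.of_isIso_fac_right hsq

end Groth.Agent.DR39
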