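import Groth.Agent.DR39.LocalDual4
import Groth.Agent.InjHull18.Matlis

/-! A normalized dualizing complex induces Matlis duality on modules of finite length. -/

set_option autoImplicit false
set_option linter.style.haveILetI false
set_option linter.unusedSectionVars false

universe u

open CategoryTheory CategoryTheory.Limits CategoryTheory.Pretriangulated

attribute [local instance] HasDerivedCategory.standard

namespace Groth.Agent.DR39

variable {A : Type u} [CommRing A] (X : Dual.D A)

/-- `pre` is additive in the map -/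
theorem pre_map_sum {M N : ModuleCat.{u} A} {ι : Type*} [Fintype ι] (φ : ι → (M ⟶ N)) (n : ℤ)
    (f : LC17.GM X N n) : LC17.pre X (∑ i, φ i) n f = ∑ i, LC17.pre X (φ i) n f := by
  show (DerivedCategory.singleFunctor _ 0).map (∑ i, φ i) ≫ f = _
  rw [Functor.map_sum, Preadditive.sum_comp]
  rfl

theorem pre_map_smul {M N : ModuleCat.{u} A} (c : A) (φ : M ⟶ N) (n : ℤ)
    (f : LC17.GM X N n) : LC17.pre X (c • φ) n f = c • LC17.pre X φ n f := by
  show (DerivedCategory.singleFunctor _ 0).map (c • φ) ≫ f = _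
  rw [Functor.map_smul, Linear.smul_comp]
  rfl

theorem pre_map_add {M N : ModuleCat.{u} A} (φ ψ : M ⟶ N) (n : ℤ) (f : LC17.GM X N n) :
    LC17.pre X (φ + ψ) n f = LC17.pre X φ n f + LC17.pre X ψ n f := by
  show (DerivedCategory.singleFunctor _ 0).map (φ + ψ) ≫ f = _
  rw [Functor.map_add, Preadditive.add_comp]
  rfl

section Eta

variable (J : Ideal A) (N : Type u) [AddCommGroup N] [Module A N] (hJ : J ≤ Module.annihilator A N)

/-- `1 ↦ x` on `A/J` -/
noncomputable def spanMap : N →ₗ[A] ((A ⧸ J) →ₗ[A] N) where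
  toFun x := Submodule.liftQ J (LinearMap.toSpanSingleton A N x) fun _ ha => Module.mem_annihilator.1 (hJ ha) x
  map_add' x y := by
    refine Submodule.linearMap_qext _ (LinearMap.ext fun a => ?_)
    exact smul_add a x y
  map_smul' c x := by
    refine Submodule.linearMap_qext _ (LinearMap.ext fun a => ?_)
    exact smul_comm a c x

/-- `Hom(N[0], X) → Hom(N, Hom((A/J)[0], X))` -/
noncomputable def eta (hJ : J ≤ Module.annihilator A N) (n : ℤ) :
    LC17.GM X (ModuleCat.of A N) n →ₗ[A] (N →ₗ[A] LC17.GM X (ModuleCat.of A (A ⧸ J)) n) where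
  toFun f :=
    { toFun := fun x => LC17.pre X (ModuleCat.ofHom (spanMap J N hJ x)) n f
      map_add' := fun x y => by rw [map_add, ModuleCat.ofHom_add, pre_map_add]
      map_smul' := fun c x => by
        rw [map_smul, show ModuleCat.ofHom (c • spanMap J N hJ x) = c • ModuleCat.ofHom (spanMap J N hJ x) from rfl,
          pre_map_smul]
        rfl }
  map_add' f g := LinearMap.ext fun x => map_add (LC17.pre X (ModuleCat.ofHom (spanMap J N hJ x)) n) f g
  map_smul' c f := LinearMap.ext fun x => map_smul (LC17.pre X (ModuleCat.ofHom (spanMap J N hJ x)) n) c f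

variable {J N}

theorem eta_apply (n : ℤ) (f : LC17.GM X (ModuleCat.of A N) n) (x : N) :
    eta X J N hJ n f x = LC17.pre X (ModuleCat.ofHom (spanMap J N hJ x)) n f := rfl

end Eta

variable {J : Ideal A} [IsNoetherianRing A] {n : ℤ}
  (hvan : ∀ (M : Type u) [AddCommGroup M] [Module A M] [Module.Finite A M], J ≤ Module.annihilator A M →
    LC17.gAnn X (ModuleCat.of A M) (n - 1) = ⊤)

theorem exists_presentation (N : Type u) [AddCommGroup N] [Module A N] [Module.Finite A N]
    (hJ : J ≤ Module.annihilator A N) :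
    ∃ (r : ℕ) (π : (Fin r → A ⧸ J) →ₗ[A] N), Function.Surjective π := by
  obtain ⟨r, g, hg⟩ := Module.Finite.exists_fin' A N
  let π : (Fin r → A ⧸ J) →ₗ[A] N :=
    ∑ i, (spanMap J N hJ (g (Pi.single i 1))) ∘ₗ (LinearMap.proj i : (Fin r → A ⧸ J) →ₗ[A] A ⧸ J)
  refine ⟨r, π, fun y => ?_⟩
  obtain ⟨c, rfl⟩ := hg y
  refine ⟨fun i => Ideal.Quotient.mk J (c i), ?_⟩
  simp only [π, LinearMap.sum_apply, LinearMap.comp_apply, LinearMap.proj_apply]
  conv_rhs => rw [show c = ∑ i, c i • (Pi.single i 1 : Fin r → A) from (pi_eq_sum_univ' c), map_sum]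
  exact Finset.sum_congr rfl fun i _ => (map_smul g (c i) _).symm

theorem decomp_free (r : ℕ) (f : LC17.GM X (ModuleCat.of A (Fin r → A ⧸ J)) n) :
    f = ∑ i, LC17.pre X (ModuleCat.ofHom (LinearMap.proj i : (Fin r → A ⧸ J) →ₗ[A] A ⧸ J)) n
      (LC17.pre X (ModuleCat.ofHom (LinearMap.single A (fun _ : Fin r => A ⧸ J) i)) n f) := by
  simp only [LC17.pre_pre, ← pre_map_sum]
  have : (∑ i, ModuleCat.ofHom (LinearMap.proj i : (Fin r → A ⧸ J) →ₗ[A] A ⧸ J) ≫
      ModuleCat.ofHom (LinearMap.single A (fun _ : Fin r => A ⧸ J) i)) = 𝟙 (ModuleCat.of A (Fin r → A ⧸ J)) := by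
    refine ModuleCat.hom_ext (LinearMap.ext fun v => ?_)
    simp only [ModuleCat.hom_sum, LinearMap.sum_apply, ModuleCat.hom_comp, ModuleCat.hom_ofHom,
      LinearMap.comp_apply, ModuleCat.hom_id, LinearMap.id_apply, LinearMap.proj_apply]
    exact Finset.univ_sum_single v
  rw [this]
  show f = (DerivedCategory.singleFunctor _ 0).map (𝟙 _) ≫ f
  rw [CategoryTheory.Functor.map_id, Category.id_comp]

theorem spanMap_eq {N M : Type u} [AddCommGroup N] [Module A N] [AddCommGroup M] [Module A M]
    (hJ : J ≤ Module.annihilator A N) (hJ' : J ≤ Module.annihilator A M) (φ : N →ₗ[A] M) (x : N) :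
    spanMap J M hJ' (φ x) = φ ∘ₗ spanMap J N hJ x :=
  Submodule.linearMap_qext _ (LinearMap.ext fun a => (map_smul φ a x).symm)

theorem ann_free (r : ℕ) : J ≤ Module.annihilator A (Fin r → A ⧸ J) := fun a ha =>
  Module.mem_annihilator.2 fun v => funext fun i => by
    obtain ⟨b, hb⟩ := Ideal.Quotient.mk_surjective (v i)
    rw [Pi.smul_apply, ← hb, Pi.zero_apply]
    exact Ideal.Quotient.eq_zero_iff_mem.2 (Ideal.mul_mem_right b J ha)

theorem ann_sub {N : Type u} [AddCommGroup N] [Module A N] (hJ : J ≤ Module.annihilator A N) (K : Submodule A N) :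
    J ≤ Module.annihilator A K := fun _ ha =>
  Module.mem_annihilator.2 fun y => Subtype.ext (Module.mem_annihilator.1 (hJ ha) y.1)

include hvan in
theorem eta_injective (N : Type u) [AddCommGroup N] [Module A N] [Module.Finite A N]
    (hJ : J ≤ Module.annihilator A N) : Function.Injective (eta X J N hJ n) := by
  obtain ⟨r, π, hπ⟩ := exists_presentation N hJ
  have hS := LC17.shortExact_of_exact (LinearMap.ker π).subtype π (Submodule.subtype_injective _) hπ
    (LinearMap.exact_subtype_ker_map π)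
  rw [injective_iff_map_eq_zero]
  intro f hf
  have hpre : LC17.pre X (ModuleCat.ofHom π) n f = 0 := by
    refine (decomp_free X r (LC17.pre X (ModuleCat.ofHom π) n f)).trans (Finset.sum_eq_zero fun i _ => ?_)
    refine (congrArg (LC17.pre X (ModuleCat.ofHom (LinearMap.proj i : (Fin r → A ⧸ J) →ₗ[A] A ⧸ J)) n)
      ((LC17.pre_pre X _ (ModuleCat.ofHom π) n f).trans ?_)).trans (map_zero _)
    have h1 : π ∘ₗ LinearMap.single A (fun _ : Fin r => A ⧸ J) i =
        spanMap J N hJ (π (Pi.single i 1)) := by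
      refine Submodule.linearMap_qext _ (LinearMap.ext fun a => ?_)
      show π (Pi.single i (Ideal.Quotient.mk J a)) = a • π (Pi.single i 1)
      rw [← map_smul, ← Pi.single_smul, Algebra.smul_def, mul_one]
      rfl
    rw [← ModuleCat.ofHom_comp, h1]
    exact LinearMap.congr_fun hf (π (Pi.single i 1))
  obtain ⟨g, hg⟩ := LC17.exact₃ X hS (n - 1) n (by omega) f hpre
  exact hg.symm.trans ((congrArg (LC17.conn X hS (n - 1) n (by omega))
    ((LC17.gAnn_eq_top_iff X).1 (hvan (LinearMap.ker π) (ann_sub (ann_free (J := J) r) (LinearMap.ker π))) g)).trans (map_zero _))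

include hvan in
theorem eta_surjective (N : Type u) [AddCommGroup N] [Module A N] [Module.Finite A N]
    (hJ : J ≤ Module.annihilator A N) : Function.Surjective (eta X J N hJ n) := fun h => by
  obtain ⟨r, π, hπ⟩ := exists_presentation N hJ
  have hS := LC17.shortExact_of_exact (LinearMap.ker π).subtype π (Submodule.subtype_injective _) hπ
    (LinearMap.exact_subtype_ker_map π)
  let f0 : LC17.GM X (ModuleCat.of A (Fin r → A ⧸ J)) n :=
    ∑ i, LC17.pre X (ModuleCat.ofHom (LinearMap.proj i : (Fin r → A ⧸ J) →ₗ[A] A ⧸ J)) n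
      (h (π (Pi.single i 1)))
  have hone : spanMap J (A ⧸ J) (by rw [Ideal.annihilator_quotient]) (1 : A ⧸ J) = LinearMap.id := by
    refine Submodule.linearMap_qext _ (LinearMap.ext fun a => ?_)
    show a • (1 : A ⧸ J) = Ideal.Quotient.mk J a
    rw [Algebra.smul_def, mul_one]
    rfl
  have hf0 : ∀ v, eta X J (Fin r → A ⧸ J) (ann_free (J := J) r) n f0 v = h (π v) := fun v => by
    rw [eta_apply, map_sum]
    simp only [LC17.pre_pre]
    have hv : v = ∑ i, Pi.single i (v i) := (Finset.univ_sum_single v).symm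
    conv_rhs => rw [hv, map_sum, map_sum]
    refine Finset.sum_congr rfl fun i _ => ?_
    obtain ⟨c, hc⟩ := Ideal.Quotient.mk_surjective (v i)
    have h1 : (LinearMap.proj i : (Fin r → A ⧸ J) →ₗ[A] A ⧸ J) ∘ₗ spanMap J (Fin r → A ⧸ J) (ann_free (J := J) r) v =
        c • (LinearMap.id : (A ⧸ J) →ₗ[A] A ⧸ J) := by
      rw [← spanMap_eq (ann_free (J := J) r) (by rw [Ideal.annihilator_quotient]) (LinearMap.proj i) v, LinearMap.proj_apply,
        ← hc, show Ideal.Quotient.mk J c = c • (1 : A ⧸ J) by rw [Algebra.smul_def, mul_one]; rfl, map_smul, hone]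
    have h2 : (Pi.single i (v i) : Fin r → A ⧸ J) = c • Pi.single i 1 := by
      rw [← Pi.single_smul, ← hc, Algebra.smul_def, mul_one]
      rfl
    rw [← ModuleCat.ofHom_comp, h1, h2, map_smul, map_smul,
      show ModuleCat.ofHom (c • (LinearMap.id : (A ⧸ J) →ₗ[A] A ⧸ J)) = c • 𝟙 (ModuleCat.of A (A ⧸ J)) from rfl,
      LC17.pre_smul_id]
  have hK : LC17.pre X (ModuleCat.ofHom (LinearMap.ker π).subtype) n f0 = 0 := by
    refine eta_injective X hvan (LinearMap.ker π) (ann_sub (ann_free (J := J) r) (LinearMap.ker π)) (LinearMap.ext fun k => ?_)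
    rw [eta_apply, LC17.pre_pre, ← ModuleCat.ofHom_comp,
      ← spanMap_eq (ann_sub (ann_free (J := J) r) (LinearMap.ker π)) (ann_free (J := J) r), map_zero, LinearMap.zero_apply, ← eta_apply X (ann_free (J := J) r),
      hf0]
    show h (π k.1) = 0
    rw [LinearMap.mem_ker.1 k.2, map_zero]
  obtain ⟨f, hf⟩ := LC17.exact₂ X hS n f0 hK
  refine ⟨f, LinearMap.ext fun y => ?_⟩
  obtain ⟨v, rfl⟩ := hπ y
  rw [eta_apply, spanMap_eq (ann_free (J := J) r) hJ π v, ModuleCat.ofHom_comp, ← LC17.pre_pre]
  rw [show LC17.pre X (ModuleCat.ofHom π) n f = f0 from hf, ← eta_apply X (ann_free (J := J) r), hf0]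

omit X J n hvan in
theorem bijective_of_length {M N : Type*} [AddCommGroup M] [Module A M] [AddCommGroup N] [Module A N]
    (f : M →ₗ[A] N) (hf : Function.Injective f) (h : Module.length A N = Module.length A M)
    (hne : Module.length A M ≠ ⊤) : Function.Bijective f := by
  refine ⟨hf, ?_⟩
  have h1 := Module.length_eq_add_of_exact f (LinearMap.range f).mkQ hf (Submodule.mkQ_surjective _)
    (LinearMap.exact_map_mkQ_range f)
  rw [h] at h1
  have h2 : Module.length A (N ⧸ LinearMap.range f) = 0 := by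
    have h3 : Module.length A M + Module.length A (N ⧸ LinearMap.range f) = Module.length A M + 0 := by
      rw [add_zero, ← h1]
    exact WithTop.add_left_cancel hne h3
  rw [Module.length_eq_zero_iff] at h2
  intro y
  obtain ⟨x, hx⟩ : y ∈ LinearMap.range f := (Submodule.Quotient.mk_eq_zero _).1 (Subsingleton.elim _ _)
  exact ⟨x, hx⟩

section Normalized

variable {ω : Dual.D A} [IsLocalRing A] (hω : Dual.IsDualizing A ω) (hn : Dual.IsNormalized A ω)
include hω hn

omit X J n hvan in
theorem finite_of_finLen {M : Type u} [AddCommGroup M] [Module A M] (h : IsFiniteLength A M) :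
    Module.Finite A M := by
  have := (isFiniteLength_iff_isNoetherian_isArtinian.1 h).1
  infer_instance

omit X J n hvan in
theorem nonempty_gm_residue_equiv :
    Nonempty (LC17.GM ω (ModuleCat.of A (A ⧸ IsLocalRing.maximalIdeal A)) 0 ≃ₗ[A]
      (A ⧸ IsLocalRing.maximalIdeal A)) := by
  obtain ⟨d, hvan, hd⟩ := ext_residue_single (IsLocalRing.maximalIdeal A) hω
  have h0 : d = 0 := by
    by_contra hne
    exact LC17.gAnn_residue_zero hω hn (subsingleton_gm_iff.1 (hvan 0 (fun h => hne h.symm)))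
  subst h0
  exact hd

omit X J n hvan in
theorem length_gm (M : Type u) [AddCommGroup M] [Module A M] (hM : IsFiniteLength A M) :
    Module.length A (LC17.GM ω (ModuleCat.of A M) 0) = Module.length A M := by
  induction hM with
  | @of_subsingleton Y _ _ _ =>
    have : Subsingleton (LC17.GM ω (ModuleCat.of A Y) 0) := subsingleton_of_forall_eq 0 fun f =>
      ((DerivedCategory.singleFunctor _ 0).map_isZero (ModuleCat.isZero_of_subsingleton (ModuleCat.of A Y))).eq_of_src f 0
    simp [Module.length_eq_zero]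
  | @of_simple_quotient Y _ _ N hs hN ih =>
    obtain ⟨I, hI, ⟨e⟩⟩ := isSimpleModule_iff_quot_maximal.1 hs
    obtain rfl := IsLocalRing.eq_maximalIdeal hI
    have hY : IsFiniteLength A Y := IsFiniteLength.of_simple_quotient hN
    haveI := finite_of_finLen hω hn hY
    haveI : Module.Finite A N := finite_of_finLen hω hn hN
    have hS := LC17.shortExact_of_exact N.subtype N.mkQ N.subtype_injective N.mkQ_surjective
      (LinearMap.exact_subtype_mkQ N)
    have hinj : Function.Injective (LC17.pre ω (ModuleCat.ofHom N.mkQ) 0) := by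
      rw [injective_iff_map_eq_zero]
      intro f hf
      obtain ⟨g, hg⟩ := LC17.exact₃ ω hS (-1) 0 (by omega) f hf
      rw [← hg, (LC17.gAnn_eq_top_iff ω).1 (LC17.gAnn_finLen hω hn N hN (by omega)) g, map_zero]
    have hsurj : Function.Surjective (LC17.pre ω (ModuleCat.ofHom N.subtype) 0) := fun g =>
      LC17.exact₁ ω hS 0 1 (by omega) g ((LC17.gAnn_eq_top_iff ω).1
        (LC17.gAnn_finLen hω hn (Y ⧸ N) (isFiniteLength_iff_isNoetherian_isArtinian.2 ⟨inferInstance, inferInstance⟩) (by omega)) _)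
    have hex : Function.Exact (LC17.pre ω (ModuleCat.ofHom N.mkQ) 0) (LC17.pre ω (ModuleCat.ofHom N.subtype) 0) := by
      intro f
      refine ⟨fun hf => LC17.exact₂ ω hS 0 f hf, ?_⟩
      rintro ⟨g, rfl⟩
      rw [LC17.pre_pre, show ModuleCat.ofHom N.subtype ≫ ModuleCat.ofHom N.mkQ = 0 from
        ModuleCat.hom_ext (LinearMap.exact_subtype_mkQ N).linearMap_comp_eq_zero]
      show (DerivedCategory.singleFunctor _ 0).map 0 ≫ _ = 0
      rw [Functor.map_zero, zero_comp]
    obtain ⟨eres⟩ := nonempty_gm_residue_equiv hω hn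
    rw [Module.length_eq_add_of_exact _ _ hinj hsurj hex, ih,
      Module.length_eq_add_of_exact N.subtype N.mkQ N.subtype_injective N.mkQ_surjective
        (LinearMap.exact_subtype_mkQ N), add_comm]
    congr 1
    have e1 : LC17.GM ω (ModuleCat.of A (Y ⧸ N)) 0 ≃ₗ[A] (A ⧸ IsLocalRing.maximalIdeal A) :=
      (CategoryTheory.Linear.homCongr A ((DerivedCategory.singleFunctor (ModuleCat.{u} A) 0).mapIso e.toModuleIso)
        (Iso.refl (ω⟦(0 : ℤ)⟧))).trans eres
    rw [e1.length_eq, e.length_eq]

omit X J n hvan in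
theorem finLen_duality (E : Type u) [AddCommGroup E] [Module A E]
    (f : IsLocalRing.ResidueField A →ₗ[A] E) (hf : InjHull.IsInjectiveHull f)
    (N : Type u) [AddCommGroup N] [Module A N] (hN : IsFiniteLength A N) :
    Nonempty (LC17.GM ω (ModuleCat.of A N) 0 ≃ₗ[A] (N →ₗ[A] E)) := by
  haveI := finite_of_finLen hω hn hN
  set m := IsLocalRing.maximalIdeal A with hm
  set J := Module.annihilator A N with hJdef
  have hAJ : IsFiniteLength A (A ⧸ J) := by
    obtain ⟨s, hs⟩ := Module.Finite.fg_top (R := A) (M := N)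
    let φ : A →ₗ[A] (s → N) := LinearMap.pi fun x => LinearMap.toSpanSingleton A N x.1
    have hker : J = LinearMap.ker φ := by
      refine le_antisymm (fun a ha => ?_) (fun a ha => ?_)
      · rw [LinearMap.mem_ker]
        exact funext fun x => Module.mem_annihilator.1 ha x.1
      · refine Module.mem_annihilator.2 fun y => ?_
        have hy : y ∈ Submodule.span A (s : Set N) := by rw [hs]; trivial
        induction hy using Submodule.span_induction with
        | mem x hx => exact congrFun (LinearMap.mem_ker.1 ha) ⟨x, hx⟩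
        | zero => exact smul_zero a
        | add x y _ _ hx hy => rw [smul_add, hx, hy, add_zero]
        | smul c x _ hx => rw [smul_comm, hx, smul_zero]
    have h1 : IsFiniteLength A (s → N) := by
      obtain ⟨h1, h2⟩ := isFiniteLength_iff_isNoetherian_isArtinian.1 hN
      exact isFiniteLength_iff_isNoetherian_isArtinian.2 ⟨inferInstance, inferInstance⟩
    let g : (A ⧸ J) →ₗ[A] (s → N) := Submodule.liftQ J φ hker.le
    have hgi : Function.Injective g :=
      LinearMap.ker_eq_bot.1 (Submodule.ker_liftQ_eq_bot' J φ hker)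
    exact IsFiniteLength.of_injective h1 (f := g) hgi
  set G := LC17.GM ω (ModuleCat.of A (A ⧸ J)) 0
  have hlJ : ∀ (M : Type u) [AddCommGroup M] [Module A M] [Module.Finite A M], J ≤ Module.annihilator A M →
      IsFiniteLength A M := fun M _ _ _ hM => by
    obtain ⟨r, π, hπ⟩ := exists_presentation (J := J) M hM
    refine IsFiniteLength.of_surjective ?_ (f := π) hπ
    obtain ⟨h1, h2⟩ := isFiniteLength_iff_isNoetherian_isArtinian.1 hAJ
    exact isFiniteLength_iff_isNoetherian_isArtinian.2 ⟨inferInstance, inferInstance⟩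
  have hv : ∀ (M : Type u) [AddCommGroup M] [Module A M] [Module.Finite A M], J ≤ Module.annihilator A M →
      LC17.gAnn ω (ModuleCat.of A M) ((0 : ℤ) - 1) = ⊤ := fun M _ _ _ hM =>
    LC17.gAnn_finLen hω hn M (hlJ M hM) (by omega)
  have htor : ∀ (M : Type u) [AddCommGroup M] [Module A M], IsFiniteLength A M →
      LocCoh.IsPowerTorsion m M := fun M _ _ h => InjHull18.isPowerTorsion_of_isFiniteLength h
  by_cases hJm : J ≤ m
  swap
  · have hsub : Subsingleton N := by
      obtain ⟨a, haJ, ham⟩ := SetLike.not_le_iff_exists.1 hJm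
      obtain ⟨u, hu⟩ := not_not.1 fun h => ham ((IsLocalRing.mem_maximalIdeal a).2 h)
      exact subsingleton_of_forall_eq 0 fun y => by
        have := Module.mem_annihilator.1 haJ y
        rw [← hu] at this
        exact (IsUnit.smul_eq_zero u.isUnit).1 this
    have h1 : Subsingleton (LC17.GM ω (ModuleCat.of A N) 0) := subsingleton_of_forall_eq 0 fun g =>
      ((DerivedCategory.singleFunctor _ 0).map_isZero (ModuleCat.isZero_of_subsingleton (ModuleCat.of A N))).eq_of_src g 0
    have h2 : Subsingleton (N →ₗ[A] E) := ⟨fun a b => LinearMap.ext fun x => by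
      rw [Subsingleton.elim x 0, map_zero, map_zero]⟩
    exact ⟨0, (fun x => (0 : LC17.GM ω (ModuleCat.of A N) 0)), fun x => Subsingleton.elim _ _,
      fun x => Subsingleton.elim _ _⟩
  -- an embedding of G into E
  have hmann : J ≤ Module.annihilator A (A ⧸ m) := by rw [Ideal.annihilator_quotient]; exact hJm
  obtain ⟨ek⟩ := nonempty_gm_residue_equiv hω hn
  let η : LC17.GM ω (ModuleCat.of A (A ⧸ m)) 0 ≃ₗ[A] ((A ⧸ m) →ₗ[A] G) :=
    LinearEquiv.ofBijective (eta ω J (A ⧸ m) hmann 0)
      ⟨eta_injective ω hv _ hmann, eta_surjective ω hv _ hmann⟩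
  haveI hsk : IsSimpleModule A (A ⧸ m) := isSimpleModule_iff_isCoatom.2 (Ideal.isMaximal_def.1 inferInstance)
  haveI : IsSimpleModule A ((A ⧸ m) →ₗ[A] G) := IsSimpleModule.congr (η.symm.trans ek)
  haveI : Nontrivial ((A ⧸ m) →ₗ[A] G) := IsSimpleModule.nontrivial A _
  obtain ⟨s, hs⟩ := exists_ne (0 : (A ⧸ m) →ₗ[A] G)
  have hsinj : Function.Injective s := (LinearMap.injective_or_eq_zero s).resolve_right hs
  haveI : Module.Finite A (A ⧸ J) := inferInstance
  haveI : Module.Finite A G := LC17.finite_GM hω 0 (A ⧸ J)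
  obtain ⟨r, g, hg⟩ := Module.Finite.exists_fin' A G
  haveI : Small.{u} G := small_of_surjective hg
  let eS : Shrink.{u} G ≃ₗ[A] G := Shrink.linearEquiv A G
  obtain ⟨ι', hι'⟩ := InjHull18.exists_extend hf.isInjective (eS.symm.toLinearMap ∘ₗ s)
    (eS.symm.injective.comp hsinj) f
  let ι : G →ₗ[A] E := ι' ∘ₗ eS.symm.toLinearMap
  have hι : ∀ z, ι (s z) = f z := fun z => LinearMap.congr_fun hι' z
  have hιinj : Function.Injective ι := by
    rw [← LinearMap.ker_eq_bot, Submodule.eq_bot_iff]
    intro y hy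
    by_contra hy0
    have hJy : ∀ a ∈ J, a • y = 0 := fun a ha => by
      rw [← LC17.pre_smul_id ω a 0 y, show a • 𝟙 (ModuleCat.of A (A ⧸ J)) = 0 from ?_]
      · show (DerivedCategory.singleFunctor _ 0).map 0 ≫ y = 0
        rw [Functor.map_zero, zero_comp]
      · refine ModuleCat.hom_ext (LinearMap.ext fun v => ?_)
        obtain ⟨b, rfl⟩ := Ideal.Quotient.mk_surjective v
        exact Ideal.Quotient.eq_zero_iff_mem.2 (Ideal.mul_mem_right b J ha)
    obtain ⟨c, hc', hc⟩ := InjHull18.exists_socle_smul (m := m) hy0 (by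
      obtain ⟨k, hk⟩ := htor (A ⧸ J) hAJ (Ideal.Quotient.mk J 1)
      refine ⟨k, fun a ha => hJy a ?_⟩
      have h1 : Ideal.Quotient.mk J (a * 1) = 0 := hk a ha
      rw [mul_one] at h1
      exact Ideal.Quotient.eq_zero_iff_mem.1 h1)
    let t : (A ⧸ m) →ₗ[A] G := Submodule.liftQ m (LinearMap.toSpanSingleton A G (c • y)) fun a ha => (Submodule.mem_torsionBySet_iff _ _).1 hc' ⟨a, ha⟩
    have ht1 : t (Ideal.Quotient.mk m 1) = c • y := one_smul A (c • y)
    obtain ⟨e, he⟩ := IsSimpleModule.toSpanSingleton_surjective A hs t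
    have h3 : f (e • Ideal.Quotient.mk m 1) = 0 := by
      rw [← hι, map_smul]
      have he' : e • s = t := he
      rw [← LinearMap.smul_apply, he', ht1, map_smul, LinearMap.mem_ker.1 hy, smul_zero]
    have h4 : e • Ideal.Quotient.mk m 1 = 0 := hf.injective (h3.trans (map_zero f).symm)
    refine hc ?_
    rw [← ht1, ← show e • s = t from he, LinearMap.smul_apply, ← map_smul, h4, map_zero]
  let ηN : LC17.GM ω (ModuleCat.of A N) 0 ≃ₗ[A] (N →ₗ[A] G) :=
    LinearEquiv.ofBijective (eta ω J N le_rfl 0)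
      ⟨eta_injective ω hv _ le_rfl, eta_surjective ω hv _ le_rfl⟩
  let Φ : (N →ₗ[A] G) →ₗ[A] (N →ₗ[A] E) :=
    { toFun := fun g => ι ∘ₗ g
      map_add' := fun g g' => LinearMap.comp_add _ _ _
      map_smul' := fun c g => LinearMap.comp_smul _ _ _ }
  have hΦ : Function.Injective Φ := fun g g' h => LinearMap.ext fun z => hιinj (LinearMap.congr_fun h z)
  have hlG : Module.length A (N →ₗ[A] G) = Module.length A N := by
    rw [← ηN.length_eq]
    exact length_gm hω hn N hN
  have hlE : Module.length A (N →ₗ[A] E) = Module.length A N :=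
    InjHull18.length_linearMap (m := m) hf hN (htor N hN)
  exact ⟨ηN.trans (LinearEquiv.ofBijective Φ (bijective_of_length Φ hΦ (hlE.trans hlG.symm)
    (by rw [hlG]; exact Module.length_ne_top_iff.2 hN)))⟩

omit X J n hvan in
theorem isFiniteLength_of_dim_zero (h0 : ringKrullDim A = 0) (M : Type u) [AddCommGroup M] [Module A M]
    [Module.Finite A M] : IsFiniteLength A M := by
  haveI : IsArtinianRing A := isArtinianRing_iff_isNoetherianRing_krullDimLE_zero.2
    ⟨inferInstance, Ring.krullDimLE_iff.2 h0.le⟩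
  exact isFiniteLength_iff_isNoetherian_isArtinian.2 ⟨inferInstance, inferInstance⟩

omit X J n hvan in
theorem iso_injectiveHull_of_dim_zero (h0 : ringKrullDim A = 0) (E : Type u) [AddCommGroup E] [Module A E]
    (f : IsLocalRing.ResidueField A →ₗ[A] E) (hf : InjHull.IsInjectiveHull f) :
    Nonempty (ω ≅ Dual.inD A E) := by
  have hA := isFiniteLength_of_dim_zero hω hn h0 A
  have hz : ∀ i, i ≠ 0 → IsZero ((HF A i).obj ω) := fun i hi => by
    haveI : Subsingleton (Dual.inD A A ⟶ ω⟦i⟧) := subsingleton_gm_iff.2 (LC17.gAnn_finLen hω hn A hA hi)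
    exact ModuleCat.isZero_iff_subsingleton.2 (gmSelfEquiv ω i).symm.toEquiv.subsingleton
  obtain ⟨e⟩ := exists_iso_single_homology ω 0 hz
  obtain ⟨d⟩ := finLen_duality hω hn E f hf A hA
  let e' : (HF A 0).obj ω ≅ ModuleCat.of A E :=
    ((gmSelfEquiv ω 0).symm.trans (d.trans (LinearMap.ringLmapEquivSelf A A E))).toModuleIso
  exact ⟨e ≪≫ (DerivedCategory.singleFunctor (ModuleCat.{u} A) 0).mapIso e'⟩

end Normalized

end Groth.Agent.DR39
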