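import Groth.Agent.DR39.Crit
import Groth.Agent.DR39.FinLen
import Groth.Agent.Shriek42.Coherent

/-! The right adjoint of restriction along a finite map preserves dualizing complexes. -/

set_option autoImplicit false
set_option linter.style.haveILetI false
set_option linter.unusedSectionVars false
set_option backward.isDefEq.respectTransparency false

universe u

open CategoryTheory CategoryTheory.Limits CategoryTheory.Pretriangulated TensorProduct

attribute [local instance] HasDerivedCategory.standard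

namespace Groth.Agent.DR39

section Global

variable {A : Type u} [CommRing A] [IsNoetherianRing A]

/-- global residue criterion -/
theorem isDualizing_of_residues {R : Dual.D A} (hfin : ∀ i : ℤ, Module.Finite A (Dual.HD A R i)) {a b : ℤ}
    (hlow : ∀ i, i < a → IsZero ((HF A i).obj R))
    (hres : ∀ (P : Ideal A), P.IsMaximal → ∃ d ≤ b,
      (∀ i : ℤ, i ≠ d → Subsingleton (Dual.inD A (A ⧸ P) ⟶ R⟦i⟧)) ∧
      Nonempty ((Dual.inD A (A ⧸ P) ⟶ R⟦d⟧) ≃ₗ[A] (A ⧸ P))) :
    Dual.IsDualizing A R := by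
  have hres' : ∀ (P : Ideal A), P.IsMaximal → ∀ i, b < i → Subsingleton (Dual.inD A (A ⧸ P) ⟶ R⟦i⟧) :=
    fun P hP i hi => by
      obtain ⟨d, hd, hv, -⟩ := hres P hP
      exact hv i (by omega)
  have hab : ∀ i, b < i → IsZero ((HF A i).obj R) := fun i hi => isZero_HF_of_ext_ring (X := R) (n := i)
    (subsingleton_gm_iff.2 (gAnn_top_of_residue hlow hfin b
      (fun M hM k hk => (LC17.gAnn_eq_top_iff R).2 fun f => @Subsingleton.elim _ (hres' M hM k hk) f 0) A hi))
  refine isDualizing_of_atMaximal hfin (ia_of_residue hlow hfin b hab hres') fun P hP => ?_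
  obtain ⟨d, -, hv, ⟨e⟩⟩ := hres P hP
  let B := Localization.AtPrime P
  haveI : IsNoetherianRing B := IsLocalization.isNoetherianRing P.primeCompl _ inferInstance
  refine isDualizing_of_residue ((DF (extA A B)).obj R) (fun i => ?_) a (fun i hi => ?_) d ?_ ?_
  · haveI := hfin i
    exact finite_HF_DF B
  · obtain ⟨e⟩ := HF_DF (extA A B) R i
    exact ((extA A B).map_isZero (hlow i hi)).of_iso e
  all_goals obtain ⟨e'⟩ := exists_inD_quotient_iso B P
  all_goals rw [Localization.AtPrime.map_eq_maximalIdeal] at e'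
  · intro i hi
    exact @Equiv.subsingleton _ _ (Iso.homFromEquiv e').symm (subsingleton_hom_DF B (pc_inD (A ⧸ P)) hlow i (hv i hi))
  · have hg : Good B (Dual.inD A (A ⧸ P)) (R⟦d⟧) := good_shift B (pc_inD (A ⧸ P)) hlow d
    refine ⟨(CategoryTheory.Linear.homCongr B e' (((DF (extA A B)).commShiftIso d).app R)).symm.trans
      ((LinearEquiv.ofBijective (thetaBar B (Dual.inD A (A ⧸ P)) (R⟦d⟧)) hg).symm.trans
      ((TensorProduct.AlgebraTensorModule.congr (LinearEquiv.refl B B) e).trans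
      ((Algebra.TensorProduct.quotIdealMapEquivTensorQuot B P).toLinearEquiv.symm.trans
      (Submodule.quotEquivOfEq _ _ Localization.AtPrime.map_eq_maximalIdeal))))⟩

end Global

section Right

variable {A B : Type u} [CommRing A] [CommRing B] [Algebra A B] {R : Dual.D A ⥤ Dual.D B}
  (adj : DRing.restrictD (algebraMap A B) ⊣ R)

include adj in
theorem exists_homRight (Z : Dual.D B) (X : Dual.D A) (i : ℤ) :
    ∃ e : ((DRing.restrictD (algebraMap A B)).obj Z ⟶ X⟦i⟧) ≃+ (Z ⟶ (R.obj X)⟦i⟧),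
      ∀ (p : A) g, e (p • g) = algebraMap A B p • e g := by
  let := adj.rightAdjointCommShift ℤ
  let := adj.right_adjoint_additive
  let eY : R.obj (X⟦i⟧) ≅ (R.obj X)⟦i⟧ := (R.commShiftIso i).app X
  have h1 : ∀ (p : A) g, adj.homEquiv Z (X⟦i⟧) (p • g) = algebraMap A B p • adj.homEquiv _ _ g := fun p g => by
    apply (adj.homEquiv _ _).symm.injective
    rw [Equiv.symm_apply_apply, Adjunction.homEquiv_counit, Shriek42.restrictD_map_smul, Linear.smul_comp,
      ← Adjunction.homEquiv_counit, Equiv.symm_apply_apply]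
  refine ⟨{ toEquiv := (adj.homEquiv Z (X⟦i⟧)).trans (Iso.homToEquiv eY), map_add' := fun g g' => ?_ }, fun p g => ?_⟩
  · show adj.homEquiv _ _ (g + g') ≫ eY.hom = adj.homEquiv _ _ g ≫ eY.hom + adj.homEquiv _ _ g' ≫ eY.hom
    rw [Adjunction.homEquiv_unit, Adjunction.homEquiv_unit, Adjunction.homEquiv_unit, Functor.map_add,
      Preadditive.comp_add, Preadditive.add_comp]
  · show adj.homEquiv _ _ (p • g) ≫ eY.hom = algebraMap A B p • (adj.homEquiv _ _ g ≫ eY.hom)
    rw [h1, Linear.smul_comp]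

theorem exists_restrict_inD (N : Type u) [AddCommGroup N] [Module A N] [Module B N] [IsScalarTower A B N] :
    Nonempty ((DRing.restrictD (algebraMap A B)).obj (Dual.inD B N) ≅ Dual.inD A N) := by
  let er : (ModuleCat.restrictScalars.{u} (algebraMap A B)).obj (ModuleCat.of B N) ≅ ModuleCat.of A N :=
    LinearEquiv.toModuleIso (X₁ := (ModuleCat.restrictScalars.{u} (algebraMap A B)).obj (ModuleCat.of B N)) (X₂ := N)
      { toFun := fun x => x
        invFun := fun x => x
        map_add' := fun _ _ => rfl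
        map_smul' := fun a (x : N) => algebraMap_smul B a x
        left_inv := fun _ => rfl
        right_inv := fun _ => rfl }
  exact ⟨((ModuleCat.restrictScalars.{u} (algebraMap A B)).mapDerivedCategorySingleFunctor 0).app (ModuleCat.of B N) ≪≫
    (DerivedCategory.singleFunctor (ModuleCat.{u} A) 0).mapIso er⟩

include adj in
theorem exists_gm_right (N : Type u) [AddCommGroup N] [Module A N] [Module B N] [IsScalarTower A B N]
    (X : Dual.D A) (i : ℤ) :
    ∃ e : LC17.GM X (ModuleCat.of A N) i ≃+ LC17.GM (R.obj X) (ModuleCat.of B N) i,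
      ∀ (p : A) g, e (p • g) = algebraMap A B p • e g := by
  obtain ⟨r⟩ := exists_restrict_inD (A := A) (B := B) N
  obtain ⟨e, he⟩ := exists_homRight adj (Dual.inD B N) X i
  let c : LC17.GM X (ModuleCat.of A N) i ≃ₗ[A] ((DRing.restrictD (algebraMap A B)).obj (Dual.inD B N) ⟶ X⟦i⟧) :=
    (CategoryTheory.Linear.homCongr A r (Iso.refl (X⟦i⟧))).symm
  refine ⟨c.toAddEquiv.trans e, fun p g => ?_⟩
  show e (c (p • g)) = algebraMap A B p • e (c g)
  rw [map_smul, he]

include adj in
theorem subsingleton_gm_right (N : Type u) [AddCommGroup N] [Module A N] [Module B N] [IsScalarTower A B N]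
    (X : Dual.D A) (i : ℤ) (h : Subsingleton (Dual.inD A N ⟶ X⟦i⟧)) :
    Subsingleton (Dual.inD B N ⟶ (R.obj X)⟦i⟧) := by
  obtain ⟨e, -⟩ := exists_gm_right adj N X i
  exact @Equiv.subsingleton _ _ e.toEquiv.symm h

variable [IsNoetherianRing A] [IsNoetherianRing B] [Module.Finite A B]

theorem annihilator_residue (Q : Ideal B) :
    Q.comap (algebraMap A B) ≤ Module.annihilator A (B ⧸ Q) := fun a ha => Module.mem_annihilator.2 fun y => by
  obtain ⟨b, rfl⟩ := Ideal.Quotient.mk_surjective y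
  rw [← algebraMap_smul B a, Algebra.smul_def, Ideal.Quotient.algebraMap_eq, ← map_mul]
  exact Ideal.Quotient.eq_zero_iff_mem.2 (Ideal.mul_mem_right b Q ha)

include adj in
theorem residue_right {X : Dual.D A} {d : ℤ} (Q : Ideal B) [Q.IsMaximal] [(Q.comap (algebraMap A B)).IsMaximal]
    (hv : ∀ i : ℤ, i ≠ d → Subsingleton (Dual.inD A (A ⧸ Q.comap (algebraMap A B)) ⟶ X⟦i⟧))
    (hd : (Dual.inD A (A ⧸ Q.comap (algebraMap A B)) ⟶ X⟦d⟧) ≃ₗ[A] (A ⧸ Q.comap (algebraMap A B))) :
    (∀ i : ℤ, i ≠ d → Subsingleton (Dual.inD B (B ⧸ Q) ⟶ (R.obj X)⟦i⟧)) ∧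
      Nonempty ((Dual.inD B (B ⧸ Q) ⟶ (R.obj X)⟦d⟧) ≃ₗ[B] (B ⧸ Q)) := by
  set p := Q.comap (algebraMap A B) with hp
  have hann := annihilator_residue (A := A) Q
  haveI : Module.Finite A (B ⧸ Q) := Module.Finite.of_surjective (Q.mkQ.restrictScalars A) Q.mkQ_surjective
  refine ⟨fun i hi => subsingleton_gm_right adj (B ⧸ Q) X i
    (subsingleton_gm_of_residue p X (hv i hi) (B ⧸ Q) hann), ?_⟩
  -- length count
  have hvan : ∀ (M : Type u) [AddCommGroup M] [Module A M] [Module.Finite A M], p ≤ Module.annihilator A M →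
      LC17.gAnn X (ModuleCat.of A M) (d - 1) = ⊤ := fun M _ _ _ hM =>
    subsingleton_gm_iff.1 (subsingleton_gm_of_residue p X (hv _ (by omega)) M hM)
  let η : LC17.GM X (ModuleCat.of A (B ⧸ Q)) d ≃ₗ[A] ((B ⧸ Q) →ₗ[A] LC17.GM X (ModuleCat.of A (A ⧸ p)) d) :=
    LinearEquiv.ofBijective (eta X p (B ⧸ Q) hann d)
      ⟨eta_injective X hvan _ hann, eta_surjective X hvan _ hann⟩
  letI := Ideal.Quotient.field p
  letI : Algebra (A ⧸ p) (B ⧸ Q) := (Ideal.quotientMap Q (algebraMap A B) le_rfl).toAlgebra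
  haveI : IsScalarTower A (A ⧸ p) (B ⧸ Q) := IsScalarTower.of_algebraMap_eq fun a => rfl
  haveI : Module.Finite (A ⧸ p) (B ⧸ Q) := Module.Finite.of_restrictScalars_finite A (A ⧸ p) (B ⧸ Q)
  let r := Module.finrank (A ⧸ p) (B ⧸ Q)
  let b : (B ⧸ Q) ≃ₗ[A] (Fin r → A ⧸ p) :=
    (Module.finBasis (A ⧸ p) (B ⧸ Q)).equivFun.restrictScalars A
  haveI : IsSimpleModule A (A ⧸ p) := isSimpleModule_iff_isCoatom.2 (Ideal.isMaximal_def.1 inferInstance)
  let ev1 : ((A ⧸ p) →ₗ[A] (A ⧸ p)) →ₗ[A] (A ⧸ p) := LinearMap.applyₗ (1 : A ⧸ p)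
  have hev1 : Function.Bijective ev1 := by
    constructor
    · intro φ ψ h
      refine LinearMap.ext fun x => ?_
      obtain ⟨a, rfl⟩ := Ideal.Quotient.mk_surjective x
      have : Ideal.Quotient.mk p a = a • (1 : A ⧸ p) := by rw [Algebra.smul_def, mul_one]; rfl
      rw [this, map_smul, map_smul]
      exact congrArg (a • ·) h
    · intro y
      obtain ⟨a, rfl⟩ := Ideal.Quotient.mk_surjective y
      exact ⟨a • LinearMap.id, by show a • (1 : A ⧸ p) = _; rw [Algebra.smul_def, mul_one]; rfl⟩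
  let c : LC17.GM X (ModuleCat.of A (B ⧸ Q)) d ≃ₗ[A] (B ⧸ Q) :=
    η.trans ((LinearEquiv.arrowCongr b hd).trans
      ((LinearMap.lsum A (fun _ : Fin r => A ⧸ p) A).symm.trans
        ((LinearEquiv.piCongrRight fun _ => LinearEquiv.ofBijective ev1 hev1).trans b.symm)))
  obtain ⟨e, he⟩ := exists_gm_right adj (B ⧸ Q) X d
  obtain ⟨x0, hx0⟩ : ∃ x : LC17.GM (R.obj X) (ModuleCat.of B (B ⧸ Q)) d, x ≠ 0 :=
    ⟨e (c.symm 1), fun h => one_ne_zero (α := B ⧸ Q) (by
      have := e.injective (h.trans (map_zero e).symm)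
      rw [← c.apply_symm_apply 1, this, map_zero])⟩
  let t : (B ⧸ Q) →ₗ[B] LC17.GM (R.obj X) (ModuleCat.of B (B ⧸ Q)) d :=
    Submodule.liftQ Q (LinearMap.toSpanSingleton B _ x0) fun q hq => smul_gm_eq_zero Q (R.obj X) d hq x0
  haveI : IsSimpleModule B (B ⧸ Q) := isSimpleModule_iff_isCoatom.2 (Ideal.isMaximal_def.1 inferInstance)
  have ht : Function.Injective t := (LinearMap.injective_or_eq_zero t).resolve_right fun h => hx0 (by
    have := LinearMap.congr_fun h (Submodule.Quotient.mk 1)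
    exact (one_smul B x0).symm.trans this)
  let tA : (B ⧸ Q) →ₗ[A] LC17.GM X (ModuleCat.of A (B ⧸ Q)) d :=
    { toFun := fun y => e.symm (t y)
      map_add' := fun y z => by rw [map_add, map_add]
      map_smul' := fun a y => e.injective (by
        rw [RingHom.id_apply, he, e.apply_symm_apply, e.apply_symm_apply, ← map_smul, algebraMap_smul]) }
  have hlen : Module.length A (B ⧸ Q) ≠ ⊤ := by
    rw [b.length_eq]
    exact Module.length_ne_top_iff.2 (isFiniteLength_iff_isNoetherian_isArtinian.2 ⟨inferInstance, inferInstance⟩)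
  have htA := bijective_of_length tA (e.symm.injective.comp ht) c.length_eq hlen
  exact ⟨(LinearEquiv.ofBijective t ⟨ht, fun y => by
    obtain ⟨z, hz⟩ := htA.2 (e.symm y)
    exact ⟨z, e.symm.injective hz⟩⟩).symm⟩

include adj in
theorem isDualizing_right {ω : Dual.D A} (hω : Dual.IsDualizing A ω) : Dual.IsDualizing B (R.obj ω) := by
  obtain ⟨a, b, hab, hid⟩ := exists_bounds hω
  have hlow : ∀ i, i < a → IsZero ((HF A i).obj ω) := fun i hi => hab i (Or.inl hi)
  refine isDualizing_of_residues (b := max a b) (fun i => Shriek42.finite_HF_right adj ω a hlow hω.finite_cohomology i)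
    (fun i hi => Shriek42.isGE_right adj ω a hlow i hi) fun Q hQ => ?_
  haveI : Algebra.IsIntegral A B := Algebra.IsIntegral.of_finite A B
  haveI : (Q.comap (algebraMap A B)).IsMaximal := Ideal.isMaximal_comap_of_isIntegral_of_isMaximal Q
  obtain ⟨d, hv, ⟨hd⟩⟩ := ext_residue_single (Q.comap (algebraMap A B)) hω
  have hdb : d ≤ max a b := by
    by_contra h
    haveI : Nontrivial (A ⧸ Q.comap (algebraMap A B)) :=
      Ideal.Quotient.nontrivial_iff.2 (Ideal.IsMaximal.ne_top inferInstance)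
    haveI := hid (A ⧸ Q.comap (algebraMap A B)) d (Or.inr (by omega))
    exact not_subsingleton (A ⧸ Q.comap (algebraMap A B)) hd.symm.toEquiv.subsingleton
  exact ⟨d, hdb, residue_right adj Q hv hd⟩

include adj in
theorem isNormalized_right [IsLocalRing A] [IsLocalRing B] [IsLocalHom (algebraMap A B)] {ω : Dual.D A}
    (hn : Dual.IsNormalized A ω) : Dual.IsNormalized B (R.obj ω) := by
  intro i hi
  have hann : IsLocalRing.maximalIdeal A ≤ Module.annihilator A (B ⧸ IsLocalRing.maximalIdeal B) := by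
    refine le_trans (le_of_eq ?_) (annihilator_residue (A := A) (IsLocalRing.maximalIdeal B))
    haveI : Algebra.IsIntegral A B := Algebra.IsIntegral.of_finite A B
    exact (IsLocalRing.eq_maximalIdeal (Ideal.isMaximal_comap_of_isIntegral_of_isMaximal (IsLocalRing.maximalIdeal B))).symm
  haveI : Module.Finite A (B ⧸ IsLocalRing.maximalIdeal B) :=
    Module.Finite.of_surjective ((IsLocalRing.maximalIdeal B).mkQ.restrictScalars A) (Submodule.mkQ_surjective _)
  exact subsingleton_gm_right adj (B ⧸ IsLocalRing.maximalIdeal B) ω i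
    (subsingleton_gm_of_residue (IsLocalRing.maximalIdeal A) ω (hn i hi) _ hann)

omit [IsNoetherianRing A] [IsNoetherianRing B] [Module.Finite A B] in
include adj in
theorem delta_right_surjective (hs : Function.Surjective (algebraMap A B)) (X : Dual.D A) (q : PrimeSpectrum B)
    (i : ℤ) :
    Nontrivial (LocalizedModule q.asIdeal.primeCompl (Dual.inD B (B ⧸ q.asIdeal) ⟶ (R.obj X)⟦i⟧)) ↔
      Nontrivial (LocalizedModule (q.asIdeal.comap (algebraMap A B)).primeCompl
        (Dual.inD A (A ⧸ q.asIdeal.comap (algebraMap A B)) ⟶ X⟦i⟧)) := by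
  set p := q.asIdeal.comap (algebraMap A B) with hp
  let P : PrimeSpectrum A := ⟨p, inferInstance⟩
  obtain ⟨e, he⟩ := exists_gm_right adj (B ⧸ q.asIdeal) X i
  let f : (A ⧸ p) →ₗ[A] (B ⧸ q.asIdeal) :=
    Submodule.liftQ p (Algebra.linearMap A (B ⧸ q.asIdeal)) fun a ha => by
      rw [LinearMap.mem_ker, Algebra.linearMap_apply, IsScalarTower.algebraMap_apply A B (B ⧸ q.asIdeal)]
      exact Ideal.Quotient.eq_zero_iff_mem.2 ha
  have hf : Function.Bijective f := by
    refine ⟨?_, fun y => ?_⟩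
    · rw [← LinearMap.ker_eq_bot]
      refine Submodule.ker_liftQ_eq_bot _ _ _ fun a ha => ?_
      rw [LinearMap.mem_ker, Algebra.linearMap_apply, IsScalarTower.algebraMap_apply A B (B ⧸ q.asIdeal),
        Ideal.Quotient.algebraMap_eq] at ha
      exact Ideal.mem_comap.2 (Ideal.Quotient.eq_zero_iff_mem.1 ha)
    · obtain ⟨b, rfl⟩ := Ideal.Quotient.mk_surjective y
      obtain ⟨a, rfl⟩ := hs b
      exact ⟨Submodule.Quotient.mk a, rfl⟩
  let c : LC17.GM X (ModuleCat.of A (B ⧸ q.asIdeal)) i ≃ₗ[A] LC17.GM X (ModuleCat.of A (A ⧸ p)) i :=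
    CategoryTheory.Linear.homCongr A ((DerivedCategory.singleFunctor (ModuleCat.{u} A) 0).mapIso
      (LinearEquiv.ofBijective f hf).toModuleIso.symm) (Iso.refl (X⟦i⟧))
  rw [show Nontrivial (LocalizedModule p.primeCompl (Dual.inD A (A ⧸ p) ⟶ X⟦i⟧)) ↔
      P ∈ Module.support A (LC17.GM X (ModuleCat.of A (A ⧸ p)) i) from (Module.mem_support_iff (p := P)).symm,
    show Nontrivial (LocalizedModule q.asIdeal.primeCompl (Dual.inD B (B ⧸ q.asIdeal) ⟶ (R.obj X)⟦i⟧)) ↔
      q ∈ Module.support B (LC17.GM (R.obj X) (ModuleCat.of B (B ⧸ q.asIdeal)) i) from Module.mem_support_iff.symm,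
    ← c.support_eq, Module.mem_support_iff', Module.mem_support_iff']
  constructor
  · rintro ⟨x, hx⟩
    refine ⟨e.symm x, fun r hr h0 => hx (algebraMap A B r) hr ?_⟩
    rw [← e.apply_symm_apply x, ← he, h0, map_zero]
  · rintro ⟨x, hx⟩
    refine ⟨e x, fun s hs' h0 => ?_⟩
    obtain ⟨r, rfl⟩ := hs s
    rw [← he] at h0
    exact hx r hs' (e.injective (h0.trans (map_zero e).symm))

end Right

end Groth.Agent.DR39
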