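import Groth.Agent.DR39.LocalDual
import Groth.Agent.EGA4Alg4.Depth

/-! Localization of normalized dualizing complexes; depth and dimension. -/

set_option autoImplicit false
set_option linter.style.haveILetI false
set_option linter.unusedSectionVars false

universe u

open scoped Pointwise
open CategoryTheory CategoryTheory.Limits CategoryTheory.Pretriangulated TensorProduct

attribute [local instance] HasDerivedCategory.standard

namespace Groth.Agent.DR39

variable {A : Type u} [CommRing A] {ω : Dual.D A}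

instance flat_atPrime (p : Ideal A) [p.IsPrime] : Module.Flat A (Localization.AtPrime p) :=
  IsLocalization.flat _ p.primeCompl

theorem le_supportDim_quotient {H : Type*} [AddCommGroup H] [Module A H] {n : WithBot ℕ∞}
    (h : ∀ q ∈ Module.support A H, ringKrullDim (A ⧸ q.asIdeal) ≤ n) : Module.supportDim A H ≤ n := by
  refine iSup_le fun l => ?_
  refine le_trans ?_ (h _ (RelSeries.head l).2)
  rw [ringKrullDim_quotient]
  let m : LTSeries (PrimeSpectrum.zeroLocus ((RelSeries.head l).1.asIdeal : Set A)) :=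
    { length := l.length
      toFun := fun k => ⟨(l k).1, by
        rw [PrimeSpectrum.mem_zeroLocus, SetLike.coe_subset_coe]
        exact (LTSeries.head_le l k : RelSeries.head l ≤ l k)⟩
      step := fun k => l.step k }
  exact Order.LTSeries.length_le_krullDim m

theorem exists_mem_support_dim [IsNoetherianRing A] [IsLocalRing A] (M : Type u) [AddCommGroup M]
    [Module A M] [Module.Finite A M] {d : ℕ} (hd : Module.supportDim A M = (d : ℕ∞)) :
    ∃ q ∈ Module.support A M, ringKrullDim (A ⧸ q.asIdeal) = (d : ℕ∞) := by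
  by_contra hno
  simp only [not_exists, not_and] at hno
  haveI : Nontrivial M := Module.supportDim_ne_bot_iff_nontrivial A M |>.1 (by rw [hd]; exact WithBot.coe_ne_bot)
  have : Module.supportDim A M ≤ ((d - 1 : ℕ) : ℕ∞) := le_supportDim_quotient fun q hq => by
    haveI : Nontrivial (A ⧸ q.asIdeal) := Ideal.Quotient.nontrivial_iff.mpr q.2.ne_top
    obtain ⟨e, he⟩ := EGA4Alg4.exists_supportDim_eq (A := A) (M := A ⧸ q.asIdeal)
    rw [Module.supportDim_quotient_eq_ringKrullDim] at he
    have h1 := (EGA4Alg4.ringKrullDim_quotient_le_supportDim hq)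
    rw [he, hd] at h1
    have h2 : e ≤ d := by exact_mod_cast h1
    have h3 : e ≠ d := fun h => hno q hq (by rw [he, h]; rfl)
    rw [he]
    exact_mod_cast (show e ≤ d - 1 by omega)
  rw [hd] at this
  have h4 : d ≤ d - 1 := by exact_mod_cast this
  obtain rfl : d = 0 := by omega
  obtain ⟨q, hq⟩ := Module.nonempty_support_of_nontrivial (R := A) (M := M)
  refine hno q hq (le_antisymm ?_ ?_)
  · have h1 := EGA4Alg4.ringKrullDim_quotient_le_supportDim hq
    rwa [hd] at h1
  · haveI : Nontrivial (A ⧸ q.asIdeal) := Ideal.Quotient.nontrivial_iff.mpr q.2.ne_top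
    exact ringKrullDim_nonneg_of_nontrivial

variable (hω : Dual.IsDualizing A ω)
include hω

theorem isDualizing_atPrime (p : Ideal A) [p.IsPrime] :
    Dual.IsDualizing (Localization.AtPrime p) ((DF (extA A (Localization.AtPrime p))).obj ω) :=
  haveI := hω.isNoetherianRing
  haveI : IsNoetherianRing (Localization.AtPrime p) := IsLocalization.isNoetherianRing p.primeCompl _ inferInstance
  isDualizing_DF_of_extended _ hω fun J => ⟨J.comap _, IsLocalization.map_comap p.primeCompl _ J⟩

theorem gAnn_le_iff_nontrivial (M : Type u) [AddCommGroup M] [Module A M] [Module.Finite A M] (i : ℤ)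
    (p : Ideal A) [p.IsPrime] :
    LC17.gAnn ω (ModuleCat.of A M) i ≤ p ↔
      Nontrivial ((DF (extA A (Localization.AtPrime p))).obj (Dual.inD A M) ⟶
        ((DF (extA A (Localization.AtPrime p))).obj ω)⟦i⟧) := by
  haveI := hω.isNoetherianRing
  obtain ⟨a, b, hb, -⟩ := exists_bounds hω
  let B := Localization.AtPrime p
  have hg : Good B (Dual.inD A M) (ω⟦i⟧) := good_shift B (pc_inD M) (c := a) (fun j hj => hb j (Or.inl hj)) i
  let e : B ⊗[A] (Dual.inD A M ⟶ ω⟦i⟧) ≃ ((DF (extA A B)).obj (Dual.inD A M) ⟶ ((DF (extA A B)).obj ω)⟦i⟧) :=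
    (Equiv.ofBijective _ hg).trans (Iso.homToEquiv (((DF (extA A B)).commShiftIso i).app ω))
  rw [← e.nontrivial_congr, ← nontrivial_localized_iff hω M i ⟨p, inferInstance⟩]
  exact (LocalizedModule.equivTensorProduct p.primeCompl (Dual.inD A M ⟶ ω⟦i⟧)).toEquiv.nontrivial_congr

theorem gAnn_le_iff_atPrime (M : Type u) [AddCommGroup M] [Module A M] [Module.Finite A M] (i : ℤ)
    (p : Ideal A) [p.IsPrime] :
    LC17.gAnn ω (ModuleCat.of A M) i ≤ p ↔
      LC17.gAnn ((DF (extA A (Localization.AtPrime p))).obj ω)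
        (ModuleCat.of (Localization.AtPrime p) (Localization.AtPrime p ⊗[A] M)) i ≠ ⊤ := by
  rw [gAnn_le_iff_nontrivial hω M i p, Ne, ← subsingleton_gm_iff, not_subsingleton_iff_nontrivial]
  obtain ⟨e⟩ := rep_inD_baseChange (B := Localization.AtPrime p) (A := A) M
  exact (Iso.homFromEquiv e).nontrivial_congr

theorem mu_iff_atPrime (p : Ideal A) [p.IsPrime] (i : ℤ) :
    Mu ω p i ↔ Mu ((DF (extA A (Localization.AtPrime p))).obj ω)
      (IsLocalRing.maximalIdeal (Localization.AtPrime p)) i := by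
  rw [Mu, gAnn_le_iff_nontrivial hω (A ⧸ p) i p]
  obtain ⟨e⟩ := exists_inD_quotient_iso (A := A) (Localization.AtPrime p) p
  rw [(Iso.homFromEquiv e).nontrivial_congr, Localization.AtPrime.map_eq_maximalIdeal,
    ← not_subsingleton_iff_nontrivial, subsingleton_gm_iff]
  exact ⟨fun h => IsLocalRing.le_maximalIdeal h, fun h htop =>
    (IsLocalRing.maximalIdeal.isMaximal (Localization.AtPrime p)).ne_top (top_le_iff.1 (htop ▸ h))⟩

theorem exists_mu (p : Ideal A) [p.IsPrime] : ∃ i, Mu ω p i := by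
  obtain ⟨i, hi⟩ := exists_mu_maximalIdeal (isDualizing_atPrime hω p)
  exact ⟨i, (mu_iff_atPrime hω p i).2 hi⟩

/-- The ring has finite dimension. -/
theorem exists_dim_le : ∃ n : ℕ, ringKrullDim A ≤ (n : ℕ∞) := by
  haveI := hω.isNoetherianRing
  obtain ⟨a, b, hab⟩ := hω.finite_injective_dimension
  refine ⟨(b - a).toNat, iSup_le fun l => ?_⟩
  obtain ⟨i, hi⟩ := exists_mu hω (RelSeries.head l).asIdeal
  obtain ⟨j, hj, hj'⟩ := Mu.chain hω l hi
  have hb : ∀ (q : PrimeSpectrum A) (k : ℤ), Mu ω q.asIdeal k → a ≤ k ∧ k ≤ b := fun q k hk => by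
    by_contra hout
    have := subsingleton_gm_iff.1 (hab (A ⧸ q.asIdeal) k (by omega))
    exact q.2.ne_top (top_le_iff.1 (this ▸ hk))
  have h1 := hb _ _ hi
  have h2 := hb _ _ hj'
  exact_mod_cast (show l.length ≤ (b - a).toNat by omega)

section Local

variable [IsLocalRing A] (hn : Dual.IsNormalized A ω)
include hn

theorem isNormalized_atPrime (p : Ideal A) [p.IsPrime] {e : ℕ} (he : ringKrullDim (A ⧸ p) = (e : ℕ∞)) :
    Dual.IsNormalized (Localization.AtPrime p)
      (((DF (extA A (Localization.AtPrime p))).obj ω)⟦-(e : ℤ)⟧) := by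
  intro i hi
  refine @Equiv.subsingleton _ _ (Iso.homToEquiv ((shiftFunctorAdd' (Dual.D (Localization.AtPrime p))
    (-(e : ℤ)) i (-(e : ℤ) + i) rfl).app ((DF (extA A (Localization.AtPrime p))).obj ω)).symm) ?_
  show Subsingleton (Dual.inD (Localization.AtPrime p)
    (Localization.AtPrime p ⧸ IsLocalRing.maximalIdeal (Localization.AtPrime p)) ⟶ _)
  by_contra hne
  change ¬ Subsingleton (Dual.inD (Localization.AtPrime p)
    (Localization.AtPrime p ⧸ IsLocalRing.maximalIdeal (Localization.AtPrime p)) ⟶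
      ((DF (extA A (Localization.AtPrime p))).obj ω)⟦-(e : ℤ) + i⟧) at hne
  rw [subsingleton_gm_iff] at hne
  have := Mu.eq_neg_dim hω hn ((mu_iff_atPrime hω p (-(e : ℤ) + i)).2 (IsLocalRing.le_maximalIdeal hne)) he
  omega

theorem gAnn_le_iff_normalized (M : Type u) [AddCommGroup M] [Module A M] [Module.Finite A M] (i : ℤ)
    (p : Ideal A) [p.IsPrime] {e : ℕ} :
    LC17.gAnn ω (ModuleCat.of A M) i ≤ p ↔
      LC17.gAnn (((DF (extA A (Localization.AtPrime p))).obj ω)⟦-(e : ℤ)⟧)
        (ModuleCat.of (Localization.AtPrime p) (Localization.AtPrime p ⊗[A] M)) (i + e) ≠ ⊤ := by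
  rw [gAnn_le_iff_atPrime hω M i p, Ne, Ne, ← subsingleton_gm_iff, ← subsingleton_gm_iff]
  exact not_congr (Iso.homToEquiv ((shiftFunctorAdd' (Dual.D (Localization.AtPrime p))
    (-(e : ℤ)) (i + e) i (by omega)).app _)).subsingleton_congr

theorem dim_le_of_gAnn_le (M : Type u) [AddCommGroup M] [Module A M] [Module.Finite A M] {i : ℤ}
    {p : Ideal A} [p.IsPrime] (h : LC17.gAnn ω (ModuleCat.of A M) i ≤ p) {e : ℕ}
    (he : ringKrullDim (A ⧸ p) = (e : ℕ∞)) : (e : ℤ) ≤ -i := by
  by_contra hlt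
  exact (gAnn_le_iff_normalized hω hn M i p (e := e)).1 h
    (haveI := hω.isNoetherianRing
     haveI : IsNoetherianRing (Localization.AtPrime p) := IsLocalization.isNoetherianRing p.primeCompl _ inferInstance
     LC17.gAnn_pos (isDualizing_shift (isDualizing_atPrime hω p) _) (isNormalized_atPrime hω hn p he) _ (by omega))

theorem gAnn_zero_ne_top (M : Type u) [AddCommGroup M] [Module A M] [Module.Finite A M] [Nontrivial M]
    (hd : Module.supportDim A M ≤ ((0 : ℕ) : ℕ∞)) : LC17.gAnn ω (ModuleCat.of A M) 0 ≠ ⊤ := by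
  haveI := hω.isNoetherianRing
  intro htop
  let k := A ⧸ IsLocalRing.maximalIdeal A
  obtain ⟨N, hN⟩ : ∃ N : Submodule A M, IsCoatom N := by
    rcases eq_top_or_exists_le_coatom (⊥ : Submodule A M) with h | ⟨N, hN, -⟩
    · exact absurd h bot_ne_top
    · exact ⟨N, hN⟩
  haveI : IsSimpleModule A (M ⧸ N) := isSimpleModule_iff_isCoatom.2 hN
  obtain ⟨m, hm, ⟨eq⟩⟩ := isSimpleModule_iff_quot_maximal.1 (inferInstance : IsSimpleModule A (M ⧸ N))
  have hmk : LC17.gAnn ω (ModuleCat.of A (M ⧸ N)) 0 ≠ ⊤ := by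
    rw [LC17.gAnn_congr ω eq.toModuleIso, IsLocalRing.eq_maximalIdeal hm]
    exact LC17.gAnn_residue_zero hω hn
  let hS := LC17.shortExact_of_exact N.subtype N.mkQ (Submodule.subtype_injective _)
    (Submodule.mkQ_surjective _) (LinearMap.exact_subtype_mkQ N)
  have hK : LC17.gAnn ω (ModuleCat.of A N) (-1) = ⊤ := gAnn_top_of_lt hω hn 0 N
    ((Module.supportDim_le_of_injective N.subtype Subtype.val_injective).trans hd) (-1) (by norm_num)
  refine hmk (top_le_iff.1 ?_)
  have := LC17.gAnn_right ω hS 0 (-1) (by norm_num)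
  simp only [ModuleCat.of_coe] at this
  rw [htop, hK, Ideal.top_mul] at this
  exact this

theorem gAnn_le_of_minimal (M : Type u) [AddCommGroup M] [Module A M] [Module.Finite A M]
    (p : PrimeSpectrum A) (hp : Minimal (· ∈ Module.support A M) p) {e : ℕ}
    (he : ringKrullDim (A ⧸ p.asIdeal) = (e : ℕ∞)) :
    LC17.gAnn ω (ModuleCat.of A M) (-(e : ℤ)) ≤ p.asIdeal := by
  haveI := hω.isNoetherianRing
  haveI : IsNoetherianRing (Localization.AtPrime p.asIdeal) :=
    IsLocalization.isNoetherianRing p.asIdeal.primeCompl _ inferInstance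
  rw [gAnn_le_iff_normalized hω hn M _ p.asIdeal (e := e), show -(e : ℤ) + e = 0 by omega]
  have hsupp : Module.support (Localization.AtPrime p.asIdeal) (Localization.AtPrime p.asIdeal ⊗[A] M) ⊆
      {IsLocalRing.closedPoint (Localization.AtPrime p.asIdeal)} := fun Q hQ => by
    rw [Module.support_eq_zeroLocus, PrimeSpectrum.mem_zeroLocus, SetLike.coe_subset_coe] at hQ
    have h1 : PrimeSpectrum.comap (algebraMap A (Localization.AtPrime p.asIdeal)) Q ∈ Module.support A M := by
      rw [Module.mem_support_iff_of_finite]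
      intro a ha
      refine hQ (Module.mem_annihilator.2 fun y => ?_)
      rw [algebraMap_smul]
      induction y using TensorProduct.induction_on with
      | zero => rw [smul_zero]
      | tmul b m => rw [← TensorProduct.tmul_smul, Module.mem_annihilator.1 ha, TensorProduct.tmul_zero]
      | add x y hx hy => rw [smul_add, hx, hy, add_zero]
    have h2 : PrimeSpectrum.comap (algebraMap A (Localization.AtPrime p.asIdeal)) Q ≤ p := by
      have h := Ideal.comap_mono (f := algebraMap A (Localization.AtPrime p.asIdeal))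
        (IsLocalRing.le_maximalIdeal Q.2.ne_top)
      exact h.trans (Localization.AtPrime.comap_maximalIdeal (I := p.asIdeal)).le
    have h3 := le_antisymm h2 (hp.2 h1 h2)
    refine PrimeSpectrum.ext (le_antisymm (IsLocalRing.le_maximalIdeal Q.2.ne_top) ?_)
    show IsLocalRing.maximalIdeal (Localization.AtPrime p.asIdeal) ≤ _
    rw [← Localization.AtPrime.map_eq_maximalIdeal (I := p.asIdeal), Ideal.map_le_iff_le_comap]
    exact (le_of_eq (congrArg PrimeSpectrum.asIdeal h3).symm)
  haveI : Nontrivial (Localization.AtPrime p.asIdeal ⊗[A] M) :=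
    (LocalizedModule.equivTensorProduct p.asIdeal.primeCompl M).toEquiv.nontrivial_congr.1
      (Module.mem_support_iff.1 hp.1)
  refine gAnn_zero_ne_top (isDualizing_shift (isDualizing_atPrime hω p.asIdeal) _)
    (isNormalized_atPrime hω hn p.asIdeal he) _ (le_supportDim_quotient fun Q hQ => ?_)
  obtain rfl := hsupp hQ
  rw [show (IsLocalRing.closedPoint (Localization.AtPrime p.asIdeal)).asIdeal =
    IsLocalRing.maximalIdeal (Localization.AtPrime p.asIdeal) from rfl]
  haveI : IsField (Localization.AtPrime p.asIdeal ⧸ IsLocalRing.maximalIdeal (Localization.AtPrime p.asIdeal)) :=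
    (Ideal.Quotient.maximal_ideal_iff_isField_quotient _).1 inferInstance
  rw [ringKrullDim_eq_zero_of_isField ‹_›]
  rfl

theorem depth_spec : ∀ (n : ℕ) (M : Type u) [AddCommGroup M] [Module A M] [Module.Finite A M]
    [Nontrivial M], LocCoh.depth A M = n →
    (∀ δ : ℕ, δ < n → LC17.gAnn ω (ModuleCat.of A M) (-(δ : ℤ)) = ⊤) ∧
      LC17.gAnn ω (ModuleCat.of A M) (-(n : ℤ)) ≠ ⊤ := by
  haveI := hω.isNoetherianRing
  intro n
  induction n with
  | zero =>
    intro M _ _ _ _ h
    refine ⟨fun δ hδ => absurd hδ (by omega), fun htop => ?_⟩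
    rw [Nat.cast_zero, neg_zero] at htop
    rw [Nat.cast_zero, EGA4Alg4.depth_eq_zero_iff, EGA4Alg4.maximalIdeal_mem_assoc_iff_nontrivial_hom] at h
    obtain ⟨φ, hφ⟩ := exists_ne (0 : IsLocalRing.ResidueField A →ₗ[A] M)
    have hinj : Function.Injective φ := by
      haveI : IsSimpleModule A (IsLocalRing.ResidueField A) :=
        show IsSimpleModule A (A ⧸ IsLocalRing.maximalIdeal A) from
        isSimpleModule_iff_isCoatom.2 (Ideal.isMaximal_def.1 inferInstance)
      have := this
      exact (LinearMap.injective_or_eq_zero φ).resolve_right hφ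
    let hS := LC17.shortExact_of_exact (φ : (A ⧸ IsLocalRing.maximalIdeal A) →ₗ[A] M)
      (LinearMap.range φ).mkQ hinj (Submodule.mkQ_surjective _) (LinearMap.exact_map_mkQ_range φ)
    refine LC17.gAnn_residue_zero hω hn (top_le_iff.1 ?_)
    have := LC17.gAnn_left ω hS 0 1 rfl
    simp only [ModuleCat.of_coe] at this
    rw [htop, LC17.gAnn_pos hω hn _ one_pos, Ideal.top_mul] at this
    exact this
  | succ n ih =>
    intro M _ _ _ _ h
    obtain ⟨x, hxm, hreg⟩ : ∃ x ∈ IsLocalRing.maximalIdeal A, IsSMulRegular M x := by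
      by_contra hno
      simp only [not_exists, not_and] at hno
      have h0 := EGA4Alg4.depth_eq_zero_iff.2 (EGA4Alg4.maximalIdeal_mem_assoc_iff.2 hno)
      rw [h] at h0
      exact absurd h0 (by exact_mod_cast n.succ_ne_zero)
    haveI := nontrivial_quotSMulTop_of_mem_maximalIdeal M hxm
    have hd' : LocCoh.depth A (QuotSMulTop x M) = n := by
      have h' := EGA4Alg4.depth_quotSMulTop_add_one (M := M) hxm hreg
      rw [h] at h'
      exact (ENat.add_left_injective_of_ne_top ENat.one_ne_top) (h'.trans (by simp))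
    obtain ⟨h1, h2⟩ := ih (QuotSMulTop x M) hd'
    let f : M →ₗ[A] M := x • LinearMap.id
    let hS := LC17.shortExact_of_exact f (Submodule.mkQ (x • ⊤ : Submodule A M)) hreg
      (Submodule.mkQ_surjective _) (by
        intro y
        rw [Submodule.mkQ_apply, Submodule.Quotient.mk_eq_zero, Submodule.mem_smul_pointwise_iff_exists]
        exact ⟨fun ⟨z, _, hz⟩ => ⟨z, hz⟩, fun ⟨z, hz⟩ => ⟨z, trivial, hz⟩⟩)
    have hzero : ∀ δ : ℕ, δ < n + 1 → LC17.gAnn ω (ModuleCat.of A M) (-(δ : ℤ)) = ⊤ := by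
      intro δ hδ
      have hC : LC17.gAnn ω (ModuleCat.of A (QuotSMulTop x M)) (-(δ : ℤ) + 1) = ⊤ := by
        rcases Nat.eq_zero_or_pos δ with rfl | hpos
        · exact LC17.gAnn_pos hω hn _ (by norm_num)
        · rw [show -(δ : ℤ) + 1 = -((δ - 1 : ℕ) : ℤ) by omega]
          exact h1 _ (by omega)
      haveI := LC17.finite_GM hω (-(δ : ℤ)) M
      have htop : (⊤ : Submodule A (LC17.GM ω (ModuleCat.of A M) (-(δ : ℤ)))) ≤
          IsLocalRing.maximalIdeal A • ⊤ := fun g _ => by
        obtain ⟨h, hh⟩ := LC17.pre_surjective_of_gAnn_eq_top ω hS (-(δ : ℤ)) (-(δ : ℤ) + 1) rfl hC g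
        rw [← hh, show LC17.pre ω (ModuleCat.ofHom f) _ h = x • h from LC17.pre_smul_id ω x _ h]
        exact Submodule.smul_mem_smul hxm trivial
      have := Submodule.eq_bot_of_le_smul_of_le_jacobson_bot _ _ Module.Finite.fg_top htop
        (IsLocalRing.jacobson_eq_maximalIdeal ⊥ bot_ne_top).ge
      rw [LC17.gAnn_eq_top_iff]
      intro g
      exact (Submodule.mem_bot A).1 (this ▸ (trivial : g ∈ (⊤ : Submodule A _)))
    refine ⟨hzero, fun htop => h2 ?_⟩
    rw [LC17.gAnn_eq_top_iff]
    intro g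
    obtain ⟨g', hg'⟩ := LC17.exact₃ ω hS (-((n + 1 : ℕ) : ℤ)) (-(n : ℤ)) (by omega) g
      ((LC17.gAnn_eq_top_iff ω).1 (hzero n (by omega)) _)
    rw [← hg', (LC17.gAnn_eq_top_iff ω).1 htop g', map_zero]

theorem depth_eq_iff (M : Type u) [AddCommGroup M] [Module A M] [Module.Finite A M] [Nontrivial M] (n : ℕ) :
    LocCoh.depth A M = n ↔ ((∀ δ : ℕ, δ < n → Subsingleton (Dual.inD A M ⟶ ω⟦(-(δ : ℤ))⟧)) ∧
      Nontrivial (Dual.inD A M ⟶ ω⟦(-(n : ℤ))⟧)) := by
  haveI := hω.isNoetherianRing
  simp only [← not_subsingleton_iff_nontrivial, subsingleton_gm_iff]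
  refine ⟨depth_spec hω hn n M, fun ⟨h1, h2⟩ => ?_⟩
  obtain ⟨m, hm⟩ := EGA4Alg4.exists_depth_eq (A := A) (M := M)
  obtain ⟨h1', h2'⟩ := depth_spec hω hn m M hm
  rcases lt_trichotomy m n with hlt | rfl | hlt
  · exact absurd (h1 m hlt) h2'
  · exact hm
  · exact absurd (h1' n hlt) h2

end Local

end Groth.Agent.DR39
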