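import Groth.Agent.DR39.SmoothBC
import Groth.Agent.DR39.FiniteRight
import Groth.Agent.DR39.Gldim
import Groth.Agent.DR39.Dualizing2
import Groth.Agent.DR39.LocalDual2
import Groth.Agent.Shriek42.Adj
import Groth.Agent.EGA4H10.CompleteUC

/-! Existence of dualizing complexes. -/

set_option autoImplicit false
set_option linter.style.haveILetI false
set_option backward.isDefEq.respectTransparency false

universe u

open CategoryTheory

attribute [local instance] HasDerivedCategory.standard

namespace Groth.Agent.DR39

theorem exists_dualizing_of_regular (S : Type u) [CommRing S] [IsRegularLocalRing S] :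
    ∃ ω : Dual.D S, Dual.IsDualizing S ω := by
  refine ⟨_, isDualizing_self_of_gldim (A := S) (IsLocalRing.maximalIdeal S).spanFinrank
    (gldim_of_regular (fun p => EGA4H10.regular_localization S p.asIdeal) _ ?_)⟩
  rw [IsRegularLocalRing.spanFinrank_maximalIdeal (R := S)]

theorem exists_dualizing_of_surjective {A B : Type u} [CommRing A] [CommRing B] (φ : A →+* B)
    (hφ : Function.Surjective φ) (h : ∃ ω : Dual.D A, Dual.IsDualizing A ω) :
    ∃ ω : Dual.D B, Dual.IsDualizing B ω := by
  obtain ⟨ω, hω⟩ := h
  haveI := hω.isNoetherianRing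
  letI := φ.toAlgebra
  haveI : IsNoetherianRing B := isNoetherianRing_of_surjective A B φ hφ
  haveI : Module.Finite A B := Module.Finite.of_surjective (Algebra.linearMap A B) hφ
  exact ⟨_, isDualizing_right (Shriek42.rightDAdj (algebraMap A B)) hω⟩

theorem exists_dualizing_essFiniteType {A B : Type u} [CommRing A] [CommRing B] [Algebra A B]
    [Algebra.EssFiniteType A B] (h : ∃ ω : Dual.D A, Dual.IsDualizing A ω) :
    ∃ ω : Dual.D B, Dual.IsDualizing B ω := by
  obtain ⟨ω, hω⟩ := h
  haveI := hω.isNoetherianRing
  let S₀ := Algebra.EssFiniteType.subalgebra A B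
  obtain ⟨m, f, hf⟩ := Algebra.FiniteType.iff_quotient_mvPolynomial''.1
    (inferInstance : Algebra.FiniteType A S₀)
  haveI : Algebra.Smooth A (MvPolynomial (Fin m) A) := ⟨inferInstance, inferInstance⟩
  obtain ⟨ω₀, h₀⟩ := exists_dualizing_of_surjective f.toRingHom hf
    ⟨_, isDualizing_smooth hω (MvPolynomial (Fin m) A)⟩
  haveI := h₀.isNoetherianRing
  let M := Algebra.EssFiniteType.submonoid A B
  haveI : Module.Flat S₀ B := IsLocalization.flat B M
  haveI : IsNoetherianRing B := IsLocalization.isNoetherianRing M B inferInstance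
  exact ⟨_, isDualizing_DF_of_extended B h₀ fun J => ⟨J.comap (algebraMap S₀ B), IsLocalization.map_under M B J⟩⟩

theorem exists_dualizing_complete (A : Type u) [CommRing A] [IsLocalRing A] [IsNoetherianRing A]
    [IsAdicComplete (IsLocalRing.maximalIdeal A) A] : ∃ ω : Dual.D A, Dual.IsDualizing A ω := by
  obtain ⟨S, _, hS, φ, hφ⟩ := EGA4H10.exists_regular_surjection A
  exact exists_dualizing_of_surjective φ hφ (exists_dualizing_of_regular S)

end Groth.Agent.DR39
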