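import Groth.Agent.DR39.SemiFree
import Groth.Agent.DR39.TensorMap
import Groth.Agent.DR39.Rep
import Groth.Prelude.Def_KFlatSite

/-! Factorisation of a morphism out of a K-flat complex. -/

set_option autoImplicit false
set_option linter.style.haveILetI false
set_option linter.unusedSectionVars false

universe u

open CategoryTheory CategoryTheory.Limits

namespace Groth.Agent.DR39

variable {A : Type u} [CommRing A] (K R : DRing.Cx A) (w : ∀ i, R.X i →ₗ[A] K.X (i + 1))
  (hw : ∀ i x, (K.d (i + 1) (i + 1 + 1)).hom (w i x) = - w (i + 1) ((R.d i (i + 1)).hom x))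

/-- Differential of an extension. -/
noncomputable def extD (i : ℤ) : (K.X i × R.X i) →ₗ[A] K.X (i + 1) × R.X (i + 1) :=
  ((K.d i (i + 1)).hom ∘ₗ LinearMap.fst A _ _ + w i ∘ₗ LinearMap.snd A _ _).prod
    ((R.d i (i + 1)).hom ∘ₗ LinearMap.snd A _ _)

/-- The extension of `R` by `K` along `w`. -/
noncomputable def extnCx : DRing.Cx A :=
  CochainComplex.of (fun i => ModuleCat.of A (K.X i × R.X i)) (fun i => ModuleCat.ofHom (extD K R w i))
    fun i => ModuleCat.hom_ext (LinearMap.ext fun x => by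
      show extD K R w (i + 1) (extD K R w i x) = 0
      refine Prod.ext ?_ (d_apply_d R _ _ _ _)
      show (K.d (i + 1) (i + 1 + 1)).hom ((K.d i (i + 1)).hom x.1 + w i x.2) +
        w (i + 1) ((R.d i (i + 1)).hom x.2) = 0
      rw [map_add, d_apply_d, hw, zero_add, neg_add_cancel])

theorem extnCx_d (i : ℤ) (x : K.X i × R.X i) :
    ((extnCx K R w hw).d i (i + 1)).hom x =
      ((K.d i (i + 1)).hom x.1 + w i x.2, (R.d i (i + 1)).hom x.2) := by
  have h : (extnCx K R w hw).d i (i + 1) = ModuleCat.ofHom (extD K R w i) :=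
    CochainComplex.of_d (fun i => ModuleCat.of A (K.X i × R.X i)) (fun i => ModuleCat.ofHom (extD K R w i)) i
  rw [h]
  rfl

/-- An element as a pair. -/
noncomputable def pr (i : ℤ) : (extnCx K R w hw).X i →ₗ[A] K.X i × R.X i := LinearMap.id

theorem pr_d (i : ℤ) (x : (extnCx K R w hw).X i) :
    pr K R w hw (i + 1) (((extnCx K R w hw).d i (i + 1)).hom x) =
      ((K.d i (i + 1)).hom (pr K R w hw i x).1 + w i (pr K R w hw i x).2,
        (R.d i (i + 1)).hom (pr K R w hw i x).2) := extnCx_d K R w hw i x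

/-- `K[1]`. -/
noncomputable def sh (K : DRing.Cx A) : DRing.Cx A :=
  CochainComplex.of (fun i => K.X (i + 1)) (fun i => -K.d (i + 1) (i + 1 + 1))
    fun i => by simp

theorem sh_d (K : DRing.Cx A) (i : ℤ) (x : K.X (i + 1)) :
    ((sh K).d i (i + 1)).hom x = -(K.d (i + 1) (i + 1 + 1)).hom x := by
  have h : (sh K).d i (i + 1) = -K.d (i + 1) (i + 1 + 1) :=
    CochainComplex.of_d (fun i => K.X (i + 1)) (fun i => -K.d (i + 1) (i + 1 + 1)) i
  rw [h]
  rfl

/-- The inclusion. -/
noncomputable def extnInl : K ⟶ extnCx K R w hw where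
  f i := ModuleCat.ofHom (LinearMap.inl A (K.X i) (R.X i))
  comm' i j hij := by
    change i + 1 = j at hij
    subst hij
    refine ModuleCat.hom_ext (LinearMap.ext fun x => ?_)
    exact (extnCx_d K R w hw i (x, 0)).trans (Prod.ext (by simp; rfl) (by simp; rfl))

/-- The projection. -/
noncomputable def extnSnd : extnCx K R w hw ⟶ R where
  f i := ModuleCat.ofHom (LinearMap.snd A (K.X i) (R.X i))
  comm' i j hij := by
    change i + 1 = j at hij
    subst hij
    refine ModuleCat.hom_ext (LinearMap.ext fun x => ?_)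
    exact (congrArg Prod.snd (extnCx_d K R w hw i x)).symm

theorem kflat_extnCx (hK : DRing.IsKFlat A K) (hR : DRing.IsKFlat A R)
    (hf : ∀ i, Module.Flat A (R.X i)) : DRing.IsKFlat A (extnCx K R w hw) := by
  let S : ShortComplex (DRing.Cx A) := ShortComplex.mk (extnInl K R w hw) (extnSnd K R w hw)
    (HomologicalComplex.hom_ext _ _ fun i => ModuleCat.hom_ext (LinearMap.ext fun x => rfl))
  have hS : S.ShortExact := HomologicalComplex.shortExact_of_degreewise_shortExact _ fun i => by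
    haveI : Mono (S.map (HomologicalComplex.eval _ _ i)).f :=
      (ModuleCat.mono_iff_injective _).2 fun x y h => congrArg Prod.fst h
    haveI : Epi (S.map (HomologicalComplex.eval _ _ i)).g :=
      (ModuleCat.epi_iff_surjective _).2 fun x => ⟨((0, x) : K.X i × R.X i), rfl⟩
    refine { exact := (ShortComplex.moduleCat_exact_iff _).2 fun (x : K.X i × R.X i) hx => ?_ }
    exact ⟨x.1, Prod.ext rfl hx.symm⟩
  exact (kflat_two_out_of_three S hS hf).2.1 hK hR

theorem exists_factorization (K L : DRing.Cx A) (a : K ⟶ L) (hK : DRing.IsKFlat A K) :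
    ∃ (N : DRing.Cx A) (b : K ⟶ N) (c : N ⟶ L), DRing.IsKFlat A N ∧ QuasiIso c ∧ a = b ≫ c ∧
      ((∀ i, Module.Flat A (K.X i)) → ∀ i, Module.Flat A (N.X i)) := by
  have hK1 : ∀ i (x : K.X (i + 1)), ((sh K).d i (i + 1)).hom x = -(K.d (i + 1) (i + 1 + 1)).hom x :=
    sh_d K
  let u : ∀ i, (sh K).X i →ₗ[A] L.X (i + 1) := fun i => (a.f (i + 1)).hom
  have hu : ∀ i x, (L.d (i + 1) (i + 1 + 1)).hom (u i x) = - u (i + 1) (((sh K).d i (i + 1)).hom x) := fun i x => by
    rw [hK1]
    show _ = -(a.f (i + 1 + 1)).hom (-(K.d (i + 1) (i + 1 + 1)).hom x)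
    rw [map_neg, neg_neg, f_apply_d]
    rfl
  let C := extnCx L (sh K) u hu
  let pC : ∀ i, C.X i →ₗ[A] L.X i × K.X (i + 1) := fun i => pr L (sh K) u hu i
  have hCd : ∀ i (x : C.X i), pC (i + 1) ((C.d i (i + 1)).hom x) =
      ((L.d i (i + 1)).hom (pC i x).1 + (a.f (i + 1)).hom (pC i x).2,
        -(K.d (i + 1) (i + 1 + 1)).hom (pC i x).2) := fun i x =>
    (pr_d L (sh K) u hu i x).trans (Prod.ext rfl (hK1 i _))
  let R := SF.res C
  let q := SF.aug C
  let v : ∀ i, R.X i →ₗ[A] L.X i := fun i => LinearMap.fst A _ _ ∘ₗ pC i ∘ₗ (q.f i).hom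
  let w : ∀ i, R.X i →ₗ[A] K.X (i + 1) := fun i => LinearMap.snd A _ _ ∘ₗ pC i ∘ₗ (q.f i).hom
  have hq : ∀ i x, ((v (i + 1) ((R.d i (i + 1)).hom x)) =
      (L.d i (i + 1)).hom (v i x) + (a.f (i + 1)).hom (w i x)) ∧
      w (i + 1) ((R.d i (i + 1)).hom x) = -(K.d (i + 1) (i + 1 + 1)).hom (w i x) := by
    intro i x
    have h := (congrArg (pC (i + 1)) (f_apply_d q i (i + 1) x)).trans (hCd i ((q.f i).hom x))
    exact ⟨congrArg Prod.fst h, congrArg Prod.snd h⟩
  have hw : ∀ i x, (K.d (i + 1) (i + 1 + 1)).hom (w i x) = - w (i + 1) ((R.d i (i + 1)).hom x) :=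
    fun i x => by rw [(hq i x).2, neg_neg]
  let N := extnCx K R w hw
  have hNd : ∀ i (x : K.X i × R.X i), (N.d i (i + 1)).hom x =
      ((K.d i (i + 1)).hom x.1 + w i x.2, (R.d i (i + 1)).hom x.2) := extnCx_d K R w hw
  let c : N ⟶ L :=
    { f := fun i => ModuleCat.ofHom ((a.f i).hom ∘ₗ LinearMap.fst A _ _ - v i ∘ₗ LinearMap.snd A _ _)
      comm' := fun i j hij => by
        change i + 1 = j at hij
        subst hij
        refine ModuleCat.hom_ext (LinearMap.ext fun (x : K.X i × R.X i) => ?_)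
        show (L.d i (i + 1)).hom ((a.f i).hom x.1 - v i x.2) =
          (a.f (i + 1)).hom ((N.d i (i + 1)).hom x).1 - v (i + 1) ((N.d i (i + 1)).hom x).2
        rw [hNd, map_sub, map_add, (hq i x.2).1, ← f_apply_d]
        abel }
  refine ⟨N, extnInl K R w hw, c, kflat_extnCx K R w hw hK
    (haveI := SF.isKProjective_res C; isKFlat_of_isKProjective)
    (fun i => haveI := SF.free_res C i; Module.Flat.of_free), ?_, ?_, fun hf i => ?_⟩
  · refine ⟨fun i => ?_⟩
    obtain ⟨j, rfl⟩ : ∃ j, i = j + 1 := ⟨i - 1, by omega⟩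
    have key : ∀ j' (h : j' = j), (N.d j' (j + 1)).hom.range = (N.d j (j + 1)).hom.range ∧
        (L.d j' (j + 1)).hom.range = (L.d j (j + 1)).hom.range := by rintro _ rfl; exact ⟨rfl, rfl⟩
    obtain ⟨hNr, hLr⟩ := key (j + 1 - 1) (by omega)
    refine quasiIsoAt_of_elements _ _ (fun (x : K.X (j + 1) × R.X (j + 1)) hx y hy => ?_) fun z hz => ?_
    · obtain ⟨l, hl⟩ : (c.f (j + 1)).hom x ∈ (L.d j (j + 1)).hom.range := hLr ▸ ⟨y, hy⟩
      have hl' : (L.d j (j + 1)).hom l = (a.f (j + 1)).hom x.1 - v (j + 1) x.2 := hl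
      rw [hNd] at hx
      have hx1 : (K.d (j + 1) (j + 1 + 1)).hom x.1 + w (j + 1) x.2 = 0 := congrArg Prod.fst hx
      have hx2 : (R.d (j + 1) (j + 1 + 1)).hom x.2 = 0 := congrArg Prod.snd hx
      have keyq : ∀ j' (h : j' = j), ∀ y' : C.X j', (C.d j' (j + 1)).hom y' = (q.f (j + 1)).hom x.2 →
          QuasiIsoAt q (j + 1) → x.2 ∈ (R.d j (j + 1)).hom.range := by
        rintro j rfl y' hy' hqi
        rw [quasiIsoAt_iff_isIso_homologyMap, isIso_iff_bijective] at hqi
        obtain ⟨s, hs⟩ := (injective_homologyMap_iff q (j + 1)).1 hqi.1 x.2 hx2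
          ((C.XIsoOfEq (show j = j + 1 - 1 by omega)).hom.hom y') (by rw [SF.XIsoOfEq_d]; exact hy')
        exact ⟨(R.XIsoOfEq (show j + 1 - 1 = j by omega)).hom.hom s, by rw [SF.XIsoOfEq_d]; exact hs⟩
      obtain ⟨s, hs⟩ := keyq j rfl ((-l, x.1) : L.X j × K.X (j + 1)) (by
        show pC (j + 1) ((C.d j (j + 1)).hom _) = pC (j + 1) ((q.f (j + 1)).hom x.2)
        rw [hCd]
        refine Prod.ext ?_ ?_
        · show (L.d j (j + 1)).hom (-l) + (a.f (j + 1)).hom x.1 = v (j + 1) x.2
          rw [map_neg, hl']; abel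
        · show -(K.d (j + 1) (j + 1 + 1)).hom x.1 = w (j + 1) x.2
          exact neg_eq_of_add_eq_zero_right hx1) inferInstance
      let k' := x.1 - w j s
      have hcyc : (C.d j (j + 1)).hom ((-(l + v j s), k') : L.X j × K.X (j + 1)) = 0 := by
        show pC (j + 1) _ = ((0, 0) : L.X (j + 1) × K.X (j + 1 + 1))
        refine (hCd _ _).trans ?_
        refine Prod.ext ?_ ?_
        · show (L.d j (j + 1)).hom (-(l + v j s)) + (a.f (j + 1)).hom (x.1 - w j s) = 0
          have := (hq j s).1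
          rw [hs] at this
          rw [map_neg, map_add, map_sub, hl', this]
          abel
        · show -(K.d (j + 1) (j + 1 + 1)).hom (x.1 - w j s) = 0
          have := (hq j s).2
          rw [hs] at this
          rw [map_sub, neg_eq_zero, sub_eq_zero, eq_neg_of_add_eq_zero_left hx1, this, neg_neg]
      have hqj : QuasiIsoAt q j := inferInstance
      rw [quasiIsoAt_iff_isIso_homologyMap, isIso_iff_bijective] at hqj
      obtain ⟨t, ht, y'', hy''⟩ := (surjective_homologyMap_iff q j).1 hqj.2 _ hcyc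
      have ht2 : w j t - k' = -(K.d j (j + 1)).hom
          ((K.XIsoOfEq (show j - 1 + 1 = j by omega)).hom.hom (pC (j - 1) y'').2) := by
        rw [SF.XIsoOfEq_d]
        have hC : ∀ j' (h : j' + 1 = j) (y : C.X j'), (pC j ((C.d j' j).hom y)).2 =
            -(K.d (j' + 1) (j + 1)).hom (pC j' y).2 := by
          rintro j' rfl y
          rw [hCd]
        have h2 : -(K.d (j - 1 + 1) (j + 1)).hom (pC (j - 1) y'').2 = w j t - k' :=
          ((hC (j - 1) (by omega) y'').symm.trans (congrArg (fun e => (pC j e).2) hy'')).trans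
            (by simp [map_sub, w, pC, pr]; rfl)
        exact h2.symm
      rw [hNr]
      refine ⟨(((K.XIsoOfEq (show j - 1 + 1 = j by omega)).hom.hom (pC (j - 1) y'').2, s + t) : K.X j × R.X j), ?_⟩
      rw [hNd]
      refine Prod.ext ?_ ?_
      · show (K.d j (j + 1)).hom _ + w j (s + t) = x.1
        rw [← neg_eq_iff_eq_neg.2 ht2, map_add]
        simp only [k']
        abel
      · show (R.d j (j + 1)).hom (s + t) = x.2
        rw [map_add, ht, add_zero, hs]
    · have hq' : QuasiIsoAt q (j + 1) := inferInstance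
      rw [quasiIsoAt_iff_isIso_homologyMap, isIso_iff_bijective] at hq'
      obtain ⟨r, hr, y, hy⟩ := (surjective_homologyMap_iff q (j + 1)).1 hq'.2
        ((z, 0) : L.X (j + 1) × K.X (j + 1 + 1)) (by
          show pC (j + 1 + 1) _ = ((0, 0) : L.X (j + 1 + 1) × K.X (j + 1 + 1 + 1))
          refine (hCd _ _).trans ?_
          refine Prod.ext ?_ ?_
          · show (L.d _ _).hom z + (a.f _).hom 0 = 0
            rw [map_zero, hz, add_zero]
          · show -(K.d _ _).hom 0 = 0
            rw [map_zero, neg_zero])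
      have keyC : ∀ j' (h : j' = j) (y : C.X j') (e : C.X (j + 1)), (C.d j' (j + 1)).hom y = e →
          ∃ y0, (C.d j (j + 1)).hom y0 = e := by
        rintro _ rfl y e h; exact ⟨y, h⟩
      obtain ⟨y0, hy0⟩ := keyC _ (by omega) y _ hy
      obtain ⟨y', hy'⟩ : ∃ y' : L.X j × K.X (j + 1), ((L.d j (j + 1)).hom y'.1 + (a.f (j + 1)).hom y'.2,
          -(K.d (j + 1) (j + 1 + 1)).hom y'.2) = (v (j + 1) r - z, w (j + 1) r) :=
        ⟨pC j y0, (hCd j y0).symm.trans ((congrArg (pC (j + 1)) hy0).trans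
          ((map_sub (pC (j + 1)) _ _).trans (Prod.ext rfl (sub_zero _))))⟩
      have h1 : (L.d j (j + 1)).hom y'.1 + (a.f (j + 1)).hom y'.2 = v (j + 1) r - z := congrArg Prod.fst hy'
      have h2 : -(K.d (j + 1) (j + 1 + 1)).hom y'.2 = w (j + 1) r := congrArg Prod.snd hy'
      refine ⟨((-y'.2, -r) : K.X (j + 1) × R.X (j + 1)), ?_, ?_⟩
      · rw [hNd]
        refine Prod.ext ?_ ?_
        · show (K.d _ _).hom (-y'.2) + w (j + 1) (-r) = 0
          rw [map_neg, map_neg, h2, add_neg_cancel]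
        · show (R.d _ _).hom (-r) = 0
          rw [map_neg, hr, neg_zero]
      · rw [hLr]
        refine ⟨y'.1, ?_⟩
        show _ = (a.f (j + 1)).hom (-y'.2) - v (j + 1) (-r) - z
        rw [map_neg, map_neg, eq_sub_of_add_eq h1]
        abel
  · refine HomologicalComplex.hom_ext _ _ fun i => ModuleCat.hom_ext (LinearMap.ext fun x => ?_)
    show (a.f i).hom x = (a.f i).hom x - v i 0
    rw [map_zero, sub_zero]
  · haveI := hf i
    haveI : Module.Flat A (R.X i) := by haveI := SF.free_res C i; exact Module.Flat.of_free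
    exact flat_prod (K.X i) (R.X i)

end Groth.Agent.DR39
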