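import Groth.Agent.DR39.Nilpotent
import Groth.Agent.DR39.Perf
import Mathlib.LinearAlgebra.Matrix.Charpoly.LinearMap
import Mathlib.LinearAlgebra.TensorProduct.Quotient
import Mathlib.LinearAlgebra.Basis.VectorSpace

/-! Fibrewise criterion for perfectness. -/

set_option autoImplicit false
set_option linter.style.haveILetI false
set_option linter.unusedSectionVars false

universe u

open CategoryTheory CategoryTheory.Limits CategoryTheory.Pretriangulated
open scoped TensorProduct Polynomial

attribute [local instance] HasDerivedCategory.standard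

namespace Groth.Agent.DR39

/-- An exact sequence of vector spaces admits a homotopy. -/
theorem exists_homotopy_of_exact {k U V W : Type*} [Field k] [AddCommGroup U] [Module k U]
    [AddCommGroup V] [Module k V] [AddCommGroup W] [Module k W]
    (f : U →ₗ[k] V) (g : V →ₗ[k] W) (h : Function.Exact f g) :
    ∃ (l : V →ₗ[k] U) (r : W →ₗ[k] V), ∀ x, f (l x) + r (g x) = x := by
  obtain ⟨σ, hσ⟩ := g.rangeRestrict.exists_rightInverse_of_surjective g.range_rangeRestrict
  obtain ⟨π, hπ⟩ := (LinearMap.range g).subtype.exists_leftInverse_of_injective (Submodule.ker_subtype _)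
  obtain ⟨τ, hτ⟩ := f.rangeRestrict.exists_rightInverse_of_surjective f.range_rangeRestrict
  let r := σ ∘ₗ π
  have he : ∀ x, (LinearMap.id - r ∘ₗ g : V →ₗ[k] V) x ∈ LinearMap.range f := fun x => by
    refine (h _).1 ?_
    have h1 : π (g x) = g.rangeRestrict x := LinearMap.congr_fun hπ (g.rangeRestrict x)
    have h2 : g (σ (g.rangeRestrict x)) = g x :=
      congrArg Subtype.val (LinearMap.congr_fun hσ (g.rangeRestrict x))
    simp [r, h1, h2]
  let e : V →ₗ[k] LinearMap.range f := LinearMap.codRestrict _ _ he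
  refine ⟨τ ∘ₗ e, r, fun x => ?_⟩
  have h3 : f (τ (e x)) = (e x).1 := congrArg Subtype.val (LinearMap.congr_fun hτ (e x))
  rw [LinearMap.comp_apply, h3]
  show x - r (g x) + r (g x) = x
  exact sub_add_cancel _ _

variable {R : Type u} [CommRing R]

/-- An endomorphism congruent to the identity is invertible up to a scalar outside the ideal. -/
theorem exists_factor_of_congr_id {M : Type u} [AddCommGroup M] [Module R M] [Module.Finite R M]
    {m : Ideal R} (hm : m ≠ ⊤) (u : Module.End R M) (hu : ∀ x, u x - x ∈ m • (⊤ : Submodule R M)) :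
    ∃ s : R, s ∉ m ∧ ∃ q : R[X], ∀ x, s • x = u (Polynomial.aeval u q x) := by
  obtain ⟨p, hp, -, hcoeff, hp0⟩ :=
    LinearMap.exists_monic_and_natDegree_eq_and_coeff_mem_pow_and_aeval_eq_zero R (1 - u) m (by
      rintro _ ⟨x, rfl⟩
      show x - u x ∈ _
      rw [← neg_sub]
      exact neg_mem (hu x))
  let P : R[X] := p.comp (1 - Polynomial.X)
  have hP0 : Polynomial.aeval u P = 0 := by
    simp [P, Polynomial.aeval_comp, hp0]
  have hs : P.coeff 0 = p.eval 1 := by
    rw [Polynomial.coeff_zero_eq_eval_zero]; simp [P]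
  refine ⟨P.coeff 0, fun hmem => hm ?_, -P.divX, fun x => ?_⟩
  · rw [Ideal.eq_top_iff_one]
    have hmap : p.map (Ideal.Quotient.mk m) = Polynomial.X ^ p.natDegree := by
      ext k
      rw [Polynomial.coeff_map, Polynomial.coeff_X_pow]
      by_cases hk : k = p.natDegree
      · subst hk
        rw [if_pos rfl, hp.coeff_natDegree, map_one]
      · rw [if_neg hk, Ideal.Quotient.eq_zero_iff_mem]
        rcases lt_or_gt_of_ne hk with hlt | hgt
        · exact Ideal.pow_le_self (by omega) (hcoeff k)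
        · rw [Polynomial.coeff_eq_zero_of_natDegree_lt hgt]
          exact m.zero_mem
    have h1 : Ideal.Quotient.mk m (p.eval 1) = 1 := by
      have := (Polynomial.eval_map_apply (p := p) (f := Ideal.Quotient.mk m) 1).symm
      rw [map_one, hmap] at this
      simpa using this
    rw [hs] at hmem
    rw [Ideal.Quotient.eq_zero_iff_mem.2 hmem] at h1
    exact Ideal.Quotient.eq_zero_iff_mem.1 (by rw [map_one]; exact h1.symm)
  · have := congrArg (fun g : Module.End R M => g x)
      ((congrArg (Polynomial.aeval u) P.X_mul_divX_add).trans hP0)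
    simp only [map_add, map_mul, Polynomial.aeval_X, Polynomial.aeval_C, LinearMap.add_apply, Module.End.mul_apply,
      Module.algebraMap_end_apply, LinearMap.zero_apply] at this
    simp only [map_neg, LinearMap.neg_apply]
    rw [← sub_eq_zero, sub_neg_eq_add, add_comm]
    exact this

theorem one_tmul_sub_eq {m : Ideal R} {M : Type u} [AddCommGroup M] [Module R M] (x y : M)
    (h : (1 : R ⧸ m) ⊗ₜ[R] x = (1 : R ⧸ m) ⊗ₜ[R] y) : x - y ∈ m • (⊤ : Submodule R M) := by
  rw [← Submodule.Quotient.eq]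
  have := congrArg (TensorProduct.quotTensorEquivQuotSMul M m) h
  simpa [TensorProduct.quotTensorEquivQuotSMul_mk_tmul] using this

/-- Exactness at all closed fibres gives universal exactness. -/
theorem exT_of_fibres (P : DRing.Cx R) (i : ℤ) [Module.Finite R (P.X i)] [Module.Projective R (P.X i)]
    [Module.Projective R (P.X (i + 1))]
    (h : ∀ m : Ideal R, m.IsMaximal → ExT P (ModuleCat.of R (R ⧸ m)) i) (M : ModuleCat.{u} R) :
    ExT P M i := by
  intro x hx
  change P.X i ⊗[R] M at x
  let B : Submodule R (P.X i ⊗[R] M) := LinearMap.range ((P.d (i - 1) i).hom.rTensor M)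
  let J : Ideal R := B.comap (LinearMap.toSpanSingleton R _ x)
  suffices J = ⊤ by
    have h1 : (1 : R) ∈ J := this ▸ Submodule.mem_top
    simpa [J, B] using h1
  by_contra hJ
  obtain ⟨m, hm, hJm⟩ := Ideal.exists_le_maximal J hJ
  letI := Ideal.Quotient.field m
  have hex : Function.Exact ((P.d (i - 1) i).hom.baseChange (R ⧸ m)) ((P.d i (i + 1)).hom.baseChange (R ⧸ m)) :=
    (LinearMap.rTensor_exact_iff_lTensor_exact _).1 ((exT_iff_exact P _ i).1 (h m hm))
  obtain ⟨l0, r0, hlr⟩ := exists_homotopy_of_exact _ _ hex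
  have hs : ∀ j, Function.Surjective (TensorProduct.mk R (R ⧸ m) (P.X j) 1) := fun j z => by
    obtain ⟨q, hq⟩ := Submodule.Quotient.mk_surjective _ (TensorProduct.quotTensorEquivQuotSMul (P.X j) m z)
    exact ⟨q, (TensorProduct.quotTensorEquivQuotSMul (P.X j) m).injective (by
      simpa [TensorProduct.quotTensorEquivQuotSMul_mk_tmul] using hq)⟩
  obtain ⟨l, hl⟩ := Module.projective_lifting_property (TensorProduct.mk R (R ⧸ m) (P.X (i - 1)) 1)
    (l0.restrictScalars R ∘ₗ TensorProduct.mk R (R ⧸ m) (P.X i) 1) (hs _)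
  obtain ⟨r, hr⟩ := Module.projective_lifting_property (TensorProduct.mk R (R ⧸ m) (P.X i) 1)
    (r0.restrictScalars R ∘ₗ TensorProduct.mk R (R ⧸ m) (P.X (i + 1)) 1) (hs _)
  let u : Module.End R (P.X i) := (P.d (i - 1) i).hom ∘ₗ l + r ∘ₗ (P.d i (i + 1)).hom
  obtain ⟨s, hsm, q, hq⟩ := exists_factor_of_congr_id hm.ne_top u fun y => one_tmul_sub_eq _ _ (by
    have e1 : (1 : R ⧸ m) ⊗ₜ[R] l y = l0 ((1 : R ⧸ m) ⊗ₜ[R] y) := LinearMap.congr_fun hl y
    have e2 : ∀ w, (1 : R ⧸ m) ⊗ₜ[R] r w = r0 ((1 : R ⧸ m) ⊗ₜ[R] w) := fun w => LinearMap.congr_fun hr w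
    show (1 : R ⧸ m) ⊗ₜ[R] ((P.d (i - 1) i).hom (l y) + r ((P.d i (i + 1)).hom y)) = _
    rw [TensorProduct.tmul_add, e2]
    refine Eq.trans ?_ (hlr ((1 : R ⧸ m) ⊗ₜ[R] y))
    rw [← e1]
    rfl)
  have hZ : ∀ z : P.X i ⊗[R] M, (P.d i (i + 1)).hom.rTensor M z = 0 → u.rTensor M z ∈ B := fun z hz => by
    refine ⟨l.rTensor M z, ?_⟩
    simp [u, LinearMap.rTensor_add, LinearMap.rTensor_comp, hz]
  have hpow : ∀ (j : ℕ) (z : P.X i ⊗[R] M), (P.d i (i + 1)).hom.rTensor M z = 0 →
      (P.d i (i + 1)).hom.rTensor M ((u ^ j).rTensor M z) = 0 := by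
    intro j
    induction j with
    | zero => intro z hz; simpa [Module.End.one_eq_id] using hz
    | succ j ih =>
      intro z hz
      obtain ⟨w, hw⟩ := hZ _ (ih z hz)
      rw [pow_succ', show u * u ^ j = u ∘ₗ (u ^ j) from rfl, LinearMap.rTensor_comp, LinearMap.comp_apply,
        ← hw, ← LinearMap.comp_apply, ← LinearMap.rTensor_comp, ← ModuleCat.hom_comp, P.d_comp_d]
      simp
  refine hsm (hJm ?_)
  show s • x ∈ B
  have key : s • x = u.rTensor M ((Polynomial.aeval u q).rTensor M x) := by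
    rw [← LinearMap.comp_apply, ← LinearMap.rTensor_comp]
    rw [show u ∘ₗ Polynomial.aeval u q = s • LinearMap.id from LinearMap.ext fun y => (hq y).symm,
      LinearMap.rTensor_smul, LinearMap.smul_apply, LinearMap.rTensor_id, LinearMap.id_apply]
  rw [key]
  refine hZ _ ?_
  clear key hq
  induction q using Polynomial.induction_on' with
  | add a b ha hb => simp [LinearMap.rTensor_add, ha, hb]
  | monomial n c =>
    rw [Polynomial.aeval_monomial]
    rw [show algebraMap R (Module.End R (P.X i)) c * u ^ n = c • (u ^ n) from (Algebra.smul_def _ _).symm,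
      LinearMap.rTensor_smul, LinearMap.smul_apply, map_smul, hpow n x hx, smul_zero]

/-- A pseudo-coherent object with bounded closed fibres is perfect. -/
theorem perfect_of_fibres {K : Dual.D R} (E : DRing.Cx R) (d : ℤ) (hv : DRing.VanishesAbove E d)
    (hE : ∀ i, FFp (E.X i)) (e : (QA R).obj E ≅ K) (a b : ℤ)
    (h : ∀ m : Ideal R, m.IsMaximal → ∀ i, (i < a ∨ b < i) → ExT E (ModuleCat.of R (R ⧸ m)) i) :
    DRing.IsPerfect R K ∧ TA a b K := by
  have hall : ∀ (M : ModuleCat.{u} R) i, (i < a ∨ b < i) → ExT E M i := fun M i hi =>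
    haveI := (hE i).1
    haveI := proj_of_FF (hE i)
    haveI := proj_of_FF (hE (i + 1))
    exT_of_fibres E i (fun m hm => h m hm i hi) M
  have hb : Acyc (b + 1) K := fun i hi => IsZero.of_iso ((isZero_HF_Q_iff E i).2
    ((exT_self_iff _ i).1 (hall _ i (Or.inr (by omega))))) ((HF R i).mapIso e).symm
  have hk : DRing.IsKFlat R E := isKFlat_of_flat d hv fun i => flat_of_PR (proj_of_FF (hE i))
  have ht : TA a b K := (ta_iff a b E hk e).2
    ⟨hb, fun M i hi => (isZero_tensorCx_iff E M i).2 (hall M i (Or.inl hi))⟩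
  refine ⟨(perfect_iff_rep K).2 ⟨a, b, rep_FP_of_pc_of_ta (pc_of_pc' ⟨E, d, hv, hE, ⟨e⟩⟩ _) ht⟩, ht⟩

/-- Vanishing of fibre cohomology in terms of a K-flat representative. -/
theorem exT_of_fibre_zero {B : Type u} [CommRing B] (φ : R →+* B) [DRing.HasLBaseChange φ]
    (E : DRing.Cx R) (hk : DRing.IsKFlat R E) {K : Dual.D R} (e : (QA R).obj E ≅ K) (i : ℤ)
    (h : Subsingleton (Dual.HD B ((DRing.LBaseChange φ).obj K) i)) :
    ExT E (resM φ (ModuleCat.of B B)) i := by
  refine exT_of_ext φ E i _ ((exT_self_iff _ i).2 ((isZero_HF_Q_iff _ i).1 ?_))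
  exact IsZero.of_iso ((isZero_HF_iff _ i).2 h)
    ((HF B i).mapIso ((LBaseChangeIso φ E hk).symm ≪≫ (DRing.LBaseChange φ).mapIso e))

end Groth.Agent.DR39
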