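import Groth.Agent.DR39.Fibre
import Mathlib.RingTheory.TensorProduct.Quotient
import Mathlib.LinearAlgebra.TensorProduct.Tower

/-! Perfectness over a flat algebra from fibres with finite global dimension. -/

set_option autoImplicit false
set_option linter.style.haveILetI false
set_option linter.unusedSectionVars false

universe u

open CategoryTheory CategoryTheory.Limits CategoryTheory.Pretriangulated
open scoped TensorProduct

attribute [local instance] HasDerivedCategory.standard

namespace Groth.Agent.DR39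

/-- A `B`-linear map viewed over `A`. -/
noncomputable abbrev resLin {A B : Type u} [CommRing A] [CommRing B] [Algebra A B] {X Y : Type u}
    [AddCommGroup X] [Module B X] [Module A X] [IsScalarTower A B X]
    [AddCommGroup Y] [Module B Y] [Module A Y] [IsScalarTower A B Y] (f : X →ₗ[B] Y) : X →ₗ[A] Y :=
  f.restrictScalars A

theorem exact_cancel {A B : Type u} [CommRing A] [CommRing B] [Algebra A B] {X Y Z : Type u}
    [AddCommGroup X] [Module B X] [Module A X] [IsScalarTower A B X]
    [AddCommGroup Y] [Module B Y] [Module A Y] [IsScalarTower A B Y]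
    [AddCommGroup Z] [Module B Z] [Module A Z] [IsScalarTower A B Z]
    (κ : Type u) [AddCommGroup κ] [Module A κ] (f : X →ₗ[B] Y) (g : Y →ₗ[B] Z)
    (h : Function.Exact ((resLin (A := A) f).rTensor κ) ((resLin (A := A) g).rTensor κ)) :
    Function.Exact (f.rTensor (B ⊗[A] κ)) (g.rTensor (B ⊗[A] κ)) := by
  refine (Function.Exact.iff_of_ladder_addEquiv
    (e₁ := (TensorProduct.AlgebraTensorModule.cancelBaseChange A B B X κ).toAddEquiv)
    (e₂ := (TensorProduct.AlgebraTensorModule.cancelBaseChange A B B Y κ).toAddEquiv)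
    (e₃ := (TensorProduct.AlgebraTensorModule.cancelBaseChange A B B Z κ).toAddEquiv)
    (f₁₂ := (f.rTensor (B ⊗[A] κ)).toAddMonoidHom) (f₂₃ := (g.rTensor (B ⊗[A] κ)).toAddMonoidHom)
    (g₁₂ := ((resLin (A := A) f).rTensor κ).toAddMonoidHom)
    (g₂₃ := ((resLin (A := A) g).rTensor κ).toAddMonoidHom) ?_ ?_).1 h
  all_goals refine AddMonoidHom.ext fun z => ?_
  all_goals induction z using TensorProduct.induction_on with
    | zero => simp
    | add x y hx hy => simp only [map_add, hx, hy]
    | tmul x w =>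
      induction w using TensorProduct.induction_on with
      | zero => simp
      | add a b ha hb => simp only [TensorProduct.tmul_add, map_add, ha, hb]
      | tmul b k => simp [resLin, LinearMap.map_smul_of_tower]

variable {A B : Type u} [CommRing A] [CommRing B] [Algebra A B]

/-- Transport of vanishing along a linear equivalence of coefficients. -/
theorem exT_of_equiv {R : Type u} [CommRing R] (E : DRing.Cx R) (i : ℤ) {M N : ModuleCat.{u} R}
    (e : M ≃ₗ[R] N) (h : ExT E M i) : ExT E N i := by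
  intro x hx
  obtain ⟨y, hy⟩ := h (e.symm.toLinearMap.lTensor (E.X i) x) (by
    rw [← LinearMap.comp_apply, LinearMap.rTensor_comp_lTensor, ← LinearMap.lTensor_comp_rTensor,
      LinearMap.comp_apply]
    erw [hx, map_zero])
  refine ⟨e.toLinearMap.lTensor (E.X (i - 1)) y, ?_⟩
  rw [← LinearMap.comp_apply, LinearMap.rTensor_comp_lTensor, ← LinearMap.lTensor_comp_rTensor,
    LinearMap.comp_apply]
  refine (congrArg (e.toLinearMap.lTensor (E.X i)) hy).trans ?_
  rw [← LinearMap.comp_apply, ← LinearMap.lTensor_comp,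
    show e.toLinearMap ∘ₗ e.symm.toLinearMap = LinearMap.id from LinearMap.ext e.apply_symm_apply,
    LinearMap.lTensor_id, LinearMap.id_apply]

/-- Fibre vanishing over `B` from vanishing over `A`. -/
theorem exT_cancel (E : DRing.Cx B) (i : ℤ) (κ : ModuleCat.{u} A)
    (h : ExT ((DRing.restrictCx (algebraMap A B)).obj E) κ i) :
    ExT E (ModuleCat.of B (B ⊗[A] κ)) i := by
  rw [exT_iff_exact] at h ⊢
  letI m0 : Module A (E.X (i - 1)) := Module.compHom (E.X (i - 1)) (algebraMap A B)
  haveI t0 : IsScalarTower A B (E.X (i - 1)) := ⟨fun a b m => by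
    rw [Algebra.smul_def, mul_smul]
    rfl⟩
  letI m1 : Module A (E.X i) := Module.compHom (E.X i) (algebraMap A B)
  haveI t1 : IsScalarTower A B (E.X i) := ⟨fun a b m => by
    rw [Algebra.smul_def, mul_smul]
    rfl⟩
  letI m2 : Module A (E.X (i + 1)) := Module.compHom (E.X (i + 1)) (algebraMap A B)
  haveI t2 : IsScalarTower A B (E.X (i + 1)) := ⟨fun a b m => by
    rw [Algebra.smul_def, mul_smul]
    rfl⟩
  exact @exact_cancel A B _ _ _ (E.X (i - 1)) (E.X i) (E.X (i + 1)) _ _ m0 t0 _ _ m1 t1 _ _ m2 t2 κ _ _ (E.d (i - 1) i).hom (E.d i (i + 1)).hom h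

theorem flat_restrictCx [Module.Flat A B] (E : DRing.Cx B) (j : ℤ) (h : Module.Flat B (E.X j)) :
    Module.Flat A (((DRing.restrictCx (algebraMap A B)).obj E).X j) := by
  letI := Module.compHom (E.X j) (algebraMap A B)
  haveI : IsScalarTower A B (E.X j) := ⟨fun a b m => by
    rw [Algebra.smul_def, mul_smul]
    rfl⟩
  exact (Module.Flat.trans A B (E.X j) : Module.Flat A (E.X j))

/-- Bounded homology and finite global dimension give bounded Tor. -/
theorem exT_of_fibre_bound {C : Type u} [CommRing C] (q : B →+* C) (E : DRing.Cx B) (a b : ℤ) (d : ℕ) (hk : DRing.IsKFlat B E)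
    (hgl : ∀ (M : Type u) [AddCommGroup M] [Module C M], HasProjectiveDimensionLT (ModuleCat.of C M) (d + 1))
    (h : ∀ i, (i < a ∨ b < i) → ExT E (resM q (ModuleCat.of C C)) i)
    (hconv : ∀ i, ExT E (resM q (ModuleCat.of C C)) i → IsZero ((extCx q E).homology i))
    (N : ModuleCat.{u} C) (i : ℤ) (hi : i < a - d ∨ b < i) : ExT E (resM q N) i := by
  refine exT_of_ext q E i N ?_
  have hH : ∀ j, (j < a ∨ b < j) → IsZero ((HF C j).obj ((QA C).obj (extCx q E))) := fun j hj =>
    (isZero_HF_Q_iff _ j).2 (hconv j (h j hj))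
  have ht : TA (a - d) b ((QA C).obj (extCx q E)) := by
    refine ta_of_homology (c := a) (d := b) (fun j hj => hH j (Or.inr (by omega))) (fun j hj => hH j (Or.inl hj)) fun j => ?_
    by_cases hj : a ≤ j ∧ j ≤ b
    · exact TA.mono (ta_inD_of_projDim d _ (hgl _)) (by omega) (by omega)
    · exact ta_of_isZero _ _ (Functor.map_isZero _ (hH j (by omega)))
  obtain ⟨F, hFv, hF, ⟨f⟩⟩ := (ta_iff_rep _ _ _).1 ht
  have hFk : DRing.IsKFlat C F := isKFlat_of_flat b (fun j hj => hFv j fun hm => absurd hm.2 (by omega)) hF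
  obtain ⟨t⟩ := tensor_iso hFk (isKFlat_extendScalars q E hk) f N i
  rw [← isZero_tensorCx_iff]
  refine IsZero.of_iso ?_ t.symm
  haveI := ModuleCat.subsingleton_of_isZero (hFv i fun hm => by obtain ⟨h1, h2⟩ := hm; omega)
  exact (isZero_tensorCx_iff F N i).2 fun x _ => ⟨0, Subsingleton.elim _ _⟩

theorem isZero_ext_homology_of_exT {C : Type u} [CommRing C] (q : B →+* C) (E : DRing.Cx B) (i : ℤ)
    (h : ExT E (resM q (ModuleCat.of C C)) i) : IsZero ((extCx q E).homology i) := by
  rw [← exT_self_iff, exT_iff_exact]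
  rw [exT_iff_exact] at h
  letI := q.toAlgebra
  letI : Module B C := Module.compHom C q
  refine (LinearMap.rTensor_exact_iff_lTensor_exact _).2 ?_
  refine (Function.Exact.iff_of_ladder_addEquiv (e₁ := cancelX (B := C) (E.X (i - 1)) C)
    (e₂ := cancelX (B := C) (E.X i) C) (e₃ := cancelX (B := C) (E.X (i + 1)) C)
    (f₁₂ := (((E.d (i - 1) i).hom.baseChange C).lTensor C).toAddMonoidHom)
    (f₂₃ := (((E.d i (i + 1)).hom.baseChange C).lTensor C).toAddMonoidHom)
    (g₁₂ := ((E.d (i - 1) i).hom.rTensor C).toAddMonoidHom)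
    (g₂₃ := ((E.d i (i + 1)).hom.rTensor C).toAddMonoidHom) (cancelX_natural _ C) (cancelX_natural _ C)).1 h

theorem perfect_of_flat_fibres {K : Dual.D B} (E : DRing.Cx B) (e0 : ℤ) (hv : DRing.VanishesAbove E e0)
    (hE : ∀ i, FFp (E.X i)) (e : (QA B).obj E ≅ K) (a b : ℤ) (d : ℕ)
    (h : ∀ m : Ideal B, m.IsMaximal → ∃ (κ : ModuleCat.{u} A) (C : Type u) (_ : CommRing C) (q : B →+* C)
      (_ : (ModuleCat.of B (B ⊗[A] κ) : ModuleCat.{u} B) ≃ₗ[B] resM q (ModuleCat.of C C)) (q' : C →+* B ⧸ m),
      q'.comp q = Ideal.Quotient.mk m ∧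
      (∀ i, (i < a ∨ b < i) → ExT ((DRing.restrictCx (algebraMap A B)).obj E) κ i) ∧
      ∀ (M : Type u) [AddCommGroup M] [Module C M], HasProjectiveDimensionLT (ModuleCat.of C M) (d + 1)) :
    DRing.IsPerfect B K ∧ TA (a - d) b K := by
  have hk : DRing.IsKFlat B E := isKFlat_of_flat e0 hv fun i => flat_of_PR (proj_of_FF (hE i))
  refine perfect_of_fibres E e0 hv hE e (a - d) b fun m hm i hi => ?_
  obtain ⟨κ, C, _, q, eq, q', hq', hvan, hgl⟩ := h m hm
  let N : ModuleCat.{u} C := (ModuleCat.restrictScalars q').obj (ModuleCat.of (B ⧸ m) (B ⧸ m))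
  have h1 := exT_of_fibre_bound q E a b d hk hgl
    (fun j hj => exT_of_equiv E j eq (exT_cancel E j κ (hvan j hj)))
    (isZero_ext_homology_of_exT q E) N i hi
  refine exT_of_equiv E i
    ({ toFun := fun x => (show B ⧸ m from x)
       invFun := fun x => (show resM q N from x)
       map_add' := fun _ _ => rfl
       map_smul' := fun r x => by
         show q' (q r) * (show B ⧸ m from x) = r • (show B ⧸ m from x)
         rw [← RingHom.comp_apply, hq']
         rfl
       left_inv := fun _ => rfl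
       right_inv := fun _ => rfl } : resM q N ≃ₗ[B] ModuleCat.of B (B ⧸ m)) h1

end Groth.Agent.DR39
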