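import Groth.Agent.DR39.RelPerfect
import Groth.Agent.DR39.TensorCx
import Groth.Agent.FlatMor67.PCModule

/-! Representatives of relatively perfect objects. -/

set_option autoImplicit false
set_option linter.style.haveILetI false
set_option linter.unusedSectionVars false
set_option backward.isDefEq.respectTransparency false

universe u

open CategoryTheory CategoryTheory.Limits CategoryTheory.Pretriangulated

attribute [local instance] HasDerivedCategory.standard

namespace Groth.Agent.DR39

variable (R A : Type u) [CommRing R] [CommRing A] [Algebra R A]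

/-- finitely presented and flat over the base -/
def RFp (M : ModuleCat.{u} A) : Prop :=
  Module.FinitePresentation A M ∧ Module.Flat R ((ModuleCat.restrictScalars (algebraMap R A)).obj M)

theorem isModClass_RF : IsModClass (RFp R A) where
  of_iso {M N} e h := by
    haveI := h.1; haveI := h.2
    exact ⟨Module.FinitePresentation.of_equiv e.toLinearEquiv, Module.Flat.of_linearEquiv
      ((ModuleCat.restrictScalars (algebraMap R A)).mapIso e).symm.toLinearEquiv⟩
  of_isZero {M} h := by
    haveI := ModuleCat.subsingleton_of_isZero h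
    haveI : Module.Free A M := Module.Free.of_subsingleton A M
    haveI : Module.Projective A M := Module.Projective.of_free
    haveI : Subsingleton ((ModuleCat.restrictScalars (algebraMap R A)).obj M) := ‹Subsingleton M›
    exact ⟨Module.finitePresentation_of_projective A M, inferInstance⟩
  prod M N hM hN := by
    haveI := hM.1; haveI := hN.1; haveI := hM.2; haveI := hN.2
    exact ⟨inferInstance, flat_prod ((ModuleCat.restrictScalars (algebraMap R A)).obj M)
      ((ModuleCat.restrictScalars (algebraMap R A)).obj N)⟩

theorem flat_restrict_of_flat [Module.Flat R A] (M : ModuleCat.{u} A) [Module.Flat A M] :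
    Module.Flat R ((ModuleCat.restrictScalars (algebraMap R A)).obj M) := by
  letI : Module R M := Module.compHom M (algebraMap R A)
  haveI : IsScalarTower R A M := ⟨fun r a m => by
    show (r • a) • m = algebraMap R A r • a • m
    rw [Algebra.smul_def, mul_smul]⟩
  exact Module.Flat.trans R A M

theorem relPerfect_of_rep [Module.Flat R A] [Algebra.FinitePresentation R A] (E : DRing.Cx A) (a b : ℤ)
    (hv : DRing.VanishesOutside E a b) (hE : ∀ i, RFp R A (E.X i)) :
    Dual2.IsRelPerfect R A ((QA A).obj E) := by
  refine ⟨(pc'_iff_forall_pc _).2 fun m => pc_of_terms E b (fun i hi => hv i (Or.inr hi)) fun i _ => ?_, a, b, ?_⟩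
  · haveI := (hE i).1
    letI : Module R (E.X i) := Module.compHom (E.X i) (algebraMap R A)
    haveI : IsScalarTower R A (E.X i) := ⟨fun r a m => by
      show (r • a) • m = algebraMap R A r • a • m
      rw [Algebra.smul_def, mul_smul]⟩
    haveI : Module.Flat R (E.X i) := (hE i).2
    exact pc_of_pc' (FlatMor67.PCM.pc'_of_flat_fp R A (E.X i)) _
  · exact ⟨(DRing.restrictCx (algebraMap R A)).obj E,
      fun i hi => (ModuleCat.restrictScalars (algebraMap R A)).map_isZero (hv i hi),
      fun i => (hE i).2, ⟨(restrictDIso (algebraMap R A) E).symm⟩⟩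

theorem flat_restrict_quotient {X Y : ModuleCat.{u} A} (f : X ⟶ Y)
    (h : Module.Flat R ((ModuleCat.restrictScalars (algebraMap R A)).obj Y ⧸
      LinearMap.range ((ModuleCat.restrictScalars (algebraMap R A)).map f).hom)) :
    Module.Flat R ((ModuleCat.restrictScalars (algebraMap R A)).obj (ModuleCat.of A (Y ⧸ LinearMap.range f.hom))) := by
  haveI := h
  let p := ((ModuleCat.restrictScalars (algebraMap R A)).map
    (ModuleCat.ofHom (X := Y) (Submodule.mkQ (LinearMap.range f.hom)))).hom
  have hp : Function.Surjective p := Submodule.mkQ_surjective (LinearMap.range f.hom)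
  have hk : LinearMap.ker p = LinearMap.range ((ModuleCat.restrictScalars (algebraMap R A)).map f).hom :=
    SetLike.ext fun x => ⟨fun hx => (Submodule.Quotient.mk_eq_zero (LinearMap.range f.hom)).1 hx,
      fun hx => (Submodule.Quotient.mk_eq_zero (LinearMap.range f.hom)).2 hx⟩
  exact Module.Flat.of_linearEquiv
    ((Submodule.quotEquivOfEq _ _ hk.symm).trans (p.quotKerEquivOfSurjective hp)).symm

theorem exists_rep_of_relPerfect [Module.Flat R A] {K : Dual.D A} (hK : Dual2.IsRelPerfect R A K) :
    ∃ (E : DRing.Cx A) (a b : ℤ), DRing.VanishesOutside E a b ∧ (∀ i, RFp R A (E.X i)) ∧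
      Nonempty ((QA A).obj E ≅ K) := by
  obtain ⟨⟨c, F, hFv, hF, ⟨e⟩⟩, a, b, hta⟩ := (relPerfect_iff R A K).1 hK
  set φ := algebraMap R A
  let F' := (DRing.restrictCx φ).obj F
  have hv : DRing.VanishesAbove F c := (vanishesAbove_iff F c).2 hFv
  have hflat : ∀ i, RFp R A (F.X i) := fun i => by
    haveI := (hF i).1; haveI := (hF i).2
    exact ⟨Module.finitePresentation_of_projective A _, flat_restrict_of_flat R A (F.X i)⟩
  have hlow : LowEx F' a := hta.lowEx
    (isKFlat_of_flat c (fun i hi => (ModuleCat.restrictScalars φ).map_isZero (hv i hi)) fun i => (hflat i).2)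
    ((restrictDIso φ F).symm ≪≫ (DRing.restrictD φ).mapIso e)
  haveI : F.IsGE a := by
    rw [CochainComplex.isGE_iff]
    intro i hi
    rw [HomologicalComplex.exactAt_iff_isZero_homology]
    haveI := isGE_of_lowEx hlow
    have h := (HomologicalComplex.exactAt_iff_isZero_homology F' i).1 (F'.exactAt_of_isGE a i hi)
    exact (isZero_homology_iff F i).2 fun x hx => (isZero_homology_iff F' i).1 h x hx
  haveI : Module.Flat R (F'.X a) := (hflat a).2
  have hc : RFp R A (ModuleCat.of A ((F.X a) ⧸ LinearMap.range (F.d (a - 1) a).hom)) := by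
    haveI := (hflat a).1
    haveI := (hF (a - 1)).1
    haveI h2 := flat_coker F' a fun M => exT_of_lowEx hlow M (by omega)
    refine ⟨Module.finitePresentation_of_surjective (Submodule.mkQ _) (Submodule.mkQ_surjective _) ?_, ?_⟩
    · rw [Submodule.ker_mkQ, LinearMap.range_eq_map]
      exact Submodule.FG.map _ (Module.Finite.fg_top (R := A) (M := F.X (a - 1)))
    · exact flat_restrict_quotient R A (F.d (a - 1) a) h2
  exact ⟨F.truncGE a, a, c, vanishesOutside_truncGE F a c hv,
    cls_truncGE (isModClass_RF R A) F a (fun i _ => hflat i) hc,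
    ⟨(asIso ((QA A).map (F.πTruncGE a))).symm ≪≫ e⟩⟩

end Groth.Agent.DR39
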