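import Groth.Agent.DR39.TorLocal
import Groth.Agent.DR39.RelPerfectRep
import Groth.Agent.S0387

/-! Relative perfectness from boundedness of the fibres. -/

set_option autoImplicit false
set_option linter.style.haveILetI false
set_option linter.unusedSectionVars false
set_option backward.isDefEq.respectTransparency false

universe u

open CategoryTheory CategoryTheory.Limits
open scoped TensorProduct

attribute [local instance] HasDerivedCategory.standard

namespace Groth.Agent.DR39

theorem exT_ext_of_flat {A B : Type u} [CommRing A] [CommRing B] [Algebra A B] [Module.Flat A B]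
    (E : DRing.Cx A) (i : ℤ) (N : Type u) [AddCommGroup N] [Module A N]
    (h : ExT E (ModuleCat.of A N) i) :
    Function.Exact (((E.d (i - 1) i).hom.baseChange B).rTensor (B ⊗[A] N))
      (((E.d i (i + 1)).hom.baseChange B).rTensor (B ⊗[A] N)) := by
  have h' := (exT_iff_exact _ _ _).1 h
  have hflat : Function.Exact ((E.d (i - 1) i).hom.rTensor (B ⊗[A] N))
      ((E.d i (i + 1)).hom.rTensor (B ⊗[A] N)) := by
    refine (Function.Exact.iff_of_ladder_addEquiv
      (e₁ := (TensorProduct.leftComm A B (E.X (i - 1)) N).toAddEquiv)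
      (e₂ := (TensorProduct.leftComm A B (E.X i) N).toAddEquiv)
      (e₃ := (TensorProduct.leftComm A B (E.X (i + 1)) N).toAddEquiv)
      (f₁₂ := (((E.d (i - 1) i).hom.rTensor N).lTensor B).toAddMonoidHom)
      (f₂₃ := (((E.d i (i + 1)).hom.rTensor N).lTensor B).toAddMonoidHom)
      (g₁₂ := ((E.d (i - 1) i).hom.rTensor (B ⊗[A] N)).toAddMonoidHom)
      (g₂₃ := ((E.d i (i + 1)).hom.rTensor (B ⊗[A] N)).toAddMonoidHom) ?_ ?_).2 (Module.Flat.lTensor_exact B h')
    all_goals refine AddMonoidHom.ext fun z => ?_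
    all_goals induction z using TensorProduct.induction_on with
      | zero => simp
      | add x y hx hy => simp only [map_add, hx, hy]
      | tmul b w =>
        induction w using TensorProduct.induction_on with
        | zero => simp
        | add x y hx hy => simp only [TensorProduct.tmul_add, map_add, hx, hy]
        | tmul x n => simp
  refine (LinearMap.rTensor_exact_iff_lTensor_exact _).2 ?_
  exact (Function.Exact.iff_of_ladder_addEquiv (e₁ := cancelX (B := B) (E.X (i - 1)) (B ⊗[A] N))
    (e₂ := cancelX (B := B) (E.X i) (B ⊗[A] N)) (e₃ := cancelX (B := B) (E.X (i + 1)) (B ⊗[A] N))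
    (f₁₂ := (((E.d (i - 1) i).hom.baseChange B).lTensor (B ⊗[A] N)).toAddMonoidHom)
    (f₂₃ := (((E.d i (i + 1)).hom.baseChange B).lTensor (B ⊗[A] N)).toAddMonoidHom)
    (g₁₂ := ((E.d (i - 1) i).hom.rTensor (B ⊗[A] N)).toAddMonoidHom)
    (g₂₃ := ((E.d i (i + 1)).hom.rTensor (B ⊗[A] N)).toAddMonoidHom) (cancelX_natural _ _) (cancelX_natural _ _)).1 hflat

theorem exT_extCx_of_flat {A : Type u} [CommRing A] (B : Type u) [CommRing B] [alg : Algebra A B]
    [Module.Flat A B] (E : DRing.Cx A) (i : ℤ) (N : Type u) [AddCommGroup N] [Module A N]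
    (h : ExT E (ModuleCat.of A N) i) :
    ExT (extCx (algebraMap A B) E) (ModuleCat.of B (B ⊗[A] N)) i := by
  obtain ⟨φ, rfl⟩ : ∃ φ : A →+* B, alg = φ.toAlgebra :=
    ⟨algebraMap A B, Algebra.algebra_ext _ _ fun _ => rfl⟩
  letI : Algebra A B := φ.toAlgebra
  exact (exT_iff_exact _ _ _).2 (exT_ext_of_flat E i N h)

theorem nonempty_coker_ext {A : Type u} [CommRing A] (B : Type u) [CommRing B] [alg : Algebra A B]
    (E : DRing.Cx A) (j : ℤ) :
    Nonempty ((B ⊗[A] (E.X j ⧸ LinearMap.range (E.d (j - 1) j).hom)) ≃ₗ[B]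
      ((extCx (algebraMap A B) E).X j ⧸ LinearMap.range ((extCx (algebraMap A B) E).d (j - 1) j).hom)) := by
  obtain ⟨φ, rfl⟩ : ∃ φ : A →+* B, alg = φ.toAlgebra :=
    ⟨algebraMap A B, Algebra.algebra_ext _ _ fun _ => rfl⟩
  letI : Algebra A B := φ.toAlgebra
  let f := (E.d (j - 1) j).hom
  let g := (LinearMap.range f).mkQ.baseChange B
  have hg : Function.Surjective g := LinearMap.lTensor_surjective B (Submodule.mkQ_surjective _)
  have hk : LinearMap.ker g = LinearMap.range (f.baseChange B) := SetLike.ext fun x =>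
    lTensor_exact B (LinearMap.exact_map_mkQ_range f) (Submodule.mkQ_surjective _) x
  exact ⟨((Submodule.quotEquivOfEq _ _ hk.symm).trans (g.quotKerEquivOfSurjective hg)).symm⟩

/-- The converse of `exT_cancel`. -/
theorem exT_cancel' {A B : Type u} [CommRing A] [CommRing B] [Algebra A B] (E : DRing.Cx B) (i : ℤ)
    (κ : ModuleCat.{u} A) (h : ExT E (ModuleCat.of B (B ⊗[A] κ)) i) :
    ExT ((DRing.restrictCx (algebraMap A B)).obj E) κ i := by
  rw [exT_iff_exact] at h ⊢
  letI m0 : Module A (E.X (i - 1)) := Module.compHom (E.X (i - 1)) (algebraMap A B)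
  haveI t0 : IsScalarTower A B (E.X (i - 1)) := ⟨fun a b m => by
    rw [Algebra.smul_def, mul_smul]
    rfl⟩
  letI m1 : Module A (E.X i) := Module.compHom (E.X i) (algebraMap A B)
  haveI t1 : IsScalarTower A B (E.X i) := ⟨fun a b m => by
    rw [Algebra.smul_def, mul_smul]
    rfl⟩
  letI m2 : Module A (E.X (i + 1)) := Module.compHom (E.X (i + 1)) (algebraMap A B)
  haveI t2 : IsScalarTower A B (E.X (i + 1)) := ⟨fun a b m => by
    rw [Algebra.smul_def, mul_smul]
    rfl⟩
  refine (Function.Exact.iff_of_ladder_addEquiv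
    (e₁ := (TensorProduct.AlgebraTensorModule.cancelBaseChange A B B (E.X (i - 1)) κ).toAddEquiv)
    (e₂ := (TensorProduct.AlgebraTensorModule.cancelBaseChange A B B (E.X i) κ).toAddEquiv)
    (e₃ := (TensorProduct.AlgebraTensorModule.cancelBaseChange A B B (E.X (i + 1)) κ).toAddEquiv)
    (f₁₂ := ((E.d (i - 1) i).hom.rTensor (B ⊗[A] κ)).toAddMonoidHom)
    (f₂₃ := ((E.d i (i + 1)).hom.rTensor (B ⊗[A] κ)).toAddMonoidHom)
    (g₁₂ := ((resLin (A := A) (E.d (i - 1) i).hom).rTensor κ).toAddMonoidHom)
    (g₂₃ := ((resLin (A := A) (E.d i (i + 1)).hom).rTensor κ).toAddMonoidHom) ?_ ?_).2 h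
  all_goals refine AddMonoidHom.ext fun z => ?_
  all_goals induction z using TensorProduct.induction_on with
    | zero => simp
    | add x y hx hy => simp only [map_add, hx, hy]
    | tmul x w =>
      induction w using TensorProduct.induction_on with
      | zero => simp
      | add a b ha hb => simp only [TensorProduct.tmul_add, map_add, ha, hb]
      | tmul b k => simp [resLin, LinearMap.map_smul_of_tower]

variable {R A : Type u} [CommRing R] [CommRing A] [Algebra R A]

/-- A module over an algebra as a module over the base. -/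
@[reducible] noncomputable def modR (M : ModuleCat.{u} A) : Module R M :=
  Module.compHom M (algebraMap R A)

attribute [local instance] modR

instance tower_modR (M : ModuleCat.{u} A) : IsScalarTower R A M :=
  ⟨fun r a m => by
    show (r • a) • m = algebraMap R A r • a • m
    rw [Algebra.smul_def, mul_smul]⟩

/-- The cokernel of the differential into degree `j`. -/
noncomputable abbrev cokC (E : DRing.Cx A) (j : ℤ) : ModuleCat.{u} A :=
  ModuleCat.of A (E.X j ⧸ LinearMap.range (E.d (j - 1) j).hom)

/-- Vanishing in the localized fibre from vanishing in the fibre. -/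
theorem exT_localized_fibre (q : Ideal A) [q.IsPrime] (p : Ideal R) [p.IsPrime]
    (hpq : p = Ideal.comap (algebraMap R A) q) (E : DRing.Cx A) (i : ℤ)
    (h : ExT ((DRing.restrictCx (algebraMap R A)).obj E) (ModuleCat.of R p.ResidueField) i) :
    ExT ((DRing.restrictCx (Localization.localRingHom p q (algebraMap R A) hpq)).obj
      (extCx (algebraMap A (Localization.AtPrime q)) E))
      (ModuleCat.of (Localization.AtPrime p) p.ResidueField) i := by
  let Rp := Localization.AtPrime p
  let Aq := Localization.AtPrime q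
  letI : Algebra Rp Aq := (Localization.localRingHom p q (algebraMap R A) hpq).toAlgebra
  haveI : IsScalarTower R Rp Aq := IsScalarTower.of_algebraMap_eq fun r =>
    ((Localization.localRingHom_to_map p q (algebraMap R A) hpq r).trans
      (IsScalarTower.algebraMap_apply R A Aq r).symm).symm
  haveI : Module.Flat A Aq := IsLocalization.flat Aq q.primeCompl
  refine exT_cancel' (A := Rp) (B := Aq) _ i (ModuleCat.of Rp p.ResidueField) ?_
  haveI := IsLocalization.tensorProduct_compatibleSMul p.primeCompl Rp Aq p.ResidueField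
  let e : Aq ⊗[A] (A ⊗[R] p.ResidueField) ≃ₗ[Aq] Aq ⊗[Rp] p.ResidueField :=
    (TensorProduct.AlgebraTensorModule.cancelBaseChange R A Aq Aq p.ResidueField).trans
      (TensorProduct.equivOfCompatibleSMul R Rp Aq Aq p.ResidueField).symm
  exact exT_of_equiv (M := ModuleCat.of Aq (Aq ⊗[A] (A ⊗[R] p.ResidueField))) _ i e
    (exT_extCx_of_flat Aq E i _ (exT_cancel (A := R) E i _ h))

theorem flat_coker_ext_iff (q : Ideal A) [q.IsPrime] (E : DRing.Cx A) (j : ℤ) :
    Module.Flat R (LocalizedModule q.primeCompl (cokC E j)) ↔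
      Module.Flat R ((ModuleCat.restrictScalars (algebraMap R (Localization.AtPrime q))).obj (ModuleCat.of _
        ((extCx (algebraMap A (Localization.AtPrime q)) E).X j ⧸
          LinearMap.range ((extCx (algebraMap A (Localization.AtPrime q)) E).d (j - 1) j).hom))) := by
  let Aq := Localization.AtPrime q
  let f := (E.d (j - 1) j).hom
  let e1 : LocalizedModule q.primeCompl (cokC E j) ≃ₗ[A] Aq ⊗[A] (cokC E j) :=
    ((IsLocalizedModule.isBaseChange q.primeCompl Aq
      (LocalizedModule.mkLinearMap q.primeCompl (cokC E j))).equiv.restrictScalars A).symm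
  obtain ⟨e3⟩ := nonempty_coker_ext Aq E j
  let T : ModuleCat.{u} Aq := ModuleCat.of Aq
    ((extCx (algebraMap A Aq) E).X j ⧸ LinearMap.range ((extCx (algebraMap A Aq) E).d (j - 1) j).hom)
  let eR : LocalizedModule q.primeCompl (cokC E j) ≃ₗ[R]
      ((ModuleCat.restrictScalars (algebraMap R Aq)).obj T : ModuleCat.{u} R) :=
    { e1.toAddEquiv.trans e3.toAddEquiv with
      map_smul' := fun r x => by
        show e3 (e1 (r • x)) = algebraMap R Aq r • e3 (e1 x)
        rw [← e3.map_smul]
        refine congrArg e3 ((congrArg e1 (IsScalarTower.algebraMap_smul A r x).symm).trans ((e1.map_smul _ _).trans ?_))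
        rw [IsScalarTower.algebraMap_apply R A Aq]
        exact (IsScalarTower.algebraMap_smul Aq _ _).symm }
  exact Module.Flat.equiv_iff eR

theorem ta_of_flat_coker (E : DRing.Cx A) (e0 j : ℤ) (hv : DRing.VanishesAbove E e0)
    (hfl : ∀ i, Module.Flat R ((ModuleCat.restrictScalars (algebraMap R A)).obj (E.X i)))
    (hex : E.IsGE j)
    (hc : Module.Flat R ((ModuleCat.restrictScalars (algebraMap R A)).obj
      (ModuleCat.of A (E.X j ⧸ LinearMap.range (E.d (j - 1) j).hom)))) :
    TA j e0 ((QA R).obj ((DRing.restrictCx (algebraMap R A)).obj E)) := by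
  haveI := hex
  let φ := algebraMap R A
  refine (ta_iff_rep _ _ _).2 ⟨(DRing.restrictCx φ).obj (E.truncGE j), fun i hi => ?_, fun i => ?_,
    ⟨((DRing.restrictD φ).mapIso (asIso ((QA A).map (E.πTruncGE j))) |> fun e =>
      (restrictDIso φ _).symm ≪≫ e.symm ≪≫ restrictDIso φ E)⟩⟩
  · refine (ModuleCat.restrictScalars φ).map_isZero (vanishesOutside_truncGE E j e0 hv i ?_)
    rw [Set.mem_Icc] at hi; omega
  · rcases lt_trichotomy i j with h | rfl | h
    · exact isModClass_FL.of_isZero ((ModuleCat.restrictScalars φ).map_isZero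
        ((E.truncGE j).isZero_of_isStrictlyGE j i h))
    · haveI := hc
      exact Module.Flat.of_linearEquiv ((ModuleCat.restrictScalars φ).mapIso
        (E.truncGEXIsoOpcycles i ≪≫ opcyclesQuotIso E i)).toLinearEquiv
    · haveI := hfl i
      exact Module.Flat.of_linearEquiv ((ModuleCat.restrictScalars φ).mapIso (E.truncGEXIso j i h)).toLinearEquiv

theorem flat_coker_of_ta (E : DRing.Cx A) (e0 a b j : ℤ) (hj : j ≤ a) (hv : DRing.VanishesAbove E e0)
    (hfl : ∀ i, Module.Flat R ((ModuleCat.restrictScalars (algebraMap R A)).obj (E.X i)))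
    (h : TA a b ((QA R).obj ((DRing.restrictCx (algebraMap R A)).obj E))) :
    Module.Flat R ((ModuleCat.restrictScalars (algebraMap R A)).obj
      (ModuleCat.of A (E.X j ⧸ LinearMap.range (E.d (j - 1) j).hom))) := by
  haveI : Module.Flat R (((DRing.restrictCx (algebraMap R A)).obj E).X j) := hfl j
  have hlow : LowEx ((DRing.restrictCx (algebraMap R A)).obj E) a := h.lowEx
    (isKFlat_of_flat e0 (fun i hi => (ModuleCat.restrictScalars _).map_isZero (hv i hi)) hfl) (Iso.refl _)
  exact flat_restrict_quotient R A (E.d (j - 1) j)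
    (flat_coker ((DRing.restrictCx (algebraMap R A)).obj E) j fun M => exT_of_lowEx hlow M (by omega))

theorem exists_ta_of_fibres [Module.Flat R A] [Algebra.FinitePresentation R A]
    (E : DRing.Cx A) (e0 a : ℤ) (hv : DRing.VanishesAbove E e0) (hE : ∀ i, FFp (E.X i)) (hGE : E.IsGE a)
    (hfib : ∀ p : PrimeSpectrum R, ∃ c : ℤ, ∀ i, i < c →
      ExT ((DRing.restrictCx (algebraMap R A)).obj E) (ModuleCat.of R p.asIdeal.ResidueField) i) :
    ∃ N : ℤ, TA N e0 ((QA R).obj ((DRing.restrictCx (algebraMap R A)).obj E)) := by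
  obtain ⟨d, ψ, hψ, -⟩ := Algebra.FinitePresentation.out (R := R) (A := A)
  letI : Algebra (MvPolynomial (Fin d) R) A := ψ.toRingHom.toAlgebra
  haveI : IsScalarTower R (MvPolynomial (Fin d) R) A := IsScalarTower.of_algebraMap_eq fun r => (ψ.commutes r).symm
  haveI : Algebra.Smooth R (MvPolynomial (Fin d) R) :=
    ⟨inferInstanceAs (Algebra.FormallySmooth R (MvPolynomial (Fin d) R)), inferInstance⟩
  have hflE : ∀ i, FLp (E.X i) := fun i => flat_of_PR (proj_of_FF (hE i))
  have hfl : ∀ i, Module.Flat R ((ModuleCat.restrictScalars (algebraMap R A)).obj (E.X i)) := fun i => by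
    haveI : Module.Flat A (E.X i) := hflE i
    exact flat_restrict_of_flat R A (E.X i)
  have hflq : ∀ (q : Ideal A) [q.IsPrime] (i : ℤ), Module.Flat R
      ((ModuleCat.restrictScalars (algebraMap R (Localization.AtPrime q))).obj
        ((extCx (algebraMap A (Localization.AtPrime q)) E).X i)) := fun q hq i => by
    haveI : Module.Flat A (Localization.AtPrime q) := IsLocalization.flat _ q.primeCompl
    haveI : Module.Flat R (Localization.AtPrime q) := Module.Flat.trans R A _
    exact flat_restrictCx (A := R) _ i (flat_extendScalars (algebraMap A (Localization.AtPrime q)) (hflE i))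
  have hGEq : ∀ (q : Ideal A) [q.IsPrime] (j : ℤ), j ≤ a →
      (extCx (algebraMap A (Localization.AtPrime q)) E).IsGE j := fun q hq j hj => by
    haveI : Module.Flat A (Localization.AtPrime q) := IsLocalization.flat _ q.primeCompl
    rw [CochainComplex.isGE_iff]
    intro i hi
    rw [HomologicalComplex.exactAt_iff_isZero_homology]
    exact ((extA A (Localization.AtPrime q)).map_isZero
      ((HomologicalComplex.exactAt_iff_isZero_homology E i).1 (E.exactAt_of_isGE a i (by omega)))).of_iso
        ((E.sc i).mapHomologyIso (extA A (Localization.AtPrime q)))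
  have hloc : ∀ q : PrimeSpectrum A, ∃ j : ℤ, j ≤ a ∧
      Module.Flat R (LocalizedModule q.asIdeal.primeCompl (cokC E j)) := fun q => by
    obtain ⟨c, hc⟩ := hfib ⟨q.asIdeal.comap (algebraMap R A), inferInstance⟩
    have hb : ∀ i, e0 < i → ExT ((DRing.restrictCx (algebraMap R A)).obj E)
        (ModuleCat.of R (q.asIdeal.comap (algebraMap R A)).ResidueField) i := fun i hi x _ => by
      haveI : Subsingleton (((DRing.restrictCx (algebraMap R A)).obj E).X i) :=
        ModuleCat.subsingleton_of_isZero ((ModuleCat.restrictScalars _).map_isZero (hv i hi))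
      exact ⟨0, Subsingleton.elim _ _⟩
    have hta := ta_localization_of_fibre (P := MvPolynomial (Fin d) R) d hψ
      (fun p _ => (ringKrullDim_fibre_mvPolynomial p d).le) q.asIdeal _ rfl E e0 hv hE c e0 fun i hi =>
        exT_localized_fibre q.asIdeal _ rfl E i (hi.elim (hc i) (hb i))
    refine ⟨min a (c - d), min_le_left _ _, (flat_coker_ext_iff q.asIdeal E _).2 ?_⟩
    exact flat_coker_of_ta _ e0 _ _ _ (min_le_right _ _)
      (fun i hi => (extA A (Localization.AtPrime q.asIdeal)).map_isZero (hv i hi)) (hflq q.asIdeal) hta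
  choose j hja hj using hloc
  have hM : ∀ k, Module.FinitePresentation A (cokC E k) := fun k => by
    haveI := (hE (k - 1)).1
    haveI := (hE k).1; haveI := (hE k).2
    haveI := Module.finitePresentation_of_projective A (E.X k)
    refine Module.finitePresentation_of_surjective (Submodule.mkQ _) (Submodule.mkQ_surjective _) ?_
    rw [Submodule.ker_mkQ, LinearMap.range_eq_map]
    exact Submodule.FG.map _ (Module.Finite.fg_top (R := A) (M := E.X (k - 1)))
  obtain ⟨t, ht⟩ := (isCompact_univ (X := PrimeSpectrum A)).elim_finite_subcover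
    (fun q : PrimeSpectrum A => {x : PrimeSpectrum A | Module.Flat R (LocalizedModule x.asIdeal.primeCompl (cokC E (j q)))})
    (fun q => by
      haveI := hM (j q)
      exact Groth.Agent.S0387.result (R := R) (S := A) (M := cokC E (j q)))
    (fun q _ => Set.mem_iUnion.2 ⟨q, hj q⟩)
  obtain ⟨N, hN, hNa⟩ : ∃ N, (∀ q ∈ t, N ≤ j q) ∧ N ≤ a := by
    classical
    by_cases h : t.Nonempty
    · exact ⟨min (t.inf' h j) a, fun q hq => (min_le_left _ _).trans (Finset.inf'_le j hq), min_le_right _ _⟩
    · exact ⟨a, fun q hq => absurd ⟨q, hq⟩ h, le_rfl⟩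
  refine ⟨N, ta_of_flat_coker E e0 N hv hfl (E.isGE_of_ge N a hNa) ?_⟩
  show Module.Flat R (cokC E N)
  refine Module.flat_of_isLocalized_maximal (R := R) (S := A) (cokC E N)
    (fun P _ => LocalizedModule P.primeCompl (cokC E N)) (fun P _ => LocalizedModule.mkLinearMap _ _) fun P hP => ?_
  obtain ⟨q, hq, hx⟩ := Set.mem_iUnion₂.1 (ht (Set.mem_univ (⟨P, hP.isPrime⟩ : PrimeSpectrum A)))
  refine (flat_coker_ext_iff P E N).2 ?_
  have h1 := ta_of_flat_coker (R := R) (extCx (algebraMap A (Localization.AtPrime P)) E) e0 (j q)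
    (fun i hi => (extA A (Localization.AtPrime P)).map_isZero (hv i hi)) (hflq P) (hGEq P _ (hja q))
    ((flat_coker_ext_iff P E _).1 hx)
  exact flat_coker_of_ta _ e0 _ _ _ (hN q hq)
    (fun i hi => (extA A (Localization.AtPrime P)).map_isZero (hv i hi)) (hflq P) h1

end Groth.Agent.DR39
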