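import Groth.Agent.DR39.FibreBound
import Groth.Agent.DR39.Fibre
import Groth.Agent.Fib62.InjCokerMain

/-! Concentration in one degree from the fibres. -/

set_option autoImplicit false
set_option linter.style.haveILetI false
set_option linter.unusedSectionVars false
set_option backward.isDefEq.respectTransparency false

universe u

open CategoryTheory CategoryTheory.Limits
open scoped TensorProduct

attribute [local instance] HasDerivedCategory.standard Groth.Agent.DR39.modR
  Algebra.TensorProduct.rightAlgebra

namespace Groth.Agent.DR39

theorem exT_of_homology_above {B : Type u} [CommRing B] (E : DRing.Cx B) (e0 c : ℤ)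
    (hv : DRing.VanishesAbove E e0) (hfl : ∀ i, Module.Flat B (E.X i))
    (h : ∀ i, c < i → IsZero (E.homology i)) (N : ModuleCat.{u} B) (i : ℤ) (hi : c < i) : ExT E N i := by
  have hb : Acyc (c + 1) ((QA B).obj E) := fun j hj => (isZero_HF_Q_iff E j).2 (h j (by omega))
  obtain ⟨F, hFv, hF, ⟨f⟩⟩ := rep_free_of_acyc hb
  obtain ⟨e⟩ := tensor_iso (isKFlat_of_flat e0 hv hfl) (isKFlat_of_rep (fun M => flat_of_FR) hFv hF) f.symm N i
  refine (isZero_tensorCx_iff E N i).1 (IsZero.of_iso ((isZero_tensorCx_iff F N i).2 fun x _ => ?_) e)
  haveI := ModuleCat.subsingleton_of_isZero (hFv i (by rw [Set.mem_Iic]; omega))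
  exact ⟨0, Subsingleton.elim _ _⟩

variable {A C : Type u} [CommRing A] [CommRing C] [Algebra A C]

/-- If all fibres are concentrated in degree `c`, the homology is concentrated in degree `c` and the
complex has tor amplitude `[c, c]` over the base. -/
theorem ta_of_fibre_degree [Algebra.FinitePresentation A C] [Module.Flat A C] (E : DRing.Cx C) (e0 c : ℤ)
    (hv : DRing.VanishesAbove E e0) (hE : ∀ i, FFp (E.X i))
    {a b : ℤ} (hta : TA a b ((QA A).obj ((DRing.restrictCx (algebraMap A C)).obj E)))
    (hfib : ∀ (p : Ideal A) [p.IsPrime] (i : ℤ), i ≠ c →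
      IsZero ((extCx (algebraMap C (p.Fiber C)) E).homology i)) :
    (∀ i, i ≠ c → IsZero (E.homology i)) ∧
      TA c c ((QA A).obj ((DRing.restrictCx (algebraMap A C)).obj E)) := by
  have hflE : ∀ i, Module.Flat C (E.X i) := fun i => flat_of_PR (proj_of_FF (hE i))
  have hfl : ∀ i, Module.Flat A ((ModuleCat.restrictScalars (algebraMap A C)).obj (E.X i)) := fun i => by
    haveI := hflE i
    exact flat_restrict_of_flat A C (E.X i)
  -- vanishing above `c`
  have htop : ∀ (M : ModuleCat.{u} C) i, c < i → ExT E M i := fun M i hi =>
    haveI := (hE i).1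
    haveI := proj_of_FF (hE i)
    haveI := proj_of_FF (hE (i + 1))
    exT_of_fibres E i (fun m hm => by
      let p := m.under A
      let F := p.Fiber C
      let φ := algebraMap C F
      letI := Ideal.Quotient.field m
      let κm : p.ResidueField →ₐ[A] C ⧸ m := Ideal.ResidueField.liftₐ p (Algebra.ofId A (C ⧸ m))
        (fun x hx => by
          show algebraMap A (C ⧸ m) x = 0
          rw [IsScalarTower.algebraMap_apply A C (C ⧸ m)]
          exact Ideal.Quotient.eq_zero_iff_mem.2 hx)
        (fun x hx => isUnit_iff_ne_zero.2 fun h0 => hx (by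
          have h1 : algebraMap A (C ⧸ m) x = 0 := h0
          rw [IsScalarTower.algebraMap_apply A C (C ⧸ m)] at h1
          show algebraMap A C x ∈ m
          exact Ideal.Quotient.eq_zero_iff_mem.1 h1))
      let q' : F →ₐ[A] C ⧸ m := Algebra.TensorProduct.lift κm (Ideal.Quotient.mkₐ A m) fun _ _ => Commute.all _ _
      have hq' : q'.toRingHom.comp φ = Ideal.Quotient.mk m := RingHom.ext fun x => by
        show Algebra.TensorProduct.lift κm (Ideal.Quotient.mkₐ A m) (fun _ _ => Commute.all _ _)
          ((1 : p.ResidueField) ⊗ₜ[A] x) = _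
        rw [Algebra.TensorProduct.lift_tmul, map_one, one_mul]
        rfl
      let N : ModuleCat.{u} F := (ModuleCat.restrictScalars q'.toRingHom).obj (ModuleCat.of (C ⧸ m) (C ⧸ m))
      have h1 : ExT E (resM φ N) i := exT_of_ext φ E i N (exT_of_homology_above (extCx φ E) e0 c
        (fun j hj => (ModuleCat.extendScalars φ).map_isZero (hv j hj))
        (fun j => flat_extendScalars φ (hflE j)) (fun j hj => hfib p j (by omega)) N i hi)
      exact exT_of_equiv E i
        ({ toFun := fun x => (show C ⧸ m from x)
           invFun := fun x => (show resM φ N from x)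
           map_add' := fun _ _ => rfl
           map_smul' := fun r x => by
             show q' (φ r) * (show C ⧸ m from x) = r • (show C ⧸ m from x)
             rw [show q' (φ r) = Ideal.Quotient.mk m r from RingHom.congr_fun hq' r]
             rfl
           left_inv := fun _ => rfl
           right_inv := fun _ => rfl } : resM φ N ≃ₗ[C] ModuleCat.of C (C ⧸ m)) h1) M
  have hhi : ∀ i, c < i → IsZero (E.homology i) := fun i hi => (exT_self_iff E i).1 (htop _ i hi)
  -- vanishing below `c`
  have hlow : LowEx ((DRing.restrictCx (algebraMap A C)).obj E) a := hta.lowEx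
    (isKFlat_of_flat e0 (fun i hi => (ModuleCat.restrictScalars _).map_isZero (hv i hi)) hfl) (Iso.refl _)
  have hbot : ∀ (n : ℕ) (k : ℤ), k = min a c + n → k ≤ c →
      E.IsGE k ∧ Module.Flat A ((ModuleCat.restrictScalars (algebraMap A C)).obj (cokC E k)) := by
    intro n
    induction n with
    | zero =>
      intro k hk hkc
      refine ⟨?_, flat_coker_of_ta E e0 a b k (by omega) hv hfl hta⟩
      rw [CochainComplex.isGE_iff]
      intro i hi
      rw [HomologicalComplex.exactAt_iff_isZero_homology]
      haveI := isGE_of_lowEx hlow
      have h := (HomologicalComplex.exactAt_iff_isZero_homology _ i).1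
        (HomologicalComplex.exactAt_iff_isZero_homology ((DRing.restrictCx (algebraMap A C)).obj E) i |>.2
          (((HomologicalComplex.exactAt_iff_isZero_homology _ i).1
            (((DRing.restrictCx (algebraMap A C)).obj E).exactAt_of_isGE a i (by omega)))))
      exact (isZero_homology_iff E i).2 fun x hx =>
        (isZero_homology_iff ((DRing.restrictCx (algebraMap A C)).obj E) i).1 h x hx
    | succ n ih =>
      intro k hk hkc
      obtain ⟨hge, hflat⟩ := ih (k - 1) (by omega) (by omega)
      let d₀ := (E.d (k - 1 - 1) (k - 1)).hom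
      let d₁ := (E.d (k - 1) k).hom
      have hd : LinearMap.range d₀ ≤ LinearMap.ker d₁ := by
        rintro _ ⟨x, rfl⟩
        exact d_apply_d E _ _ _ x
      let u : cokC E (k - 1) →ₗ[C] E.X k := (LinearMap.range d₀).liftQ d₁ hd
      haveI : Module.Flat A (E.X k) := hfl k
      haveI := (hE (k - 1 - 1)).1
      haveI := (hE (k - 1)).1
      haveI := proj_of_FF (hE (k - 1))
      haveI := (hE k).1
      haveI := proj_of_FF (hE k)
      haveI := Module.finitePresentation_of_projective C (E.X (k - 1))
      haveI := Module.finitePresentation_of_projective C (E.X k)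
      haveI : Module.FinitePresentation C (cokC E (k - 1)) := by
        refine Module.finitePresentation_of_surjective (Submodule.mkQ _) (Submodule.mkQ_surjective _) ?_
        rw [Submodule.ker_mkQ, LinearMap.range_eq_map]
        exact Submodule.FG.map _ (Module.Finite.fg_top (R := C) (M := E.X (k - 1 - 1)))
      have hP : ∀ P : PrimeSpectrum C, Fib62.InjAt u P ∧ Module.Flat A
          (Localization.AtPrime P.asIdeal ⊗[C] (E.X k ⧸ LinearMap.range u)) := fun P => by
        refine Fib62.injAt_and_flat_coker_of_injFib_of_flat u P ?_
        let p := P.asIdeal.under A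
        let F := p.Fiber C
        let L := Fib62.FibreLocal A P
        haveI : Module.Flat F L := IsLocalization.flat L (Fib62.fibrePoint (A := A) P).asIdeal.primeCompl
        have h1 : ExT E (ModuleCat.of C F) (k - 1) := exT_of_equiv E _
          ({ toFun := fun x => (show F from x)
             invFun := fun x => (show resM (algebraMap C F) (ModuleCat.of F F) from x)
             map_add' := fun _ _ => rfl
             map_smul' := fun r x => by
               show algebraMap C F r * (show F from x) = r • (show F from x)
               rw [Algebra.smul_def]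
             left_inv := fun _ => rfl
             right_inv := fun _ => rfl } : resM (algebraMap C F) (ModuleCat.of F F) ≃ₗ[C] ModuleCat.of C F)
          (exT_of_ext (algebraMap C F) E _ (ModuleCat.of F F) ((exT_self_iff _ _).2 (hfib p (k - 1) (by omega))))
        have h2 := (exT_iff_exact _ _ _).1 (exT_of_flat (B := F) E (k - 1) L h1)
        rw [show k - 1 + 1 = k by omega, LinearMap.rTensor_exact_iff_lTensor_exact] at h2
        show Function.Injective (u.lTensor L)
        rw [injective_iff_map_eq_zero]
        intro x hx
        obtain ⟨y, rfl⟩ := LinearMap.lTensor_surjective L (Submodule.mkQ_surjective (LinearMap.range d₀)) x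
        rw [← LinearMap.comp_apply, ← LinearMap.lTensor_comp, Submodule.liftQ_mkQ] at hx
        obtain ⟨w, rfl⟩ := (h2 y).1 hx
        rw [← LinearMap.comp_apply, ← LinearMap.lTensor_comp, LinearMap.range_mkQ_comp, LinearMap.lTensor_zero,
          LinearMap.zero_apply]
      have hinj : Function.Injective u := by
        rw [injective_iff_map_eq_zero]
        intro x hx
        by_contra hne
        obtain ⟨m, hm, hle⟩ := Ideal.exists_le_maximal (Ideal.torsionOf C (cokC E (k - 1)) x) (fun htop => hne (by
          simpa [Ideal.torsionOf] using (htop ▸ Submodule.mem_top : (1 : C) ∈ Ideal.torsionOf C _ x)))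
        obtain ⟨s, hs, hsx⟩ := (hP ⟨m, hm.isPrime⟩).1 x hx
        exact hs (hle hsx)
      have hr : LinearMap.range u = LinearMap.range d₁ := Submodule.range_liftQ _ _ _
      refine ⟨?_, ?_⟩
      · rw [CochainComplex.isGE_iff]
        intro i hi
        by_cases h : i < k - 1
        · exact E.exactAt_of_isGE (k - 1) i h
        obtain rfl : i = k - 1 := by omega
        rw [HomologicalComplex.exactAt_iff_isZero_homology, isZero_homology_iff]
        intro x hx
        rw [show k - 1 + 1 = k by omega] at hx
        have h0 : (LinearMap.range d₀).mkQ x = 0 := hinj (by rw [map_zero]; exact hx)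
        exact (Submodule.Quotient.mk_eq_zero _).1 h0
      · haveI : ∀ (P : Ideal C) [P.IsMaximal],
            Module.Flat A (Localization.AtPrime P ⊗[C] cokC E k) := fun P hP' => by
          haveI := (hP ⟨P, hP'.isPrime⟩).2
          exact Module.Flat.of_linearEquiv ((TensorProduct.AlgebraTensorModule.congr
            (LinearEquiv.refl (Localization.AtPrime P) _) (Submodule.quotEquivOfEq _ _ hr.symm)).restrictScalars A)
        exact Module.flat_of_isLocalized_maximal (R := A) (S := C) (cokC E k)
          (fun P _ => Localization.AtPrime P ⊗[C] cokC E k)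
          (fun P _ => TensorProduct.mk C (Localization.AtPrime P) (cokC E k) 1) fun P _ => this P
  obtain ⟨hge, hflat⟩ := hbot (c - min a c).toNat c (by omega) le_rfl
  have hc : TA c e0 ((QA A).obj ((DRing.restrictCx (algebraMap A C)).obj E)) :=
    ta_of_flat_coker E e0 c hv hfl hge hflat
  have hk : DRing.IsKFlat A ((DRing.restrictCx (algebraMap A C)).obj E) :=
    isKFlat_of_flat e0 (fun i hi => (ModuleCat.restrictScalars _).map_isZero (hv i hi)) hfl
  refine ⟨fun i hi => ?_, (ta_iff c c _ hk (Iso.refl _)).2 ⟨fun i hi => (isZero_HF_Q_iff _ i).2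
    ((isZero_homology_iff _ i).2 fun x hx => (isZero_homology_iff E i).1 (hhi i (by omega)) x hx),
    hc.lowEx hk (Iso.refl _)⟩⟩
  rcases lt_or_gt_of_ne hi with h | h
  · exact (HomologicalComplex.exactAt_iff_isZero_homology E i).1 (E.exactAt_of_isGE c i h)
  · exact hhi i h

end Groth.Agent.DR39
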