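import Groth.Agent.DR39.GorFibre

/-! Dualizing complexes along faithfully flat maps with Gorenstein fibres. -/

set_option autoImplicit false
set_option linter.style.haveILetI false
set_option backward.isDefEq.respectTransparency false

universe u

open CategoryTheory CategoryTheory.Limits
open scoped TensorProduct

attribute [local instance] HasDerivedCategory.standard

namespace Groth.Agent.DR39

variable {A : Type u} [CommRing A] [IsNoetherianRing A]

theorem gorRing_of_ringEquiv {R R' : Type u} [CommRing R] [CommRing R'] (e : R ≃+* R')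
    (h : LocCoh.IsGorensteinRing R) : LocCoh.IsGorensteinRing R' :=
  haveI := h
  { noetherian := (isNoetherianRing_of_ringEquiv R e).noetherian
    isGorensteinLocalRing_localization := fun p _ => by
      haveI := Gor18.gor_atPrime (p.comap e.toRingHom) (Localization.AtPrime (p.comap e.toRingHom))
      exact Gor18.gor_of_ringEquiv (R := Localization.AtPrime (p.comap e.toRingHom))
        (IsLocalization.ringEquivOfRingEquiv (M := (p.comap e.toRingHom).primeCompl) (T := p.primeCompl)
          (Localization.AtPrime (p.comap e.toRingHom)) (Localization.AtPrime p) e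
          (Submonoid.ext fun x => ⟨fun ⟨y, hy, hyx⟩ => hyx ▸ hy,
            fun hx => ⟨e.symm x, fun h => hx (by simpa using h), e.apply_symm_apply x⟩⟩)) }

theorem isDualizing_of_DF (B : Type u) [CommRing B] [Algebra A B] [Module.FaithfullyFlat A B]
    {K : Dual.D A} (h : Dual.IsDualizing B ((DF (extA A B)).obj K)) : Dual.IsDualizing A K := by
  haveI := h.isNoetherianRing
  obtain ⟨a, b, hab, hid⟩ := exists_bounds h
  have hz : ∀ i, (i < a ∨ b < i) → IsZero ((HF A i).obj K) := fun i hi => by
    obtain ⟨e⟩ := HF_DF (extA A B) K i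
    exact isZero_of_faithfullyFlat B _ ((hab i hi).of_iso e.symm)
  have hfin : ∀ i, Module.Finite A (Dual.HD A K i) := fun i => by
    obtain ⟨e⟩ := HF_DF (extA A B) K i
    haveI := h.finite_cohomology i
    exact finite_of_faithfullyFlat B ((HF A i).obj K)
      (Module.Finite.equiv (show (HF B i).obj ((DF (extA A B)).obj K) ≅ (extA A B).obj ((HF A i).obj K) from e).toLinearEquiv)
  have hpc : ∀ m, PC m K := pc_of_noetherian (b := b + 1) (fun i hi => hz i (Or.inr (by omega))) hfin
  have hlow : ∀ i, i < a → IsZero ((HF A i).obj K) := fun i hi => hz i (Or.inl hi)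
  have hgood : ∀ k, Good B K (K⟦k⟧) := fun k => good_shift B hpc hlow k
  have hss : ∀ (M : Dual.D A) (k : ℤ), (∀ m, PC m M) →
      Subsingleton ((DF (extA A B)).obj M ⟶ ((DF (extA A B)).obj K)⟦k⟧) → Subsingleton (M ⟶ K⟦k⟧) := by
    intro M k hM hs
    haveI : Subsingleton ((DF (extA A B)).obj M ⟶ (DF (extA A B)).obj (K⟦k⟧)) :=
      @Equiv.subsingleton _ _ (Iso.homToEquiv (((DF (extA A B)).commShiftIso k).app K)) hs
    haveI : Subsingleton (B ⊗[A] (M ⟶ K⟦k⟧)) := (good_shift B hM hlow k).1.subsingleton
    exact Module.FaithfullyFlat.lTensor_reflects_triviality A B _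
  refine ⟨inferInstance, ⟨a, b, fun M _ _ i hi => subsingleton_hom_of_ia (ia_of_ext a b fun J j hj => ?_) M hi⟩,
    hfin, ?_, fun i hi => hss K i hpc (h.ext_self_subsingleton i hi)⟩
  · obtain ⟨e⟩ := exists_inD_quotient_iso B J
    exact hss _ j (pc_inD (A ⧸ J)) (@Equiv.subsingleton _ _ (Iso.homFromEquiv e)
      (hid (B ⧸ J.map (algebraMap A B)) j hj))
  · have hgood0 : Good B K K := good_of_pc B (c := a) (hpc _) hlow
    let u : A →ₗ[A] (K ⟶ K) := LinearMap.toSpanSingleton A _ (𝟙 K)
    have hcomp : (fun b : B => b • 𝟙 ((DF (extA A B)).obj K)) =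
        thetaBar B K K ∘ (u.lTensor B ∘ (TensorProduct.rid A B).symm) := by
      funext b
      simp [u, thetaBar_tmul]
    have h1 := h.toEnd_bijective
    rw [hcomp, Function.Bijective.of_comp_iff' hgood0, Function.Bijective.of_comp_iff _ (LinearEquiv.bijective _)] at h1
    exact ⟨(Module.FaithfullyFlat.lTensor_injective_iff_injective A B u).1 h1.1,
      (Module.FaithfullyFlat.lTensor_surjective_iff_surjective A B u).1 h1.2⟩

theorem isDualizing_iff_gor_fibres (B : Type u) [CommRing B] [Algebra A B] [IsNoetherianRing B]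
    [Module.FaithfullyFlat A B] [Algebra.FiniteType A B]
    (hG : ∀ p : PrimeSpectrum A, LocCoh.IsGorensteinRing (B ⊗[A] p.asIdeal.ResidueField)) (K : Dual.D A) :
    Dual.IsDualizing A K ↔ Dual.IsDualizing B ((DF (extA A B)).obj K) := by
  refine ⟨fun hK => ?_, isDualizing_of_DF B⟩
  obtain ⟨m, f, hf⟩ := Algebra.FiniteType.iff_quotient_mvPolynomial''.1 (inferInstance : Algebra.FiniteType A B)
  obtain ⟨k, hk⟩ := exists_dim_le hK
  refine isDualizing_of_gor_fibres hK B (N := k + m) ?_ fun p _ =>
    gorRing_of_ringEquiv (Algebra.TensorProduct.comm A B p.ResidueField).toRingEquiv (hG ⟨p, inferInstance⟩)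
  refine (ringKrullDim_le_of_surjective f.toRingHom hf).trans ?_
  rw [MvPolynomial.ringKrullDim_of_isNoetherianRing]
  simp only [Nat.card_eq_fintype_card, Fintype.card_fin]
  push_cast
  exact add_le_add_left hk _

end Groth.Agent.DR39
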