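import Groth.Agent.DR39.Rep
import Groth.Agent.DR39.ExactFun
import Groth.Agent.DR39.Dualizing
import Groth.Agent.DR39.Dualizing2
import Groth.Agent.DR39.Minimal
import Mathlib.Algebra.Module.FinitePresentation
import Mathlib.RingTheory.Support

/-! Objects which are locally a shift of the ring. -/

set_option autoImplicit false
set_option linter.style.haveILetI false
set_option linter.unusedSectionVars false
set_option backward.isDefEq.respectTransparency false

universe u

open CategoryTheory CategoryTheory.Limits TensorProduct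

attribute [local instance] HasDerivedCategory.standard

namespace Groth.Agent.DR39

variable {A : Type u} [CommRing A]

theorem nonempty_localized_HF (S : Submonoid A) (X : Dual.D A) (i : ℤ) :
    Nonempty ((HF (Localization S) i).obj ((DF (extA A (Localization S))).obj X) ≃ₗ[Localization S]
      LocalizedModule S ((HF A i).obj X)) := by
  haveI : Module.Flat A (Localization S) := IsLocalization.flat _ S
  obtain ⟨e⟩ := HF_DF (extA A (Localization S)) X i
  obtain ⟨e'⟩ := ext_tensorIso (Localization S) ((HF A i).obj X)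
  exact ⟨(e ≪≫ e').toLinearEquiv.trans (LocalizedModule.equivTensorProduct S _).symm⟩

/-- A derived object with one cohomology module free of rank one is a shift of the ring. -/
theorem nonempty_iso_of_single_free {X : Dual.D A} (m : ℤ) (hz : ∀ i, i ≠ -m → IsZero ((HF A i).obj X))
    (e : (HF A (-m)).obj X ≃ₗ[A] A) : Nonempty (X ≅ (Dual.inD A A)⟦m⟧) := by
  obtain ⟨e1⟩ := exists_iso_single_homology X (-m) hz
  exact ⟨e1 ≪≫ (DerivedCategory.singleFunctor _ (-m)).mapIso e.toModuleIso ≪≫
    (singleShiftIso _ (-m) m (by omega)).symm⟩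

/-- The cohomology of a shift of the ring. -/
theorem HF_shift_self {X : Dual.D A} {m : ℤ} (e : X ≅ (Dual.inD A A)⟦m⟧) :
    (∀ i, i ≠ -m → IsZero ((HF A i).obj X)) ∧ Nonempty ((HF A (-m)).obj X ≃ₗ[A] A) := by
  let e' : X ≅ sngl (-m) (ModuleCat.of A A) := e.trans (singleShiftIso (ModuleCat.of A A) (-m) m (by omega))
  refine ⟨fun i hi => ?_, ⟨((HF A (-m)).mapIso e' ≪≫
    (DerivedCategory.singleFunctorCompHomologyFunctorIso (ModuleCat.{u} A) (-m)).app _).toLinearEquiv⟩⟩
  refine IsZero.of_iso ?_ ((HF A i).mapIso e')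
  rcases lt_or_gt_of_ne hi with h | h
  · exact DerivedCategory.isZero_of_isGE _ (-m) i h
  · exact DerivedCategory.isZero_of_isLE _ (-m) i h

/-- Being a shift of the ring spreads from a prime to a basic open neighbourhood. -/
theorem exists_away_of_local [IsNoetherianRing A] {X : Dual.D A} (hfin : ∀ i, Module.Finite A ((HF A i).obj X))
    {a b : ℤ} (hab : ∀ i, (i < a ∨ b < i) → IsZero ((HF A i).obj X)) (q : Ideal A) [q.IsPrime] (m : ℤ)
    (e : (DF (extA A (Localization.AtPrime q))).obj X ≅
      (Dual.inD (Localization.AtPrime q) (Localization.AtPrime q))⟦m⟧) :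
    ∃ f : A, f ∉ q ∧ Nonempty ((DF (extA A (Localization.Away f))).obj X ≅
      (Dual.inD (Localization.Away f) (Localization.Away f))⟦m⟧) := by
  classical
  obtain ⟨hz, ⟨e0⟩⟩ := HF_shift_self e
  let L := Localization.AtPrime q
  let H := (HF A (-m)).obj X
  have hann : ∀ i : ℤ, ∃ f : A, f ∉ q ∧ (i ≠ -m → ∀ x : (HF A i).obj X, f • x = 0) := fun i => by
    by_cases hi : i = -m
    · exact ⟨1, fun h => Ideal.IsPrime.ne_top ‹_› ((Ideal.eq_top_iff_one q).2 h), fun h => absurd hi h⟩
    haveI := hfin i
    obtain ⟨ei⟩ := nonempty_localized_HF q.primeCompl X i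
    have hs : Subsingleton (LocalizedModule q.primeCompl ((HF A i).obj X)) := by
      haveI := ModuleCat.subsingleton_of_isZero (hz i hi)
      exact ei.symm.toEquiv.subsingleton
    have hns : (⟨q, ‹_›⟩ : PrimeSpectrum A) ∉ Module.support A ((HF A i).obj X) :=
      Module.notMem_support_iff.2 hs
    rw [Module.support_eq_zeroLocus, PrimeSpectrum.mem_zeroLocus, SetLike.coe_subset_coe] at hns
    obtain ⟨f, hf, hfq⟩ := SetLike.not_le_iff_exists.1 hns
    exact ⟨f, hfq, fun _ => Module.mem_annihilator.1 hf⟩
  choose fz hfz hkill using hann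
  haveI : Module.FinitePresentation A H := @Module.finitePresentation_of_finite A H _ _ _ _ (hfin (-m))
  obtain ⟨eL⟩ := nonempty_localized_HF q.primeCompl X (-m)
  let e1 : LocalizedModule q.primeCompl H ≃ₗ[L] L := eL.symm.trans e0
  obtain ⟨⟨h0, s⟩, hs⟩ := IsLocalizedModule.mk'_surjective q.primeCompl
    (LocalizedModule.mkLinearMap q.primeCompl H) (e1.symm 1)
  let φ : A →ₗ[A] H := LinearMap.toSpanSingleton A H h0
  let fM := Algebra.linearMap A L
  let fN := LocalizedModule.mkLinearMap q.primeCompl H
  let u : Lˣ := (IsLocalization.map_units L s).unit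
  let E : L ≃ₗ[A] LocalizedModule q.primeCompl H :=
    (((LinearEquiv.smulOfUnit u : L ≃ₗ[L] L)).trans e1.symm).restrictScalars A
  have hφ : IsLocalizedModule.map q.primeCompl fM fN φ = E.toLinearMap := by
    refine IsLocalizedModule.ext q.primeCompl fM (IsLocalizedModule.map_units fN) ?_
    refine LinearMap.ext_ring ?_
    rw [LinearMap.comp_apply, LinearMap.comp_apply, IsLocalizedModule.map_apply]
    show fN ((1 : A) • h0) = e1.symm (u • fM 1)
    rw [one_smul, show fM 1 = 1 from map_one (algebraMap A L), Units.smul_def,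
      show (u : L) • (1 : L) = ((s : A) • (1 : L)) by simp [u, Algebra.smul_def], show e1.symm ((s : A) • (1 : L)) = (s : A) • e1.symm 1 from e1.symm.toLinearMap.map_smul_of_tower (s : A) 1, ← hs]
    exact (IsLocalizedModule.mk'_cancel' fN h0 s).symm
  obtain ⟨g, hg, hgb⟩ := exists_bijective_map_powers q.primeCompl fM fN φ
    (by rw [hφ]; exact E.bijective)
  let f := g * ∏ i ∈ Finset.Icc a b, fz i
  refine ⟨f, fun h => ?_, ?_⟩
  · rcases Ideal.IsPrime.mem_or_mem ‹_› h with h | h
    · exact hg h
    · obtain ⟨i, -, hi⟩ := (Ideal.IsPrime.prod_mem_iff).1 h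
      exact hfz i hi
  refine nonempty_iso_of_single_free m (fun i hi => ?_) ?_
  · obtain ⟨ei⟩ := nonempty_localized_HF (Submonoid.powers f) X i
    haveI : Subsingleton (LocalizedModule (Submonoid.powers f) ((HF A i).obj X)) := by
      refine LocalizedModule.subsingleton_iff.2 fun x => ?_
      by_cases hi' : i ∈ Finset.Icc a b
      · refine ⟨f, Submonoid.mem_powers f, ?_⟩
        obtain ⟨c, hc⟩ : fz i ∣ f := dvd_mul_of_dvd_right (Finset.dvd_prod_of_mem fz hi') g
        rw [hc, mul_comm, mul_smul, hkill i hi x, smul_zero]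
      · rw [Finset.mem_Icc] at hi'
        haveI := ModuleCat.subsingleton_of_isZero (hab i (by omega))
        exact ⟨1, one_mem _, Subsingleton.elim _ _⟩
    exact @ModuleCat.isZero_of_subsingleton _ _ _ ei.toEquiv.subsingleton
  · let ei := (nonempty_localized_HF (Submonoid.powers f) X (-m)).some
    let l := LinearEquiv.ofBijective _ (hgb f (dvd_mul_right g _))
    exact ei.trans (l.symm.trans
      (IsLocalizedModule.linearEquiv (Submonoid.powers f) (LocalizedModule.mkLinearMap _ A)
        (Algebra.linearMap A (Localization.Away f)) |>.extendScalarsOfIsLocalization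
          (Submonoid.powers f) (Localization.Away f)))

open IsLocalRing in
/-- A pseudo-coherent object over a local ring with one-dimensional derived fibre is a shift of the ring. -/
theorem nonempty_iso_of_fibre [IsLocalRing A] [DRing.HasLBaseChange (residue A)] {X : Dual.D A}
    (hX : DRing.IsPseudoCoherent' A X) (m : ℤ)
    (h0 : ∀ i, i ≠ -m → Module.finrank (ResidueField A)
      (Dual.HD (ResidueField A) ((DRing.LBaseChange (residue A)).obj X) i) = 0)
    (h1 : Module.finrank (ResidueField A)
      (Dual.HD (ResidueField A) ((DRing.LBaseChange (residue A)).obj X) (-m)) = 1) :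
    Nonempty (X ≅ (Dual.inD A A)⟦m⟧) := by
  obtain ⟨E, d, hv, hE, ⟨e⟩⟩ := hX
  obtain ⟨-, -, P, -, hP, ⟨eP⟩⟩ := minimal_main X E d hv hE e
  have hz : ∀ i, i ≠ -m → IsZero (P.X i) := fun i hi => by
    haveI := (hP i).1
    haveI := (hP i).2.1
    have := (hP i).2.2.trans (h0 i hi)
    haveI : Subsingleton (P.X i) :=
      (Module.Free.chooseBasis A (P.X i)).repr.toEquiv.subsingleton_congr.2 (by
        haveI : IsEmpty (Module.Free.ChooseBasisIndex A (P.X i)) := by
          rw [Module.finrank_eq_card_chooseBasisIndex] at this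
          exact Fintype.card_eq_zero_iff.1 this
        infer_instance)
    exact ModuleCat.isZero_of_subsingleton _
  haveI : P.IsStrictlyGE (-m) := (CochainComplex.isStrictlyGE_iff P (-m)).2 fun i hi => hz i (by omega)
  haveI : P.IsStrictlyLE (-m) := (CochainComplex.isStrictlyLE_iff P (-m)).2 fun i hi => hz i (by omega)
  obtain ⟨M, ⟨eM⟩⟩ := CochainComplex.exists_iso_single P (-m)
  haveI := (hP (-m)).1
  haveI := (hP (-m)).2.1
  have hr := (hP (-m)).2.2.trans h1
  let eA : P.X (-m) ≃ₗ[A] A := (Module.finBasisOfFinrankEq A (P.X (-m)) hr).equivFun.trans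
    (LinearEquiv.funUnique (Fin 1) A A)
  let eMA : M ≅ ModuleCat.of A A :=
    (HomologicalComplex.singleObjXSelf (ComplexShape.up ℤ) (-m) M).symm ≪≫
      ((HomologicalComplex.eval (ModuleCat.{u} A) (ComplexShape.up ℤ) (-m)).mapIso eM).symm ≪≫ eA.toModuleIso
  exact ⟨eP.symm ≪≫ (DerivedCategory.Q).mapIso eM ≪≫
    (DerivedCategory.singleFunctorIsoCompQ (ModuleCat.{u} A) (-m)).symm.app M ≪≫
    (DerivedCategory.singleFunctor _ (-m)).mapIso eMA ≪≫
    (singleShiftIso _ (-m) m (by omega)).symm⟩

end Groth.Agent.DR39
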