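import Groth.Agent.DR39.ShriekFlat3
import Groth.Agent.DR39.SpreadFree
import Groth.Agent.DR39.GorLocus
import Groth.Agent.DR39.GorDescend
import Groth.Agent.DR39.Dualizing

/-! Gorenstein fibres and invertibility of the relative dualizing complex. -/

set_option autoImplicit false
set_option linter.style.haveILetI false
set_option linter.unusedSectionVars false
set_option backward.isDefEq.respectTransparency false

universe u

open CategoryTheory CategoryTheory.Limits TensorProduct IsLocalRing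

attribute [local instance] HasDerivedCategory.standard Groth.Agent.Shriek42.hasLB

namespace Groth.Agent.DR39.ShriekFlat

/-- Derived base change of a shift of the ring. -/
theorem nonempty_lb_shift_self {S T : Type u} [CommRing S] [CommRing T] (φ : S →+* T) [DRing.HasLBaseChange φ]
    {X : Dual.D S} {m : ℤ} (e : X ≅ (Dual.inD S S)⟦m⟧) :
    Nonempty ((DRing.LBaseChange φ).obj X ≅ (Dual.inD T T)⟦m⟧) := by
  obtain ⟨e1⟩ := Shriek42.nonempty_lb_shift φ (Dual.inD S S) m
  obtain ⟨e2⟩ := nonempty_lb_inD_self φ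
  exact ⟨(DRing.LBaseChange φ).mapIso e ≪≫ e1 ≪≫ (shiftFunctor _ m).mapIso e2⟩

/-- Dimensions of cohomology are unchanged by field extensions. -/
theorem finrank_HD_lb {k K : Type u} [Field k] [Field K] (θ : k →+* K) [DRing.HasLBaseChange θ] (Y : Dual.D k)
    (i : ℤ) : Module.finrank K (Dual.HD K ((DRing.LBaseChange θ).obj Y) i) =
      Module.finrank k (Dual.HD k Y i) := by
  letI := θ.toAlgebra
  haveI : DRing.HasLBaseChange (algebraMap k K) := ‹_›
  obtain ⟨e⟩ := lbcIso (A := k) K Y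
  obtain ⟨e1⟩ := HF_DF (extA k K) Y i
  obtain ⟨e2⟩ := ext_tensorIso K ((HF k i).obj Y)
  refine ((HF K i).mapIso e ≪≫ e1 ≪≫ e2).toLinearEquiv.finrank_eq.trans ?_
  exact Module.finrank_baseChange

theorem finrank_shift_self (K : Type u) [Field K] {X : Dual.D K} {m : ℤ} (e : X ≅ (Dual.inD K K)⟦m⟧) :
    (∀ i, i ≠ -m → Module.finrank K (Dual.HD K X i) = 0) ∧ Module.finrank K (Dual.HD K X (-m)) = 1 := by
  obtain ⟨hz, ⟨e0⟩⟩ := HF_shift_self e
  refine ⟨fun i hi => ?_, e0.finrank_eq.trans (Module.finrank_self K)⟩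
  haveI := ModuleCat.subsingleton_of_isZero (hz i hi)
  exact Module.finrank_zero_of_subsingleton

variable {R A : Type u} [CommRing R] [CommRing A] [IsNoetherianRing R] [IsNoetherianRing A] [Algebra R A]
  [Module.Flat R A] (n : ℕ) (ψ : MvPolynomial (Fin n) R →ₐ[R] A) (hψ : Function.Surjective ψ)
  [DRing.HasLBaseChange (algebraMap R (MvPolynomial (Fin n) R))]
  (Rψ : Dual.D (MvPolynomial (Fin n) R) ⥤ Dual.D A) (adj : DRing.restrictD ψ.toRingHom ⊣ Rψ)

include hψ adj

theorem isGorensteinRing_fibre_of_invertible [∀ f : A, DRing.HasLBaseChange (algebraMap A (Localization.Away f))]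
    (h : ∀ q : PrimeSpectrum A, ∃ (f : A) (_ : f ∉ q.asIdeal) (m : ℤ),
      Nonempty ((DRing.LBaseChange (algebraMap A (Localization.Away f))).obj
        (Dual2.shriekVia n Rψ (Dual.inD R R)) ≅ (Dual.inD (Localization.Away f) (Localization.Away f))⟦m⟧))
    (p : Ideal R) [p.IsPrime] : LocCoh.IsGorensteinRing (p.ResidueField ⊗[R] A) := by
  let hR := (Algebra.TensorProduct.includeRight : A →ₐ[R] p.ResidueField ⊗[R] A).toRingHom
  have hω := isDualizing_fibre n ψ hψ Rψ adj p.ResidueField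
  haveI := hω.isNoetherianRing
  refine { toIsNoetherian := inferInstance, isGorensteinLocalRing_localization := fun Q _ => ?_ }
  let LQ := Localization.AtPrime Q
  let q : PrimeSpectrum A := ⟨Q.comap hR, Ideal.IsPrime.comap _⟩
  obtain ⟨f, hf, m, ⟨e⟩⟩ := h q
  have hu : IsUnit (((algebraMap (p.ResidueField ⊗[R] A) LQ).comp hR) f) :=
    IsLocalization.map_units LQ (⟨hR f, hf⟩ : Q.primeCompl)
  let σ : Localization.Away f →+* LQ := IsLocalization.Away.lift f hu
  obtain ⟨c1⟩ := nonempty_lb_comp (U := LQ) hR (algebraMap (p.ResidueField ⊗[R] A) LQ)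
    (σ.comp (algebraMap A (Localization.Away f))) (IsLocalization.Away.lift_comp f hu)
  obtain ⟨c2⟩ := nonempty_lb_comp (U := LQ) (algebraMap A (Localization.Away f)) σ _ rfl
  obtain ⟨e1⟩ := nonempty_lb_shift_self σ e
  obtain ⟨e2⟩ := lbcIso (A := p.ResidueField ⊗[R] A) LQ
    ((DRing.LBaseChange hR).obj (Dual2.shriekVia n Rψ (Dual.inD R R)))
  obtain ⟨hz, ⟨e0⟩⟩ := HF_shift_self (e2.symm ≪≫ c1.app _ ≪≫ c2.symm.app _ ≪≫ e1)
  haveI : IsNoetherianRing LQ := IsLocalization.isNoetherianRing Q.primeCompl _ inferInstance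
  exact gor_of_single_free (isDualizing_atPrime hω Q) (-m) hz e0

theorem invertible_of_isGorensteinRing_fibre
    (q : Ideal A) [q.IsPrime] (hG : LocCoh.IsGorensteinRing ((q.under R).ResidueField ⊗[R] A)) :
    ∃ (f : A) (_ : f ∉ q) (m : ℤ), Nonempty ((DRing.LBaseChange (algebraMap A (Localization.Away f))).obj
        (Dual2.shriekVia n Rψ (Dual.inD R R)) ≅ (Dual.inD (Localization.Away f) (Localization.Away f))⟦m⟧) := by
  let p := q.under R
  let ω := Dual2.shriekVia n Rψ (Dual.inD R R)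
  let hR := (Algebra.TensorProduct.includeRight : A →ₐ[R] p.ResidueField ⊗[R] A).toRingHom
  have hω := isDualizing_fibre n ψ hψ Rψ adj p.ResidueField
  haveI := hω.isNoetherianRing
  obtain ⟨Q, hQ, hQq⟩ := CAlg1.exists_fibre_prime (R := R) q
  haveI : Q.IsPrime := hQ
  let L := Localization.AtPrime q
  let LQ := Localization.AtPrime Q
  haveI : IsNoetherianRing LQ := IsLocalization.isNoetherianRing Q.primeCompl _ inferInstance
  haveI : IsNoetherianRing L := IsLocalization.isNoetherianRing q.primeCompl _ inferInstance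
  obtain ⟨m', hz, ⟨e0⟩⟩ := single_free_of_gor (isDualizing_atPrime hω Q)
    (hG.isGorensteinLocalRing_localization Q)
  obtain ⟨eQ⟩ := nonempty_iso_of_single_free (-m') (by rwa [neg_neg]) (by rw [neg_neg]; exact e0)
  obtain ⟨e2⟩ := lbcIso (A := p.ResidueField ⊗[R] A) LQ ((DRing.LBaseChange hR).obj ω)
  let γ : L →+* LQ := Localization.localRingHom q Q hR hQq.symm
  have hγ : γ.comp (algebraMap A L) = (algebraMap (p.ResidueField ⊗[R] A) LQ).comp hR :=
    RingHom.ext fun a => Localization.localRingHom_to_map q Q hR hQq.symm a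
  haveI : IsLocalHom γ := Localization.isLocalHom_localRingHom q Q hR hQq.symm
  let θ : ResidueField L →+* ResidueField LQ := ResidueField.map γ
  obtain ⟨c1⟩ := nonempty_lb_comp (U := LQ) hR (algebraMap (p.ResidueField ⊗[R] A) LQ) (γ.comp (algebraMap A L) : A →+* LQ)
    hγ
  obtain ⟨c2⟩ := nonempty_lb_comp (U := LQ) (algebraMap A L) γ (γ.comp (algebraMap A L)) rfl
  obtain ⟨c3⟩ := nonempty_lb_comp (U := ResidueField LQ) γ (residue LQ) ((residue LQ).comp γ) rfl
  obtain ⟨c4⟩ := nonempty_lb_comp (U := ResidueField LQ) (residue L) θ ((residue LQ).comp γ) (RingHom.ext fun x => by simp [θ, ResidueField.map_residue])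
  obtain ⟨e3⟩ := nonempty_lb_shift_self (residue LQ) (m := -m')
    (c2.app ω ≪≫ c1.symm.app ω ≪≫ e2 ≪≫ eQ)
  obtain ⟨hr0, hr1⟩ := finrank_shift_self _ (c4.app ((DRing.LBaseChange (algebraMap A L)).obj ω) ≪≫
    c3.symm.app _ ≪≫ e3)
  simp only [Functor.comp_obj, finrank_HD_lb] at hr0 hr1
  obtain ⟨⟨b, hb⟩, hfin⟩ := finite_HD n ψ hψ Rψ adj
  have hab : ∀ i, (i < b ∨ 0 < i) → IsZero ((HF A i).obj ω) := fun i hi => (isZero_HF_iff _ i).2 (by
    rcases hi with hi | hi
    · exact hb i hi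
    · exact subsingleton_HD_pos n ψ hψ Rψ adj i hi)
  obtain ⟨el⟩ := lbcIso (A := A) L ω
  have hpc : DRing.IsPseudoCoherent' L ((DRing.LBaseChange (algebraMap A L)).obj ω) := by
    refine (pc'_iff_forall_pc _).2 fun j => pc_of_noetherian (b := 1) (fun i hi => ?_) (fun i => ?_) j
    · obtain ⟨e⟩ := HF_DF (extA A L) ω i
      exact ((extA A L).map_isZero (hab i (Or.inr (by omega)))).of_iso ((HF L i).mapIso el ≪≫ e)
    · haveI := hfin i
      haveI := finite_HF_DF L (X := ω) (i := i)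
      exact Module.Finite.equiv ((HF L i).mapIso el).symm.toLinearEquiv
  obtain ⟨eL⟩ := nonempty_iso_of_fibre hpc (-m') hr0 hr1
  obtain ⟨f, hf, ⟨ef⟩⟩ := exists_away_of_local hfin hab q (-m') (el.symm ≪≫ eL)
  obtain ⟨ef'⟩ := lbcIso (A := A) (Localization.Away f) ω
  exact ⟨f, hf, -m', ⟨ef' ≪≫ ef⟩⟩

end Groth.Agent.DR39.ShriekFlat
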