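import Groth.Agent.DR39.RelHom
import Groth.Agent.DR39.InjAmp
import Groth.Agent.DR39.Resolution
import Groth.Agent.DR39.Perf
import Mathlib.RingTheory.Finiteness.Basic

/-! A pseudo-coherent complex with dual the ring is the ring. -/

set_option autoImplicit false
set_option linter.style.haveILetI false
set_option linter.unusedSectionVars false

universe u

open CategoryTheory CategoryTheory.Limits CategoryTheory.Pretriangulated MonoidalCategory

attribute [local instance] HasDerivedCategory.standard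

namespace Groth.Agent.DR39.RelDual

open Groth.Agent.DTen43

variable {A : Type u} [CommRing A]

theorem pow_smul_id_of_triangle {T : Triangle (Dual.D A)} (hT : T ∈ distinguishedTriangles) (h : A) (N : ℕ)
    (h₂ : h ^ N • T.mor₂ = 0) (h₃ : h ^ N • T.mor₃ = 0) : h ^ (N + N) • 𝟙 T.obj₃ = 0 := by
  obtain ⟨u, hu⟩ := Triangle.yoneda_exact₃ T hT (h ^ N • 𝟙 T.obj₃)
    (by rw [Linear.comp_smul, Category.comp_id, h₂])
  rw [pow_add, mul_smul, hu, ← Linear.smul_comp, h₃, zero_comp]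

theorem exists_test {Z : Dual.D A} (hZ : ∀ (j : ℤ) (f : Z ⟶ (Dual.inD A A)⟦j⟧), f = 0)
    (m : Ideal A) [m.IsMaximal] : ∀ gs : List A, (∀ g ∈ gs, g ∈ m) →
      ∃ (C : Dual.D A) (q : C ⟶ Dual.inD A (A ⧸ m)), q ≠ 0 ∧
        (∀ (j : ℤ) (f : Z ⟶ C⟦j⟧), f = 0) ∧ (∃ lo : ℤ, ∀ i, i < lo → IsZero ((HF A i).obj C)) ∧
        ∀ g ∈ gs, ∃ N : ℕ, g ^ N • 𝟙 C = 0 := by
  intro gs
  induction gs with
  | nil =>
    intro _
    let p : ModuleCat.of A A ⟶ ModuleCat.of A (A ⧸ m) := ModuleCat.ofHom (Submodule.mkQ m)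
    refine ⟨Dual.inD A A, (DerivedCategory.singleFunctor (ModuleCat.{u} A) 0).map p, fun h => ?_, hZ,
      ⟨0, fun i hi => DerivedCategory.isZero_of_isGE _ 0 i hi⟩, fun g hg => by simp at hg⟩
    have h0 : p = 0 := (DerivedCategory.singleFunctor (ModuleCat.{u} A) 0).map_injective
      (h.trans ((DerivedCategory.singleFunctor (ModuleCat.{u} A) 0).map_zero _ _).symm)
    exact ‹m.IsMaximal›.ne_top (m.eq_top_iff_one.2 ((Submodule.Quotient.mk_eq_zero m).1
      (LinearMap.congr_fun (congrArg ModuleCat.Hom.hom h0) (1 : A))))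
  | cons g gs ih =>
    intro hgs
    obtain ⟨C, q, hq, hC, ⟨lo, hlo⟩, hN⟩ := ih fun x hx => hgs x (List.mem_cons_of_mem g hx)
    obtain ⟨C', π, δ, hT⟩ := distinguished_cocone_triangle (g • 𝟙 C)
    have hg2 : g • π = 0 := by
      have h : (g • 𝟙 C) ≫ π = 0 := comp_distTriang_mor_zero₁₂ _ hT
      rwa [Linear.smul_comp, Category.id_comp] at h
    have hg3 : g • δ = 0 := by
      have h : δ ≫ (shiftFunctor (Dual.D A) (1 : ℤ)).map (g • 𝟙 C) = 0 := comp_distTriang_mor_zero₃₁ _ hT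
      rwa [Functor.map_smul, CategoryTheory.Functor.map_id, Linear.comp_smul, Category.comp_id] at h
    have hgq : g • q = 0 := by
      have h0 : g • 𝟙 (ModuleCat.of A (A ⧸ m)) = 0 := ModuleCat.hom_ext (LinearMap.ext fun x => by
        obtain ⟨a, rfl⟩ := Submodule.mkQ_surjective m x
        show g • Submodule.mkQ m a = 0
        rw [← map_smul, Submodule.mkQ_apply, Submodule.Quotient.mk_eq_zero]
        exact m.mul_mem_right a (hgs g (List.mem_cons.2 (Or.inl rfl))))
      have := congrArg (DerivedCategory.singleFunctor (ModuleCat.{u} A) 0).map h0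
      rw [Functor.map_smul, Functor.map_zero, CategoryTheory.Functor.map_id] at this
      rw [← Category.comp_id q, ← Linear.comp_smul]
      exact (congrArg (q ≫ ·) this).trans comp_zero
    obtain ⟨q', hq'⟩ := Triangle.yoneda_exact₂ _ hT q
      ((Linear.smul_comp _ _ _ _ _ _).trans ((congrArg (g • ·) (Category.id_comp q)).trans hgq))
    refine ⟨C', q', fun h => hq ?_, fun j f => ?_, ⟨lo - 1, fun i hi => ?_⟩, fun x hx => ?_⟩
    · exact hq'.trans ((congrArg (_ ≫ ·) h).trans comp_zero)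
    · have hT' := Triangle.shift_distinguished _ hT j
      let T' := (Triangle.shiftFunctor (Dual.D A) j).obj (Triangle.mk (g • 𝟙 C) π δ)
      have h3 : f ≫ T'.mor₃ = 0 := by
        have e := (shiftFunctorAdd' (Dual.D A) j 1 (j + 1) rfl).app C
        have := hC (j + 1) ((f ≫ T'.mor₃) ≫ e.inv)
        rwa [Preadditive.IsIso.comp_right_eq_zero] at this
      obtain ⟨f', hf'⟩ := Triangle.coyoneda_exact₃ _ hT' f h3
      exact hf'.trans ((congrArg (· ≫ _) (hC j f')).trans zero_comp)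
    · have hex := DerivedCategory.HomologySequence.exact₃ (Triangle.mk (g • 𝟙 C) π δ) hT i (i + 1) rfl
      exact hex.isZero_X₂ ((hlo i (by omega)).eq_of_src _ _) ((hlo (i + 1) (by omega)).eq_of_tgt _ _)
    · rcases List.mem_cons.1 hx with rfl | hx
      · exact ⟨1 + 1, pow_smul_id_of_triangle hT x 1 (by rw [pow_one]; exact hg2) (by rw [pow_one]; exact hg3)⟩
      · obtain ⟨N, hN⟩ := hN x hx
        refine ⟨N + N, pow_smul_id_of_triangle hT x N ?_ ?_⟩
        · show x ^ N • π = 0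
          rw [← Category.id_comp π, ← Linear.smul_comp, hN, zero_comp]
        · show x ^ N • δ = 0
          rw [← Category.comp_id δ, ← CategoryTheory.Functor.map_id, ← Linear.comp_smul, ← Functor.map_smul, hN,
            Functor.map_zero, comp_zero]

theorem exists_killed {M : Type u} [AddCommGroup M] [Module A M] : ∀ gs : List A,
    (∀ g ∈ gs, ∃ N : ℕ, ∀ x : M, g ^ N • x = 0) → ∀ x : M, x ≠ 0 → ∃ z : M, z ≠ 0 ∧ ∀ g ∈ gs, g • z = 0 := by
  intro gs
  induction gs with
  | nil => exact fun _ x hx => ⟨x, hx, fun g hg => by simp at hg⟩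
  | cons g gs ih =>
    intro h x hx
    obtain ⟨z, hz, hgz⟩ := ih (fun a ha => h a (List.mem_cons_of_mem g ha)) x hx
    obtain ⟨N, hN⟩ := h g (List.mem_cons.2 (Or.inl rfl))
    have hex : ∃ k : ℕ, g ^ (k + 1) • z = 0 := ⟨N, by rw [pow_succ', mul_smul, hN, smul_zero]⟩
    classical
    refine ⟨g ^ Nat.find hex • z, fun h0 => ?_, fun a ha => ?_⟩
    · rcases hk : Nat.find hex with _ | k
      · rw [hk, pow_zero, one_smul] at h0; exact hz h0
      · rw [hk] at h0
        exact Nat.find_min hex (by omega) h0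
    · rcases List.mem_cons.1 ha with rfl | ha
      · rw [← mul_smul, ← pow_succ']; exact Nat.find_spec hex
      · rw [smul_comm, hgz a ha, smul_zero]

/-- A pseudo-coherent complex without maps to the shifts of the ring is zero. -/
theorem isZero_of_hom_ring_eq_zero {Z : Dual.D A} (hpc : ∀ m : ℤ, PC m Z)
    (hZ : ∀ (j : ℤ) (f : Z ⟶ (Dual.inD A A)⟦j⟧), f = 0) : IsZero Z := by
  classical
  refine isZero_of_forall fun i => by_contra fun hi => ?_
  obtain ⟨b0, hb0⟩ := acyc_of_pc (hpc 0)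
  obtain ⟨b, hb, hmax⟩ := Int.exists_greatest_of_bdd (P := fun k => ¬ IsZero ((HF A k).obj Z))
    ⟨b0, fun k hk => le_of_lt (lt_of_not_ge fun hle => hk (hb0 k hle))⟩ ⟨i, hi⟩
  have hA : Acyc (b + 1) Z := fun k hk => by_contra fun h => by have := hmax k h; omega
  obtain ⟨E, hv, hE, ⟨e⟩⟩ := baff_of_forall_pc hA hpc
  have hv' : DRing.VanishesAbove E b := (vanishesAbove_iff E b).2 hv
  haveI : E.IsKProjective := isKProjective_of_bddAbove E b hv' fun j => proj_of_FF (hE j)
  have hd0 : ∀ x : E.X b, (E.d b (b + 1)).hom x = 0 := fun x =>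
    @Subsingleton.elim _ (ModuleCat.subsingleton_of_isZero (hv' (b + 1) (by omega))) _ _
  let W := LinearMap.range (E.d (b - 1) b).hom
  have hW : W ≠ ⊤ := fun h => hb (((isZero_HF_Q_iff E b).2 ((isZero_homology_iff E b).2
    fun x _ => (by show x ∈ W; rw [h]; trivial))).of_iso ((HF A b).mapIso e.symm))
  haveI := (hE b).1; haveI := (hE b).2; haveI := (hE (b - 1)).1
  obtain ⟨N, hN, hWN⟩ := (eq_top_or_exists_le_coatom W).resolve_left hW
  haveI : IsSimpleModule A (E.X b ⧸ N) := isSimpleModule_iff_isCoatom.2 hN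
  obtain ⟨m, hm, ⟨es⟩⟩ := isSimpleModule_iff_quot_maximal.1 ‹IsSimpleModule A (E.X b ⧸ N)›
  haveI := hm
  obtain ⟨F, hF⟩ := Module.projective_lifting_property (Submodule.mkQ m) (es.toLinearMap ∘ₗ N.mkQ)
    (Submodule.mkQ_surjective m)
  have hF' : ∀ v, Submodule.mkQ m (F v) = es (N.mkQ v) := fun v => LinearMap.congr_fun hF v
  obtain ⟨v, hv1⟩ : ∃ v, 1 - F v ∈ m := by
    obtain ⟨v, hv⟩ := N.mkQ_surjective (es.symm (Submodule.mkQ m 1))
    refine ⟨v, (Submodule.Quotient.mk_eq_zero m).1 ?_⟩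
    show Submodule.mkQ m (1 - F v) = 0
    rw [map_sub, hF', hv, es.apply_symm_apply, sub_self]
  have hFd : ∀ y, F ((E.d (b - 1) b).hom y) ∈ m := fun y => (Submodule.Quotient.mk_eq_zero m).1 (by
    show Submodule.mkQ m _ = 0
    rw [hF', (Submodule.Quotient.mk_eq_zero N).2 (hWN ⟨y, rfl⟩) |> (show _ → N.mkQ _ = 0 from id), map_zero])
  obtain ⟨s, hs⟩ := Module.Finite.fg_top (R := A) (M := E.X (b - 1))
  let gs := (1 - F v) :: s.toList.map fun y => F ((E.d (b - 1) b).hom y)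
  have hgs : ∀ g ∈ gs, g ∈ m := fun g hg => by
    rcases List.mem_cons.1 hg with rfl | hg
    · exact hv1
    · obtain ⟨y, -, rfl⟩ := List.mem_map.1 hg
      exact hFd y
  obtain ⟨C, q, hq, hC, ⟨lo, hlo⟩, hN⟩ := exists_test hZ m gs hgs
  obtain ⟨i0, hi0⟩ : ∃ k, ¬ IsZero ((HF A k).obj C) := not_forall.1 fun h =>
    hq ((isZero_of_forall h).eq_of_src _ _)
  obtain ⟨a, ha, hmin⟩ := Int.exists_least_of_bdd (P := fun k => ¬ IsZero ((HF A k).obj C))
    ⟨lo, fun k hk => le_of_not_gt fun hlt => hk (hlo k hlt)⟩ ⟨i0, hi0⟩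
  let C' := C⟦a - b⟧
  let eS := fun k k' (h : a - b + k = k') => ((HF A 0).shiftIso (a - b) k k' h).app C
  haveI hge : DerivedCategory.IsGE C' b := (DerivedCategory.isGE_iff _ b).2 fun k hk => by
    refine IsZero.of_iso (by_contra fun h => ?_) (eS k (a - b + k) rfl)
    have := hmin _ h
    omega
  obtain ⟨P, hP, ⟨eP⟩⟩ := DerivedCategory.exists_iso_Q_obj_of_isGE C' b
  have hne : ¬ IsZero (P.homology b) := fun h =>
    ha ((((isZero_HF_Q_iff P b).2 h).of_iso ((HF A b).mapIso eP)).of_iso (eS b a (by omega)).symm)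
  rw [isZero_homology_iff] at hne
  push Not at hne
  obtain ⟨x, hx, hx'⟩ := hne
  have hker : ∀ z : P.X b, z ∈ LinearMap.range (P.d (b - 1) b).hom → z = 0 := by
    rintro z ⟨y, rfl⟩
    rw [@Subsingleton.elim _ (ModuleCat.subsingleton_of_isZero (P.isZero_of_isStrictlyGE b (b - 1) (by omega))) y 0,
      map_zero]
  let K := LinearMap.ker (P.d b (b + 1)).hom
  have hnil : ∀ g ∈ gs, ∃ k : ℕ, ∀ z : K, g ^ k • z = 0 := fun g hg => by
    obtain ⟨k, hk⟩ := hN g hg
    refine ⟨k, fun z => Subtype.ext (hker _ ?_)⟩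
    have hk' : g ^ k • 𝟙 C' = 0 := by
      have := congrArg (shiftFunctor (Dual.D A) (a - b)).map hk
      rwa [Functor.map_smul, CategoryTheory.Functor.map_id, Functor.map_zero] at this
    have hP0 : (QA A).map (g ^ k • 𝟙 P) = 0 := by
      rw [Functor.map_smul, CategoryTheory.Functor.map_id, ← eP.inv_hom_id, ← Category.id_comp eP.hom,
        ← Linear.comp_smul, ← Linear.smul_comp, hk', zero_comp, comp_zero]
    have h1 : HomologicalComplex.homologyMap (g ^ k • 𝟙 P) b = 0 := by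
      have hn := HQIso_naturality (g ^ k • 𝟙 P) b
      rw [hP0, Functor.map_zero, zero_comp] at hn
      exact (cancel_epi (HQIso P b).hom).1 (hn.symm.trans comp_zero.symm)
    have h2 := homologyMap_hcls (g ^ k • 𝟙 P) b ⟨z.1, z.2⟩
    rw [h1] at h2
    exact (hcls_eq_zero_iff P b _).1 h2.symm
  obtain ⟨z, hz, hgz⟩ := exists_killed gs hnil ⟨x, hx⟩ fun h => hx' (by
    rw [show x = 0 from congrArg Subtype.val h]
    exact zero_mem _)
  let hb' : E.X b ⟶ P.X b := ModuleCat.ofHom (F.smulRight z.1)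
  have hdz : ∀ y, F ((E.d (b - 1) b).hom y) • z.1 = 0 := by
    intro y
    have hy : y ∈ Submodule.span A (s : Set (E.X (b - 1))) := hs ▸ Submodule.mem_top
    induction hy using Submodule.span_induction with
    | mem y hy => exact congrArg Subtype.val (hgz _ (List.mem_cons_of_mem _
        (List.mem_map.2 ⟨y, Finset.mem_toList.2 hy, rfl⟩)))
    | zero => simp
    | add y y' _ _ h h' => rw [map_add, map_add, add_smul, h, h', add_zero]
    | smul c y _ h => rw [map_smul, map_smul, smul_eq_mul, mul_smul, h, smul_zero]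
  let φ : E ⟶ P :=
    { f := fun k => if hk : k = b then eqToHom (by rw [hk]) ≫ hb' ≫ eqToHom (by rw [hk]) else 0
      comm' := fun k l hkl => by
        change k + 1 = l at hkl
        subst hkl
        by_cases hk : k = b
        · subst hk
          rw [dif_pos rfl, dif_neg (by omega), comp_zero]
          refine ModuleCat.hom_ext (LinearMap.ext fun w => ?_)
          simp only [eqToHom_refl, Category.id_comp, Category.comp_id, ModuleCat.hom_comp, LinearMap.comp_apply]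
          show (P.d k (k + 1)).hom (F w • z.1) = _
          rw [map_smul, LinearMap.mem_ker.1 z.2, smul_zero]
          rfl
        · by_cases hk' : k + 1 = b
          · subst hk'
            rw [dif_neg hk, dif_pos rfl, zero_comp]
            refine ModuleCat.hom_ext (LinearMap.ext fun w => ?_)
            simp only [eqToHom_refl, Category.id_comp, Category.comp_id, ModuleCat.hom_comp, LinearMap.comp_apply]
            have := hdz
            rw [show k + 1 - 1 = k by omega] at this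
            exact (this w).symm
          · rw [dif_neg hk, dif_neg hk', zero_comp, comp_zero] }
  have hφ0 : DerivedCategory.Q.map φ = 0 := by
    have h1 := hC (a - b) (e.inv ≫ DerivedCategory.Q.map φ ≫ eP.inv)
    rw [← cancel_epi e.inv, ← cancel_mono eP.inv, Category.assoc, h1]
    simp
  obtain ⟨H⟩ := (Q_map_eq_iff φ 0).1 (hφ0.trans (Functor.map_zero _ _ _).symm)
  have hcomm := H.comm b
  rw [dNext_eq _ (show (ComplexShape.up ℤ).Rel b (b + 1) by simp),
    prevD_eq _ (show (ComplexShape.up ℤ).Rel (b - 1) b by simp),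
    (P.isZero_of_isStrictlyGE b (b - 1) (by omega)).eq_of_tgt (H.hom b (b - 1)) 0,
    (hv' (b + 1) (by omega)).eq_of_src (H.hom (b + 1) b) 0] at hcomm
  simp [φ] at hcomm
  have hval := LinearMap.congr_fun (congrArg ModuleCat.Hom.hom hcomm) v
  refine hz (Subtype.ext ?_)
  have h1 := congrArg Subtype.val (hgz (1 - F v) (List.mem_cons.2 (Or.inl rfl)))
  change (1 - F v) • z.1 = 0 at h1
  rw [sub_smul, one_smul, sub_eq_zero] at h1
  exact h1.trans hval

variable [DTen.HasLTen A] [DTen.HasLTen₃ A] [DTen.IsSymMonoidal A] [DTen.HasRHom A]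

theorem bijective_precomp_of_isIso {E K : Dual.D A} (α : E ⟶ K) (T Z : Dual.D A) [IsIso (DTen.RHomMap α T)] :
    Function.Bijective (fun g : K ⟶ (DTen.RHomR A Z).obj T => α ≫ g) := by
  let ΦK : (Z ⟶ (DTen.RHomR A K).obj T) ≃ (K ⟶ (DTen.RHomR A Z).obj T) :=
    (DTen.rhomHomEquiv Z K T).symm.trans ((β_ Z K).homFromEquiv.trans (DTen.rhomHomEquiv K Z T))
  let ΦE : (Z ⟶ (DTen.RHomR A E).obj T) ≃ (E ⟶ (DTen.RHomR A Z).obj T) :=
    (DTen.rhomHomEquiv Z E T).symm.trans ((β_ Z E).homFromEquiv.trans (DTen.rhomHomEquiv E Z T))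
  have key : ΦE ∘ (fun g : Z ⟶ (DTen.RHomR A K).obj T => g ≫ DTen.RHomMap α T) =
      (fun g : K ⟶ (DTen.RHomR A Z).obj T => α ≫ g) ∘ ΦK := by
    funext g
    show DTen.rhomHomEquiv E Z T ((β_ Z E).inv ≫ (DTen.rhomHomEquiv Z E T).symm (g ≫ DTen.RHomMap α T)) =
      α ≫ DTen.rhomHomEquiv K Z T ((β_ Z K).inv ≫ (DTen.rhomHomEquiv Z K T).symm g)
    refine Eq.trans ?_ ((DTen.rhomAdj A Z).homEquiv_naturality_left α _)
    apply congrArg
    show (β_ Z E).inv ≫ (DTen.rhomHomEquiv Z E T).symm (g ≫ DTen.RHomMap α T) =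
      α ▷ Z ≫ (β_ Z K).inv ≫ (DTen.rhomHomEquiv Z K T).symm g
    rw [homEquiv_symm_eq, homEquiv_symm_eq, comp_whiskerRight, Category.assoc, RHomMap_ev,
      ← whisker_exchange_assoc, BraidedCategory.braiding_inv_naturality_left_assoc]
  refine (Function.Bijective.of_comp_iff _ ΦK.bijective).1 ?_
  rw [← key]
  exact ΦE.bijective.comp ((asIso (DTen.RHomMap α T)).homToEquiv.bijective)

theorem exists_rhom_eq_shift (j : ℤ) :
    ∃ Z : Dual.D A, Nonempty ((DTen.RHomR A Z).obj (𝟙_ (Dual.D A)) ≅ (Dual.inD A A)⟦j⟧) := by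
  obtain ⟨U', ⟨hp⟩⟩ := exists_exactPairing (A := A) ((𝟙_ (Dual.D A))⟦j⟧) (perfect_shift (perfect_unit A) j)
  letI := hp
  letI : ExactPairing U' ((𝟙_ (Dual.D A))⟦j⟧) := BraidedCategory.exactPairing_swap _ _
  have hd := isIHom_dual U' ((𝟙_ (Dual.D A))⟦j⟧) (𝟙_ (Dual.D A))
  obtain ⟨θ, hθ⟩ := (isIHom_ev (A := A) U' (𝟙_ (Dual.D A)) _).2
    ((α_ _ _ U').hom ≫ _ ◁ ε_ U' ((𝟙_ (Dual.D A))⟦j⟧) ≫ (ρ_ _).hom)
  haveI := (isIHom_ev (A := A) U' (𝟙_ (Dual.D A))).isIso hd θ hθ
  exact ⟨U', ⟨(asIso θ).symm ≪≫ λ_ _ ≪≫ (shiftFunctor (Dual.D A) j).mapIso (unitIso A)⟩⟩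

/-- A pseudo-coherent complex whose dual is the ring is the ring. -/
theorem nonempty_iso_unit_of_rhom {X : Dual.D A} (hX : DRing.IsPseudoCoherent' A X)
    (θ : 𝟙_ (Dual.D A) ≅ (DTen.RHomR A X).obj (𝟙_ (Dual.D A))) : Nonempty (X ≅ 𝟙_ (Dual.D A)) := by
  let one := 𝟙_ (Dual.D A)
  let a : X ⟶ one := (λ_ X).inv ≫ θ.hom ▷ X ≫ DTen.ev X one
  let η : one ⟶ (DTen.RHomR A one).obj one := DTen.rhomHomEquiv one one one (λ_ one).hom
  have hη : η ▷ one ≫ DTen.ev one one = (λ_ one).hom :=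
    (homEquiv_symm_eq η).symm.trans (Equiv.symm_apply_apply _ _)
  haveI : IsIso η := by
    have hd : IsIHom (C := Dual.D A) (λ_ one).hom := fun W => by
      have : (fun g : W ⟶ one => g ▷ one ≫ (λ_ one).hom) = (ρ_ W).symm.homFromEquiv := by
        funext g
        show _ = (ρ_ W).hom ≫ g
        rw [unitors_equal, rightUnitor_naturality]
      rw [this]
      exact Equiv.bijective _
    exact (isIHom_ev (A := A) one one).isIso hd η hη
  have hθ : η ≫ DTen.RHomMap a one = θ.hom := by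
    refine (isIHom_ev (A := A) X one _).1 ?_
    show (η ≫ DTen.RHomMap a one) ▷ X ≫ DTen.ev X one = θ.hom ▷ X ≫ DTen.ev X one
    rw [comp_whiskerRight, Category.assoc, RHomMap_ev, ← whisker_exchange_assoc]
    refine (congrArg (_ ≫ ·) hη).trans ?_
    rw [leftUnitor_naturality]
    simp [a, one]
  haveI : IsIso (DTen.RHomMap a one) := by
    haveI : IsIso (η ≫ DTen.RHomMap a one) := by rw [hθ]; infer_instance
    exact IsIso.of_isIso_comp_left η _
  have hbij : ∀ j : ℤ, Function.Bijective (fun g : one ⟶ (Dual.inD A A)⟦j⟧ => a ≫ g) := fun j => by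
    obtain ⟨W, ⟨w⟩⟩ := exists_rhom_eq_shift (A := A) j
    have h := bijective_precomp_of_isIso a one W
    have : (fun g : one ⟶ (Dual.inD A A)⟦j⟧ => a ≫ g) =
        w.homToEquiv ∘ (fun g : one ⟶ (DTen.RHomR A W).obj one => a ≫ g) ∘ w.homToEquiv.symm := by
      funext g
      simp [Iso.homToEquiv]
    rw [this]
    exact w.homToEquiv.bijective.comp (h.comp w.homToEquiv.symm.bijective)
  obtain ⟨C, π, δ, hT⟩ := distinguished_cocone_triangle a
  have hC0 : ∀ (j : ℤ) (f : C ⟶ (Dual.inD A A)⟦j⟧), f = 0 := fun j f => by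
    have h1 : π ≫ f = 0 := (hbij j).1 (by
      show a ≫ π ≫ f = a ≫ 0
      rw [comp_zero, ← Category.assoc]
      exact (congrArg (· ≫ f) (comp_distTriang_mor_zero₁₂ _ hT)).trans zero_comp)
    obtain ⟨(k : X⟦(1 : ℤ)⟧ ⟶ (Dual.inD A A)⟦j⟧), (hk : f = δ ≫ k)⟩ := Triangle.yoneda_exact₃ _ hT f h1
    subst hk
    have h31 : δ ≫ a⟦(1 : ℤ)⟧' = 0 := comp_distTriang_mor_zero₃₁ _ hT
    let e := (shiftFunctorAdd' (Dual.D A) (j - 1) 1 j (by omega)).app (Dual.inD A A)
    obtain ⟨k', hk'⟩ := (shiftFunctor (Dual.D A) (1 : ℤ)).map_surjective (k ≫ e.hom)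
    obtain ⟨g, hg⟩ := (hbij (j - 1)).2 k'
    simp only at hg
    rw [← cancel_mono e.hom, Category.assoc, ← hk', ← hg, Functor.map_comp,
      reassoc_of% h31, zero_comp, zero_comp]
  have hCpc : ∀ m : ℤ, PC m C := fun m => PC.obj₃ hT (pc_of_pc' hX _) (pc_of_pc' ((perfect_iff _).1 (perfect_unit A)).1 _)
  haveI : IsIso a := (Triangle.isZero₃_iff_isIso₁ _ hT).1 (isZero_of_hom_ring_eq_zero hCpc hC0)
  exact ⟨asIso a⟩

end Groth.Agent.DR39.RelDual
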