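import Groth.Agent.DTen43.EvalPC
import Groth.Agent.DR39.Perf

/-! Pairings into a relative dualising object and biduality. -/

set_option autoImplicit false
set_option linter.style.haveILetI false
set_option linter.unusedSectionVars false

universe u

open CategoryTheory CategoryTheory.Limits MonoidalCategory

attribute [local instance] HasDerivedCategory.standard

namespace Groth.Agent.DR39.RelDual

open Groth.Agent.DTen43

section Cx

variable {P A : Type u} [CommRing P] [CommRing A] (φ : P →+* A)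

theorem braid_resTen₀ (M N : ModuleCat.{u} A) :
    (β_ ((DTen.resM φ).obj M) ((DTen.resM φ).obj N)).hom ≫ DTen.resTen₀app φ N M =
      DTen.resTen₀app φ M N ≫ (DTen.resM φ).map (β_ M N).hom :=
  ModuleCat.hom_ext (TensorProduct.ext' fun _ _ => rfl)

theorem braidCx_resTenCx (Y Y' : DRing.Cx A) :
    (DTen.braidCx ((DTen.resCx φ).obj Y) ((DTen.resCx φ).obj Y')).hom ≫ DTen.resTenCx φ Y' Y =
      DTen.resTenCx φ Y Y' ≫ (DTen.resCx φ).map (DTen.braidCx Y Y').hom := by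
  refine HomologicalComplex.hom_ext _ _ fun n => HomologicalComplex.mapBifunctor.hom_ext fun p q h => ?_
  erw [HomologicalComplex.comp_f, HomologicalComplex.comp_f, DTen.ι_braidCx_hom_assoc _ _ p q n h,
    DTen.ι_resTenCx_assoc φ Y Y' p q n h, Functor.mapHomologicalComplex_map_f, ← Functor.map_comp,
    DTen.ι_braidCx_hom Y Y' p q n h]
  simp only [Linear.units_smul_comp, Category.assoc]
  erw [DTen.ι_resTenCx φ Y' Y q p n (by change p + q = n at h; omega)]
  rw [Units.smul_def, Units.smul_def, Functor.map_zsmul, Functor.map_comp]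
  exact (congrArg (_ • ·) ((Category.assoc _ _ _).symm.trans
    ((congrArg (· ≫ _) (braid_resTen₀ φ (Y.X p) (Y'.X q))).trans (Category.assoc _ _ _)))).trans
      (Preadditive.comp_zsmul _ _ _).symm

end Cx

variable {P A : Type u} [CommRing P] [CommRing A] (φ : P →+* A)
variable [DTen.HasLTen P] [DTen.HasLTen A] [DTen.HasLBase φ] [DTen.HasResTen φ] [DTen.ResLegIso φ]
variable [DTen.HasLTen₃ P] [DTen.IsSymMonoidal P] [DTen.HasLTen₃ A] [DTen.IsSymMonoidal A]

/-- The lax monoidal comparison of restriction. -/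
noncomputable def lax (X Y : Dual.D A) :
    (DRing.restrictD φ).obj X ⊗ (DRing.restrictD φ).obj Y ⟶ (DRing.restrictD φ).obj (X ⊗ Y) :=
  (DTen.resPF φ).app (X, Y)

@[reassoc]
theorem lax_natural {X X' Y Y' : Dual.D A} (f : X ⟶ X') (g : Y ⟶ Y') :
    ((DRing.restrictD φ).map f ⊗ₘ (DRing.restrictD φ).map g) ≫ lax φ X' Y' =
      lax φ X Y ≫ (DRing.restrictD φ).map (f ⊗ₘ g) :=
  (DTen.resPF φ).naturality (X := (X, Y)) (Y := (X', Y')) (Prod.mkHom f g)

theorem projD_lax (X : Dual.D A) (Y : Dual.D P) :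
    projD φ X Y = (DRing.restrictD φ).obj X ◁ (DTen.baseAdj φ).unit.app Y ≫ lax φ X ((DTen.LBase φ).obj Y) :=
  projD_eq φ X Y

theorem lax_braid (X Y : Dual.D A) :
    (β_ ((DRing.restrictD φ).obj X) ((DRing.restrictD φ).obj Y)).hom ≫ lax φ Y X =
      lax φ X Y ≫ (DRing.restrictD φ).map (β_ X Y).hom := by
  obtain ⟨Z, -, hZ, ⟨e₁⟩⟩ := exists_kproj X
  obtain ⟨Z', -, hZ', ⟨e₂⟩⟩ := exists_kproj Y
  let G := DRing.restrictD φ
  let Q := DerivedCategory.Q (C := ModuleCat.{u} A)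
  suffices h : (β_ (G.obj (Q.obj Z)) (G.obj (Q.obj Z'))).hom ≫ lax φ (Q.obj Z') (Q.obj Z) =
      lax φ (Q.obj Z) (Q.obj Z') ≫ G.map (β_ (Q.obj Z) (Q.obj Z')).hom by
    haveI := DTen43.isIso_tensorHom (G.map e₁.hom) (G.map e₂.hom)
    rw [← cancel_epi (G.map e₁.hom ⊗ₘ G.map e₂.hom), BraidedCategory.braiding_naturality_assoc,
      lax_natural φ e₂.hom e₁.hom, reassoc_of% h, lax_natural_assoc φ e₁.hom e₂.hom, ← Functor.map_comp,
      ← Functor.map_comp, BraidedCategory.braiding_naturality]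
  let mv := (DTen.resβB φ).app (Z', Z)
  haveI : IsIso mv := by
    haveI := isIso_μ Z' Z (Or.inr hZ)
    exact IsIso.comp_isIso' (Functor.map_isIso G (μ Z' Z))
      (inferInstanceAs (IsIso ((DTen.resFactors φ).hom.app _)))
  rw [← cancel_mono mv]
  let r : G.obj (Q.obj Z) ⟶ DerivedCategory.Q.obj ((DTen.resCx φ).obj Z) := (DTen.resFactors φ).hom.app Z
  let r' : G.obj (Q.obj Z') ⟶ DerivedCategory.Q.obj ((DTen.resCx φ).obj Z') := (DTen.resFactors φ).hom.app Z'
  have f1 : lax φ (Q.obj Z') (Q.obj Z) ≫ mv =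
      (r' ⊗ₘ r) ≫ μ ((DTen.resCx φ).obj Z') ((DTen.resCx φ).obj Z) ≫
        DerivedCategory.Q.map (DTen.resTenCx φ Z' Z) := DTen.resPF_fac φ (Z', Z)
  have f2 : lax φ (Q.obj Z) (Q.obj Z') ≫ (DTen.resβB φ).app (Z, Z') =
      (r ⊗ₘ r') ≫ μ ((DTen.resCx φ).obj Z) ((DTen.resCx φ).obj Z') ≫
        DerivedCategory.Q.map (DTen.resTenCx φ Z Z') := DTen.resPF_fac φ (Z, Z')
  have hb : G.map (β_ (Q.obj Z) (Q.obj Z')).hom ≫ mv =
      (DTen.resβB φ).app (Z, Z') ≫ DerivedCategory.Q.map ((DTen.resCx φ).map (DTen.braidCx Z Z').hom) := by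
    show G.map (β_ (Q.obj Z) (Q.obj Z')).hom ≫ G.map (μ Z' Z) ≫ _ = (G.map (μ Z Z') ≫ _) ≫ _
    rw [← Functor.map_comp_assoc, show (β_ (Q.obj Z) (Q.obj Z')).hom ≫ μ Z' Z =
      μ Z Z' ≫ DerivedCategory.Q.map (DTen.braidCx Z Z').hom from μ_braid Z Z', Functor.map_comp, Category.assoc,
      Category.assoc]
    exact congrArg (_ ≫ ·) ((DTen.resFactors φ).hom.naturality (DTen.braidCx Z Z').hom)
  rw [Category.assoc, f1, Category.assoc, hb, reassoc_of% f2, ← Functor.map_comp, ← braidCx_resTenCx,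
    ← BraidedCategory.braiding_naturality_assoc r r', Functor.map_comp]
  exact congrArg (_ ≫ ·) (((Category.assoc _ _ _).symm.trans (congrArg (· ≫ _)
    (μ_braid ((DTen.resCx φ).obj Z) ((DTen.resCx φ).obj Z')))).trans (Category.assoc _ _ _))

/-- A universal pairing restricts to a universal pairing. -/
theorem isIHom_res {X K ω₀ : Dual.D A} {L : Dual.D P} (c : (DRing.restrictD φ).obj ω₀ ⟶ L)
    (hc : ∀ Z : Dual.D A, Function.Bijective fun x : Z ⟶ ω₀ => (DRing.restrictD φ).map x ≫ c)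
    {e : X ⊗ K ⟶ ω₀} (h : IsIHom e) :
    IsIHom (lax φ X K ≫ (DRing.restrictD φ).map e ≫ c) := fun Y => by
  let G := DRing.restrictD φ
  let F := DTen.LBase φ
  haveI : IsIso (projD φ K Y) := isIso_projD φ K Y
  let E : (Y ⟶ G.obj X) ≃ (Y ⊗ G.obj K ⟶ L) :=
    ((DTen.baseAdj φ).homEquiv Y X).symm.trans <| (Equiv.ofBijective _ (h (F.obj Y))).trans <|
      ((β_ (F.obj Y) K).homFromEquiv).trans <| (Equiv.ofBijective _ (hc (K ⊗ F.obj Y))).trans <|
        (β_ Y (G.obj K) ≪≫ asIso (projD φ K Y)).symm.homFromEquiv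
  have : (fun g : Y ⟶ G.obj X => g ▷ G.obj K ≫ lax φ X K ≫ G.map e ≫ c) = E := by
    funext g
    let g' := ((DTen.baseAdj φ).homEquiv Y X).symm g
    show g ▷ G.obj K ≫ lax φ X K ≫ G.map e ≫ c =
      ((β_ Y (G.obj K)).hom ≫ projD φ K Y) ≫ G.map ((β_ (F.obj Y) K).inv ≫ g' ▷ K ≫ e) ≫ c
    have hg : g = (DTen.baseAdj φ).unit.app Y ≫ G.map g' := by
      exact (Equiv.apply_symm_apply ((DTen.baseAdj φ).homEquiv Y X) g).symm.trans
        ((DTen.baseAdj φ).homEquiv_unit Y X g')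
    have hl : lax φ X K = (β_ (G.obj X) (G.obj K)).hom ≫ lax φ K X ≫ G.map (β_ K X).hom := by
      rw [reassoc_of% (lax_braid φ X K), ← Functor.map_comp, SymmetricCategory.symmetry,
        CategoryTheory.Functor.map_id, Category.comp_id]
    have hk : G.obj K ◁ G.map g' ≫ lax φ K X = lax φ K (F.obj Y) ≫ G.map (K ◁ g') := by
      rw [← id_tensorHom, ← id_tensorHom, ← CategoryTheory.Functor.map_id G K]
      exact lax_natural φ (𝟙 K) g'
    rw [hl, Category.assoc, Category.assoc, BraidedCategory.braiding_naturality_left_assoc, Category.assoc]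
    refine congrArg (_ ≫ ·) ?_
    rw [hg, MonoidalCategory.whiskerLeft_comp, Category.assoc, reassoc_of% hk, projD_lax, Category.assoc]
    refine congrArg (_ ≫ ·) (congrArg (_ ≫ ·) ?_)
    rw [← Functor.map_comp_assoc, ← Functor.map_comp_assoc]
    congr 2
    rw [Category.assoc, BraidedCategory.braiding_naturality_right_assoc]
    rw [show (β_ (F.obj Y) K).inv = (β_ K (F.obj Y)).hom by
      rw [← cancel_epi (β_ (F.obj Y) K).hom, Iso.hom_inv_id, SymmetricCategory.symmetry]]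
  rw [this]
  exact E.bijective

/-- A dual of a perfect object which is perfect. -/
theorem exists_exactPairing_perfect (K : Dual.D P) (hK : DRing.IsPerfect P K) :
    ∃ K' : Dual.D P, Nonempty (ExactPairing K K') ∧ DRing.IsPerfect P K' := by
  obtain ⟨Z, a, b, hZ, hfp, ⟨e⟩⟩ := hK
  have hZ' : ∀ i, i ∉ Finset.Icc a b → IsZero (Z.X i) := fun i hi =>
    hZ i (by rw [Finset.mem_Icc] at hi; omega)
  have hB : ∀ i, Nonempty (DualBasis (Z.X i)) := fun i => by
    haveI := (hfp i).1; haveI := (hfp i).2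
    exact nonempty_dualBasis _
  haveI : Z.IsStrictlyLE b := by
    rw [CochainComplex.isStrictlyLE_iff]
    exact fun i hi => hZ i (Or.inr hi)
  haveI := fun i => (IsProjective.iff_projective (Z.X i)).1 (hfp i).2
  haveI := CochainComplex.isKProjective_of_projective Z b
  letI := exactPairingCx Z a b (fun i => (hB i).some) hZ'
  haveI : IsIso (Functor.LaxMonoidal.ε (DerivedCategory.Q (C := ModuleCat.{u} P))) :=
    inferInstanceAs (IsIso (𝟙 _))
  haveI : IsIso (Functor.LaxMonoidal.μ DerivedCategory.Q Z (dual Z)) :=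
    isIso_μ Z (dual Z) (Or.inl isKFlat_of_isKProjective)
  haveI : IsIso (Functor.LaxMonoidal.μ DerivedCategory.Q (dual Z) Z) :=
    isIso_μ (dual Z) Z (Or.inr isKFlat_of_isKProjective)
  letI := mapExactPairing DerivedCategory.Q Z (dual Z)
  refine ⟨DerivedCategory.Q.obj (dual Z),
    ⟨@exactPairingCongrLeft (Dual.D P) _ _ K (DerivedCategory.Q.obj Z) (DerivedCategory.Q.obj (dual Z)) _ e.symm⟩,
    dual Z, -b, -a, fun i hi => ?_, fun i => ?_, ⟨Iso.refl _⟩⟩
  · haveI := ModuleCat.subsingleton_of_isZero (hZ (-i) (by omega))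
    haveI : Subsingleton ((dual Z).X i) :=
      ⟨fun f g => LinearMap.ext fun x => by rw [Subsingleton.elim x 0, map_zero, map_zero]⟩
    exact ModuleCat.isZero_of_subsingleton _
  · haveI := (hfp (-i)).1; haveI := (hfp (-i)).2
    exact finite_projective_dual _

variable {ω₀ : Dual.D A} (c : (DRing.restrictD φ).obj ω₀ ⟶ 𝟙_ (Dual.D P))
  (hc : ∀ Z : Dual.D A, Function.Bijective fun x : Z ⟶ ω₀ => (DRing.restrictD φ).map x ≫ c)

include hc in
/-- The internal hom into the dualising object of an object perfect over `P` is perfect over `P`. -/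
theorem isPerfect_of_isIHom {X K : Dual.D A} {e : X ⊗ K ⟶ ω₀} (h : IsIHom e)
    (hK : DRing.IsPerfect P ((DRing.restrictD φ).obj K)) :
    DRing.IsPerfect P ((DRing.restrictD φ).obj X) := by
  obtain ⟨K', ⟨hp⟩, hK'⟩ := exists_exactPairing_perfect _ hK
  letI := hp
  have hd := isIHom_dual ((DRing.restrictD φ).obj K) K' (𝟙_ (Dual.D P))
  obtain ⟨t, ht⟩ := (isIHom_res φ c hc h _).2 ((α_ _ _ _).hom ≫ _ ◁ ε_ _ K' ≫ (ρ_ _).hom)
  haveI := (isIHom_res φ c hc h).isIso hd t ht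
  exact perfect_of_iso hK' ((λ_ K').symm ≪≫ asIso t)

include hc in
/-- Biduality. -/
theorem isIso_bidual {X X₂ K : Dual.D A} {e : X ⊗ K ⟶ ω₀} (h : IsIHom e) {e₂ : X₂ ⊗ X ⟶ ω₀} (h₂ : IsIHom e₂)
    (hK : DRing.IsPerfect P ((DRing.restrictD φ).obj K)) (t : K ⟶ X₂)
    (ht : t ▷ X ≫ e₂ = (β_ K X).hom ≫ e) : IsIso t := by
  let G := DRing.restrictD φ
  obtain ⟨K', ⟨hp⟩, -⟩ := exists_exactPairing_perfect _ hK
  letI := hp
  have hW := isIHom_res φ c hc h
  let W := lax φ X K ≫ G.map e ≫ c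
  have hd := isIHom_dual (G.obj K) K' (𝟙_ (Dual.D P))
  obtain ⟨j, hj⟩ := (hW _).2 ((α_ _ _ _).hom ≫ _ ◁ ε_ _ K' ≫ (ρ_ _).hom)
  haveI := hW.isIso hd j hj
  haveI : IsIso ((λ_ K').inv ≫ j) := inferInstance
  let j' : K' ≅ G.obj X := (λ_ K').symm ≪≫ asIso j
  have hj' : j'.hom ▷ G.obj K ≫ W = ε_ (G.obj K) K' := by
    show ((λ_ K').inv ≫ j) ▷ G.obj K ≫ W = _
    rw [MonoidalCategory.comp_whiskerRight, Category.assoc]
    refine (congrArg (_ ≫ ·) hj).trans ?_
    monoidal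
  have hW' : IsIHom ((β_ (G.obj K) (G.obj X)).hom ≫ W) := fun Y => by
    let E : (Y ⟶ G.obj K) ≃ (Y ⊗ G.obj X ⟶ 𝟙_ (Dual.D P)) :=
      ((ρ_ (G.obj K)).symm.homToEquiv).trans <| (tensorLeftHomEquiv Y (G.obj K) K' (𝟙_ _)).symm.trans
        ((β_ Y (G.obj X)) ≪≫ whiskerRightIso j'.symm Y).symm.homFromEquiv
    have : (fun g : Y ⟶ G.obj K => g ▷ G.obj X ≫ (β_ (G.obj K) (G.obj X)).hom ≫ W) = E := by
      funext g
      show g ▷ G.obj X ≫ (β_ (G.obj K) (G.obj X)).hom ≫ W = ((β_ Y (G.obj X)).hom ≫ j'.inv ▷ Y) ≫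
        K' ◁ (g ≫ (ρ_ (G.obj K)).inv) ≫ (α_ K' (G.obj K) (𝟙_ _)).inv ≫ ε_ (G.obj K) K' ▷ 𝟙_ _ ≫ (λ_ _).hom
      rw [BraidedCategory.braiding_naturality_left_assoc, Category.assoc]
      refine congrArg (_ ≫ ·) ?_
      rw [← cancel_epi (j'.hom ▷ Y), hom_inv_whiskerRight_assoc, ← whisker_exchange_assoc, hj']
      monoidal
    rw [this]
    exact E.bijective
  haveI : IsIso (G.map t) := by
    refine (isIHom_res φ c hc h₂).isIso hW' (G.map t) ?_
    have hn : G.map t ▷ G.obj X ≫ lax φ X₂ X = lax φ K X ≫ G.map (t ▷ X) := by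
      rw [← tensorHom_id, ← tensorHom_id, ← CategoryTheory.Functor.map_id G X]
      exact lax_natural φ t (𝟙 X)
    rw [reassoc_of% hn, ← Functor.map_comp_assoc, ht, Functor.map_comp, Category.assoc,
      ← reassoc_of% (lax_braid φ K X)]
  exact DTen43.isIso_of_isIso_restrictD φ t

end Groth.Agent.DR39.RelDual
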