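import Groth.Agent.DR39.ShriekFlat3
import Groth.Agent.DR39.Dualizing

/-! The relative dualizing complex of a flat algebra is relative dualizing. -/

set_option autoImplicit false
set_option linter.style.haveILetI false
set_option linter.unusedSectionVars false
set_option backward.isDefEq.respectTransparency false

universe u

open CategoryTheory CategoryTheory.Limits TensorProduct

attribute [local instance] HasDerivedCategory.standard
  Groth.Agent.Shriek42.hasLB

namespace Groth.Agent.DR39.ShriekFlat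

variable {R A : Type u} [CommRing R] [CommRing A] [Algebra R A] [IsNoetherianRing R] [Module.Flat R A]

theorem isRelPerfect [IsNoetherianRing A] (n : ℕ) (ψ : MvPolynomial (Fin n) R →ₐ[R] A)
    (hψ : Function.Surjective ψ) [DRing.HasLBaseChange (algebraMap R (MvPolynomial (Fin n) R))]
    (Rψ : Dual.D (MvPolynomial (Fin n) R) ⥤ Dual.D A) (adj : DRing.restrictD ψ.toRingHom ⊣ Rψ) :
    Dual2.IsRelPerfect R A (Dual2.shriekVia n Rψ (Dual.inD R R)) :=
  ⟨(pc'_iff_forall_pc _).2 fun m => pc_of_noetherian (b := 1)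
      (fun i hi => (isZero_HF_iff _ i).2 (subsingleton_HD_pos n ψ hψ Rψ adj i (by omega)))
      (finite_HD n ψ hψ Rψ adj).2 m,
    ⟨_, _, finiteTor n ψ hψ Rψ adj⟩⟩

theorem isRelDualizing [IsNoetherianRing A] (n : ℕ) (ψ : MvPolynomial (Fin n) R →ₐ[R] A)
    (hψ : Function.Surjective ψ) [DRing.HasLBaseChange (algebraMap R (MvPolynomial (Fin n) R))]
    (Rψ : Dual.D (MvPolynomial (Fin n) R) ⥤ Dual.D A) (adj : DRing.restrictD ψ.toRingHom ⊣ Rψ)
    [DRing.HasLBaseChange (Algebra.TensorProduct.includeLeftRingHom : A →+* TensorProduct R A A)]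
    (Rμ : Dual.D (TensorProduct R A A) ⥤ Dual.D A)
    (adjμ : DRing.restrictD (Algebra.TensorProduct.lmul' R (S := A)).toRingHom ⊣ Rμ) :
    Dual2.IsRelDualizing R A Rμ (Dual2.shriekVia n Rψ (Dual.inD R R)) := by
  refine ⟨isRelPerfect n ψ hψ Rψ adj, ?_⟩
  let ω := Dual2.shriekVia n Rψ (Dual.inD R R)
  let μ := (Algebra.TensorProduct.lmul' R (S := A)).toRingHom
  obtain ⟨ψ', hψ'⟩ := exists_presentation_bc A n ψ hψ
  obtain ⟨eb⟩ := shriek_baseChange A n ψ hψ Rψ adj n ψ' hψ' _ (Shriek42.rightDAdj ψ'.toRingHom)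
  obtain ⟨es⟩ := Shriek42.shriek_iso (Algebra.TensorProduct.comm R A A).toRingEquiv
    (iT := (Algebra.TensorProduct.includeRight : A →ₐ[R] A ⊗[R] A).toRingHom)
    (iT' := (Algebra.TensorProduct.includeLeftRingHom : A →+* TensorProduct R A A))
    (RingHom.ext fun a => by simp)
    (χ := μ) (χ' := μ)
    (RingHom.ext fun z => by
      induction z using TensorProduct.induction_on with
      | zero => simp
      | add x y hx hy => simp only [map_add, hx, hy]
      | tmul x y => simp [μ, mul_comm]) adjμ adjμ ω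
  obtain ⟨e1⟩ := Shriek42.nonempty_shift_iso adjμ ((Shriek42.rightD ψ'.toRingHom).obj
    ((DRing.LBaseChange (algebraMap A (MvPolynomial (Fin n) A))).obj (Dual.inD A A))) (n : ℤ)
  let χ : MvPolynomial (Fin n) A →ₐ[A] A :=
    { μ.comp ψ'.toRingHom with
      commutes' := fun a => by
        show μ (ψ' (algebraMap A (MvPolynomial (Fin n) A) a)) = a
        rw [ψ'.commutes, Algebra.TensorProduct.algebraMap_apply]
        simp [μ] }
  let adjχ : DRing.restrictD χ.toRingHom ⊣ Shriek42.rightD ψ'.toRingHom ⋙ Rμ :=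
    ((adjμ.comp (Shriek42.rightDAdj ψ'.toRingHom))).ofNatIsoLeft (Shriek42.restrictCompIso (χ := χ.toRingHom) rfl).symm
  let adjI : DRing.restrictD (algebraMap A A) ⊣ 𝟭 (Dual.D A) :=
    (Adjunction.id).ofNatIsoLeft (Shriek42.restrictIdIso (χ := algebraMap A A) rfl).symm
  obtain ⟨e2⟩ := Shriek42.shriekVia_iso_of_finite n χ _ adjχ (𝟭 (Dual.D A)) adjI (Dual.inD A A)
  exact ⟨es.symm ≪≫ Rμ.mapIso eb ≪≫ e1 ≪≫ e2⟩

end Groth.Agent.DR39.ShriekFlat
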