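import Groth.Agent.DR39.RelBase
import Groth.Agent.DR39.RelPair
import Groth.Agent.DR39.RelHom
import Groth.Agent.DR39.PCUnit
import Groth.Agent.DR39.ShriekRelDual

/-! Relative dualizing complexes over an arbitrary base. -/

set_option autoImplicit false
set_option linter.style.haveILetI false
set_option linter.unusedSectionVars false
set_option backward.isDefEq.respectTransparency false

universe u

open CategoryTheory CategoryTheory.Limits MonoidalCategory
open scoped TensorProduct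

attribute [local instance] HasDerivedCategory.standard Groth.Agent.Shriek42.hasLB
  Groth.Agent.DTen43.hasLTen Groth.Agent.DTen43.hasLBase Groth.Agent.DTen43.hasResTen
  Groth.Agent.DTen43.resLegIso Groth.Agent.DTen43.hasLTen₃ Groth.Agent.DTen43.isSymMonoidal
  Groth.Agent.DR39.hasRHom

namespace Groth.Agent.DR39.RelDual

open Groth.Agent.DTen43

section Surj

variable {P A : Type u} [CommRing P] [CommRing A] (φ : P →+* A) {Rφ : Dual.D P ⥤ Dual.D A}

/-- The dualizing object of a perfect algebra is perfect over the base. -/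
theorem isPerfect_restrict_right (hA : DRing.IsPerfect P ((DRing.restrictD φ).obj (DTen.unit A)))
    (adj : DRing.restrictD φ ⊣ Rφ) :
    DRing.IsPerfect P ((DRing.restrictD φ).obj (Rφ.obj (𝟙_ (Dual.D P)))) := by
  let ω₀ := Rφ.obj (𝟙_ (Dual.D P))
  obtain ⟨e⟩ := nonempty_rhom_unit ω₀
  exact perfect_of_iso (isPerfect_of_isIHom φ (adj.counit.app (𝟙_ (Dual.D P)))
    (fun Z => by
      convert (adj.homEquiv Z (𝟙_ (Dual.D P))).symm.bijective using 1
      funext x
      exact (adj.homEquiv_counit _ _ _).symm)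
    (isIHom_ev (𝟙_ (Dual.D A)) ω₀) hA) ((DRing.restrictD φ).mapIso e)

/-- Biduality with respect to the dualizing object of a perfect algebra. -/
theorem exists_rhom_iso (adj : DRing.restrictD φ ⊣ Rφ) (K : Dual.D A)
    (hK : DRing.IsPerfect P ((DRing.restrictD φ).obj K)) :
    ∃ X : Dual.D A, DRing.IsPerfect P ((DRing.restrictD φ).obj X) ∧
      Nonempty (K ≅ (DTen.RHomR A X).obj (Rφ.obj (𝟙_ (Dual.D P)))) := by
  let ω₀ := Rφ.obj (𝟙_ (Dual.D P))
  let c := adj.counit.app (𝟙_ (Dual.D P))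
  have hc : ∀ Z : Dual.D A, Function.Bijective fun x : Z ⟶ ω₀ => (DRing.restrictD φ).map x ≫ c := fun Z => by
    convert (adj.homEquiv Z (𝟙_ (Dual.D P))).symm.bijective using 1
    funext x
    exact (adj.homEquiv_counit _ _ _).symm
  let X := (DTen.RHomR A K).obj ω₀
  let t := DTen.rhomHomEquiv K X ω₀ ((β_ K X).hom ≫ DTen.ev K ω₀)
  have ht : t ▷ X ≫ DTen.ev X ω₀ = (β_ K X).hom ≫ DTen.ev K ω₀ :=
    (homEquiv_symm_eq t).symm.trans (Equiv.symm_apply_apply _ _)
  haveI := isIso_bidual φ c hc (isIHom_ev K ω₀) (isIHom_ev X ω₀) hK t ht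
  exact ⟨X, isPerfect_of_isIHom φ c hc (isIHom_ev K ω₀) hK, ⟨asIso t⟩⟩

theorem bounded_of_restrict (X : Dual.D A) (h : DRing.IsPerfect P ((DRing.restrictD φ).obj X)) :
    (∃ n : ℤ, DerivedCategory.IsGE X n) ∧ ∃ b : ℤ, Acyc (b + 1) X := by
  obtain ⟨a, b, hab⟩ := (perfect_iff_rep _).1 h
  obtain ⟨E, hv, -, ⟨e⟩⟩ := hab
  have hz : ∀ i, i ∉ Set.Icc a b → IsZero ((HF A i).obj X) := fun i hi =>
    (isZero_DF_iff_of_faithful _ (isZero_of_isZero_restrict φ) X i).1
      (((isZero_HF_Q_iff E i).2 (HomologicalComplex.ExactAt.isZero_homology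
        (ShortComplex.exact_of_isZero_X₂ _ (hv i hi)))).of_iso ((HF P i).mapIso e.symm))
  exact ⟨⟨a, (DerivedCategory.isGE_iff X a).2 fun i hi => hz i fun hm => by
      have := (Set.mem_Icc.1 hm).1; omega⟩,
    ⟨b, fun i hi => hz i fun hm => by have := (Set.mem_Icc.1 hm).2; omega⟩⟩

end Surj

section Pres

variable {R A : Type u} [CommRing R] [CommRing A] [Algebra R A] [Module.Flat R A]
  [Algebra.FinitePresentation R A] {n : ℕ} (ψ : MvPolynomial (Fin n) R →ₐ[R] A)
  (hψ : Function.Surjective ψ) {Rψ : Dual.D (MvPolynomial (Fin n) R) ⥤ Dual.D A}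
  (adj : DRing.restrictD ψ.toRingHom ⊣ Rψ)

include hψ in
theorem isPerfect_restrict_unit :
    DRing.IsPerfect (MvPolynomial (Fin n) R) ((DRing.restrictD ψ.toRingHom).obj (DTen.unit A)) :=
  perfect_of_iso (isRelPerfect_self ψ hψ)
    ((((ModuleCat.restrictScalars.{u} ψ.toRingHom).mapDerivedCategorySingleFunctor 0).app (ModuleCat.of A A)).symm ≪≫
      (DRing.restrictD ψ.toRingHom).mapIso (unitIso A).symm)

include hψ adj in
theorem exists_acyc_right :
    ∃ b : ℤ, Acyc (b + 1) (Rψ.obj (Dual.inD (MvPolynomial (Fin n) R) (MvPolynomial (Fin n) R))) := by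
  obtain ⟨-, b, hb⟩ := bounded_of_restrict ψ.toRingHom _
    (isPerfect_restrict_right ψ.toRingHom (isPerfect_restrict_unit ψ hψ) adj)
  exact ⟨b, hb.of_iso (Rψ.mapIso (unitIso (MvPolynomial (Fin n) R)))⟩

end Pres

/-- The relative dualizing complex is relatively perfect. -/
theorem isRelPerfect_shriek {R A : Type u} [CommRing R] [CommRing A] [Algebra R A] [Module.Flat R A]
    [Algebra.FinitePresentation R A] (n : ℕ) (ψ : MvPolynomial (Fin n) R →ₐ[R] A)
    (hψ : Function.Surjective ψ) [DRing.HasLBaseChange (algebraMap R (MvPolynomial (Fin n) R))]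
    (Rψ : Dual.D (MvPolynomial (Fin n) R) ⥤ Dual.D A) (adj : DRing.restrictD ψ.toRingHom ⊣ Rψ) :
    Dual2.IsRelPerfect R A (Dual2.shriekVia n Rψ (Dual.inD R R)) := by
  refine isRelPerfect_of_restrict ψ hψ ?_
  obtain ⟨e⟩ := ShriekFlat.nonempty_self (A := A) n Rψ
  exact perfect_of_iso (perfect_shift (isPerfect_restrict_right ψ.toRingHom (isPerfect_restrict_unit ψ hψ) adj) (n : ℤ))
    (((DRing.restrictD ψ.toRingHom).commShiftIso (n : ℤ)).symm.app _ ≪≫ (DRing.restrictD ψ.toRingHom).mapIso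
      ((shiftFunctor (Dual.D A) (n : ℤ)).mapIso (Rψ.mapIso (unitIso _)) ≪≫ e.symm))

section BaseChange

attribute [local instance] Algebra.TensorProduct.rightAlgebra

/-- Base change of the relative dualizing complex. -/
theorem shriek_baseChange {R A : Type u} [CommRing R] [CommRing A] [Algebra R A] [Algebra.FinitePresentation R A]
    [Module.Flat R A] (R' : Type u) [CommRing R'] [Algebra R R'] (n : ℕ) (ψ : MvPolynomial (Fin n) R →ₐ[R] A)
    (hψ : Function.Surjective ψ) [DRing.HasLBaseChange (algebraMap R (MvPolynomial (Fin n) R))]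
    (Rψ : Dual.D (MvPolynomial (Fin n) R) ⥤ Dual.D A) (adj : DRing.restrictD ψ.toRingHom ⊣ Rψ)
    (m : ℕ) (ψ' : MvPolynomial (Fin m) R' →ₐ[R'] (R' ⊗[R] A)) (hψ' : Function.Surjective ψ')
    [DRing.HasLBaseChange (algebraMap R' (MvPolynomial (Fin m) R'))]
    (Rψ' : Dual.D (MvPolynomial (Fin m) R') ⥤ Dual.D (R' ⊗[R] A)) (adj' : DRing.restrictD ψ'.toRingHom ⊣ Rψ')
    [DRing.HasLBaseChange (Algebra.TensorProduct.includeRight : A →ₐ[R] R' ⊗[R] A).toRingHom] :
    Nonempty ((DRing.LBaseChange (Algebra.TensorProduct.includeRight : A →ₐ[R] R' ⊗[R] A).toRingHom).obj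
      (Dual2.shriekVia n Rψ (Dual.inD R R)) ≅ Dual2.shriekVia m Rψ' (Dual.inD R' R')) := by
  let P := MvPolynomial (Fin n) R
  let P' := MvPolynomial (Fin n) R'
  letI : Algebra P P' := MvPolynomial.algebraMvPolynomial
  let ψ0 : P' →ₐ[R'] (R' ⊗[R] A) := MvPolynomial.aeval fun i => (1 : R') ⊗ₜ[R] ψ (MvPolynomial.X i)
  letI : Algebra P A := ψ.toRingHom.toAlgebra
  letI : Algebra P' (R' ⊗[R] A) := ψ0.toRingHom.toAlgebra
  letI : Algebra P (R' ⊗[R] A) := ((algebraMap A (R' ⊗[R] A)).comp (algebraMap P A)).toAlgebra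
  haveI : IsScalarTower R P A := ShriekFlat.tower n ψ
  haveI : IsScalarTower R' P' (R' ⊗[R] A) := ShriekFlat.tower n ψ0
  haveI : IsScalarTower P A (R' ⊗[R] A) := IsScalarTower.of_algebraMap_eq fun _ => rfl
  haveI : IsScalarTower R R' P' := IsScalarTower.of_algebraMap_eq fun r => by
    simp [P', MvPolynomial.algebraMap_eq]
  haveI : IsScalarTower R P P' := IsScalarTower.of_algebraMap_eq fun r => by
    show MvPolynomial.C (algebraMap R R' r) = MvPolynomial.map (algebraMap R R') (MvPolynomial.C r)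
    rw [MvPolynomial.map_C]
  haveI : IsScalarTower R R' (R' ⊗[R] A) := inferInstance
  haveI : IsScalarTower P P' (R' ⊗[R] A) := IsScalarTower.of_algebraMap_eq' (MvPolynomial.ringHom_ext
    (fun r => by
      show algebraMap A (R' ⊗[R] A) (ψ (MvPolynomial.C r)) = ψ0 (MvPolynomial.map (algebraMap R R') (MvPolynomial.C r))
      rw [MvPolynomial.map_C, MvPolynomial.aeval_C, ← MvPolynomial.algebraMap_eq, ψ.commutes,
        ← IsScalarTower.algebraMap_apply R A (R' ⊗[R] A), ← IsScalarTower.algebraMap_apply R R' (R' ⊗[R] A)])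
    (fun i => by
      show algebraMap A (R' ⊗[R] A) (ψ (MvPolynomial.X i)) = ψ0 (MvPolynomial.map (algebraMap R R') (MvPolynomial.X i))
      rw [MvPolynomial.map_X, MvPolynomial.aeval_X]
      rfl))
  haveI : IsScalarTower R P' (R' ⊗[R] A) := IsScalarTower.of_algebraMap_eq fun r => by
    rw [IsScalarTower.algebraMap_apply R R' P', ← IsScalarTower.algebraMap_apply R' P' (R' ⊗[R] A),
      ← IsScalarTower.algebraMap_apply R R' (R' ⊗[R] A)]
  haveI : Algebra.IsPushout R P R' P' := inferInstance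
  haveI : Algebra.IsPushout R R' P P' := inferInstance
  haveI h1 : Algebra.IsPushout P A P' (R' ⊗[R] A) :=
    (Algebra.IsPushout.comp_iff (R := R) (S := P) (R' := R') (S' := P') (T := A) (T' := R' ⊗[R] A)).1 inferInstance
  haveI : Algebra.IsPushout P P' A (R' ⊗[R] A) := h1.symm
  haveI : DRing.HasLBaseChange (algebraMap A (R' ⊗[R] A)) := ‹_›
  haveI : Module.Flat R P := inferInstance
  have hs0 : Function.Surjective ψ0 := by
    intro x
    induction x using TensorProduct.induction_on with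
    | zero => exact ⟨0, map_zero _⟩
    | add a b ha hb => obtain ⟨a, rfl⟩ := ha; obtain ⟨b, rfl⟩ := hb; exact ⟨a + b, map_add _ _ _⟩
    | tmul r a =>
      obtain ⟨p, rfl⟩ := hψ a
      refine ⟨r • algebraMap P P' p, ?_⟩
      rw [map_smul, show ψ0 (algebraMap P P' p) = algebraMap A (R' ⊗[R] A) (ψ p) from
        (IsScalarTower.algebraMap_apply P P' (R' ⊗[R] A) p).symm.trans
          (IsScalarTower.algebraMap_apply P A (R' ⊗[R] A) p)]
      show r • ((1 : R') ⊗ₜ[R] ψ p) = _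
      rw [TensorProduct.smul_tmul', smul_eq_mul, mul_one]
  let adj0 := Shriek42.rightDAdj ψ0.toRingHom
  obtain ⟨e⟩ := TorBC.nonempty_baseChange (R := R) (R' := R') (P := P) (P' := P') (A := A) (A' := R' ⊗[R] A)
    (perfect_presentation' hψ) adj adj0 (exists_acyc_right ψ hψ adj)
  haveI : DRing.HasLBaseChange (algebraMap R' (MvPolynomial (Fin n) R')) := inferInstance
  obtain ⟨s⟩ := ShriekFlat.nonempty_self (A := A) n Rψ
  obtain ⟨s'⟩ := ShriekFlat.nonempty_self (R := R') (A := R' ⊗[R] A) n (Shriek42.rightD ψ0.toRingHom)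
  obtain ⟨t⟩ := Shriek42.nonempty_lb_shift (algebraMap A (R' ⊗[R] A)) (Rψ.obj (Dual.inD P P)) (n : ℤ)
  obtain ⟨c⟩ := Shriek42.shriekVia_independent n ψ0 hs0 _ adj0 m ψ' hψ' Rψ' adj' (Dual.inD R' R')
  exact ⟨(DRing.LBaseChange (algebraMap A (R' ⊗[R] A))).mapIso s ≪≫ t ≪≫
    (shiftFunctor _ (n : ℤ)).mapIso e ≪≫ s'.symm ≪≫ c⟩

end BaseChange

section Generic

variable {R A : Type u} [CommRing R] [CommRing A] [Algebra R A] [Algebra.FinitePresentation R A] [Module.Flat R A]

/-- The upper shriek is the tensor product with the relative dualizing complex. -/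
theorem shriek_iso_ten (n : ℕ) (ψ : MvPolynomial (Fin n) R →ₐ[R] A) (hψ : Function.Surjective ψ)
    [DRing.HasLBaseChange (algebraMap R (MvPolynomial (Fin n) R))]
    (Rψ : Dual.D (MvPolynomial (Fin n) R) ⥤ Dual.D A) (adj : DRing.restrictD ψ.toRingHom ⊣ Rψ)
    [DRing.HasLBaseChange (algebraMap R A)] (K : Dual.D R) :
    Nonempty (Dual2.shriekVia n Rψ K ≅ (DTen.LTen₂ A).obj
      (Dual2.shriekVia n Rψ (Dual.inD R R), (DRing.LBaseChange (algebraMap R A)).obj K)) := by
  let P := MvPolynomial (Fin n) R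
  letI : Algebra P A := ψ.toRingHom.toAlgebra
  haveI := ShriekFlat.tower n ψ
  obtain ⟨e⟩ := rightAdjoint_iso_tensor (perfect_presentation' hψ) adj
    ((DRing.LBaseChange (algebraMap R P)).obj K)
  obtain ⟨c⟩ := nonempty_lbase_comp (algebraMap R P) (algebraMap P A) (algebraMap R A)
    (IsScalarTower.algebraMap_eq R P A)
  let X := (DRing.LBaseChange (algebraMap R A)).obj K
  obtain ⟨e2⟩ := ShriekFlat.nonempty_self (A := A) n Rψ
  obtain ⟨s⟩ := exists_shift_tensor (Rψ.obj (Dual.inD P P)) X (n : ℤ)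
  exact ⟨(shiftFunctor (Dual.D A) (n : ℤ)).mapIso (e ≪≫ (DTen.LTen₂ A).mapIso (Iso.prod (Iso.refl _) (c.app K))) ≪≫
    s ≪≫ (DTen.LTen₂ A).mapIso (Iso.prod e2.symm (Iso.refl _))⟩


theorem toEnd (n : ℕ) (ψ : MvPolynomial (Fin n) R →ₐ[R] A) (hψ : Function.Surjective ψ)
    [DRing.HasLBaseChange (algebraMap R (MvPolynomial (Fin n) R))]
    (Rψ : Dual.D (MvPolynomial (Fin n) R) ⥤ Dual.D A) (adj : DRing.restrictD ψ.toRingHom ⊣ Rψ) :
    Function.Bijective (fun a : A => a • 𝟙 (Dual2.shriekVia n Rψ (Dual.inD R R))) ∧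
      ∀ i : ℤ, i ≠ 0 → Subsingleton (Dual2.shriekVia n Rψ (Dual.inD R R) ⟶
        (Dual2.shriekVia n Rψ (Dual.inD R R))⟦i⟧) := by
  letI := ψ.toRingHom.toAlgebra
  haveI := ShriekFlat.tower n ψ
  obtain ⟨hb, hs⟩ := TorBC.toEnd_right hψ (perfect_presentation' hψ) adj
  obtain ⟨e⟩ := ShriekFlat.nonempty_self (A := A) n Rψ
  constructor
  · have hb' : Function.Bijective (fun a : A => a •
        𝟙 ((Rψ.obj (Dual.inD (MvPolynomial (Fin n) R) (MvPolynomial (Fin n) R)))⟦(n : ℤ)⟧)) := by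
      have : (fun a : A => a • 𝟙 ((Rψ.obj (Dual.inD (MvPolynomial (Fin n) R)
          (MvPolynomial (Fin n) R)))⟦(n : ℤ)⟧)) = (shiftFunctor (Dual.D A) (n : ℤ)).map ∘
          (fun a : A => a • 𝟙 _) := by
        funext a; simp [Functor.map_smul]
      rw [this]
      exact ((Functor.FullyFaithful.ofFullyFaithful (shiftFunctor (Dual.D A) (n : ℤ))).map_bijective _ _).comp hb
    have : (fun a : A => a • 𝟙 (Dual2.shriekVia n Rψ (Dual.inD R R))) =
        e.symm.conj ∘ (fun a : A => a • 𝟙 _) := by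
      funext a
      simp only [Function.comp_apply, Iso.conj_apply, Iso.symm_inv, Iso.symm_hom]
      rw [Linear.smul_comp, Category.id_comp, Linear.comp_smul, e.hom_inv_id]
    rw [this]
    exact e.symm.conj.bijective.comp hb'
  · intro i hi
    refine @Equiv.subsingleton _ _
      ((Iso.homCongr e ((shiftFunctor (Dual.D A) i).mapIso e ≪≫ (shiftFunctorComm (Dual.D A) (n : ℤ) i).app _)).trans
        (Equiv.ofBijective _ ((Functor.FullyFaithful.ofFullyFaithful
          (shiftFunctor (Dual.D A) (n : ℤ))).map_bijective _ _)).symm) (hs i hi)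


theorem isRelDualizing (n : ℕ) (ψ : MvPolynomial (Fin n) R →ₐ[R] A)
    (hψ : Function.Surjective ψ) [DRing.HasLBaseChange (algebraMap R (MvPolynomial (Fin n) R))]
    (Rψ : Dual.D (MvPolynomial (Fin n) R) ⥤ Dual.D A) (adj : DRing.restrictD ψ.toRingHom ⊣ Rψ)
    [DRing.HasLBaseChange (Algebra.TensorProduct.includeLeftRingHom : A →+* TensorProduct R A A)]
    (Rμ : Dual.D (TensorProduct R A A) ⥤ Dual.D A)
    (adjμ : DRing.restrictD (Algebra.TensorProduct.lmul' R (S := A)).toRingHom ⊣ Rμ) :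
    Dual2.IsRelDualizing R A Rμ (Dual2.shriekVia n Rψ (Dual.inD R R)) := by
  refine ⟨isRelPerfect_shriek n ψ hψ Rψ adj, ?_⟩
  let ω := Dual2.shriekVia n Rψ (Dual.inD R R)
  let μ := (Algebra.TensorProduct.lmul' R (S := A)).toRingHom
  obtain ⟨ψ', hψ'⟩ := ShriekFlat.exists_presentation_bc A n ψ hψ
  obtain ⟨eb⟩ := shriek_baseChange A n ψ hψ Rψ adj n ψ' hψ' _ (Shriek42.rightDAdj ψ'.toRingHom)
  obtain ⟨es⟩ := Shriek42.shriek_iso (Algebra.TensorProduct.comm R A A).toRingEquiv
    (iT := (Algebra.TensorProduct.includeRight : A →ₐ[R] A ⊗[R] A).toRingHom)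
    (iT' := (Algebra.TensorProduct.includeLeftRingHom : A →+* TensorProduct R A A))
    (RingHom.ext fun a => by simp)
    (χ := μ) (χ' := μ)
    (RingHom.ext fun z => by
      induction z using TensorProduct.induction_on with
      | zero => simp
      | add x y hx hy => simp only [map_add, hx, hy]
      | tmul x y => simp [μ, mul_comm]) adjμ adjμ ω
  obtain ⟨e1⟩ := Shriek42.nonempty_shift_iso adjμ ((Shriek42.rightD ψ'.toRingHom).obj
    ((DRing.LBaseChange (algebraMap A (MvPolynomial (Fin n) A))).obj (Dual.inD A A))) (n : ℤ)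
  let χ : MvPolynomial (Fin n) A →ₐ[A] A :=
    { μ.comp ψ'.toRingHom with
      commutes' := fun a => by
        show μ (ψ' (algebraMap A (MvPolynomial (Fin n) A) a)) = a
        rw [ψ'.commutes, Algebra.TensorProduct.algebraMap_apply]
        simp [μ] }
  let adjχ : DRing.restrictD χ.toRingHom ⊣ Shriek42.rightD ψ'.toRingHom ⋙ Rμ :=
    ((adjμ.comp (Shriek42.rightDAdj ψ'.toRingHom))).ofNatIsoLeft (Shriek42.restrictCompIso (χ := χ.toRingHom) rfl).symm
  let adjI : DRing.restrictD (algebraMap A A) ⊣ 𝟭 (Dual.D A) :=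
    (Adjunction.id).ofNatIsoLeft (Shriek42.restrictIdIso (χ := algebraMap A A) rfl).symm
  obtain ⟨e2⟩ := Shriek42.shriekVia_iso_of_finite n χ _ adjχ (𝟭 (Dual.D A)) adjI (Dual.inD A A)
  exact ⟨es.symm ≪≫ Rμ.mapIso eb ≪≫ e1 ≪≫ e2⟩

end Generic

end Groth.Agent.DR39.RelDual
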