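import Groth.Agent.LC15.DepthSeq
import Groth.Agent.Gor18.Dualizing

/-! Rees's lemma: `Ext^g(N, M) = Hom(N, M/(x)M)`. -/

set_option autoImplicit false
set_option linter.style.haveILetI false
set_option linter.unusedSectionVars false

universe u

open CategoryTheory RingTheory.Sequence
open scoped Pointwise

attribute [local instance] HasDerivedCategory.standard

namespace Groth.Agent.DR39

variable {B : Type u} [CommRing B] {N : Type u} [AddCommGroup N] [Module B N]

theorem subsingleton_ext_of_kills (rs : List B) (M : Type u) [AddCommGroup M] [Module B M]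
    (hreg : IsWeaklyRegular M rs) (hN : ∀ r ∈ rs, ∀ m : N, r • m = 0) (i : ℕ) (hi : i < rs.length) :
    Subsingleton (Abelian.Ext (ModuleCat.of B N) (ModuleCat.of B M) i) := by
  refine LC15.subsingleton_ext_of_weaklyRegular (I := Ideal.ofList rs) (k := 1) ?_ rs M hreg
    (fun r hr => Ideal.subset_span hr) i hi
  rw [pow_one, eq_bot_iff, Submodule.smul_le]
  intro a ha x _
  rw [Submodule.mem_bot]
  induction ha using Submodule.span_induction with
  | mem y hy => exact hN y hy x
  | zero => exact zero_smul _ _
  | add a b _ _ h1 h2 => rw [add_smul, h1, h2, add_zero]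
  | smul c a _ h1 => rw [smul_eq_mul, mul_smul, h1, smul_zero]

theorem nonempty_ext_regular : ∀ (rs : List B) (M : Type u) [AddCommGroup M] [Module B M],
    IsWeaklyRegular M rs → (∀ r ∈ rs, ∀ m : N, r • m = 0) →
    Nonempty (Abelian.Ext (ModuleCat.of B N) (ModuleCat.of B M) rs.length ≃ₗ[B]
      (N →ₗ[B] (M ⧸ (Ideal.ofList rs • (⊤ : Submodule B M)))))
  | [], M, _, _, _, _ =>
    ⟨((Abelian.Ext.linearEquiv₀ (R := B) (X := ModuleCat.of B N) (Y := ModuleCat.of B M)).trans
      ModuleCat.homLinearEquiv).trans (LinearEquiv.congrRight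
        (Submodule.quotEquivOfEqBot _ (by rw [Ideal.ofList_nil, Submodule.bot_smul])).symm)⟩
  | a :: rs, M, _, _, hreg, hN => by
    rw [isWeaklyRegular_cons_iff] at hreg
    obtain ⟨ih⟩ := nonempty_ext_regular rs (QuotSMulTop a M) hreg.2 fun r hr => hN r (List.mem_cons_of_mem _ hr)
    have hses := LC17.regular_ses hreg.1
    have hS := LC15.seqSC_shortExact hses.1 hses.2 (Submodule.mkQ_surjective _)
    let δ : Abelian.Ext (ModuleCat.of B N) (ModuleCat.of B (QuotSMulTop a M)) rs.length →ₗ[B]
        Abelian.Ext (ModuleCat.of B N) (ModuleCat.of B M) (rs.length + 1) :=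
      { toFun := fun y => y.comp hS.extClass rfl
        map_add' := fun x y => Abelian.Ext.add_comp x y hS.extClass rfl
        map_smul' := fun r y => Abelian.Ext.smul_comp y hS.extClass rfl r }
    have hzero : ∀ z : Abelian.Ext (ModuleCat.of B N) (ModuleCat.of B M) (rs.length + 1), a • z = 0 := fun z => by
      refine LC15.ext_smul_eq_zero_of_annihilator (fun m => ?_) _ z
      exact hN a (List.mem_cons_self ..) m
    have hbij : Function.Bijective δ := by
      refine ⟨(injective_iff_map_eq_zero δ).2 fun y hy => ?_, fun z => ?_⟩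
      · obtain ⟨w, rfl⟩ := Abelian.Ext.covariant_sequence_exact₃ (ModuleCat.of B N) hS y rfl hy
        haveI := subsingleton_ext_of_kills (a :: rs) M
          ((isWeaklyRegular_cons_iff M a rs).2 hreg) hN rs.length (by simp)
        rw [Subsingleton.elim (α := Abelian.Ext (ModuleCat.of B N) (ModuleCat.of B M) rs.length) w 0,
          Abelian.Ext.zero_comp]
      · obtain ⟨y, hy⟩ := Abelian.Ext.covariant_sequence_exact₁ (ModuleCat.of B N) hS z (by
          show z.comp (Abelian.Ext.mk₀ (a • 𝟙 (ModuleCat.of B M))) _ = 0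
          rw [Abelian.Ext.mk₀_smul,
            Abelian.Ext.comp_smul, Abelian.Ext.comp_mk₀_id]
          exact hzero z) rfl
        exact ⟨y, hy⟩
    exact ⟨(LinearEquiv.ofBijective δ hbij).symm.trans (ih.trans (LinearEquiv.congrRight
      (Submodule.quotOfListConsSMulTopEquivQuotSMulTopInner M a rs).symm))⟩

end Groth.Agent.DR39
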