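import Groth.Agent.DR39.FibreGrade
import Groth.Agent.EGA4Alg4.CMLoc
import Groth.Agent.CAlg1.SerreNormal
import Groth.Agent.Ega11.RegSeqSk
import Groth.Prelude.Def_Dual3

/-! Polynomial rings over a Cohen–Macaulay local base: grade of a presentation ideal. -/

set_option autoImplicit false
set_option linter.style.haveILetI false
set_option linter.unusedSectionVars false

universe u

open AlgebraicGeometry CategoryTheory RingTheory.Sequence
open scoped Pointwise

attribute [local instance] MvPolynomial.algebraMvPolynomial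

namespace Groth.Agent.DR39

/-- A Cohen–Macaulay local ring is a Cohen–Macaulay ring. -/
theorem cmRing_of_cmLocal (A : Type u) [CommRing A] (h : LocCoh.IsCohenMacaulayLocalRing A) :
    LocCoh.IsCohenMacaulayRing A := by
  haveI := h.toIsLocalRing
  haveI : IsNoetherianRing A := h.toIsNoetherian
  refine ⟨fun p _ => ?_⟩
  haveI : IsNoetherianRing (Localization.AtPrime p) := IsLocalization.isNoetherianRing p.primeCompl _ inferInstance
  have h1 := (EGA4Alg4.localization_cm_and_dim (M := A) h.supportDim_eq_depth ⟨p, inferInstance⟩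
    (by simp [Module.support_eq_zeroLocus, Module.annihilator_eq_bot.2])).1
  rw [LocCoh.IsCohenMacaulayModule, Module.supportDim_eq_of_equiv (CAlg1.locSelfEquiv p),
    CAlg1.depth_locSelf p] at h1
  exact { supportDim_eq_depth := h1 }

theorem hasSk_self_of_cm {B : Type u} [CommRing B] (h : LocCoh.IsCohenMacaulayRing B) (k : ℕ) :
    LocCoh.HasSk k B B := by
  haveI : IsNoetherianRing B := h.toIsNoetherian
  intro p _
  rw [CAlg1.depth_locSelf p, Module.supportDim_eq_of_equiv (CAlg1.locSelfEquiv p),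
    (h.isCohenMacaulayLocalRing_localization p).supportDim_eq_depth]
  exact min_le_right _ _

theorem hasSk_quot_regular {B : Type u} [CommRing B] [IsNoetherianRing B] :
    ∀ (rs : List B) (k : ℕ) (M : Type u) [AddCommGroup M] [Module B M] [Module.Finite B M],
      LocCoh.HasSk (k + rs.length) B M → IsWeaklyRegular M rs →
      LocCoh.HasSk k B (M ⧸ (Ideal.ofList rs • (⊤ : Submodule B M)))
  | [], k, M, _, _, _, h, _ =>
    Ega11.RegSeqSk.hasSk_congr (Submodule.quotEquivOfEqBot _ (by rw [Ideal.ofList_nil, Submodule.bot_smul])).symm k h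
  | x :: rs, k, M, _, _, _, h, hreg => by
    rw [isWeaklyRegular_cons_iff] at hreg
    exact Ega11.RegSeqSk.hasSk_congr (Submodule.quotOfListConsSMulTopEquivQuotSMulTopInner M x rs).symm k
      (hasSk_quot_regular rs k (QuotSMulTop x M)
        (Ega11.RegSeqSk.hasSk_quotSMulTop (k + rs.length) x hreg.1 h) hreg.2)

variable {R A : Type u} [CommRing R] [CommRing A] [Algebra R A]

theorem trdeg_of_resTrdeg (q : PrimeSpectrum A) :
    Algebra.trdeg (R ⧸ q.asIdeal.under R) (A ⧸ q.asIdeal) =
      Dual3.resTrdeg (Spec.map (CommRingCat.ofHom (algebraMap R A))) q := by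
  let f := Spec.map (CommRingCat.ofHom (algebraMap R A))
  let x : (Spec (CommRingCat.of A) : Scheme.{u}) := q
  let K := (Spec (CommRingCat.of R)).residueField (f x)
  let F := (Spec (CommRingCat.of A)).residueField x
  let eF := (Scheme.Spec.residueFieldIso (CommRingCat.of A) x).commRingCatIsoToRingEquiv
  let eK := (Scheme.Spec.residueFieldIso (CommRingCat.of R) (f x)).commRingCatIsoToRingEquiv
  letI : Algebra K F := (f.residueFieldMap x).hom.toAlgebra
  have hu : (f x).asIdeal = q.asIdeal.under R := rfl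
  let κR := (f x).asIdeal.ResidueField
  let gD : R ⧸ q.asIdeal.under R →+* K := eK.symm.toRingHom.comp
    (Ideal.Quotient.lift _ (algebraMap R κR) fun r hr => Ideal.algebraMap_residueField_eq_zero.2 (by rw [hu]; exact hr))
  letI : Algebra (R ⧸ q.asIdeal.under R) K := gD.toAlgebra
  have hginj : Function.Injective (algebraMap (R ⧸ q.asIdeal.under R) K) := by
    show Function.Injective gD
    refine eK.symm.injective.comp (RingHom.lift_injective_of_ker_le_ideal _ _ fun r hr => ?_)
    rw [← hu]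
    exact Ideal.algebraMap_residueField_eq_zero.1 (RingHom.mem_ker.1 hr)
  haveI : FaithfulSMul (R ⧸ q.asIdeal.under R) K := (faithfulSMul_iff_algebraMap_injective _ _).2 hginj
  haveI : IsFractionRing (R ⧸ q.asIdeal.under R) K := IsFractionRing.of_field _ K fun z => by
    obtain ⟨a, b, hb, he⟩ := IsFractionRing.div_surjective (R ⧸ (f x).asIdeal) (eK z)
    obtain ⟨a, rfl⟩ := Ideal.Quotient.mk_surjective a
    obtain ⟨b, rfl⟩ := Ideal.Quotient.mk_surjective b
    refine ⟨Ideal.Quotient.mk _ a, Ideal.Quotient.mk _ b, ?_⟩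
    apply eK.injective
    rw [← he, map_div₀]
    show _ = eK (eK.symm (algebraMap R κR a)) / eK (eK.symm (algebraMap R κR b))
    rw [eK.apply_symm_apply, eK.apply_symm_apply]
    rfl
  let φ : A ⧸ q.asIdeal →+* F := eF.symm.toRingHom.comp
    (Ideal.Quotient.lift _ (algebraMap A q.asIdeal.ResidueField) fun a ha => Ideal.algebraMap_residueField_eq_zero.2 ha)
  have hsq : ∀ a : R, eF.symm (algebraMap A q.asIdeal.ResidueField (algebraMap R A a)) =
      (f.residueFieldMap x).hom (eK.symm (algebraMap R κR a)) := fun a => by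
    have h1 := congrArg (fun g => g.hom a) (Scheme.Spec.algebraMap_residueFieldIso_inv (CommRingCat.of R) (f x))
    have h2 := congrArg (fun g => g.hom (algebraMap R A a)) (Scheme.Spec.algebraMap_residueFieldIso_inv (CommRingCat.of A) x)
    refine (h2.trans ?_).trans (congrArg (f.residueFieldMap x).hom h1).symm
    have h3 := congrArg (fun g => g.hom ((Scheme.ΓSpecIso (CommRingCat.of R)).inv.hom a)) (Scheme.Γevaluation_naturality f x)
    have h4 := congrArg (fun g => g.hom a) (Scheme.ΓSpecIso_inv_naturality (CommRingCat.ofHom (algebraMap R A)))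
    exact Eq.trans (congrArg ((Spec (CommRingCat.of A)).Γevaluation x).hom h4) h3.symm
  refine (E4O.trdeg_eq_of_square (D := R ⧸ q.asIdeal.under R) (K := K) φ ?_ ?_ ?_ ?_).symm
  · refine eF.symm.injective.comp (RingHom.lift_injective_of_ker_le_ideal _ _ fun r hr => ?_)
    exact Ideal.algebraMap_residueField_eq_zero.1 (RingHom.mem_ker.1 hr)
  · exact Ideal.quotientMap_injective' le_rfl
  · intro r
    obtain ⟨r, rfl⟩ := Ideal.Quotient.mk_surjective r
    exact hsq r
  · intro z
    obtain ⟨a, b, hb, he⟩ := IsFractionRing.div_surjective (A ⧸ q.asIdeal) (eF z)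
    refine ⟨b, a, nonZeroDivisors.ne_zero hb, ?_⟩
    apply eF.injective
    rw [map_mul, ← he]
    show eF (eF.symm _) * _ = eF (eF.symm _)
    rw [eF.apply_symm_apply, eF.apply_symm_apply]
    obtain ⟨a, rfl⟩ := Ideal.Quotient.mk_surjective a
    obtain ⟨b, rfl⟩ := Ideal.Quotient.mk_surjective b
    show algebraMap A q.asIdeal.ResidueField b * (_ / _) = algebraMap A q.asIdeal.ResidueField a
    refine mul_div_cancel₀ _ fun h0 => nonZeroDivisors.ne_zero hb (Ideal.Quotient.eq_zero_iff_mem.2 ?_)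
    exact Ideal.algebraMap_residueField_eq_zero.1 h0

theorem height_fibPrime_le {n : ℕ} (Q : Ideal (MvPolynomial (Fin n) R)) [Q.IsPrime] :
    (LCI19.fibPrime Q).height ≤ Q.height := by
  have hmono : StrictMono fun x : {x : PrimeSpectrum (LCI19.FibPoly Q) // x.asIdeal ≤ LCI19.fibPrime Q} =>
      (PrimeSpectrum.comap (LCI19.fibMap Q) x.1) := by
    intro x y hxy
    refine lt_of_le_of_ne (Ideal.comap_mono (le_of_lt hxy : x.1 ≤ y.1)) fun heq => ?_
    refine (not_le_of_gt hxy) fun v hv => ?_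
    obtain ⟨b, w, hb, he⟩ := LCI19.exists_denom Q v
    have hw : w ∈ y.1.asIdeal.comap (LCI19.fibMap Q) := by
      rw [Ideal.mem_comap, ← he]; exact Ideal.mul_mem_left _ _ hv
    rw [show y.1.asIdeal.comap (LCI19.fibMap Q) = x.1.asIdeal.comap (LCI19.fibMap Q) from
      (congrArg PrimeSpectrum.asIdeal heq).symm, Ideal.mem_comap, ← he] at hw
    refine (x.1.2.mem_or_mem hw).resolve_left fun hC => x.1.2.ne_top (Ideal.eq_top_of_isUnit_mem _ hC ?_)
    rw [MvPolynomial.map_C]
    exact (isUnit_iff_ne_zero.2 fun h0 => hb (Ideal.algebraMap_residueField_eq_zero.1 h0)).map MvPolynomial.C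
  let x0 : PrimeSpectrum (LCI19.FibPoly Q) := ⟨LCI19.fibPrime Q, inferInstance⟩
  rw [PrimeSpectrum.height_eq_orderHeight x0, PrimeSpectrum.height_eq_orderHeight (⟨Q, inferInstance⟩ : PrimeSpectrum _)]
  refine Order.height_le fun l hl => ?_
  let l' : LTSeries {x : PrimeSpectrum (LCI19.FibPoly Q) // x.asIdeal ≤ LCI19.fibPrime Q} :=
    ⟨l.length, fun i => ⟨l i, le_trans (l.monotone (Fin.le_last i)) (le_of_eq (congrArg PrimeSpectrum.asIdeal hl))⟩,
      fun i => l.step i⟩
  refine Order.length_le_height (x := (⟨Q, inferInstance⟩ : PrimeSpectrum (MvPolynomial (Fin n) R)))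
    (p := l'.map _ hmono) ?_
  show (PrimeSpectrum.comap (LCI19.fibMap Q) (RelSeries.last l)) ≤ _
  rw [hl]
  exact le_of_eq (PrimeSpectrum.ext (LCI19.comap_fibPrime Q))

theorem height_add_trdeg_aux {n : ℕ} (ψ : MvPolynomial (Fin n) R →ₐ[R] A) (hψ : Function.Surjective ψ)
    (q' : Ideal A) [q'.IsPrime] (Q : Ideal (MvPolynomial (Fin n) R)) [Q.IsPrime]
    (hq'c : q'.comap ψ.toRingHom = Q) (P' : Ideal (LCI19.FibPoly Q)) [P'.IsPrime]
    (hP'c : P'.comap (LCI19.fibMap Q) = Q) :
    (Cardinal.ofENat P'.height) + Algebra.trdeg (R ⧸ q'.under R) (A ⧸ q') = (n : Cardinal.{u}) := by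
  let P := MvPolynomial (Fin n) R
  let k := (LCI19.fibBase Q).ResidueField
  have hbase : ∀ r : R, algebraMap R A r ∈ q' ↔ r ∈ LCI19.fibBase Q := fun r => by
    rw [← ψ.commutes r]
    show MvPolynomial.C r ∈ q'.comap ψ.toRingHom ↔ MvPolynomial.C r ∈ Q
    rw [hq'c]
  have hu : LCI19.fibBase Q = q'.under R := by
    ext r; exact (hbase r).symm
  let φ : A ⧸ q' →+* LCI19.FibPoly Q ⧸ P' :=
    (Ideal.quotientMap P' (LCI19.fibMap Q) hP'c.ge).comp
      ((Ideal.quotientEquiv Q (q'.comap ψ.toRingHom) (RingEquiv.refl P) (by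
        rw [hq'c]; exact (Ideal.map_id Q).symm)).trans
        (RingEquiv.ofBijective (Ideal.quotientMap q' ψ.toRingHom le_rfl)
          ⟨Ideal.quotientMap_injective' le_rfl, Ideal.quotientMap_surjective hψ⟩)).symm.toRingHom
  have hφ : ∀ x : P, φ (Ideal.Quotient.mk q' (ψ x)) = Ideal.Quotient.mk P' (LCI19.fibMap Q x) := fun x => by
    simp only [φ, RingHom.comp_apply]
    rw [show ((Ideal.quotientEquiv Q (q'.comap ψ.toRingHom) (RingEquiv.refl P) (by
        rw [hq'c]; exact (Ideal.map_id Q).symm)).trans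
        (RingEquiv.ofBijective (Ideal.quotientMap q' ψ.toRingHom le_rfl)
          ⟨Ideal.quotientMap_injective' le_rfl, Ideal.quotientMap_surjective hψ⟩)).symm.toRingHom
        (Ideal.Quotient.mk q' (ψ x)) = Ideal.Quotient.mk Q x from (RingEquiv.symm_apply_eq _).2 rfl]
    exact Ideal.quotientMap_mk
  have hp : (q'.under R).IsPrime := inferInstance
  have htr : Algebra.trdeg k (LCI19.FibPoly Q ⧸ P') = Algebra.trdeg (R ⧸ q'.under R) (A ⧸ q') := by
    letI : Algebra (R ⧸ q'.under R) k := (Ideal.Quotient.lift _ (algebraMap R k) fun r hr => by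
      rw [Ideal.algebraMap_residueField_eq_zero, hu]; exact hr).toAlgebra
    have hinj : Function.Injective (algebraMap (R ⧸ q'.under R) k) :=
      RingHom.lift_injective_of_ker_le_ideal _ _ fun r hr => by
        rw [← hu]; exact Ideal.algebraMap_residueField_eq_zero.1 (RingHom.mem_ker.1 hr)
    haveI : FaithfulSMul (R ⧸ q'.under R) k := (faithfulSMul_iff_algebraMap_injective _ _).2 hinj
    haveI : IsFractionRing (R ⧸ q'.under R) k := IsFractionRing.of_field _ k fun z => by
      obtain ⟨x, y, hy, rfl⟩ := IsFractionRing.div_surjective (R ⧸ LCI19.fibBase Q) z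
      obtain ⟨x, rfl⟩ := Ideal.Quotient.mk_surjective x
      obtain ⟨y, rfl⟩ := Ideal.Quotient.mk_surjective y
      exact ⟨Ideal.Quotient.mk _ x, Ideal.Quotient.mk _ y, rfl⟩
    refine E4O.trdeg_eq_of_square (D := R ⧸ q'.under R) (K := k) φ ?_ ?_ ?_ ?_
    · exact (Ideal.quotientMap_injective' (H := hP'c.ge) hP'c.le).comp (RingEquiv.injective _)
    · exact Ideal.quotientMap_injective' le_rfl
    · intro r
      obtain ⟨r, rfl⟩ := Ideal.Quotient.mk_surjective r
      show φ (Ideal.Quotient.mk q' (algebraMap R A r)) = _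
      rw [← ψ.commutes r, hφ]
      show Ideal.Quotient.mk P' (LCI19.fibMap Q (MvPolynomial.C r)) = _
      rw [MvPolynomial.map_C]
      rfl
    · intro x
      obtain ⟨v, rfl⟩ := Ideal.Quotient.mk_surjective x
      obtain ⟨b, y, hb, hy⟩ := LCI19.exists_denom Q v
      refine ⟨Ideal.Quotient.mk q' (ψ (MvPolynomial.C b)), Ideal.Quotient.mk q' (ψ y), fun h => hb ?_, ?_⟩
      · rw [Ideal.Quotient.eq_zero_iff_mem, show ψ (MvPolynomial.C b) = algebraMap R A b from ψ.commutes b] at h
        exact (hbase b).1 h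
      · rw [hφ, hφ, ← map_mul, hy]
  have h2 := E4O.height_add_trdeg_eq k (LCI19.FibPoly Q) P'
  rw [MvPolynomial.trdeg_of_isDomain, Cardinal.mk_fin, Cardinal.lift_natCast, htr] at h2
  exact h2

theorem height_add_trdeg_presentation {n : ℕ} (ψ : MvPolynomial (Fin n) R →ₐ[R] A) (hψ : Function.Surjective ψ)
    (q' : Ideal A) [q'.IsPrime] (Q : Ideal (MvPolynomial (Fin n) R)) [Q.IsPrime]
    (hq'c : q'.comap ψ.toRingHom = Q) :
    (Cardinal.ofENat (LCI19.fibPrime Q).height) + Algebra.trdeg (R ⧸ q'.under R) (A ⧸ q') = (n : Cardinal.{u}) :=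
  height_add_trdeg_aux ψ hψ q' Q hq'c _ (LCI19.comap_fibPrime Q)

theorem exists_regular_of_cm [IsNoetherianRing R] (n : ℕ) (ψ : MvPolynomial (Fin n) R →ₐ[R] A)
    (hψ : Function.Surjective ψ) (p : Ideal R) [p.IsPrime]
    [LocCoh.IsCohenMacaulayLocalRing (Localization.AtPrime p)] (r : ℕ)
    (hr : ∀ q : PrimeSpectrum A, q.asIdeal ∈ minimalPrimes A →
      Dual3.resTrdeg (Spec.map (CommRingCat.ofHom (algebraMap R A))) q ≤ (r : Cardinal.{u})) :
    ∃ rs : List (MvPolynomial (Fin n) (Localization.AtPrime p)), rs.length = n - r ∧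
      IsWeaklyRegular (MvPolynomial (Fin n) (Localization.AtPrime p)) rs ∧
      ∀ z ∈ rs, z ∈ (RingHom.ker ψ.toRingHom).map
        (algebraMap (MvPolynomial (Fin n) R) (MvPolynomial (Fin n) (Localization.AtPrime p))) := by
  let P := MvPolynomial (Fin n) R
  let Rp := Localization.AtPrime p
  let B := MvPolynomial (Fin n) Rp
  haveI : LocCoh.IsCohenMacaulayRing Rp := cmRing_of_cmLocal Rp inferInstance
  haveI hB : LocCoh.IsCohenMacaulayRing B := CAlg1.cm_mvPolynomial (R := Rp) n
  haveI : IsNoetherianRing B := hB.toIsNoetherian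
  let S : Submonoid P := p.primeCompl.map (MvPolynomial.C : R →+* P)
  haveI : IsLocalization S B := MvPolynomial.isLocalization p.primeCompl Rp
  let K : Ideal B := (RingHom.ker ψ.toRingHom).map (algebraMap P B)
  by_cases hK : K = ⊤
  · refine ⟨List.replicate (n - r) 1, List.length_replicate, ?_, fun z _ => by
      show z ∈ K
      rw [hK]; trivial⟩
    suffices ∀ (m : ℕ) (M : Type u) [AddCommGroup M] [Module B M], IsWeaklyRegular M (List.replicate m (1 : B)) from
      this _ _
    intro m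
    induction m with
    | zero => exact fun M _ _ => IsWeaklyRegular.nil B M
    | succ m ih =>
      intro M _ _
      rw [List.replicate_succ, isWeaklyRegular_cons_iff]
      exact ⟨IsSMulRegular.one M, ih _⟩
  have hdepth : ((n - r : ℕ) : ℕ∞) ≤ LocCoh.idealDepth K B := by
    rw [(S14424.result B).1 hB K hK, Ideal.height_eq_inf_minimalPrimes]
    refine le_iInf₂ fun Q hQ => ?_
    haveI : Q.IsPrime := hQ.1.1
    let Q₀ : Ideal P := Q.comap (algebraMap P B)
    haveI : Q₀.IsPrime := Ideal.IsPrime.comap _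
    have hJ : RingHom.ker ψ.toRingHom ≤ Q₀ := Ideal.map_le_iff_le_comap.1 hQ.1.2
    haveI : (Q₀.map ψ.toRingHom).IsPrime := Ideal.map_isPrime_of_surjective hψ hJ
    obtain ⟨q', hq', hle⟩ := Ideal.exists_minimalPrimes_le (I := (⊥ : Ideal A)) (J := Q₀.map ψ.toRingHom) bot_le
    haveI : q'.IsPrime := hq'.1.1
    let Q' : Ideal P := q'.comap ψ.toRingHom
    haveI : Q'.IsPrime := Ideal.IsPrime.comap _
    have hQ' : Q' ≤ Q₀ := (Ideal.comap_mono hle).trans (le_of_eq (by
      rw [Ideal.comap_map_of_surjective' ψ.toRingHom hψ, sup_eq_left.2 hJ]))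
    have h1 := height_add_trdeg_presentation ψ hψ q' Q' rfl
    have h2 : Algebra.trdeg (R ⧸ q'.under R) (A ⧸ q') ≤ (r : Cardinal.{u}) := by
      have := trdeg_of_resTrdeg (R := R) (A := A) ⟨q', inferInstance⟩
      exact this.le.trans (hr ⟨q', inferInstance⟩ hq')
    obtain ⟨t, ht⟩ := Cardinal.lt_aleph0.1 (h2.trans_lt Cardinal.natCast_lt_aleph0)
    rw [ht] at h1 h2
    have htr : t ≤ r := by exact_mod_cast h2
    have h3 : (LCI19.fibPrime Q').height + (t : ℕ∞) = (n : ℕ∞) := by
      refine Cardinal.ofENat_injective ?_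
      rw [Cardinal.ofENat_add, Cardinal.ofENat_nat, Cardinal.ofENat_nat]
      exact h1
    obtain ⟨m, hm⟩ := ENat.ne_top_iff_exists.1 (fun e => by rw [e, top_add] at h3; exact ENat.top_ne_natCast n h3 : (LCI19.fibPrime Q').height ≠ ⊤)
    rw [← hm] at h3
    have h4 : ((n - r : ℕ) : ℕ∞) ≤ (m : ℕ∞) := by norm_cast at h3 ⊢; omega
    refine h4.trans ((hm.trans_le (height_fibPrime_le Q')).trans ((Ideal.height_mono hQ').trans ?_))
    exact le_of_eq (IsLocalization.height_under S Q)
  rw [LC17.natCast_le_idealDepth_iff] at hdepth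
  obtain ⟨rs, hlen, hreg, hmem⟩ := LC17.exists_seq_of_subsingleton_H K (n - r) B hdepth (by
    rw [smul_eq_mul, Ideal.mul_top]; exact hK)
  exact ⟨rs, hlen, hreg, hmem⟩

end Groth.Agent.DR39
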