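import Groth.Agent.DR39.ShriekLower
import Groth.Agent.DR39.FiniteRight
import Groth.Agent.DR39.ShriekCMGrade
import Groth.Agent.DR39.ReesShift
import Groth.Agent.TF3.Depth
import Groth.Agent.Ega11.FiniteChange

/-! The relative dualizing complex over a Cohen–Macaulay point of the base. -/

set_option autoImplicit false
set_option linter.style.haveILetI false
set_option linter.unusedSectionVars false

universe u

open CategoryTheory CategoryTheory.Limits RingTheory.Sequence TensorProduct AlgebraicGeometry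

attribute [local instance] HasDerivedCategory.standard

namespace Groth.Agent.DR39

theorem nonempty_localized_baseChange.{v} {P A B : Type u} [CommRing P] [CommRing A] [CommRing B]
    [Algebra P A] [Algebra P B] (S : Submonoid P) [IsLocalization S B] (S' : Submonoid A)
    (hS : S.map (algebraMap P A) = S') [Algebra B (Localization S')]
    (hc : ∀ p, algebraMap B (Localization S') (algebraMap P B p) = algebraMap A (Localization S') (algebraMap P A p))
    (M : Type u) [AddCommGroup M] [Module A M]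
    [Module B (LocalizedModule S' M)] [IsScalarTower B (Localization S') (LocalizedModule S' M)]
    (D : Type v) [AddCommGroup D] [Module P D] (eD : M ≃+ D)
    (heD : ∀ (p : P) m, eD (algebraMap P A p • m) = p • eD m) :
    Nonempty (LocalizedModule S' M ≃ₗ[B] B ⊗[P] D) := by
  letI : Module P (LocalizedModule S' M) := Module.compHom (LocalizedModule S' M) (algebraMap P B)
  haveI : IsScalarTower P B (LocalizedModule S' M) := ⟨fun p b l => by
    rw [Algebra.smul_def, mul_smul]; rfl⟩
  have hsm : ∀ (p : P) (l : LocalizedModule S' M), p • l = algebraMap P A p • l := fun p l => by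
    show algebraMap P B p • l = _
    rw [← algebraMap_smul (Localization S') (algebraMap P B p) l, hc, algebraMap_smul]
  let g1 : D →ₗ[P] LocalizedModule S' M :=
    { toFun := fun d => LocalizedModule.mk (eD.symm d) 1
      map_add' := fun x y => by
        rw [map_add]; exact map_add (LocalizedModule.mkLinearMap S' M) _ _
      map_smul' := fun p d => by
        have : eD.symm (p • d) = algebraMap P A p • eD.symm d := eD.injective (by
          rw [eD.apply_symm_apply, heD, eD.apply_symm_apply])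
        rw [RingHom.id_apply, hsm, this]
        exact map_smul (LocalizedModule.mkLinearMap S' M) _ _ }
  have hmem : ∀ s : S, algebraMap P A s ∈ S' := fun s => hS ▸ ⟨s, s.2, rfl⟩
  haveI : IsLocalizedModule S g1 := by
    refine ⟨fun s => ?_, fun y => ?_, fun {x y} h => ?_⟩
    · have h0 := IsLocalizedModule.map_units (LocalizedModule.mkLinearMap S' M) (⟨_, hmem s⟩ : S')
      rw [Module.End.isUnit_iff] at h0 ⊢
      have hfun : ∀ l : LocalizedModule S' M, (algebraMap P (Module.End P (LocalizedModule S' M)) s) l =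
          (algebraMap A (Module.End A (LocalizedModule S' M)) (algebraMap P A s)) l := fun l => hsm s l
      exact (funext hfun) ▸ h0
    · obtain ⟨⟨m, s⟩, hms⟩ := IsLocalizedModule.surj S' (LocalizedModule.mkLinearMap S' M) y
      have hs : (s : A) ∈ S.map (algebraMap P A) := hS.symm ▸ s.2
      obtain ⟨s0, hs0, hse⟩ := hs
      refine ⟨⟨eD m, ⟨s0, hs0⟩⟩, ?_⟩
      show (s0 : P) • y = LocalizedModule.mk (eD.symm (eD m)) 1
      rw [eD.symm_apply_apply, hsm, hse]
      exact hms
    · obtain ⟨c, hc'⟩ := IsLocalizedModule.exists_of_eq (S := S') (f := LocalizedModule.mkLinearMap S' M) h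
      have hs : (c : A) ∈ S.map (algebraMap P A) := hS.symm ▸ c.2
      obtain ⟨c0, hc0, hce⟩ := hs
      refine ⟨⟨c0, hc0⟩, ?_⟩
      show (c0 : P) • x = (c0 : P) • y
      have := congrArg eD (show (c : A) • eD.symm x = (c : A) • eD.symm y from hc')
      rwa [← hce, heD, heD, eD.apply_symm_apply, eD.apply_symm_apply] at this
  haveI : IsLocalizedModule S (TensorProduct.mk P B D 1) :=
    (isLocalizedModule_iff_isBaseChange S B _).2 (TensorProduct.isBaseChange P D B)
  exact ⟨LinearEquiv.extendScalarsOfIsLocalization S B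
    (IsLocalizedModule.linearEquiv S g1 (TensorProduct.mk P B D 1))⟩

theorem exists_HD_shriekVia {R A : Type u} [CommRing R] [CommRing A] [IsNoetherianRing R] [Algebra R A]
    (n : ℕ) (ψ : MvPolynomial (Fin n) R →ₐ[R] A)
    (Rψ : Dual.D (MvPolynomial (Fin n) R) ⥤ Dual.D A) (adj : DRing.restrictD ψ.toRingHom ⊣ Rψ)
    [DRing.HasLBaseChange (algebraMap R (MvPolynomial (Fin n) R))] (i j : ℤ) (hj : (n : ℤ) + i = j) :
    ∃ e : Dual.HD A (Dual2.shriekVia n Rψ (Dual.inD R R)) i ≃+
        ((DRing.restrictD ψ.toRingHom).obj (Dual.inD A A) ⟶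
          (Dual.inD (MvPolynomial (Fin n) R) (MvPolynomial (Fin n) R))⟦j⟧),
      ∀ p m, e (ψ p • m) = p • e m := by
  let P := MvPolynomial (Fin n) R
  letI : Algebra P A := ψ.toRingHom.toAlgebra
  subst hj
  obtain ⟨eP⟩ := nonempty_lb_inD_self (algebraMap R P)
  obtain ⟨e, he⟩ := exists_homRight (A := P) (B := A) adj (Dual.inD A A) (Dual.inD P P) ((n : ℤ) + i)
  let u : (Dual.inD A A ⟶ (Rψ.obj (Dual.inD P P))⟦(n : ℤ) + i⟧) ≃ₗ[A]
      Dual.HD A (Dual2.shriekVia n Rψ (Dual.inD R R)) i :=
    (CategoryTheory.Linear.homCongr A (Iso.refl _)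
      (((shiftFunctorAdd' (Dual.D A) (n : ℤ) i _ rfl).app _).symm ≪≫
        (shiftFunctor (Dual.D A) ((n : ℤ) + i)).mapIso (Rψ.mapIso eP))).symm.trans (gmSelfEquiv _ i)
  refine ⟨(e.trans u.toAddEquiv).symm, fun p m => (e.trans u.toAddEquiv).injective ?_⟩
  have h2 : ∀ g, u (e (p • g)) = ψ p • u (e g) := fun g => by
    rw [he, map_smul]; rfl
  rw [AddEquiv.apply_symm_apply]
  show _ = u (e (p • _))
  rw [h2]
  exact congrArg (ψ p • ·) ((e.trans u.toAddEquiv).apply_symm_apply m).symm

theorem nonempty_baseChange_gm {P A B : Type u} [CommRing P] [IsNoetherianRing P] [CommRing A] [CommRing B]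
    [Algebra P A] [Algebra P B] [Module.Flat P B] (hψ : Function.Surjective (algebraMap P A)) (j : ℤ) :
    Nonempty ((B ⊗[P] ((DRing.restrictD (algebraMap P A)).obj (Dual.inD A A) ⟶ (Dual.inD P P)⟦j⟧)) ≃ₗ[B]
      (Dual.inD B (B ⊗[P] A) ⟶ (Dual.inD B B)⟦j⟧)) := by
  have hgood : Good B ((DRing.restrictD (algebraMap P A)).obj (Dual.inD A A)) ((Dual.inD P P)⟦j⟧) := by
    refine good_of_pc B (c := -j) (Shriek42.pc_restrictD_inD hψ _) fun i hi => ?_
    haveI : ((Dual.inD P P)⟦j⟧).IsGE (-j) :=
      DerivedCategory.TStructure.t.isGE_shift _ 0 j (-j) (by omega)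
    exact DerivedCategory.isZero_of_isGE _ (-j) i hi
  obtain ⟨e0⟩ := exists_restrict_inD (A := P) (B := A) A
  obtain ⟨e1⟩ := rep_inD_baseChange (A := P) (B := B) A
  obtain ⟨e2⟩ := rep_inD_baseChange (A := P) (B := B) P
  let e3 : Dual.inD B (B ⊗[P] P) ≅ Dual.inD B B :=
    (DerivedCategory.singleFunctor (ModuleCat.{u} B) 0).mapIso (AlgebraTensorModule.rid P B B).toModuleIso
  exact ⟨(LinearEquiv.ofBijective (thetaBar B _ _) hgood).trans
    (CategoryTheory.Linear.homCongr B ((DF (extA P B)).mapIso e0 ≪≫ e1)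
      (((DF (extA P B)).commShiftIso j).app _ ≪≫ (shiftFunctor _ j).mapIso (e2 ≪≫ e3)))⟩

theorem hasSk_of_subsingleton {A : Type u} [CommRing A] (M : Type u) [AddCommGroup M] [Module A M]
    [Subsingleton M] (k : ℕ) : LocCoh.HasSk k A M := by
  intro p _
  rw [EGA4Alg4.depth_of_subsingleton]
  exact le_top

theorem finite_linearMap {B : Type u} [CommRing B] [IsNoetherianRing B] (N Q : Type u) [AddCommGroup N] [AddCommGroup Q]
    [Module B N] [Module B Q] [Module.Finite B N] [Module.Finite B Q] : Module.Finite B (N →ₗ[B] Q) :=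
  haveI : IsNoetherian B (N →ₗ[B] Q) := isNoetherian_linearMap B Q N
  inferInstance

attribute [local instance] MvPolynomial.algebraMvPolynomial

theorem shriekVia_cm {R A : Type u} [CommRing R] [CommRing A] [IsNoetherianRing R] [IsNoetherianRing A]
    [Algebra R A] (n : ℕ) (ψ : MvPolynomial (Fin n) R →ₐ[R] A) (hψ : Function.Surjective ψ)
    [DRing.HasLBaseChange (algebraMap R (MvPolynomial (Fin n) R))]
    (Rψ : Dual.D (MvPolynomial (Fin n) R) ⥤ Dual.D A) (adj : DRing.restrictD ψ.toRingHom ⊣ Rψ)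
    (p : Ideal R) [p.IsPrime] [LocCoh.IsCohenMacaulayLocalRing (Localization.AtPrime p)] (r : ℕ)
    (hr : ∀ q : PrimeSpectrum A, q.asIdeal ∈ minimalPrimes A →
      Dual3.resTrdeg (Spec.map (CommRingCat.ofHom (algebraMap R A))) q ≤ (r : Cardinal.{u})) :
    (∀ i : ℤ, Nontrivial (LocalizedModule (Algebra.algebraMapSubmonoid A p.primeCompl)
        (Dual.HD A (Dual2.shriekVia n Rψ (Dual.inD R R)) i)) → -(r : ℤ) ≤ i) ∧
      LocCoh.HasSk 2 (Localization (Algebra.algebraMapSubmonoid A p.primeCompl))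
        (LocalizedModule (Algebra.algebraMapSubmonoid A p.primeCompl)
          (Dual.HD A (Dual2.shriekVia n Rψ (Dual.inD R R)) (-(r : ℤ)))) := by
  let P := MvPolynomial (Fin n) R
  let Rp := Localization.AtPrime p
  let B := MvPolynomial (Fin n) Rp
  letI : Algebra P A := ψ.toRingHom.toAlgebra
  haveI : LocCoh.IsCohenMacaulayRing Rp := cmRing_of_cmLocal Rp inferInstance
  haveI hB : LocCoh.IsCohenMacaulayRing B := CAlg1.cm_mvPolynomial (R := Rp) n
  haveI : IsNoetherianRing B := hB.toIsNoetherian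
  let S : Submonoid P := p.primeCompl.map (MvPolynomial.C : R →+* P)
  haveI : IsLocalization S B := MvPolynomial.isLocalization p.primeCompl Rp
  haveI : Module.Flat P B := IsLocalization.flat B S
  haveI : Module.Finite P A := Module.Finite.of_surjective (Algebra.linearMap P A) hψ
  let S' := Algebra.algebraMapSubmonoid A p.primeCompl
  have hS : S.map (algebraMap P A) = S' := by
    show (p.primeCompl.map (MvPolynomial.C : R →+* P)).map ψ.toRingHom = p.primeCompl.map (algebraMap R A)
    ext a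
    constructor
    · rintro ⟨_, ⟨x, hx, rfl⟩, rfl⟩
      exact ⟨x, hx, (ψ.commutes x).symm⟩
    · rintro ⟨x, hx, rfl⟩
      exact ⟨_, ⟨x, hx, rfl⟩, ψ.commutes x⟩
  let A' := Localization S'
  haveI : IsNoetherianRing A' := IsLocalization.isNoetherianRing S' _ inferInstance
  let g : P →+* A' := (algebraMap A A').comp (algebraMap P A)
  have hg : ∀ s : S, IsUnit (g s) := fun s =>
    IsLocalization.map_units A' (⟨_, hS ▸ ⟨s, s.2, rfl⟩⟩ : S')
  let β : B →+* A' := IsLocalization.lift hg
  letI : Algebra B A' := β.toAlgebra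
  letI modB : ∀ (M : Type u) [AddCommGroup M] [Module A M], Module B (LocalizedModule S' M) :=
    fun M _ _ => Module.compHom _ β
  haveI towB : ∀ (M : Type u) [AddCommGroup M] [Module A M], IsScalarTower B A' (LocalizedModule S' M) :=
    fun M _ _ => ⟨fun b a l => by rw [Algebra.smul_def, mul_smul]; rfl⟩
  have hc : ∀ x, algebraMap B A' (algebraMap P B x) = algebraMap A A' (algebraMap P A x) :=
    fun x => IsLocalization.lift_eq hg x
  obtain ⟨rs, hlen, hreg, hmem⟩ := exists_regular_of_cm n ψ hψ p r hr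
  have hann : (RingHom.ker ψ.toRingHom).map (algebraMap P B) ≤ Module.annihilator B (B ⊗[P] A) := by
    refine Ideal.map_le_iff_le_comap.2 fun y hy => Module.mem_annihilator.2 fun x => ?_
    show algebraMap P B y • x = 0
    rw [algebraMap_smul]
    induction x using TensorProduct.induction_on with
    | zero => rw [smul_zero]
    | add a b ha hb => rw [smul_add, ha, hb, add_zero]
    | tmul b a =>
      rw [← TensorProduct.tmul_smul, Algebra.smul_def, show algebraMap P A y = 0 from hy, zero_mul,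
        TensorProduct.tmul_zero]
  have hys : ∀ z ∈ rs, ∀ x : B ⊗[P] A, z • x = 0 := fun z hz x =>
    Module.mem_annihilator.1 (hann (hmem z hz)) x
  have key : ∀ i j : ℤ, (n : ℤ) + i = j →
      Nonempty (LocalizedModule S' (Dual.HD A (Dual2.shriekVia n Rψ (Dual.inD R R)) i) ≃ₗ[B]
        (Dual.inD B (B ⊗[P] A) ⟶ (Dual.inD B B)⟦j⟧)) := fun i j hj => by
    obtain ⟨eD, heD⟩ := exists_HD_shriekVia n ψ Rψ adj i j hj
    obtain ⟨e1⟩ := nonempty_localized_baseChange (B := B) S S' hS hc _ _ eD heD
    obtain ⟨e2⟩ := nonempty_baseChange_gm (P := P) (A := A) (B := B) hψ j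
    exact ⟨e1.trans e2⟩
  have low : ∀ i : ℤ, (n : ℤ) + i < (rs.length : ℤ) →
      Subsingleton (LocalizedModule S' (Dual.HD A (Dual2.shriekVia n Rψ (Dual.inD R R)) i)) := fun i hi => by
    obtain ⟨e⟩ := key i _ rfl
    haveI := subsingleton_hom_of_regular (B ⊗[P] A) rs hys hreg _ hi
    exact e.toEquiv.subsingleton
  refine ⟨fun i hi => ?_, ?_⟩
  · by_contra h
    exact not_subsingleton _ (low i (by omega))
  by_cases hnr : n < r
  · haveI := low (-(r : ℤ)) (by omega)
    exact hasSk_of_subsingleton _ 2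
  obtain ⟨e⟩ := key (-(r : ℤ)) (rs.length : ℤ) (by omega)
  obtain ⟨e'⟩ := nonempty_ext_regular (N := B ⊗[P] A) rs B hreg hys
  let E := (e.trans (Abelian.Ext.homLinearEquiv (R := B) (X := ModuleCat.of B (B ⊗[P] A))
    (Y := ModuleCat.of B B) (n := rs.length)).symm).trans e'
  have hQ : LocCoh.HasSk 2 B (B ⧸ (Ideal.ofList rs • (⊤ : Submodule B B))) :=
    hasSk_quot_regular rs 2 B (hasSk_self_of_cm hB _) hreg
  have hL : LocCoh.HasSk 2 B (LocalizedModule S' (Dual.HD A (Dual2.shriekVia n Rψ (Dual.inD R R)) (-(r : ℤ)))) :=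
    Ega11.RegSeqSk.hasSk_congr E.symm 2 (TF3.hasSk_hom (M := B ⊗[P] A) le_rfl hQ)
  haveI := finite_linearMap (B := B) (B ⊗[P] A) (B ⧸ (Ideal.ofList rs • (⊤ : Submodule B B)))
  haveI : Module.Finite B (LocalizedModule S' (Dual.HD A (Dual2.shriekVia n Rψ (Dual.inD R R)) (-(r : ℤ)))) :=
    Module.Finite.equiv E.symm
  exact Ega11.FiniteChange.hasSk_of_hasSk (A := B) (B := A') _ 2 hL

end Groth.Agent.DR39
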