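import Groth.Agent.DR39.FieldCM
import Groth.Agent.DR39.FibreDegree
import Groth.Agent.DR39.RelShriek
import Groth.Agent.DR39.GorShriek
import Groth.Agent.DR39.ShriekCM
import Groth.Agent.CAlg1.CMPoly

/-! Cohen–Macaulay fibres and Ext into the polynomial ring. -/

set_option autoImplicit false
set_option linter.style.haveILetI false
set_option linter.unusedSectionVars false
set_option backward.isDefEq.respectTransparency false

universe u

open CategoryTheory CategoryTheory.Limits MonoidalCategory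
open scoped TensorProduct

attribute [local instance] HasDerivedCategory.standard Groth.Agent.Shriek42.hasLB
  Algebra.TensorProduct.rightAlgebra
  Groth.Agent.DTen43.hasLTen Groth.Agent.DTen43.hasLTen₃ Groth.Agent.DTen43.isSymMonoidal Groth.Agent.DR39.hasRHom

namespace Groth.Agent.DR39

theorem flat_of_ta_zero {A : Type u} [CommRing A] {M : ModuleCat.{u} A} (h : TA 0 0 (Dual.inD A M)) :
    Module.Flat A M := by
  obtain ⟨E, hv, hE, ⟨e⟩⟩ := (ta_iff_rep 0 0 _).1 h
  haveI : IsIso (E.homologyπ 0) :=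
    HomologicalComplex.isIso_homologyπ E (-1) 0 (by simp) ((hv (-1) (by simp)).eq_of_src _ _)
  haveI : IsIso (E.iCycles 0) :=
    HomologicalComplex.isIso_iCycles E 0 1 (by simp) ((hv 1 (by simp)).eq_of_tgt _ _)
  haveI : Module.Flat A (E.X 0) := hE 0
  exact Module.Flat.of_linearEquiv ((asIso (E.iCycles 0)).symm ≪≫ asIso (E.homologyπ 0) ≪≫ (HQIso E 0).symm ≪≫
    (HF A 0).mapIso e ≪≫ (DerivedCategory.singleFunctorCompHomologyFunctorIso (ModuleCat.{u} A) 0).app M).toLinearEquiv.symm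

theorem cm_equidim_of_ringEquiv {R S : Type u} [CommRing R] [CommRing S] (e : R ≃+* S) (c : ℕ∞)
    (h : LocCoh.IsCohenMacaulayRing R ∧ ∀ Q : PrimeSpectrum R, Q.asIdeal ∈ minimalPrimes R → Order.coheight Q = c) :
    LocCoh.IsCohenMacaulayRing S ∧ ∀ Q : PrimeSpectrum S, Q.asIdeal ∈ minimalPrimes S → Order.coheight Q = c := by
  refine ⟨CAlg1.cmRing_of_ringEquiv e h.1, fun Q hQ => ?_⟩
  let o : PrimeSpectrum S ≃o PrimeSpectrum R := PrimeSpectrum.comapEquiv e.symm
  rw [← Order.coheight_orderIso o]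
  exact h.2 _ (PrimeSpectrum.isMin_iff.1 ((OrderIso.isMin_apply o).2 (PrimeSpectrum.isMin_iff.2 hQ)))

namespace FibreExt

variable {A : Type u} [CommRing A] {B : Type u} [CommRing B] [Algebra A B] (N : ℕ)
  [Algebra (MvPolynomial (Fin N) A) B] [IsScalarTower A (MvPolynomial (Fin N) A) B]
  (hψ : Function.Surjective (algebraMap (MvPolynomial (Fin N) A) B))
  (Rψ : Dual.D (MvPolynomial (Fin N) A) ⥤ Dual.D B)
  (adj : DRing.restrictD (algebraMap (MvPolynomial (Fin N) A) B) ⊣ Rψ)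

local notation "P" => MvPolynomial (Fin N) A
local notation "ω" => Dual2.shriekVia N Rψ (Dual.inD A A)

include hψ adj in
theorem fibre_iff [Algebra.FinitePresentation A B] [Module.Flat A B] (E : DRing.Cx B) (e0 : ℤ)
    (hv : DRing.VanishesAbove E e0) (hE : ∀ i, FFp (E.X i)) (e : (QA B).obj E ≅ ω)
    (p : Ideal A) [p.IsPrime] (n : ℕ) :
    (LocCoh.IsCohenMacaulayRing (B ⊗[A] p.ResidueField) ∧ ∀ Q : PrimeSpectrum (B ⊗[A] p.ResidueField),
      Q.asIdeal ∈ minimalPrimes (B ⊗[A] p.ResidueField) → Order.coheight Q = (n : ℕ∞)) ↔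
    ∀ i : ℤ, i ≠ -(n : ℤ) → IsZero ((extCx (algebraMap B (p.Fiber B)) E).homology i) := by
  let κ := p.ResidueField
  let ψ : P →ₐ[A] B := IsScalarTower.toAlgHom A P B
  obtain ⟨ψ', hψ'⟩ := ShriekFlat.exists_presentation_bc κ N ψ hψ
  obtain ⟨eb⟩ := RelDual.shriek_baseChange κ N ψ hψ Rψ adj N ψ' hψ' _ (Shriek42.rightDAdj ψ'.toRingHom)
  obtain ⟨hd, hres⟩ := FieldCM.shriek_normalized N ψ' hψ' _ (Shriek42.rightDAdj ψ'.toRingHom)
  let h := algebraMap B (p.Fiber B)
  have hk : DRing.IsKFlat B E := isKFlat_of_flat e0 hv fun i => flat_of_PR (proj_of_FF (hE i))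
  let c := Algebra.TensorProduct.comm A B κ
  refine Iff.trans ⟨cm_equidim_of_ringEquiv c.toRingEquiv _, cm_equidim_of_ringEquiv c.symm.toRingEquiv _⟩ ?_
  refine (FieldCM.cm_equidim_iff κ hd hres n).trans (forall₂_congr fun i _ => ?_)
  exact ((HF _ i).mapIso ((LBaseChangeIso h E hk).symm ≪≫ (DRing.LBaseChange h).mapIso e ≪≫ eb)).symm.isZero_iff.trans
    (isZero_HF_Q_iff _ i)

include hψ adj in
theorem cm_fibres_iff [Algebra.FinitePresentation A B] [Module.Flat A B] (n : ℕ) :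
    (∀ p : PrimeSpectrum A, LocCoh.IsCohenMacaulayRing (B ⊗[A] p.asIdeal.ResidueField) ∧
      ∀ Q : PrimeSpectrum (B ⊗[A] p.asIdeal.ResidueField),
        Q.asIdeal ∈ minimalPrimes (B ⊗[A] p.asIdeal.ResidueField) → Order.coheight Q = (n : ℕ∞)) ↔
    (∀ i : ℤ, i ≠ -(n : ℤ) → IsZero ((HF B i).obj ω)) ∧
      TA (-(n : ℤ)) (-(n : ℤ)) ((DRing.restrictD (algebraMap A B)).obj ω) := by
  let φ := algebraMap A B
  obtain ⟨⟨E, e0, hv, hE, ⟨e⟩⟩, a, b, hta⟩ :=
    RelDual.isRelPerfect_shriek N (IsScalarTower.toAlgHom A P B) hψ Rψ adj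
  let eR : (QA A).obj ((DRing.restrictCx φ).obj E) ≅ (DRing.restrictD φ).obj ω :=
    (restrictDIso φ E).symm ≪≫ (DRing.restrictD φ).mapIso e
  have hflE : ∀ i, Module.Flat B (E.X i) := fun i => flat_of_PR (proj_of_FF (hE i))
  have hfl : ∀ i, Module.Flat A (((DRing.restrictCx φ).obj E).X i) := fun i => flat_restrictCx E i (hflE i)
  have hv' : DRing.VanishesAbove ((DRing.restrictCx φ).obj E) e0 := fun j hj =>
    (ModuleCat.restrictScalars φ).map_isZero (hv j hj)
  constructor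
  · intro hCM
    obtain ⟨hH, hT⟩ := ta_of_fibre_degree (A := A) E e0 (-(n : ℤ)) hv hE (TA.of_iso hta eR.symm)
      fun p hp i hi => (fibre_iff N hψ Rψ adj E e0 hv hE e p n).1 (hCM ⟨p, hp⟩) i hi
    exact ⟨fun i hi => ((isZero_HF_Q_iff E i).2 (hH i hi)).of_iso ((HF B i).mapIso e.symm), hT.of_iso eR⟩
  · rintro ⟨hH, hT⟩ p
    refine (fibre_iff N hψ Rψ adj E e0 hv hE e p.asIdeal n).2 fun i hi => ?_
    let κ := p.asIdeal.ResidueField
    have hH' : ∀ j, j ≠ -(n : ℤ) → IsZero (((DRing.restrictCx φ).obj E).homology j) := fun j hj =>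
      (isZero_res_homology_iff φ E j).2 ((isZero_HF_Q_iff E j).1 ((hH j hj).of_iso ((HF B j).mapIso e)))
    have h1 : ExT ((DRing.restrictCx φ).obj E) (ModuleCat.of A κ) i := by
      rcases lt_or_gt_of_ne hi with hlt | hgt
      · exact (isZero_tensorCx_iff _ _ i).1 (((ta_iff _ _ _ (isKFlat_of_flat e0 hv' hfl) eR).1 hT).2 _ i hlt)
      · exact exT_of_homology_above _ e0 (-(n : ℤ)) hv' hfl (fun j hj => hH' j (by omega)) _ i hgt
    refine isZero_ext_homology_of_exT _ E i (exT_of_equiv E i ?_ (exT_cancel E i _ h1))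
    exact
      ({ toFun := fun x => TensorProduct.comm A B κ x
         invFun := fun x => (TensorProduct.comm A B κ).symm x
         map_add' := fun x y => map_add _ x y
         map_smul' := fun r x => by
           induction x using TensorProduct.induction_on with
           | zero => simp
           | add x y hx hy =>
             rw [smul_add, map_add, hx, hy, map_add, RingHom.id_apply, smul_add]
           | tmul s k =>
             show k ⊗ₜ[A] (r * s) = ((1 : κ) ⊗ₜ[A] r) * (k ⊗ₜ[A] s)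
             rw [Algebra.TensorProduct.tmul_mul_tmul, one_mul]
         left_inv := fun x => (TensorProduct.comm A B κ).left_inv x
         right_inv := fun x => (TensorProduct.comm A B κ).right_inv x } :
        ModuleCat.of B (B ⊗[A] ModuleCat.of A κ) ≃ₗ[B]
          resM (algebraMap B (p.asIdeal.Fiber B)) (ModuleCat.of (p.asIdeal.Fiber B) (p.asIdeal.Fiber B)))

include adj in
theorem exists_HD_ext (i : ℤ) (j : ℕ) (hj : (N : ℤ) + i = (j : ℤ)) :
    ∃ e : Dual.HD B ω i ≃+ Abelian.Ext (ModuleCat.of P B) (ModuleCat.of P P) j,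
      ∀ (p : P) m, e (algebraMap P B p • m) = p • e m := by
  obtain ⟨eP⟩ := nonempty_lb_inD_self (algebraMap A P)
  obtain ⟨r⟩ := exists_restrict_inD (A := P) (B := B) B
  obtain ⟨e, he⟩ := exists_homRight (A := P) (B := B) adj (Dual.inD B B) (Dual.inD P P) (j : ℤ)
  let u : (Dual.inD B B ⟶ (Rψ.obj (Dual.inD P P))⟦(j : ℤ)⟧) ≃ₗ[B] Dual.HD B ω i :=
    (CategoryTheory.Linear.homCongr B (Iso.refl _)
      (((shiftFunctorAdd' (Dual.D B) (N : ℤ) i _ hj).app _).symm ≪≫
        (shiftFunctor (Dual.D B) (j : ℤ)).mapIso (Rψ.mapIso eP))).symm.trans (gmSelfEquiv _ i)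
  let c : Abelian.Ext (ModuleCat.of P B) (ModuleCat.of P P) j ≃ₗ[P]
      ((DRing.restrictD (algebraMap P B)).obj (Dual.inD B B) ⟶ (Dual.inD P P)⟦(j : ℤ)⟧) :=
    Abelian.Ext.homLinearEquiv.trans (CategoryTheory.Linear.homCongr P r.symm (Iso.refl _))
  let f := (c.toAddEquiv.trans e).trans u.toAddEquiv
  refine ⟨f.symm, fun p m => f.injective ?_⟩
  have h2 : ∀ g, f (p • g) = algebraMap P B p • f g := fun g => by
    show u (e (c (p • g))) = algebraMap P B p • u (e (c g))
    rw [map_smul, he, map_smul]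
  rw [f.apply_symm_apply, h2, f.apply_symm_apply]

include adj in
theorem isZero_HD_neg (i : ℤ) (hi : (N : ℤ) + i < 0) : IsZero ((HF B i).obj ω) := by
  refine (isZero_HF_iff _ i).2 ?_
  obtain ⟨eP⟩ := nonempty_lb_inD_self (algebraMap A P)
  haveI := subsingleton_gm_right (A := P) (B := B) adj B (Dual.inD P P) ((N : ℤ) + i)
    (subsingleton_inD_inD_neg B P _ hi)
  exact ((CategoryTheory.Linear.homCongr B (Iso.refl _)
      (((shiftFunctorAdd' (Dual.D B) (N : ℤ) i _ rfl).app _).symm ≪≫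
        (shiftFunctor (Dual.D B) ((N : ℤ) + i)).mapIso (Rψ.mapIso eP))).symm.trans (gmSelfEquiv ω i)).symm.toEquiv.subsingleton

include adj in
theorem vanishing_iff (n : ℕ) (hn : n ≤ N) :
    (∀ i : ℤ, i ≠ -(n : ℤ) → IsZero ((HF B i).obj ω)) ↔
      ∀ j : ℕ, j ≠ N - n → Subsingleton (Abelian.Ext (ModuleCat.of P B) (ModuleCat.of P P) j) := by
  constructor
  · intro h j hj
    obtain ⟨e, -⟩ := exists_HD_ext N Rψ adj ((j : ℤ) - N) j (by omega)
    haveI := ModuleCat.subsingleton_of_isZero (h ((j : ℤ) - N) (by omega))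
    exact e.symm.toEquiv.subsingleton
  · intro h i hi
    by_cases hneg : (N : ℤ) + i < 0
    · exact isZero_HD_neg N Rψ adj i hneg
    obtain ⟨e, -⟩ := exists_HD_ext N Rψ adj i ((N : ℤ) + i).toNat (by omega)
    haveI := h ((N : ℤ) + i).toNat (by omega)
    exact (isZero_HF_iff _ i).2 e.toEquiv.subsingleton

include adj in
theorem ext_flat_iff (n : ℕ) (hn : n ≤ N) (hz : ∀ i : ℤ, i ≠ -(n : ℤ) → IsZero ((HF B i).obj ω)) :
    TA (-(n : ℤ)) (-(n : ℤ)) ((DRing.restrictD (algebraMap A B)).obj ω) ↔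
      Module.Flat A (RestrictScalars A P (Abelian.Ext (ModuleCat.of P B) (ModuleCat.of P P) (N - n))) := by
  let φ := algebraMap A B
  obtain ⟨e, he⟩ := exists_HD_ext N Rψ adj (-(n : ℤ)) (N - n) (by omega)
  let X := (DRing.restrictD φ).obj ω
  have hzA : ∀ i, i ≠ -(n : ℤ) → IsZero ((HF A i).obj X) := fun i hi =>
    (isZero_DF_iff_of_faithful _ (isZero_of_isZero_restrict φ) ω i).2 (hz i hi)
  obtain ⟨eS⟩ := exists_iso_single_homology X (-(n : ℤ)) hzA
  obtain ⟨e1⟩ := HF_DF (ModuleCat.restrictScalars.{u} φ) ω (-(n : ℤ))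
  let l : (ModuleCat.restrictScalars φ).obj ((HF B (-(n : ℤ))).obj ω) ≃ₗ[A]
      RestrictScalars A P (Abelian.Ext (ModuleCat.of P B) (ModuleCat.of P P) (N - n)) :=
    { e.trans (RestrictScalars.addEquiv A P _).symm with
      map_smul' := fun a m => by
        show (RestrictScalars.addEquiv A P _).symm (e (φ a • (show Dual.HD B ω _ from m))) = _
        rw [show φ a = algebraMap P B (algebraMap A P a) from IsScalarTower.algebraMap_apply A P B a, he]
        rfl }
  let t := (e1.toLinearEquiv).trans l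
  constructor
  · intro h
    have h0 := (ta_single_iff _ _ _ _).1 (h.of_iso eS)
    rw [show -(n : ℤ) - -(n : ℤ) = 0 by omega] at h0
    haveI := flat_of_ta_zero h0
    exact Module.Flat.of_linearEquiv t.symm
  · intro h
    haveI := h
    haveI : Module.Flat A ((HF A (-(n : ℤ))).obj X) := Module.Flat.of_linearEquiv t
    refine ((ta_single_iff _ _ _ _).2 ?_).of_iso eS.symm
    rw [show -(n : ℤ) - -(n : ℤ) = 0 by omega]
    exact ta_inD_of_flat _

include hψ adj in
theorem finitePresentation_ext [Algebra.FinitePresentation A B] [Module.Flat A B] (n : ℕ) (hn : n ≤ N)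
    (hz : ∀ i : ℤ, i ≠ -(n : ℤ) → IsZero ((HF B i).obj ω)) :
    Module.FinitePresentation P (Abelian.Ext (ModuleCat.of P B) (ModuleCat.of P P) (N - n)) := by
  let ψ : P →ₐ[A] B := IsScalarTower.toAlgHom A P B
  let φ := algebraMap P B
  obtain ⟨e, he⟩ := exists_HD_ext N Rψ adj (-(n : ℤ)) (N - n) (by omega)
  let X := (DRing.restrictD φ).obj ω
  have hX : DRing.IsPerfect P X := by
    obtain ⟨s⟩ := ShriekFlat.nonempty_self (A := B) N Rψ
    exact perfect_of_iso (perfect_shift (RelDual.isPerfect_restrict_right ψ.toRingHom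
      (RelDual.isPerfect_restrict_unit ψ hψ) adj) (N : ℤ))
      (((DRing.restrictD φ).commShiftIso (N : ℤ)).symm.app _ ≪≫ (DRing.restrictD φ).mapIso
        ((shiftFunctor (Dual.D B) (N : ℤ)).mapIso (Rψ.mapIso (RelDual.unitIso _)) ≪≫ s.symm))
  have hzP : ∀ i, i ≠ -(n : ℤ) → IsZero ((HF P i).obj X) := fun i hi =>
    (isZero_DF_iff_of_faithful _ (isZero_of_isZero_restrict φ) ω i).2 (hz i hi)
  obtain ⟨eS⟩ := exists_iso_single_homology X (-(n : ℤ)) hzP
  obtain ⟨e1⟩ := HF_DF (ModuleCat.restrictScalars.{u} φ) ω (-(n : ℤ))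
  have h0 := (pc_single_iff _ _ (-1 + -(n : ℤ))).1 ((pc_of_pc' ((perfect_iff _).1 hX).1 _).of_iso eS)
  rw [show -1 + -(n : ℤ) - -(n : ℤ) = -1 by omega] at h0
  haveI := (pcModule_negOne_iff _).1 h0
  let l : (ModuleCat.restrictScalars φ).obj ((HF B (-(n : ℤ))).obj ω) ≃ₗ[P]
      Abelian.Ext (ModuleCat.of P B) (ModuleCat.of P P) (N - n) :=
    { e with map_smul' := fun p m => he p m }
  exact Module.FinitePresentation.of_equiv (e1.toLinearEquiv.trans l)

end FibreExt

end Groth.Agent.DR39
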