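import Groth.Agent.E4O.FibreDim
import Groth.Agent.E4O.DimField
import Groth.Agent.LCI19.FlatNhd
import Groth.Agent.LC17.IDepth
import Groth.Agent.CAlg1.CMPoly
import Groth.Agent.S14424

/-! The grade of the kernel of a presentation is at least `n` minus the fibre dimension. -/

set_option autoImplicit false
set_option linter.style.haveILetI false
set_option linter.unusedSectionVars false

universe u

open AlgebraicGeometry CategoryTheory RingTheory.Sequence
open scoped Pointwise

namespace Groth.Agent.DR39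

theorem cmRing_of_isLocalization {S L : Type u} [CommRing S] [CommRing L] [Algebra S L] (M : Submonoid S)
    [IsLocalization M L] (h : LocCoh.IsCohenMacaulayRing S) : LocCoh.IsCohenMacaulayRing L := by
  haveI : IsNoetherianRing S := h.toIsNoetherian
  haveI : IsNoetherianRing L := IsLocalization.isNoetherianRing M L inferInstance
  refine ⟨fun p hp => ?_⟩
  haveI : IsLocalization.AtPrime (Localization.AtPrime p) (p.comap (algebraMap S L)) :=
    IsLocalization.isLocalization_isLocalization_atPrime_isLocalization M (Localization.AtPrime p) p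
  exact CAlg1.cm_of_ringEquiv (IsLocalization.algEquiv (p.comap (algebraMap S L)).primeCompl
    (Localization.AtPrime (p.comap (algebraMap S L))) (Localization.AtPrime p)).toRingEquiv
    (h.isCohenMacaulayLocalRing_localization _)

variable {R A : Type u} [CommRing R] [CommRing A] [IsNoetherianRing R] [Algebra R A]

theorem trdeg_le_fibreDim [Algebra.FiniteType R A] (q' q : PrimeSpectrum A) (hle : q'.asIdeal ≤ q.asIdeal)
    (hcomap : q'.asIdeal.comap (algebraMap R A) = q.asIdeal.comap (algebraMap R A)) (d : ℕ)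
    (hd : FlatMor.fibreDimAt (Spec.map (CommRingCat.ofHom (algebraMap R A))) q = d) :
    Algebra.trdeg (R ⧸ q'.asIdeal.under R) (A ⧸ q'.asIdeal) ≤ (d : Cardinal.{u}) := by
  let f := Spec.map (CommRingCat.ofHom (algebraMap R A))
  haveI : LocallyOfFiniteType f :=
    (HasRingHomProperty.Spec_iff (P := @LocallyOfFiniteType)).2 (RingHom.finiteType_algebraMap.2 ‹_›)
  let C : E4O.Chart f := { A := R, B := A, e := 𝟙 _, j := 𝟙 _, comm := by simp [f] }
  have h1 : Algebra.trdeg (R ⧸ q'.asIdeal.under R) (A ⧸ q'.asIdeal) = (E4O.fdeg f q' : Cardinal.{u}) :=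
    C.trdeg_eq_fdeg q'
  have hz : q' ⤳ q := (PrimeSpectrum.le_iff_specializes q' q).1 hle
  have hf : f q' = f q := PrimeSpectrum.ext hcomap
  have h2 := E4O.fdeg_le_fibreDimAt (f := f) (x := q) (z := q') hz hf
  rw [hd] at h2
  rw [h1]
  exact_mod_cast h2

omit [IsNoetherianRing R] in
theorem weaklyRegular_of_associated {S : Type u} [CommRing S] : ∀ (l l' : List S) (M : Type u) [AddCommGroup M]
    [Module S M], List.Forall₂ Associated l l' → IsWeaklyRegular M l → IsWeaklyRegular M l'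
  | _, _, M, _, _, .nil, h => h
  | a :: l, b :: l', M, _, _, .cons hab hl, h => by
    rw [isWeaklyRegular_cons_iff] at h ⊢
    obtain ⟨u, rfl⟩ := hab
    refine ⟨h.1.mul (u.isUnit.isSMulRegular M), ?_⟩
    have e : a • (⊤ : Submodule S M) = (a * (u : S)) • (⊤ : Submodule S M) := by
      ext x
      simp only [Submodule.mem_smul_pointwise_iff_exists, Submodule.mem_top, true_and]
      constructor
      · rintro ⟨y, rfl⟩; exact ⟨(↑u⁻¹ : S) • y, by rw [mul_smul, ← mul_smul (u : S), Units.mul_inv, one_smul]⟩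
      · rintro ⟨y, rfl⟩; exact ⟨(u : S) • y, (mul_smul _ _ _).symm⟩
    exact ((Submodule.quotEquivOfEq _ _ e).isWeaklyRegular_congr l').1
      (weaklyRegular_of_associated l l' _ hl h.2)

variable {n : ℕ} (ψ : MvPolynomial (Fin n) R →ₐ[R] A) (hψ : Function.Surjective ψ)
include hψ

theorem height_le_of_fibreDim (q : PrimeSpectrum A) (d : ℕ)
    (hd : FlatMor.fibreDimAt (Spec.map (CommRingCat.ofHom (algebraMap R A))) q = d)
    (Q : Ideal (MvPolynomial (Fin n) R)) [Q.IsPrime] (hQ : Q = q.asIdeal.comap ψ.toRingHom)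
    (P' : Ideal (LCI19.FibPoly Q)) [P'.IsPrime] (hJ : (RingHom.ker ψ.toRingHom).map (LCI19.fibMap Q) ≤ P')
    (hP' : P' ≤ LCI19.fibPrime Q) : ((n - d : ℕ) : ℕ∞) ≤ P'.height := by
  haveI : Algebra.FiniteType R A := Algebra.FiniteType.of_surjective ψ hψ
  let P := MvPolynomial (Fin n) R
  let k := (LCI19.fibBase Q).ResidueField
  let Q' : Ideal P := P'.comap (LCI19.fibMap Q)
  have hJQ : RingHom.ker ψ.toRingHom ≤ Q' := Ideal.map_le_iff_le_comap.1 hJ
  have hQQ : Q' ≤ Q := by
    rw [← LCI19.comap_fibPrime Q]; exact Ideal.comap_mono hP'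
  let q' : Ideal A := Q'.map ψ.toRingHom
  haveI hq'p : q'.IsPrime := Ideal.map_isPrime_of_surjective hψ hJQ
  have hq'c : q'.comap ψ.toRingHom = Q' := by
    rw [Ideal.comap_map_of_surjective' ψ.toRingHom hψ, sup_eq_left.2 hJQ]
  have hle : q' ≤ q.asIdeal := Ideal.map_le_iff_le_comap.2 (hQ ▸ hQQ)
  have hbase : ∀ r : R, algebraMap R A r ∈ q' ↔ r ∈ LCI19.fibBase Q := fun r => by
    conv_rhs => rw [← Ideal.algebraMap_residueField_eq_zero]
    rw [← ψ.commutes r]
    show MvPolynomial.C r ∈ q'.comap ψ.toRingHom ↔ _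
    rw [hq'c, Ideal.mem_comap, MvPolynomial.map_C]
    constructor
    · intro h
      by_contra hne
      exact (Ideal.IsPrime.ne_top (I := P') inferInstance)
        (Ideal.eq_top_of_isUnit_mem _ h ((isUnit_iff_ne_zero.2 hne).map MvPolynomial.C))
    · intro h
      rw [h, map_zero]; exact zero_mem _
  have hcomap : q'.comap (algebraMap R A) = q.asIdeal.comap (algebraMap R A) := by
    ext r
    rw [Ideal.mem_comap, hbase]
    show MvPolynomial.C r ∈ Q ↔ algebraMap R A r ∈ q.asIdeal
    rw [hQ, Ideal.mem_comap, ← ψ.commutes r]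
    rfl
  have hu : LCI19.fibBase Q = q'.under R := by
    ext r; exact (hbase r).symm
  have h1 := trdeg_le_fibreDim ⟨q', hq'p⟩ q hle hcomap d hd
  let φ : A ⧸ q' →+* LCI19.FibPoly Q ⧸ P' :=
    (Ideal.quotientMap P' (LCI19.fibMap Q) (le_refl Q')).comp
      ((Ideal.quotientEquiv Q' (q'.comap ψ.toRingHom) (RingEquiv.refl P) (by
        rw [hq'c]; exact (Ideal.map_id Q').symm)).trans
        (RingEquiv.ofBijective (Ideal.quotientMap q' ψ.toRingHom le_rfl)
          ⟨Ideal.quotientMap_injective' le_rfl, Ideal.quotientMap_surjective hψ⟩)).symm.toRingHom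
  have hφ : ∀ x : P, φ (Ideal.Quotient.mk q' (ψ x)) = Ideal.Quotient.mk P' (LCI19.fibMap Q x) := fun x => by
    simp only [φ, RingHom.comp_apply]
    rw [show ((Ideal.quotientEquiv Q' (q'.comap ψ.toRingHom) (RingEquiv.refl P) (by
        rw [hq'c]; exact (Ideal.map_id Q').symm)).trans
        (RingEquiv.ofBijective (Ideal.quotientMap q' ψ.toRingHom le_rfl)
          ⟨Ideal.quotientMap_injective' le_rfl, Ideal.quotientMap_surjective hψ⟩)).symm.toRingHom
        (Ideal.Quotient.mk q' (ψ x)) = Ideal.Quotient.mk Q' x from (RingEquiv.symm_apply_eq _).2 rfl]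
    exact Ideal.quotientMap_mk
  have hp : (q'.under R).IsPrime := inferInstance
  have htr : Algebra.trdeg k (LCI19.FibPoly Q ⧸ P') = Algebra.trdeg (R ⧸ q'.under R) (A ⧸ q') := by
    letI : Algebra (R ⧸ q'.under R) k := (Ideal.Quotient.lift _ (algebraMap R k) fun r hr => by
      rw [Ideal.algebraMap_residueField_eq_zero, hu]; exact hr).toAlgebra
    have hinj : Function.Injective (algebraMap (R ⧸ q'.under R) k) :=
      RingHom.lift_injective_of_ker_le_ideal _ _ fun r hr => by
        rw [← hu]; exact Ideal.algebraMap_residueField_eq_zero.1 (RingHom.mem_ker.1 hr)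
    haveI : FaithfulSMul (R ⧸ q'.under R) k := (faithfulSMul_iff_algebraMap_injective _ _).2 hinj
    haveI : IsFractionRing (R ⧸ q'.under R) k := IsFractionRing.of_field _ k fun z => by
      obtain ⟨x, y, hy, rfl⟩ := IsFractionRing.div_surjective (R ⧸ LCI19.fibBase Q) z
      obtain ⟨x, rfl⟩ := Ideal.Quotient.mk_surjective x
      obtain ⟨y, rfl⟩ := Ideal.Quotient.mk_surjective y
      exact ⟨Ideal.Quotient.mk _ x, Ideal.Quotient.mk _ y, rfl⟩
    refine E4O.trdeg_eq_of_square (D := R ⧸ q'.under R) (K := k) φ ?_ ?_ ?_ ?_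
    · exact (Ideal.quotientMap_injective' (H := le_rfl) le_rfl).comp (RingEquiv.injective _)
    · exact Ideal.quotientMap_injective' le_rfl
    · intro r
      obtain ⟨r, rfl⟩ := Ideal.Quotient.mk_surjective r
      show φ (Ideal.Quotient.mk q' (algebraMap R A r)) = _
      rw [← ψ.commutes r, hφ]
      show Ideal.Quotient.mk P' (LCI19.fibMap Q (MvPolynomial.C r)) = _
      rw [MvPolynomial.map_C]
      rfl
    · intro x
      obtain ⟨v, rfl⟩ := Ideal.Quotient.mk_surjective x
      obtain ⟨b, y, hb, hy⟩ := LCI19.exists_denom Q v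
      refine ⟨Ideal.Quotient.mk q' (ψ (MvPolynomial.C b)), Ideal.Quotient.mk q' (ψ y), fun h => hb ?_, ?_⟩
      · rw [Ideal.Quotient.eq_zero_iff_mem, show ψ (MvPolynomial.C b) = algebraMap R A b from ψ.commutes b] at h
        exact (hbase b).1 h
      · rw [hφ, hφ, ← map_mul, hy]
  have h2 := E4O.height_add_trdeg_eq k (LCI19.FibPoly Q) P'
  rw [MvPolynomial.trdeg_of_isDomain, Cardinal.mk_fin, Cardinal.lift_natCast, htr] at h2
  have h3 : Algebra.trdeg (R ⧸ q'.under R) (A ⧸ q') < Cardinal.aleph0 :=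
    lt_of_le_of_lt h1 (Cardinal.natCast_lt_aleph0)
  obtain ⟨t, ht⟩ := Cardinal.lt_aleph0.1 h3
  rw [ht] at h1 h2
  have htd : t ≤ d := by exact_mod_cast h1
  have h4 : P'.height + (t : ℕ∞) = (n : ℕ∞) := by
    refine Cardinal.ofENat_injective ?_
    rw [Cardinal.ofENat_add, Cardinal.ofENat_nat, Cardinal.ofENat_nat]
    exact h2
  obtain ⟨m, hm⟩ := ENat.ne_top_iff_exists.1 (fun e => by rw [e, top_add] at h4; exact ENat.top_ne_natCast n h4 : P'.height ≠ ⊤)
  rw [← hm] at h4 ⊢
  norm_cast at h4 ⊢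
  omega

/-- A weakly regular sequence of length `n - d` in the kernel near the point. -/
theorem exists_regular_kernel (q : PrimeSpectrum A) (d : ℕ)
    (hd : FlatMor.fibreDimAt (Spec.map (CommRingCat.ofHom (algebraMap R A))) q = d) :
    ∃ (f : Fin (n - d) → MvPolynomial (Fin n) R), (∀ i, f i ∈ RingHom.ker ψ.toRingHom) ∧
      ∃ g, g ∉ q.asIdeal.comap ψ.toRingHom ∧ IsWeaklyRegular (Localization.Away g)
        (List.ofFn (algebraMap (MvPolynomial (Fin n) R) (Localization.Away g) ∘ f)) := by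
  let P := MvPolynomial (Fin n) R
  let Q : Ideal P := q.asIdeal.comap ψ.toRingHom
  haveI : Q.IsPrime := Ideal.IsPrime.comap _
  let J := RingHom.ker ψ.toRingHom
  let J' := J.map (LCI19.fibMap Q)
  let K := J'.map (algebraMap (LCI19.FibPoly Q) (LCI19.Fib Q))
  have hJQ : J ≤ Q := fun x hx => by rw [Ideal.mem_comap, RingHom.mem_ker.1 hx]; exact zero_mem _
  have hJ' : J' ≤ LCI19.fibPrime Q := Ideal.map_le_iff_le_comap.2 (by rw [LCI19.comap_fibPrime]; exact hJQ)
  have hK : K ≤ IsLocalRing.maximalIdeal (LCI19.Fib Q) := by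
    rw [← Localization.AtPrime.map_eq_maximalIdeal]; exact Ideal.map_mono hJ'
  have hK1 : K ≠ ⊤ := fun e => (IsLocalRing.maximalIdeal.isMaximal _).ne_top (top_le_iff.1 (e ▸ hK))
  haveI : LocCoh.IsCohenMacaulayRing (LCI19.fibBase Q).ResidueField := CAlg1.cm_of_pid _
  haveI : LocCoh.IsCohenMacaulayRing (LCI19.FibPoly Q) :=
    CAlg1.cm_mvPolynomial (R := (LCI19.fibBase Q).ResidueField) n
  have hcm : LocCoh.IsCohenMacaulayRing (LCI19.Fib Q) :=
    cmRing_of_isLocalization (LCI19.fibPrime Q).primeCompl inferInstance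
  have hdepth : ((n - d : ℕ) : ℕ∞) ≤ LocCoh.idealDepth K (LCI19.Fib Q) := by
    rw [(S14424.result (LCI19.Fib Q)).1 hcm K hK1, Ideal.height_eq_inf_minimalPrimes]
    refine le_iInf₂ fun P'' hP'' => ?_
    haveI : P''.IsPrime := hP''.1.1
    let P' := P''.comap (algebraMap (LCI19.FibPoly Q) (LCI19.Fib Q))
    have h1 := height_le_of_fibreDim ψ hψ q d hd Q rfl P'
      (Ideal.map_le_iff_le_comap.1 hP''.1.2) (by
        rw [← Localization.AtPrime.comap_maximalIdeal (I := LCI19.fibPrime Q)]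
        exact Ideal.comap_mono (IsLocalRing.le_maximalIdeal hP''.1.1.ne_top))
    exact h1.trans (le_of_eq (IsLocalization.height_under (LCI19.fibPrime Q).primeCompl P''))
  rw [LC17.natCast_le_idealDepth_iff] at hdepth
  obtain ⟨rs, hlen, hreg, hmem⟩ := LC17.exists_seq_of_subsingleton_H K (n - d) (LCI19.Fib Q) hdepth (by
    rw [smul_eq_mul, Ideal.mul_top]; exact hK1)
  have key : ∀ z ∈ K, ∃ (y : P) (u : LCI19.Fib Q), IsUnit u ∧ y ∈ J ∧ LCI19.toFib Q y = u * z := by
    intro z hz
    obtain ⟨⟨⟨v, hv⟩, ⟨t, htP⟩⟩, hvt⟩ := (IsLocalization.mem_map_algebraMap_iff (LCI19.fibPrime Q).primeCompl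
      (LCI19.Fib Q)).1 hz
    have hv' : ∃ (b : R) (y : P), b ∉ LCI19.fibBase Q ∧ y ∈ J ∧
        LCI19.fibMap Q (MvPolynomial.C b) * v = LCI19.fibMap Q y := by
      clear hvt htP
      rw [show J' = Ideal.span (LCI19.fibMap Q '' J) from rfl] at hv
      induction hv using Submodule.span_induction with
      | mem w hw =>
        obtain ⟨y, hy, rfl⟩ := hw
        exact ⟨1, y, fun h => (Ideal.IsPrime.ne_top ‹Q.IsPrime›) ((Ideal.eq_top_iff_one _).2 (by
          simpa using h)), hy, by rw [map_one, map_one, one_mul]⟩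
      | zero => exact ⟨1, 0, fun h => (Ideal.IsPrime.ne_top ‹Q.IsPrime›) ((Ideal.eq_top_iff_one _).2 (by
          simpa using h)), zero_mem _, by simp⟩
      | add w w' _ _ hw hw' =>
        obtain ⟨b, y, hb, hy, he⟩ := hw
        obtain ⟨b', y', hb', hy', he'⟩ := hw'
        refine ⟨b * b', MvPolynomial.C b' * y + MvPolynomial.C b * y', fun h =>
          ((Ideal.IsPrime.mem_or_mem (inferInstanceAs (LCI19.fibBase Q).IsPrime) h).elim hb hb'),
          add_mem (J.mul_mem_left _ hy) (J.mul_mem_left _ hy'), ?_⟩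
        rw [map_add, map_mul (LCI19.fibMap Q) (MvPolynomial.C b') y, map_mul (LCI19.fibMap Q) (MvPolynomial.C b) y',
          ← he, ← he', map_mul MvPolynomial.C, map_mul]
        ring
      | smul c w _ hw =>
        obtain ⟨b, y, hb, hy, he⟩ := hw
        obtain ⟨b', y', hb', he'⟩ := LCI19.exists_denom Q c
        refine ⟨b * b', y' * y, fun h =>
          ((Ideal.IsPrime.mem_or_mem (inferInstanceAs (LCI19.fibBase Q).IsPrime) h).elim hb hb'),
          J.mul_mem_left _ hy, ?_⟩
        rw [map_mul (LCI19.fibMap Q) y' y, ← he, ← he', map_mul MvPolynomial.C, map_mul, smul_eq_mul]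
        ring
    obtain ⟨b, y, hb, hy, he⟩ := hv'
    refine ⟨y, LCI19.toFib Q (MvPolynomial.C b) * algebraMap (LCI19.FibPoly Q) (LCI19.Fib Q) t, ?_, hy, ?_⟩
    · exact ((LCI19.isUnit_toFib_iff Q _).2 hb).mul (IsLocalization.map_units _ (⟨t, htP⟩ : (LCI19.fibPrime Q).primeCompl))
    · show algebraMap _ (LCI19.Fib Q) (LCI19.fibMap Q y) = _
      rw [← he, map_mul]
      simp only [] at hvt
      rw [← hvt]
      show _ = algebraMap _ (LCI19.Fib Q) (LCI19.fibMap Q (MvPolynomial.C b)) * _ * z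
      ring
  choose y u hu hy he using fun i : Fin rs.length => key (rs.get i) (hmem _ (List.get_mem _ _))
  rw [← hlen]
  have hreg' : IsWeaklyRegular (LCI19.Fib Q) (List.ofFn (LCI19.toFib Q ∘ y)) := by
    refine weaklyRegular_of_associated rs _ _ (List.forall₂_iff_get.2 ⟨by simp, fun i h₁ h₂ => ?_⟩) hreg
    simp only [List.get_eq_getElem, List.getElem_ofFn, Function.comp_apply]
    exact ⟨(hu ⟨i, h₁⟩).unit, by rw [he, mul_comm]; rfl⟩
  obtain ⟨g, hg, hG⟩ := LCI19.exists_isWeaklyRegular_away Q y (fun i => hJQ (hy i)) hreg'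
  exact ⟨y, hy, g, hg, hG g dvd_rfl⟩

end Groth.Agent.DR39
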