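import Groth.Agent.DR39.Exist2
import Groth.Agent.E4O.DimFormula
import Groth.Agent.E4O.DimField

/-! Normalization of the dualizing complex of a finite type algebra. -/

set_option autoImplicit false
set_option linter.style.haveILetI false
set_option backward.isDefEq.respectTransparency false

universe u

open CategoryTheory CategoryTheory.Limits IsLocalRing
open scoped TensorProduct

attribute [local instance] HasDerivedCategory.standard

namespace Groth.Agent.DR39

theorem trdeg_eq_zero_aux (k k' T : Type u) [Field k] [CommRing k'] [Nontrivial k'] [CommRing T] [IsDomain T]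
    [Algebra k k'] [Algebra k T] [Algebra k' T] [IsScalarTower k k' T] [Module.Finite k T] :
    Algebra.trdeg k' T = 0 := by
  haveI : Module.Finite k' T := Module.Finite.of_restrictScalars_finite k k' T
  haveI : Algebra.IsIntegral k' T := Algebra.IsIntegral.of_finite k' T
  exact trdeg_eq_zero

theorem height_maximal_mvPolynomial (k : Type u) [Field k] (n : ℕ) (Q : Ideal (MvPolynomial (Fin n) k))
    [Q.IsMaximal] : Q.height = (n : ℕ∞) := by
  haveI : (⊥ : Ideal k).IsPrime := Ideal.isPrime_bot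
  haveI : Q.LiesOver (⊥ : Ideal k) := ⟨((Ideal.eq_bot_or_top (Q.under k)).resolve_right
    (Ideal.IsPrime.ne_top inferInstance)).symm⟩
  have h := E4O.height_add_trdeg_mvPolynomial k n ⊥ Q
  have h0 : Algebra.trdeg (k ⧸ (⊥ : Ideal k)) (MvPolynomial (Fin n) k ⧸ Q) = 0 :=
    haveI : Module.Finite k (MvPolynomial (Fin n) k ⧸ Q) := by
      letI := Ideal.Quotient.field Q
      exact finite_of_finite_type_of_isJacobsonRing k _
    haveI : Nontrivial (k ⧸ (⊥ : Ideal k)) := Ideal.Quotient.nontrivial_iff.2 bot_ne_top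
    trdeg_eq_zero_aux k (k ⧸ (⊥ : Ideal k)) (MvPolynomial (Fin n) k ⧸ Q)
  rw [h0, add_zero, Ideal.height_bot] at h
  rw [Cardinal.ofENat_zero, zero_add, ← Cardinal.ofENat_nat] at h
  exact Cardinal.ofENat_inj.1 h

theorem dim_fibre_quotient {A B : Type u} [CommRing A] [CommRing B] [Algebra A B] (p : Ideal A) [p.IsPrime]
    (Q : Ideal (p.Fiber B)) [Q.IsPrime] (P : Ideal B) [P.IsPrime]
    (hQP : Q.comap (Algebra.TensorProduct.includeRight : B →ₐ[A] p.Fiber B) = P) (hp : p = P.under A) :
    ringKrullDim (Localization.AtPrime P ⧸ p.map (algebraMap A (Localization.AtPrime P))) = Q.height := by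
  subst hQP
  set P := Q.comap (Algebra.TensorProduct.includeRight : B →ₐ[A] p.Fiber B)
  haveI : P.LiesOver p := ⟨hp⟩
  let := Localization.AtPrime.algebraOfLiesOver p P
  rw [← ringKrullDim_eq_of_ringEquiv (Ideal.Fiber.localizationAlgEquivQuotient p Q).toRingEquiv]
  exact IsLocalization.AtPrime.ringKrullDim_eq_height Q (Localization.AtPrime Q)

theorem isMaximal_fibre {A B : Type u} [CommRing A] [CommRing B] [Algebra A B] (p : Ideal A) [p.IsMaximal]
    (Q : Ideal (p.Fiber B)) [Q.IsPrime] (P : Ideal B) [P.IsMaximal]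
    (hQP : Q.comap (Algebra.TensorProduct.includeRight : B →ₐ[A] p.Fiber B) = P) : Q.IsMaximal := by
  have hsurj : Function.Surjective (Algebra.TensorProduct.includeRight : B →ₐ[A] p.Fiber B) := fun z => by
    induction z using TensorProduct.induction_on with
    | zero => exact ⟨0, map_zero _⟩
    | add x y hx hy =>
      obtain ⟨x', rfl⟩ := hx
      obtain ⟨y', rfl⟩ := hy
      exact ⟨x' + y', map_add _ _ _⟩
    | tmul s m =>
      obtain ⟨r, rfl⟩ := (Ideal.bijective_algebraMap_quotient_residueField p).surjective.comp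
        Ideal.Quotient.mk_surjective s
      exact ⟨r • m, by
        show (1 : p.ResidueField) ⊗ₜ[A] (r • m) = _
        rw [← TensorProduct.smul_tmul, Algebra.smul_def, mul_one]
        rfl⟩
  subst hQP
  rw [← Ideal.map_comap_of_surjective _ hsurj Q]
  refine (Ideal.map_eq_top_or_isMaximal_of_surjective _ hsurj ‹_›).resolve_left fun h => ?_
  rw [Ideal.map_comap_of_surjective _ hsurj Q] at h
  exact Ideal.IsPrime.ne_top ‹Q.IsPrime› h

theorem resData_smooth_max {R : Type u} [CommRing R] [IsLocalRing R] {ω : Dual.D R}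
    (hω : Dual.IsDualizing R ω) (hn : Dual.IsNormalized R ω) (n : ℕ)
    (Q : Ideal (MvPolynomial (Fin n) R)) [Q.IsMaximal] (hQ : Q.under R = maximalIdeal R) :
    ResData ((DF (extA R (Localization.AtPrime Q))).obj ω) (maximalIdeal (Localization.AtPrime Q)) (n : ℤ) := by
  haveI := hω.isNoetherianRing
  set S := MvPolynomial (Fin n) R
  let C := Localization.AtPrime Q
  set p := maximalIdeal R with hp
  haveI : Module.Flat S C := IsLocalization.flat C Q.primeCompl
  haveI : Module.Flat R C := Module.Flat.trans R S C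
  haveI : IsNoetherianRing C := IsLocalization.isNoetherianRing Q.primeCompl _ inferInstance
  obtain ⟨d, hd, hR⟩ := exists_resData_flat hω C p fun s hsp =>
    (show IsUnit s from not_not.1 hsp).map _
  have hd0 : d = 0 := by
    by_contra h
    haveI : Subsingleton (LC17.GM ω (ModuleCat.of R (R ⧸ p)) d) := hn d h
    exact Ideal.IsMaximal.ne_top inferInstance (top_le_iff.1 ((subsingleton_gm_iff.1 this) ▸ hd))
  subst hd0
  have hex : ∀ (p' : Ideal R) [p'.IsPrime], Q.under R = p' → ∃ (Q' : Ideal (p'.Fiber S)) (_ : Q'.IsPrime),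
      Q'.comap (Algebra.TensorProduct.includeRight : S →ₐ[R] p'.Fiber S) = Q := by
    rintro _ _ rfl
    exact CAlg1.exists_fibre_prime (R := R) Q
  obtain ⟨Q', hQ', hQP⟩ := hex p hQ
  haveI := hQ'
  haveI : Q'.IsMaximal := isMaximal_fibre p Q' Q hQP
  let e : p.Fiber S ≃+* MvPolynomial (Fin n) p.ResidueField :=
    (MvPolynomial.algebraTensorAlgEquiv R p.ResidueField).toRingEquiv
  haveI : IsRegularLocalRing (C ⧸ p.map (algebraMap R C)) :=
    regular_fibre_local (fun q _ => haveI : Algebra.Smooth R S := ⟨inferInstance, inferInstance⟩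
      FlatMor67.isRegularRing_of_smooth q.ResidueField _) p Q' Q hQP hQ.symm
  have hdim : ringKrullDim (C ⧸ p.map (algebraMap R C)) = (n : ℕ∞) := by
    rw [dim_fibre_quotient p Q' Q hQP hQ.symm, ← RingEquiv.height_map e Q']
    haveI : (Q'.map e).IsMaximal := Ideal.map_isMaximal_of_equiv e
    rw [height_maximal_mvPolynomial]
  have := resData_maximal n _ 0 inferInstance hdim hR
  rwa [zero_add] at this

theorem normalized_localization {A : Type u} [CommRing A] {ω : Dual.D A} (hω : Dual.IsDualizing A ω)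
    (m : Ideal A) [m.IsMaximal] (hv : ∀ i : ℤ, i ≠ 0 → Subsingleton (Dual.inD A (A ⧸ m) ⟶ ω⟦i⟧)) :
    Dual.IsNormalized (Localization.AtPrime m) ((DF (extA A (Localization.AtPrime m))).obj ω) := by
  intro i hi
  haveI := hω.isNoetherianRing
  obtain ⟨a, b, hab, -⟩ := exists_bounds hω
  haveI : Module.Flat A (Localization.AtPrime m) := IsLocalization.flat _ m.primeCompl
  obtain ⟨e'⟩ := exists_inD_quotient_iso (Localization.AtPrime m) m
  rw [Localization.AtPrime.map_eq_maximalIdeal] at e'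
  exact @Equiv.subsingleton _ _ (Iso.homFromEquiv e').symm
    (subsingleton_hom_DF (Localization.AtPrime m) (pc_inD (A ⧸ m)) (c := a) (fun k hk => hab k (Or.inl hk)) i (hv i hi))

theorem residue_degree_poly {R : Type u} [CommRing R] [IsLocalRing R] {ω : Dual.D R}
    (hω : Dual.IsDualizing R ω) (hn : Dual.IsNormalized R ω) (n : ℕ)
    (Q : Ideal (MvPolynomial (Fin n) R)) [Q.IsMaximal] (hQ : Q.under R = maximalIdeal R) :
    (∀ i : ℤ, i ≠ n → Subsingleton (Dual.inD (MvPolynomial (Fin n) R) (MvPolynomial (Fin n) R ⧸ Q) ⟶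
      ((DF (extA R (MvPolynomial (Fin n) R))).obj ω)⟦i⟧)) ∧
    Nonempty ((Dual.inD (MvPolynomial (Fin n) R) (MvPolynomial (Fin n) R ⧸ Q) ⟶
      ((DF (extA R (MvPolynomial (Fin n) R))).obj ω)⟦(n : ℤ)⟧) ≃ₗ[MvPolynomial (Fin n) R]
        (MvPolynomial (Fin n) R ⧸ Q)) := by
  haveI := hω.isNoetherianRing
  haveI : Algebra.Smooth R (MvPolynomial (Fin n) R) := ⟨inferInstance, inferInstance⟩
  have hP := isDualizing_smooth hω (MvPolynomial (Fin n) R)
  obtain ⟨d, hv, hd⟩ := ext_residue_single Q hP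
  suffices hdn : d = n by subst hdn; exact ⟨hv, hd⟩
  by_contra hne
  let C := Localization.AtPrime Q
  haveI : Module.Flat (MvPolynomial (Fin n) R) C := IsLocalization.flat C Q.primeCompl
  haveI : Module.Flat R C := Module.Flat.trans R (MvPolynomial (Fin n) R) C
  obtain ⟨a, b, hab, -⟩ := exists_bounds hP
  obtain ⟨-, ⟨eC⟩⟩ := resData_smooth_max hω hn n Q hQ
  obtain ⟨e⟩ := DF_comp (MvPolynomial (Fin n) R) C ω
  obtain ⟨e'⟩ := exists_inD_quotient_iso C Q
  rw [Localization.AtPrime.map_eq_maximalIdeal] at e'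
  have h0 := subsingleton_hom_DF C (pc_inD (MvPolynomial (Fin n) R ⧸ Q)) (c := a)
    (fun k hk => hab k (Or.inl hk)) (n : ℤ) (hv n (fun h => hne h.symm))
  haveI : Subsingleton (Dual.inD C (C ⧸ maximalIdeal C) ⟶ ((DF (extA R C)).obj ω)⟦(n : ℤ)⟧) :=
    @Equiv.subsingleton _ _ (Iso.homCongr e' ((CategoryTheory.shiftFunctor (Dual.D C) (n : ℤ)).mapIso e)).symm h0
  haveI : Nontrivial (C ⧸ maximalIdeal C) := Ideal.Quotient.nontrivial_iff.2 (Ideal.IsMaximal.ne_top inferInstance)
  exact not_subsingleton (C ⧸ maximalIdeal C) eC.symm.toEquiv.subsingleton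

theorem normalized_shriek {R A : Type u} [CommRing R] [CommRing A] [IsNoetherianRing A] [IsLocalRing R]
    [Algebra R A] (n : ℕ) [alg : Algebra (MvPolynomial (Fin n) R) A] [IsScalarTower R (MvPolynomial (Fin n) R) A]
    (hs : Function.Surjective (algebraMap (MvPolynomial (Fin n) R) A))
    (Rψ : Dual.D (MvPolynomial (Fin n) R) ⥤ Dual.D A)
    (adj : DRing.restrictD (algebraMap (MvPolynomial (Fin n) R) A) ⊣ Rψ)
    (m : Ideal A) [m.IsMaximal] (hm : m.comap (algebraMap R A) = maximalIdeal R)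
    {ω : Dual.D R} (hω : Dual.IsDualizing R ω) (hn : Dual.IsNormalized R ω) :
    ∀ i : ℤ, i ≠ 0 → Subsingleton (Dual.inD A (A ⧸ m) ⟶
      ((Rψ.obj ((DF (extA R (MvPolynomial (Fin n) R))).obj ω))⟦(n : ℤ)⟧)⟦i⟧) := by
  intro i hi
  haveI := hω.isNoetherianRing
  haveI : Module.Finite (MvPolynomial (Fin n) R) A :=
    Module.Finite.of_surjective (Algebra.linearMap (MvPolynomial (Fin n) R) A) hs
  haveI : (m.comap (algebraMap (MvPolynomial (Fin n) R) A)).IsMaximal :=
    Ideal.comap_isMaximal_of_surjective _ hs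
  obtain ⟨hv, ⟨hd⟩⟩ := residue_degree_poly hω hn n (m.comap (algebraMap (MvPolynomial (Fin n) R) A))
    (by rw [← hm, IsScalarTower.algebraMap_eq R (MvPolynomial (Fin n) R) A, ← Ideal.comap_comap])
  exact @Equiv.subsingleton _ _ (Iso.homToEquiv ((shiftFunctorAdd' (Dual.D A) (n : ℤ) i ((n : ℤ) + i) rfl).app
    (Rψ.obj ((DF (extA R (MvPolynomial (Fin n) R))).obj ω))).symm)
      ((residue_right adj m hv hd).1 ((n : ℤ) + i) (by omega))

end Groth.Agent.DR39
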