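import Groth.Agent.DR39.ShriekFlatTA
import Groth.Agent.E4O.BaseChangeDim
import Groth.Agent.DR39.Dualizing2
import Groth.Agent.DR39.FiniteRight

/-! Fibre bounds and fibrewise duality for the relative dualizing complex. -/

set_option autoImplicit false
set_option linter.style.haveILetI false
set_option linter.unusedSectionVars false
set_option backward.isDefEq.respectTransparency false

universe u

open CategoryTheory CategoryTheory.Limits TensorProduct

attribute [local instance] HasDerivedCategory.standard Algebra.TensorProduct.rightAlgebra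
  Groth.Agent.Shriek42.hasLB

namespace Groth.Agent.DR39.ShriekFlat

section Fibre

open AlgebraicGeometry

variable {R A : Type u} [CommRing R] [CommRing A] [Algebra R A] [Algebra.FiniteType R A]

theorem fibreDimAt_bc_le (R' : Type u) [CommRing R'] [Algebra R R'] (q' : PrimeSpectrum (R' ⊗[R] A)) :
    ∃ (q : PrimeSpectrum A) (d' : ℕ),
      FlatMor.fibreDimAt (Spec.map (CommRingCat.ofHom (algebraMap R' (R' ⊗[R] A)))) q' = (d' : WithBot ℕ∞) ∧
      (d' : WithBot ℕ∞) ≤ FlatMor.fibreDimAt (Spec.map (CommRingCat.ofHom (algebraMap R A))) q := by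
  let f := Spec.map (CommRingCat.ofHom (algebraMap R A))
  let g := Spec.map (CommRingCat.ofHom (algebraMap R' (R' ⊗[R] A)))
  let p := Spec.map (CommRingCat.ofHom (Algebra.TensorProduct.includeRight : A →ₐ[R] R' ⊗[R] A).toRingHom)
  have hsq : IsPullback g p (Spec.map (CommRingCat.ofHom (algebraMap R R'))) f :=
    isPullback_SpecMap_of_isPushout _ _ _ _ (CommRingCat.isPushout_tensorProduct R R' A)
  haveI : LocallyOfFiniteType f :=
    (HasRingHomProperty.Spec_iff (P := @LocallyOfFiniteType)).2 (RingHom.finiteType_algebraMap.2 ‹_›)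
  haveI : LocallyOfFiniteType g :=
    (HasRingHomProperty.Spec_iff (P := @LocallyOfFiniteType)).2 (RingHom.finiteType_algebraMap.2 inferInstance)
  obtain ⟨z, hz, hgz, hd, -, -⟩ := E4O.exists_fibreDimAt_eq g q'
  refine ⟨p q', E4O.fdeg g z, hd, ?_⟩
  have h1 : E4O.fdeg g z ≤ E4O.fdeg f (p z) := E4O.fdeg_le_of_isPullback hsq.flip z
  have h2 : f (p z) = f (p q') := by
    have hc : ∀ t, f (p t) = Spec.map (CommRingCat.ofHom (algebraMap R R')) (g t) := fun t => by
      rw [← Scheme.Hom.comp_apply, ← Scheme.Hom.comp_apply, hsq.w]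
    rw [hc, hc, hgz]
  have h3 := E4O.fdeg_le_fibreDimAt (f := f) (x := p q') (z := p z) (hz.map p.continuous) h2
  exact le_trans (by exact_mod_cast h1) h3

end Fibre

variable {R A : Type u} [CommRing R] [CommRing A] [Algebra R A]

theorem subsingleton_of_localized {M : Type u} [AddCommGroup M] [Module A M]
    (h : ∀ q : PrimeSpectrum A, ¬ Nontrivial (LocalizedModule q.asIdeal.primeCompl M)) : Subsingleton M :=
  Module.support_eq_empty_iff.1 (Set.eq_empty_iff_forall_notMem.2 fun q hq => h q (Module.mem_support_iff.1 hq))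

variable [IsNoetherianRing R] [Module.Flat R A]

/-- Tor amplitude of the relative dualizing complex from a bound on the fibre dimensions. -/
theorem ta_of_fibreDim (n : ℕ) (ψ : MvPolynomial (Fin n) R →ₐ[R] A) (hψ : Function.Surjective ψ)
    [DRing.HasLBaseChange (algebraMap R (MvPolynomial (Fin n) R))]
    (Rψ : Dual.D (MvPolynomial (Fin n) R) ⥤ Dual.D A) (adj : DRing.restrictD ψ.toRingHom ⊣ Rψ) (d : ℕ)
    (hd : ∀ q : PrimeSpectrum A, FlatMor.fibreDimAt
      (AlgebraicGeometry.Spec.map (CommRingCat.ofHom (algebraMap R A))) q ≤ (d : WithBot ℕ∞)) :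
    DRing.HasTorAmplitudeIn R (-(d : ℤ)) 0
      ((DRing.restrictD (algebraMap R A)).obj (Dual2.shriekVia n Rψ (Dual.inD R R))) := by
  haveI : Algebra.FiniteType R A := Algebra.FiniteType.of_surjective ψ hψ
  refine ta_restrict n ψ hψ Rψ adj _ fun I ψ' hψ' i hi => subsingleton_of_localized (A := (R ⧸ I) ⊗[R] A) fun q' hq' => ?_
  obtain ⟨q, d', h1, h2⟩ := fibreDimAt_bc_le (R ⧸ I) q'
  have h3 := shriekVia_self_lower n ψ' hψ' _ (Shriek42.rightDAdj ψ'.toRingHom) q' d' h1 i hq'
  have h4 : d' ≤ d := by exact_mod_cast h2.trans (hd q)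
  omega

/-- The relative dualizing complex has finite tor dimension over the base. -/
theorem finiteTor (n : ℕ) (ψ : MvPolynomial (Fin n) R →ₐ[R] A) (hψ : Function.Surjective ψ)
    [DRing.HasLBaseChange (algebraMap R (MvPolynomial (Fin n) R))]
    (Rψ : Dual.D (MvPolynomial (Fin n) R) ⥤ Dual.D A) (adj : DRing.restrictD ψ.toRingHom ⊣ Rψ) :
    DRing.HasTorAmplitudeIn R (-(n : ℤ)) 0
      ((DRing.restrictD (algebraMap R A)).obj (Dual2.shriekVia n Rψ (Dual.inD R R))) := by
  refine ta_restrict n ψ hψ Rψ adj _ fun I ψ' hψ' i hi => ?_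
  let P' := MvPolynomial (Fin n) (R ⧸ I)
  letI := ψ'.toRingHom.toAlgebra
  haveI : Module.Finite P' ((R ⧸ I) ⊗[R] A) := Module.Finite.of_surjective (Algebra.linearMap P' _) hψ'
  obtain ⟨e⟩ := nonempty_self (A := (R ⧸ I) ⊗[R] A) n (Shriek42.rightD ψ'.toRingHom)
  refine (isZero_HF_iff _ i).1 (IsZero.of_iso ?_ ((HF _ i).mapIso e ≪≫
    ((DerivedCategory.homologyFunctor (ModuleCat.{u} ((R ⧸ I) ⊗[R] A)) 0).shiftIso (n : ℤ) i (n + i) rfl).app _))
  exact Shriek42.isGE_right (Shriek42.rightDAdj ψ'.toRingHom) (Dual.inD P' P') 0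
    (fun j hj => DerivedCategory.isZero_of_isGE _ 0 j hj) _ (by omega)

/-- The relative dualizing complex has only scalar endomorphisms. -/
theorem toEnd (n : ℕ) (ψ : MvPolynomial (Fin n) R →ₐ[R] A) (hψ : Function.Surjective ψ)
    [DRing.HasLBaseChange (algebraMap R (MvPolynomial (Fin n) R))]
    (Rψ : Dual.D (MvPolynomial (Fin n) R) ⥤ Dual.D A) (adj : DRing.restrictD ψ.toRingHom ⊣ Rψ) :
    Function.Bijective (fun a : A => a • 𝟙 (Dual2.shriekVia n Rψ (Dual.inD R R))) ∧
      ∀ i : ℤ, i ≠ 0 → Subsingleton (Dual2.shriekVia n Rψ (Dual.inD R R) ⟶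
        (Dual2.shriekVia n Rψ (Dual.inD R R))⟦i⟧) := by
  letI := ψ.toRingHom.toAlgebra
  haveI := tower n ψ
  obtain ⟨hb, hs⟩ := TorBC.toEnd_right hψ (perfect_presentation n hψ).1 adj
  obtain ⟨e⟩ := nonempty_self (A := A) n Rψ
  constructor
  · have hb' : Function.Bijective (fun a : A => a •
        𝟙 ((Rψ.obj (Dual.inD (MvPolynomial (Fin n) R) (MvPolynomial (Fin n) R)))⟦(n : ℤ)⟧)) := by
      have : (fun a : A => a • 𝟙 ((Rψ.obj (Dual.inD (MvPolynomial (Fin n) R)
          (MvPolynomial (Fin n) R)))⟦(n : ℤ)⟧)) = (shiftFunctor (Dual.D A) (n : ℤ)).map ∘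
          (fun a : A => a • 𝟙 _) := by
        funext a; simp [Functor.map_smul]
      rw [this]
      exact ((Functor.FullyFaithful.ofFullyFaithful (shiftFunctor (Dual.D A) (n : ℤ))).map_bijective _ _).comp hb
    have : (fun a : A => a • 𝟙 (Dual2.shriekVia n Rψ (Dual.inD R R))) =
        e.symm.conj ∘ (fun a : A => a • 𝟙 _) := by
      funext a
      simp only [Function.comp_apply, Iso.conj_apply, Iso.symm_inv, Iso.symm_hom]
      rw [Linear.smul_comp, Category.id_comp, Linear.comp_smul, e.hom_inv_id]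
    rw [this]
    exact e.symm.conj.bijective.comp hb'
  · intro i hi
    refine @Equiv.subsingleton _ _
      ((Iso.homCongr e ((shiftFunctor (Dual.D A) i).mapIso e ≪≫ (shiftFunctorComm (Dual.D A) (n : ℤ) i).app _)).trans
        (Equiv.ofBijective _ ((Functor.FullyFaithful.ofFullyFaithful
          (shiftFunctor (Dual.D A) (n : ℤ))).map_bijective _ _)).symm) (hs i hi)

/-- The fibres of the relative dualizing complex are dualizing. -/
theorem isDualizing_fibre (n : ℕ) (ψ : MvPolynomial (Fin n) R →ₐ[R] A) (hψ : Function.Surjective ψ)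
    [DRing.HasLBaseChange (algebraMap R (MvPolynomial (Fin n) R))]
    (Rψ : Dual.D (MvPolynomial (Fin n) R) ⥤ Dual.D A) (adj : DRing.restrictD ψ.toRingHom ⊣ Rψ)
    (k : Type u) [Field k] [Algebra R k]
    [DRing.HasLBaseChange (Algebra.TensorProduct.includeRight : A →ₐ[R] k ⊗[R] A).toRingHom] :
    Dual.IsDualizing (k ⊗[R] A)
      ((DRing.LBaseChange (Algebra.TensorProduct.includeRight : A →ₐ[R] k ⊗[R] A).toRingHom).obj
        (Dual2.shriekVia n Rψ (Dual.inD R R))) := by
  obtain ⟨ψ', hψ'⟩ := exists_presentation_bc k n ψ hψ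
  let P' := MvPolynomial (Fin n) k
  letI := ψ'.toRingHom.toAlgebra
  haveI : Module.Finite P' (k ⊗[R] A) := Module.Finite.of_surjective (Algebra.linearMap P' _) hψ'
  haveI : IsNoetherianRing (k ⊗[R] A) := isNoetherianRing_of_surjective P' _ ψ'.toRingHom hψ'
  obtain ⟨eb⟩ := shriek_baseChange k n ψ hψ Rψ adj n ψ' hψ' _ (Shriek42.rightDAdj ψ'.toRingHom)
  obtain ⟨e⟩ := nonempty_self (A := k ⊗[R] A) n (Shriek42.rightD ψ'.toRingHom)
  exact isDualizing_of_iso (isDualizing_shift (isDualizing_right (Shriek42.rightDAdj ψ'.toRingHom)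
    (isDualizing_self_of_gldim n fun M _ _ => gldim_mvPolynomial k n M)) _) (eb ≪≫ e).symm

end Groth.Agent.DR39.ShriekFlat
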