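import Groth.Agent.DR39.CMLocus
import Groth.Agent.DR39.NormShriek
import Groth.Agent.DR39.ShriekFlat2
import Groth.Agent.CAlgH2.LocalDimField

/-! Cohen–Macaulay equidimensional algebras over a field and their dualizing complexes. -/

set_option autoImplicit false
set_option linter.style.haveILetI false
set_option linter.unusedSectionVars false
set_option backward.isDefEq.respectTransparency false

universe u

open CategoryTheory CategoryTheory.Limits IsLocalRing
open scoped TensorProduct

attribute [local instance] HasDerivedCategory.standard Groth.Agent.Shriek42.hasLB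

namespace Groth.Agent.DR39.FieldCM

variable (k : Type u) [Field k] {B : Type u} [CommRing B] [Algebra k B] [Algebra.FiniteType k B]

theorem coheight_eq_trdegQuot (Q : PrimeSpectrum B) :
    Order.coheight Q = (CAlgH2.trdegQuot k Q.asIdeal : ℕ∞) := by
  haveI : Algebra.FiniteType k (B ⧸ Q.asIdeal) :=
    Algebra.FiniteType.of_surjective (Ideal.Quotient.mkₐ k Q.asIdeal) Ideal.Quotient.mk_surjective
  have h : ((Order.coheight Q : ℕ∞) : WithBot ℕ∞) = ringKrullDim (B ⧸ Q.asIdeal) := by
    rw [Order.coheight_eq_krullDim_Ici, ringKrullDim_quotient]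
    exact Order.krullDim_eq_of_orderIso (OrderIso.setCongr _ _ rfl)
  rw [E4O.ringKrullDim_eq_trdeg k] at h
  exact WithBot.coe_injective h

variable {ω : Dual.D B} (hω : Dual.IsDualizing B ω) (hres : ∀ m : Ideal B, m.IsMaximal → Mu ω m 0)
include k hω hres

theorem mu_eq (Q : Ideal B) [hQ : Q.IsPrime] {i : ℤ} (h : Mu ω Q i) : i = -(CAlgH2.trdegQuot k Q : ℤ) := by
  haveI := hω.isNoetherianRing
  induction he : CAlgH2.trdegQuot k Q using Nat.strong_induction_on generalizing Q i with
  | _ e ih =>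
    obtain ⟨m, hm, hQm⟩ := Ideal.exists_le_maximal Q hQ.ne_top
    by_cases hQeq : Q = m
    · subst hQeq
      rw [CAlgH2.trdegQuot_maximal] at he
      subst he
      simpa using mu_unique hω Q h (hres Q hm)
    obtain ⟨x, hxm, hxQ⟩ := SetLike.exists_of_lt (lt_of_le_of_ne hQm hQeq)
    obtain ⟨r, hr, hrm⟩ := Ideal.exists_minimalPrimes_le (I := Q ⊔ Ideal.span {x}) (J := m)
      (sup_le hQm ((Ideal.span_singleton_le_iff_mem _).2 hxm))
    haveI : r.IsPrime := hr.1.1
    have hQr : Q ≤ r := le_trans le_sup_left hr.1.2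
    have hxr : x ∈ r := hr.1.2 (Submodule.mem_sup_right (Ideal.mem_span_singleton_self x))
    have hstep := Mu.step hω h hxr hxQ hQr hr
    have h1 := CAlgH2.height_add_trdegQuot k Q r hQr
    have h2 : (r.map (Ideal.Quotient.mk Q)).height ≤ 1 := Ideal.map_height_le_one_of_mem_minimalPrimes hr
    haveI := Ideal.isPrime_map_quotientMk_of_isPrime hQr
    have h3 : (r.map (Ideal.Quotient.mk Q)).height ≠ 0 := fun h0 => by
      rw [Ideal.height_eq_zero_iff, IsDomain.minimalPrimes_eq_singleton_bot] at h0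
      exact hxQ (Ideal.Quotient.eq_zero_iff_mem.1 (Ideal.mem_bot.1
        ((Set.mem_singleton_iff.1 h0) ▸ Ideal.mem_map_of_mem _ hxr)))
    rw [he] at h1
    generalize (r.map (Ideal.Quotient.mk Q)).height = H at h1 h2 h3
    cases H with
    | top => simp at h2
    | coe H =>
      have hH : H = 1 := by
        have a1 : H ≤ 1 := by exact_mod_cast h2
        have a2 : H ≠ 0 := by exact_mod_cast h3
        omega
      have h4 : H + CAlgH2.trdegQuot k r = e := by exact_mod_cast h1
      have := ih _ (show CAlgH2.trdegQuot k r < e by omega) r hstep rfl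
      omega

theorem exists_degree_minimal (Q : PrimeSpectrum B) (hQ : IsMin Q) :
    LC17.gAnn ω (ModuleCat.of B B) (-(CAlgH2.trdegQuot k Q.asIdeal : ℤ)) ≤ Q.asIdeal := by
  haveI := hω.isNoetherianRing
  obtain ⟨i, hi, -⟩ := HD_minimalPrime_single_degree hω Q hQ
  have hi' := (nontrivial_localized_HD_iff hω i Q).1 hi
  obtain ⟨r, -, hrk, hrq⟩ := exists_prime_of_gAnn_le hω Q.asIdeal i B hi'
  obtain rfl : r = Q := le_antisymm hrq (hQ hrq)
  rwa [← mu_eq k hω hres r.asIdeal hrk]

theorem cm_equidim_iff (n : ℕ) :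
    (LocCoh.IsCohenMacaulayRing B ∧ ∀ Q : PrimeSpectrum B, Q.asIdeal ∈ minimalPrimes B →
      Order.coheight Q = (n : ℕ∞)) ↔ ∀ i : ℤ, i ≠ -(n : ℤ) → IsZero ((HF B i).obj ω) := by
  haveI := hω.isNoetherianRing
  constructor
  · rintro ⟨hcm, hdim⟩ i hi
    refine isZero_HF_of_ext_ring (X := ω) (n := i) (subsingleton_gm_iff.2 ?_)
    by_contra hne
    obtain ⟨p, hp, hle⟩ := Ideal.exists_le_maximal _ hne
    obtain ⟨Q, hQ, hQp⟩ := Ideal.exists_minimalPrimes_le (I := (⊥ : Ideal B)) (J := p) bot_le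
    haveI : Q.IsPrime := hQ.1.1
    have hmin : IsMin (⟨Q, inferInstance⟩ : PrimeSpectrum B) := fun r hr => hQ.2 ⟨r.2, bot_le⟩ hr
    have h0 := exists_degree_minimal k hω hres ⟨Q, inferInstance⟩ hmin
    have hn : CAlgH2.trdegQuot k Q = n := by
      have := hdim ⟨Q, inferInstance⟩ hQ
      rw [coheight_eq_trdegQuot k] at this
      exact_mod_cast this
    rw [hn] at h0
    exact hi ((cm_ring_atPrime_iff hω p).1 (hcm.isCohenMacaulayLocalRing_localization p) i _ hle (h0.trans hQp))
  · intro h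
    refine ⟨isCohenMacaulayRing_of_single_degree hω h, fun Q hQ => ?_⟩
    have hmin : IsMin Q := fun r hr => hQ.2 ⟨r.2, bot_le⟩ hr
    have h0 := exists_degree_minimal k hω hres Q hmin
    rw [coheight_eq_trdegQuot k]
    by_contra hne
    have hz : (-(CAlgH2.trdegQuot k Q.asIdeal : ℤ)) ≠ -(n : ℤ) := fun he => hne (by
      have : CAlgH2.trdegQuot k Q.asIdeal = n := by omega
      rw [this])
    haveI := ModuleCat.subsingleton_of_isZero (h _ hz)
    have hs : Subsingleton (Dual.inD B B ⟶ ω⟦(-(CAlgH2.trdegQuot k Q.asIdeal : ℤ))⟧) :=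
      (gmSelfEquiv ω _).toEquiv.subsingleton
    rw [subsingleton_gm_iff.1 hs] at h0
    exact Q.2.ne_top (top_le_iff.1 h0)

end Groth.Agent.DR39.FieldCM

namespace Groth.Agent.DR39.FieldCM

variable {k : Type u} [Field k] {B : Type u} [CommRing B] [Algebra k B] (N : ℕ)
  (ψ : MvPolynomial (Fin N) k →ₐ[k] B) (hψ : Function.Surjective ψ)
  (Rψ : Dual.D (MvPolynomial (Fin N) k) ⥤ Dual.D B) (adj : DRing.restrictD ψ.toRingHom ⊣ Rψ)
include hψ adj

/-- The shriek of a field is dualizing and normalized at every closed point. -/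
theorem shriek_normalized : Dual.IsDualizing B (Dual2.shriekVia N Rψ (Dual.inD k k)) ∧
    ∀ m : Ideal B, m.IsMaximal → Mu (Dual2.shriekVia N Rψ (Dual.inD k k)) m 0 := by
  let P := MvPolynomial (Fin N) k
  letI : Algebra P B := ψ.toRingHom.toAlgebra
  haveI : IsScalarTower k P B := ShriekFlat.tower N ψ
  haveI : Module.Finite P B := Module.Finite.of_surjective (Algebra.linearMap P B) hψ
  haveI : IsNoetherianRing B := isNoetherianRing_of_surjective P _ ψ.toRingHom hψ
  obtain ⟨e⟩ := ShriekFlat.nonempty_self (A := B) N Rψ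
  have hd : Dual.IsDualizing B (Dual2.shriekVia N Rψ (Dual.inD k k)) :=
    isDualizing_of_iso (isDualizing_shift (isDualizing_right adj
      (isDualizing_self_of_gldim N fun M _ _ => gldim_mvPolynomial k N M)) _) e.symm
  refine ⟨hd, fun m hm => ?_⟩
  haveI := hm
  have hk : Dual.IsDualizing k (Dual.inD k k) := isDualizing_self_of_gldim 0 fun M _ _ =>
    haveI : Projective (ModuleCat.of k M) := (IsProjective.iff_projective (R := k) _).1 inferInstance
    inferInstance
  have hn : Dual.IsNormalized k (Dual.inD k k) := by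
    intro i hi
    by_contra hne
    have hm0 : Mu (Dual.inD k k) (maximalIdeal k) i := le_maximalIdeal fun htop => hne (subsingleton_gm_iff.2 htop)
    have h0 : Mu (Dual.inD k k) (maximalIdeal k) 0 := le_maximalIdeal fun htop => by
      haveI := subsingleton_gm_iff.2 htop
      have e0 : (maximalIdeal k) = ⊥ := IsLocalRing.maximalIdeal_eq_bot
      haveI : Subsingleton (Dual.inD k k ⟶ (Dual.inD k k)⟦(0 : ℤ)⟧) :=
        @Equiv.subsingleton _ _ (Iso.homFromEquiv ((DerivedCategory.singleFunctor (ModuleCat.{u} k) 0).mapIso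
          (Submodule.quotEquivOfEqBot _ e0).toModuleIso)).symm
          (inferInstance : Subsingleton (Dual.inD k (k ⧸ maximalIdeal k) ⟶ (Dual.inD k k)⟦(0 : ℤ)⟧))
      have hsub : Subsingleton (Dual.HD k (Dual.inD k k) 0) := (gmSelfEquiv (Dual.inD k k) 0).symm.toEquiv.subsingleton
      exact not_subsingleton k
        (@Equiv.subsingleton _ _ ((DerivedCategory.singleFunctorCompHomologyFunctorIso (ModuleCat.{u} k) 0).app
          (ModuleCat.of k k)).symm.toLinearEquiv.toEquiv hsub)
    exact hi (mu_unique hk (maximalIdeal k) hm0 h0)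
  have hcomap : m.comap (algebraMap k B) = maximalIdeal k := by
    rw [IsLocalRing.maximalIdeal_eq_bot]
    exact (Ideal.eq_bot_or_top _).resolve_right (Ideal.IsPrime.ne_top (Ideal.IsPrime.comap _))
  obtain ⟨eP⟩ := rep_inD_baseChange (A := k) (B := P) k
  let e' : Dual2.shriekVia N Rψ (Dual.inD k k) ≅ (Rψ.obj ((DF (extA k P)).obj (Dual.inD k k)))⟦(N : ℤ)⟧ :=
    e ≪≫ (shiftFunctor _ (N : ℤ)).mapIso (Rψ.mapIso (eP ≪≫ (DerivedCategory.singleFunctor (ModuleCat.{u} P) 0).mapIso
      (TensorProduct.AlgebraTensorModule.rid k P P).toModuleIso).symm)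
  obtain ⟨i, hi⟩ := exists_mu hd m
  suffices i = 0 by subst this; exact hi
  by_contra hne
  have hs : Subsingleton (Dual.inD B (B ⧸ m) ⟶ (Dual2.shriekVia N Rψ (Dual.inD k k))⟦i⟧) :=
    @Equiv.subsingleton _ _ (Iso.homToEquiv ((shiftFunctor (Dual.D B) i).mapIso e'))
      (normalized_shriek (R := k) (A := B) N hψ Rψ adj m hcomap hk hn i hne)
  have htop := subsingleton_gm_iff.1 hs
  have hi' : LC17.gAnn (Dual2.shriekVia N Rψ (Dual.inD k k)) (ModuleCat.of B (B ⧸ m)) i ≤ m := hi
  rw [htop] at hi'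
  exact hm.ne_top (top_le_iff.1 hi')

end Groth.Agent.DR39.FieldCM
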