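import Groth.Agent.DR39.Gamma
import Groth.Agent.DR39.FinLen
import Groth.Agent.DR39.Unique
import Groth.Agent.InjHull18.Torsion
import Groth.Agent.InjHull18.Matlis
import Groth.Agent.Gor18.SopHull

/-! Local duality. -/

set_option autoImplicit false
set_option linter.style.haveILetI false
set_option linter.unusedSectionVars false
set_option backward.isDefEq.respectTransparency false

universe u

open CategoryTheory CategoryTheory.Limits Opposite IsLocalRing
open CochainComplex CochainComplex.HomComplex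

attribute [local instance] HasDerivedCategory.standard

namespace Groth.Agent.DR39

variable {A : Type u} [CommRing A]

section Torsion

variable (I : Ideal A) (J : DRing.Cx A)

/-- the inclusion of the torsion sections -/
noncomputable def gIncl : gCx I J ⟶ J :=
  (NatTrans.mapHomologicalComplex (DRing.gammaIι I) (ComplexShape.up ℤ)).app J ≫
    ((Functor.mapHomologicalComplexIdIso (ModuleCat.{u} A) (ComplexShape.up ℤ)).hom.app J)

theorem gIncl_f (i : ℤ) (x : (gCx I J).X i) : ((gIncl I J).f i).hom x = (x : DRing.torsionSub I (J.X i)).1 := rfl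

theorem injective_gCx [IsNoetherianRing A] (hJ : ∀ i, INp (J.X i)) (i : ℤ) : INp ((gCx I J).X i) := by
  have h : Module.Injective A ↥(⨆ n : ℕ, Submodule.torsionBySet A (J.X i) ((I ^ n : Ideal A) : Set A)) :=
    InjHull18.injective_gamma (hJ i) I
  have e : DRing.torsionSub I (J.X i) = ⨆ n : ℕ, Submodule.torsionBySet A (J.X i) ((I ^ n : Ideal A) : Set A) :=
    Submodule.ext fun x => InjHull18.mem_iSup_torsion.symm
  rw [← e] at h
  exact h

theorem isZero_gCx {i : ℤ} (h : IsZero (J.X i)) : IsZero ((gCx I J).X i) :=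
  (DRing.gammaI I).map_isZero h

variable (N : ModuleCat.{u} A)

theorem homCxMap_gIncl_bijective (hN : ∃ n : ℕ, ∀ a ∈ I ^ n, ∀ x : N, a • x = 0) (q : ℤ) :
    Function.Bijective ((DRing.homCxMap (sgl N) (gIncl I J)).f q).hom := by
  obtain ⟨n, hn⟩ := hN
  have key : ∀ (f : N ⟶ (gCx I J).X q), ((DRing.homCxMap (sgl N) (gIncl I J)).f q).hom
      (Cochain.fromSingleMk f (show (0 : ℤ) + q = q by omega)) =
        Cochain.fromSingleMk (f ≫ (gIncl I J).f q) (show (0 : ℤ) + q = q by omega) := fun f => by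
    show (Cochain.fromSingleMk f (show (0 : ℤ) + q = q by omega)).comp (Cochain.ofHom (gIncl I J)) (add_zero q) = _
    exact (Cochain.fromSingleMk_postcomp f _ (gIncl I J)).symm
  refine ⟨fun x y hxy => ?_, fun z => ?_⟩
  · obtain ⟨f, rfl⟩ := Cochain.fromSingleMk_surjective x q (show (0 : ℤ) + q = q by omega)
    obtain ⟨g, rfl⟩ := Cochain.fromSingleMk_surjective y q (show (0 : ℤ) + q = q by omega)
    rw [key, key] at hxy
    have h2 := congrArg (Cochain.fromSingleEquiv (show (0 : ℤ) + q = q by omega)) hxy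
    rw [Cochain.fromSingleEquiv_fromSingleMk, Cochain.fromSingleEquiv_fromSingleMk] at h2
    congr 1
    exact ModuleCat.hom_ext (LinearMap.ext fun v => Subtype.ext (congrArg (fun φ : N ⟶ J.X q => φ.hom v) h2))
  · obtain ⟨f, rfl⟩ := Cochain.fromSingleMk_surjective (show Cochain (sgl N) J q from z) q (show (0 : ℤ) + q = q by omega)
    refine ⟨Cochain.fromSingleMk (ModuleCat.ofHom (X := N) (Y := (gCx I J).X q)
      (f.hom.codRestrict (DRing.torsionSub I (J.X q)) fun v => ⟨n, fun a ha => by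
        rw [← map_smul, hn a ha, map_zero]⟩)) (show (0 : ℤ) + q = q by omega), ?_⟩
    rw [key]
    rfl

theorem gm_torsion_equiv [J.IsKInjective] [(gCx I J).IsKInjective] (hN : ∃ n : ℕ, ∀ a ∈ I ^ n, ∀ x : N, a • x = 0)
    (i : ℤ) : Nonempty (LC17.GM ((QA A).obj (gCx I J)) N i ≃ₗ[A] LC17.GM ((QA A).obj J) N i) := by
  haveI : ∀ q, IsIso ((DRing.homCxMap (sgl N) (gIncl I J)).f q) := fun q =>
    (isIso_iff_bijective _).2 (homCxMap_gIncl_bijective I J N hN q)
  haveI : IsIso (DRing.homCxMap (sgl N) (gIncl I J)) := HomologicalComplex.Hom.isIso_of_components _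
  let c : ∀ (K : DRing.Cx A) [K.IsKInjective],
      LC17.GM ((QA A).obj K) N i ≃ₗ[A] (DRing.homCx (sgl N) K).homology i := fun K _ =>
    (CategoryTheory.Linear.homCongr A (sglQIso N).symm (((QA A).commShiftIso i).app K).symm).trans
      (homologyHomCxEquiv (sgl N) K i).symm
  exact ⟨(c (gCx I J)).trans ((asIso (HomologicalComplex.homologyMap
    (DRing.homCxMap (sgl N) (gIncl I J)) i)).toLinearEquiv.trans (c J).symm)⟩

end Torsion

section Hull

variable [IsLocalRing A] [IsNoetherianRing A]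

theorem pow_kills_finLen {N : Type u} [AddCommGroup N] [Module A N] (hN : IsFiniteLength A N) :
    ∃ n : ℕ, ∀ a ∈ maximalIdeal A ^ n, ∀ x : N, a • x = 0 := by
  have h := InjHull18.isPowerTorsion_of_isFiniteLength hN
  haveI := (isFiniteLength_iff_isNoetherian_isArtinian.1 hN).1
  obtain ⟨S, hS⟩ := (inferInstance : Module.Finite A N).fg_top
  choose k hk using fun x : N => h x
  refine ⟨S.sup k, fun a ha x => ?_⟩
  have hx : x ∈ Submodule.span A (S : Set N) := hS.symm ▸ Submodule.mem_top
  induction hx using Submodule.span_induction with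
  | mem y hy => exact hk y a (Ideal.pow_le_pow_right (Finset.le_sup hy) ha)
  | zero => exact smul_zero a
  | add y z _ _ hy hz => rw [smul_add, hy, hz, add_zero]
  | smul c y _ hy => rw [smul_comm, hy, smul_zero]

theorem gamma_dualModel (D : DualModel A) (hn : Dual.IsNormalized A ((QA A).obj D.I))
    (E : Type u) [AddCommGroup E] [Module A E] (f : ResidueField A →ₗ[A] E) (hf : InjHull.IsInjectiveHull f) :
    (∀ i : ℤ, i ≠ 0 → IsZero ((gCx (maximalIdeal A) D.I).homology i)) ∧
      Nonempty ((QA A).obj (gCx (maximalIdeal A) D.I) ≅ Dual.inD A E) := by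
  haveI := D.isKInjective
  set m := maximalIdeal A with hm
  set G := gCx m D.I with hG
  haveI : G.IsKInjective := isKInjective_of_rep G D.a (fun i hi => isZero_gCx m D.I (D.zero i (Or.inl hi)))
    (injective_gCx m D.I D.inj)
  have hω := D.dualizing
  have hfl : ∀ n : ℕ, IsFiniteLength A (A ⧸ m ^ n) := fun n => InjHull18.isFiniteLength_quotient_pow n
  have hz : ∀ i : ℤ, i ≠ 0 → IsZero (G.homology i) := fun i hi => by
    rw [ModuleCat.isZero_iff_subsingleton]
    refine subsingleton_of_forall_eq 0 fun y => ?_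
    obtain ⟨n, g, rfl⟩ := toΓ'_surj m D.I (Iso.refl _) i y
    haveI := finite_of_finLen hω hn (hfl n)
    haveI : Subsingleton (Dual.inD A (A ⧸ m ^ n) ⟶ ((QA A).obj D.I)⟦i⟧) :=
      subsingleton_gm_iff.2 (LC17.gAnn_finLen hω hn _ (hfl n) hi)
    rw [Subsingleton.elim g 0, map_zero]
  refine ⟨hz, ?_⟩
  let H : ModuleCat.{u} A := (HF A 0).obj ((QA A).obj G)
  obtain ⟨eG⟩ := exists_iso_single_homology ((QA A).obj G) 0 fun i hi => (isZero_HF_Q_iff G i).2 (hz i hi)
  -- torsion in `H` is computed by the dualizing complex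
  have htor : ∀ J : Ideal A, IsFiniteLength A (A ⧸ J) →
      Nonempty (↥(LocCoh.torsionBy J H) ≃ₗ[A] LC17.GM ((QA A).obj D.I) (ModuleCat.of A (A ⧸ J)) 0) := fun J hJ => by
    obtain ⟨g⟩ := gm_torsion_equiv m D.I (ModuleCat.of A (A ⧸ J)) (pow_kills_finLen hJ) 0
    let SF := DerivedCategory.singleFunctor (ModuleCat.{u} A) 0
    exact ⟨((InjHull18.homQuotientEquiv J H).symm.trans
      (ModuleCat.homLinearEquiv (S := A) (M := ModuleCat.of A (A ⧸ J)) (N := H)).symm).trans
      (((LinearEquiv.ofBijective (SF.mapLinearMap A (X := ModuleCat.of A (A ⧸ J)) (Y := H))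
        ⟨SF.map_injective, SF.map_surjective⟩).trans
        (CategoryTheory.Linear.homCongr A (Iso.refl _)
          (eG.symm ≪≫ ((CategoryTheory.shiftFunctorZero (Dual.D A) ℤ).app ((QA A).obj G)).symm))).trans g)⟩
  have hpt : LocCoh.IsPowerTorsion m H := fun y => by
    obtain ⟨x, hx⟩ := hcls_surjective G 0 ((HQIso G 0).hom.hom y)
    obtain ⟨n, hn'⟩ := (x.1 : DRing.torsionSub m (D.I.X 0)).2
    refine ⟨n, fun a ha => ?_⟩
    have hx0 : a • x = 0 := Subtype.ext (Subtype.ext (hn' a ha))
    apply (HQIso G 0).toLinearEquiv.injective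
    rw [map_zero, map_smul]
    show a • (HQIso G 0).hom.hom y = 0
    rw [← hx, ← map_smul, hx0, map_zero]
  have hsimple : IsSimpleModule A ↥(LocCoh.torsionBy m H) := by
    haveI : IsSimpleModule A (A ⧸ m) := isSimpleModule_iff_isCoatom.2 (Ideal.isMaximal_def.1 inferInstance)
    obtain ⟨t⟩ := htor m (isFiniteLength_iff_isNoetherian_isArtinian.2 ⟨inferInstance, inferInstance⟩)
    obtain ⟨t'⟩ := nonempty_gm_residue_equiv hω hn
    exact IsSimpleModule.congr (t.trans t')
  obtain ⟨f₀, hf₀⟩ := Gor18.exists_hull_of_length_le hpt hsimple (fun n => m ^ n) (fun n => ⟨n, le_rfl⟩)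
    (fun N => ⟨N, le_rfl⟩) fun n => by
      obtain ⟨t⟩ := htor (m ^ n) (hfl n)
      rw [t.length_eq, length_gm hω hn _ (hfl n)]
  obtain ⟨eE, -⟩ := InjHull18.hull_unique hf₀ hf
  exact ⟨eG ≪≫ (DerivedCategory.singleFunctor _ 0).mapIso eE.toModuleIso⟩

end Hull

section HomInj

variable (E : Type u) [AddCommGroup E] [Module A E]

theorem isKInjective_sgl (hE : Module.Injective A E) : (sgl (ModuleCat.of A E)).IsKInjective := by
  refine isKInjective_of_rep _ 0 (fun i hi => HomologicalComplex.isZero_single_obj_X _ _ _ _ (by omega)) fun i => ?_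
  by_cases h : i = 0
  · subst h
    exact isModClass_IN.of_iso (HomologicalComplex.singleObjXSelf (ComplexShape.up ℤ) 0 (ModuleCat.of A E)).symm hE
  · exact isModClass_IN.of_isZero (HomologicalComplex.isZero_single_obj_X _ _ _ _ h)

theorem hom_injective_equiv (hE : Module.Injective A E) (X : Dual.D A) (j : ℤ) :
    Nonempty ((X ⟶ (Dual.inD A E)⟦j⟧) ≃ₗ[A] (Dual.HD A X (-j) →ₗ[A] E)) := by
  obtain ⟨K, ⟨eK⟩⟩ := exists_complex_iso X
  haveI := isKInjective_sgl E hE
  set S := sgl (ModuleCat.of A E) with hS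
  let hj : -j + j = 0 := by omega
  let τ : (DRing.homCx K S).X j →ₗ[A] (K.X (-j) →ₗ[A] E) :=
    { toFun := fun (z : Cochain K S j) => (Cochain.toSingleEquiv (X := ModuleCat.of A E) hj z).hom
      map_add' := fun z w => by
        rw [map_add]; rfl
      map_smul' := fun c (z : Cochain K S j) => by
        show ((c • z).v (-j) 0 _ ≫ (HomologicalComplex.singleObjXSelf _ 0 _).hom).hom =
          c • (z.v (-j) 0 _ ≫ (HomologicalComplex.singleObjXSelf _ 0 _).hom).hom
        rw [Cochain.smul_v, Linear.smul_comp, ModuleCat.hom_smul] }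
  have hτ : ∀ f : K.X (-j) →ₗ[A] E, τ (Cochain.toSingleMk (X := ModuleCat.of A E) (ModuleCat.ofHom f) hj) = f := fun f =>
    congrArg ModuleCat.Hom.hom (Cochain.toSingleEquiv_toSingleMk (X := ModuleCat.of A E) (ModuleCat.ofHom f) hj)
  -- a functional on the cycles kills boundaries
  have hkill : ∀ (z : Zd (DRing.homCx K S) j) (y : K.X (-j - 1)), τ z.1 ((K.d (-j - 1) (-j)).hom y) = 0 := by
    rintro ⟨z, hz⟩ y
    obtain ⟨f, rfl⟩ := Cochain.toSingleMk_surjective (show Cochain K S j from z) (-j) hj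
    have h0 : δ j (j + 1) (Cochain.toSingleMk f hj) = 0 := hz
    rw [Cochain.δ_toSingleMk f hj (j + 1) (-j - 1) (by omega)] at h0
    have h1 : Cochain.toSingleMk (K.d (-j - 1) (-j) ≫ f) (show -j - 1 + (j + 1) = 0 by omega) = 0 := by
      have := congrArg ((j + 1).negOnePow • ·) h0
      simpa [smul_smul] using this
    have h2 := congrArg (Cochain.toSingleEquiv (show -j - 1 + (j + 1) = 0 by omega)) h1
    rw [Cochain.toSingleEquiv_toSingleMk, map_zero] at h2
    show τ (Cochain.toSingleMk f hj) _ = 0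
    rw [show Cochain.toSingleMk f hj = Cochain.toSingleMk (ModuleCat.ofHom f.hom) hj from rfl, hτ]
    exact congrArg (fun φ : K.X (-j - 1) ⟶ ModuleCat.of A E => φ.hom y) h2
  have hle : ∀ z : Zd (DRing.homCx K S) j,
      LinearMap.ker (hcls K (-j)) ≤ LinearMap.ker ((τ z.1).comp (Submodule.subtype (Zd K (-j)))) := by
    intro z x hx
    obtain ⟨y, hy⟩ := (hcls_eq_zero_iff K (-j) x).1 hx
    show τ z.1 x.1 = 0
    rw [← hy]
    exact hkill z y
  let qe := LinearMap.quotKerEquivOfSurjective _ (hcls_surjective K (-j))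
  let Φ : Zd (DRing.homCx K S) j →ₗ[A] (K.homology (-j) →ₗ[A] E) :=
    { toFun := fun z => (Submodule.liftQ _ ((τ z.1).comp (Submodule.subtype _)) (hle z)).comp qe.symm.toLinearMap
      map_add' := fun z w => by
        refine LinearMap.ext fun v => ?_
        obtain ⟨v', rfl⟩ := qe.surjective v
        induction v' using Submodule.Quotient.induction_on with
        | H x => simp [map_add]
      map_smul' := fun c z => by
        refine LinearMap.ext fun v => ?_
        obtain ⟨v', rfl⟩ := qe.surjective v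
        induction v' using Submodule.Quotient.induction_on with
        | H x => simp [map_smul] }
  have hΦ : ∀ z x, Φ z (hcls K (-j) x) = τ z.1 x.1 := fun z x => by
    show Submodule.liftQ _ _ (hle z) (qe.symm (hcls K (-j) x)) = _
    rw [show qe.symm (hcls K (-j) x) = Submodule.Quotient.mk x from qe.symm_apply_eq.2 rfl]
    rfl
  have hsurj : Function.Surjective Φ := fun g => by
    obtain ⟨φ, hφ⟩ := InjHull18.exists_extend hE (Submodule.subtype (Zd K (-j))) (Submodule.subtype_injective _)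
      (g.comp (hcls K (-j)))
    refine ⟨⟨Cochain.toSingleMk (X := ModuleCat.of A E) (ModuleCat.ofHom φ) hj, ?_⟩, LinearMap.ext fun v => ?_⟩
    · show δ j (j + 1) (Cochain.toSingleMk (X := ModuleCat.of A E) (ModuleCat.ofHom φ) hj) = 0
      rw [Cochain.δ_toSingleMk _ hj (j + 1) (-j - 1) (by omega)]
      have : K.d (-j - 1) (-j) ≫ ModuleCat.ofHom (Y := E) φ = 0 := ModuleCat.hom_ext (LinearMap.ext fun y => by
        have hyz : (K.d (-j - 1) (-j)).hom y ∈ Zd K (-j) :=
          congrArg (fun φ : K.X (-j - 1) ⟶ K.X (-j + 1) => φ.hom y) (K.d_comp_d (-j - 1) (-j) (-j + 1))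
        have h1 := LinearMap.congr_fun hφ ⟨_, hyz⟩
        have h2 : hcls K (-j) ⟨_, hyz⟩ = 0 := (hcls_eq_zero_iff K (-j) _).2 ⟨y, rfl⟩
        show φ ((K.d (-j - 1) (-j)).hom y) = 0
        exact h1.trans ((congrArg g h2).trans (map_zero g)))
      rw [this, Cochain.toSingleMk_zero, smul_zero]
    · obtain ⟨x, rfl⟩ := hcls_surjective K (-j) v
      rw [hΦ, hτ]
      exact LinearMap.congr_fun hφ x
  have hker : LinearMap.ker Φ = LinearMap.ker (hcls (DRing.homCx K S) j) := by
    ext z
    rw [LinearMap.mem_ker, LinearMap.mem_ker, hcls_eq_zero_iff]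
    constructor
    · intro h
      have hv : LinearMap.ker (K.d (-j) (-j + 1)).hom ≤ LinearMap.ker (τ z.1) := fun x hx => by
        show τ z.1 x = 0
        rw [← hΦ z ⟨x, hx⟩, h]; rfl
      let d := (K.d (-j) (-j + 1)).hom
      obtain ⟨g, hg⟩ := InjHull18.exists_extend hE (LinearMap.range d).subtype (Submodule.subtype_injective _)
        ((Submodule.liftQ _ (τ z.1) hv).comp d.quotKerEquivRange.symm.toLinearMap)
      have hg' : ∀ x, g (d x) = τ z.1 x := fun x => by
        have h1 := LinearMap.congr_fun hg ⟨d x, LinearMap.mem_range_self d x⟩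
        rw [LinearMap.comp_apply] at h1
        refine h1.trans ?_
        show Submodule.liftQ _ (τ z.1) hv (d.quotKerEquivRange.symm ⟨d x, _⟩) = _
        rw [show d.quotKerEquivRange.symm ⟨d x, LinearMap.mem_range_self d x⟩ = Submodule.Quotient.mk x from
          d.quotKerEquivRange.symm_apply_eq.2 rfl]
        rfl
      refine ⟨j.negOnePow • Cochain.toSingleMk (X := ModuleCat.of A E) (ModuleCat.ofHom g) (show -j + 1 + (j - 1) = 0 by omega), ?_⟩
      show δ (j - 1) j _ = z.1
      rw [δ_units_smul, Cochain.δ_toSingleMk _ _ j (-j) hj, smul_smul, Int.units_mul_self, one_smul]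
      obtain ⟨f, hf⟩ := Cochain.toSingleMk_surjective (show Cochain K S j from z.1) (-j) hj
      refine Eq.trans ?_ hf
      congr 1
      refine ModuleCat.hom_ext (LinearMap.ext fun x => ?_)
      show g (d x) = f.hom x
      rw [hg', show z.1 = (Cochain.toSingleMk (ModuleCat.ofHom f.hom) hj : Cochain K S j) from hf.symm, hτ]
    · rintro ⟨y, hy⟩
      obtain ⟨g, rfl⟩ := Cochain.toSingleMk_surjective (show Cochain K S (j - 1) from y) (-j + 1) (show -j + 1 + (j - 1) = 0 by omega)
      refine LinearMap.ext fun v => ?_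
      obtain ⟨x, rfl⟩ := hcls_surjective K (-j) v
      rw [hΦ, ← hy]
      show τ (δ (j - 1) j (Cochain.toSingleMk g _)) x.1 = 0
      rw [Cochain.δ_toSingleMk g _ j (-j) hj, LinearMap.map_smul_of_tower,
        show Cochain.toSingleMk (K.d (-j) (-j + 1) ≫ g) hj =
          Cochain.toSingleMk (ModuleCat.ofHom (K.d (-j) (-j + 1) ≫ g).hom) hj from rfl, hτ, LinearMap.smul_apply]
      show _ • g.hom ((K.d (-j) (-j + 1)).hom x.1) = 0
      rw [show (K.d (-j) (-j + 1)).hom x.1 = 0 from x.2, map_zero, smul_zero]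
  exact ⟨((CategoryTheory.Linear.homCongr A eK.symm
      ((CategoryTheory.shiftFunctor (Dual.D A) j).mapIso (sglQIso (ModuleCat.of A E)).symm ≪≫ (((QA A).commShiftIso j).app S).symm)).trans
    (homologyHomCxEquiv K S j).symm).trans
    (((LinearMap.quotKerEquivOfSurjective _ (hcls_surjective (DRing.homCx K S) j)).symm.trans
      ((Submodule.quotEquivOfEq _ _ hker.symm).trans (LinearMap.quotKerEquivOfSurjective _ hsurj))).trans
      (LinearEquiv.congrLeft E A ((HQIso K (-j)).symm ≪≫ (HF A (-j)).mapIso eK).toLinearEquiv))⟩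

end HomInj

section Finite

variable [IsLocalRing A] [IsNoetherianRing A]

/-- `Hom•` of torsion-valued maps out of finite free terms -/
theorem gCx_homCx_iso (I : Ideal A) (L J : DRing.Cx A) (hL : ∀ p, Module.Finite A (L.X p))
    {a b : ℤ} (hJ : ∀ i, (i < a ∨ b < i) → IsZero (J.X i)) :
    Nonempty (DRing.homCx L (gCx I J) ≅ gCx I (DRing.homCx L J)) := by
  let φ := DRing.homCxMap L (gIncl I J)
  have hv : ∀ (q : ℤ) (z : Cochain L (gCx I J) q) (p r : ℤ) (h : p + q = r),
      (show Cochain L J q from (φ.f q).hom z).v p r h = z.v p r h ≫ (gIncl I J).f r := fun q z p r h =>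
    Cochain.comp_zero_cochain_v z (Cochain.ofHom (gIncl I J)) p r h |>.trans (by rw [Cochain.ofHom_v])
  have hinj : ∀ q, Function.Injective (φ.f q).hom := fun q (z w : Cochain L (gCx I J) q) hzw => by
    refine Cochain.ext _ _ fun p r h => ModuleCat.hom_ext (LinearMap.ext fun x => Subtype.ext ?_)
    have h1 := hv q z p r h
    rw [hzw, hv q w p r h] at h1
    exact congrArg (fun f : L.X p ⟶ J.X r => f.hom x) h1.symm
  have htor : ∀ q (z : Cochain L (gCx I J) q), (φ.f q).hom z ∈ DRing.torsionSub I ((DRing.homCx L J).X q) := by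
    intro q z
    classical
    choose S hS using fun p => (hL p).fg_top
    choose k hk using fun (p : ℤ) (x : L.X p) => ((z.v p (p + q) rfl).hom x : DRing.torsionSub I (J.X (p + q))).2
    refine ⟨(Finset.Icc (a - q) (b - q)).sup fun p => (S p).sup (k p), fun c hc => ?_⟩
    refine Cochain.ext (c • (show Cochain L J q from (φ.f q).hom z)) 0 fun p r h => ?_
    rw [Cochain.smul_v, Cochain.zero_v, hv q z p r h]
    by_cases hr : r < a ∨ b < r
    · exact (hJ r hr).eq_of_tgt _ _
    subst h
    refine ModuleCat.hom_ext (LinearMap.ext fun x => ?_)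
    show c • (((z.v p (p + q) rfl).hom x : DRing.torsionSub I (J.X (p + q))).1) = 0
    have hx : x ∈ Submodule.span A (S p : Set (L.X p)) := (hS p).symm ▸ Submodule.mem_top
    induction hx using Submodule.span_induction with
    | mem y hy =>
      refine hk p y c (Ideal.pow_le_pow_right ?_ hc)
      exact le_trans (Finset.le_sup (f := k p) hy)
        (Finset.le_sup (f := fun p => (S p).sup (k p)) (Finset.mem_Icc.2 (by omega)))
    | zero => rw [map_zero]; exact smul_zero c
    | add y w _ _ hy hw => rw [map_add, Submodule.coe_add, smul_add, hy, hw, add_zero]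
    | smul e y _ hy => rw [map_smul, Submodule.coe_smul, smul_comm, hy, smul_zero]
  let f : ∀ q, (DRing.homCx L (gCx I J)).X q →ₗ[A] DRing.torsionSub I ((DRing.homCx L J).X q) := fun q =>
    (φ.f q).hom.codRestrict _ (htor q)
  have hf : ∀ q, Function.Bijective (f q) := fun q => by
    refine ⟨fun z w h => hinj q (congrArg Subtype.val h), fun ⟨w, hw⟩ => ?_⟩
    obtain ⟨n, hn⟩ := hw
    let w' : Cochain L J q := w
    refine ⟨Cochain.mk fun p r h => ModuleCat.ofHom (X := L.X p) (Y := (gCx I J).X r)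
      ((w'.v p r h).hom.codRestrict (DRing.torsionSub I (J.X r)) fun x => ⟨n, fun c hc => by
        have h1 : (c • w').v p r h = 0 := by
          rw [show c • w' = 0 from hn c hc]; rfl
        exact congrArg (fun f : L.X p ⟶ J.X r => f.hom x) h1⟩), Subtype.ext ?_⟩
    refine Cochain.ext _ _ fun p r h => ?_
    show (show Cochain L J q from (φ.f q).hom _).v p r h = w'.v p r h
    rw [hv]
    rfl
  exact ⟨HomologicalComplex.Hom.isoOfComponents
    (fun q => ((LinearEquiv.ofBijective (f q) (hf q)).toModuleIso :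
      (DRing.homCx L (gCx I J)).X q ≅ ModuleCat.of A (DRing.torsionSub I ((DRing.homCx L J).X q))))
    fun q q' _ => ModuleCat.hom_ext (LinearMap.ext fun z => Subtype.ext
      (congrArg (fun f : (DRing.homCx L (gCx I J)).X q ⟶ (DRing.homCx L J).X q' => f.hom z) (φ.comm q q')).symm.symm)⟩

theorem injective_homCx_X (L J : DRing.Cx A) (hL : ∀ p, Module.Free A (L.X p)) (hJ : ∀ r, INp (J.X r)) (q : ℤ) :
    INp ((DRing.homCx L J).X q) := by
  refine ⟨fun {P R} _ _ _ _ i hi g => ?_⟩
  haveI := fun r => (hJ r)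
  let gv : ∀ (p r : ℤ) (h : p + q = r), P →ₗ[A] (L.X p →ₗ[A] J.X r) := fun p r h =>
    { toFun := fun x => ((show Cochain L J q from g x).v p r h).hom
      map_add' := fun x y => by
        rw [map_add]; rfl
      map_smul' := fun c x => by
        rw [map_smul]; rfl }
  have ext : ∀ (p r : ℤ) (h : p + q = r), ∃ G : R →ₗ[A] (L.X p →ₗ[A] J.X r), ∀ x, G (i x) = gv p r h x := by
    intro p r h
    haveI := hL p
    obtain ⟨G, hG⟩ := InjHull18.exists_extend (hJ r) (i.rTensor (L.X p))
      (Module.Flat.rTensor_preserves_injective_linearMap i hi) (TensorProduct.lift (gv p r h))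
    refine ⟨TensorProduct.curry G, fun x => LinearMap.ext fun y => ?_⟩
    exact LinearMap.congr_fun hG (x ⊗ₜ y)
  choose G hG using ext
  let Gc : R →ₗ[A] (DRing.homCx L J).X q :=
    { toFun := fun y => Cochain.mk fun p r h => ModuleCat.ofHom (G p r h y)
      map_add' := fun x y => Cochain.ext _ _ fun p r h => ModuleCat.hom_ext (by
        show G p r h (x + y) = G p r h x + G p r h y
        rw [map_add])
      map_smul' := fun c x => Cochain.ext _ _ fun p r h => ModuleCat.hom_ext (by
        show G p r h (c • x) = c • G p r h x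
        rw [map_smul]) }
  exact ⟨Gc, fun x => Cochain.ext _ _ fun p r h => ModuleCat.hom_ext (hG p r h x)⟩

theorem localDuality_core {ω : Dual.D A} (hω : Dual.IsDualizing A ω) (hn : Dual.IsNormalized A ω)
    (E : Type u) [AddCommGroup E] [Module A E] (f : ResidueField A →ₗ[A] E) (hf : InjHull.IsInjectiveHull f)
    (K : DRing.Cx A) {a b : ℤ} (hKb : ∀ i, (i < a ∨ b < i) → IsZero (K.X i))
    (hK : ∀ j : ℤ, Module.Finite A (Dual.HD A ((QA A).obj K) j)) :
    ∃ J : DRing.Cx A, J.IsKInjective ∧ Nonempty ((QA A).obj J ≅ (QA A).obj K) ∧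
      ∀ i : ℤ, Nonempty ((gCx (maximalIdeal A) J).homology i ≃ₗ[A] (((QA A).obj K ⟶ ω⟦-i⟧) →ₗ[A] E)) := by
  obtain ⟨D, ⟨eD⟩⟩ := exists_dualModel hω
  haveI := D.isKInjective
  have hn' : Dual.IsNormalized A ((QA A).obj D.I) := fun i hi => @Equiv.subsingleton _ _
    (Iso.homToEquiv ((CategoryTheory.shiftFunctor (Dual.D A) i).mapIso eD)) (hn i hi)
  let L0 := DRing.homCx K D.I
  have hLfin := finite_HF_homCx D K hK
  have hLb : Acyc (D.b - a + 1) ((QA A).obj L0) := fun i hi => (isZero_HF_Q_iff L0 i).2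
    ((isZero_homology_iff L0 i).2 fun x _ => by
      haveI := ModuleCat.subsingleton_of_isZero (isZero_homCx_above K D.I hKb D.zero i (by omega))
      exact ⟨0, Subsingleton.elim _ _⟩)
  obtain ⟨L, hLv, hL, ⟨eL⟩⟩ := baff_of_forall_pc hLb fun m => pc_of_homology hLb fun i _ => by
    haveI : Module.Finite A ((HF A i).obj ((QA A).obj L0)) := hLfin i
    exact pc_inD (A := A) ((HF A i).obj ((QA A).obj L0)) _
  haveI hLP := isKProjective_of_bddAbove L _ ((vanishesAbove_iff L _).2 hLv) fun i => proj_of_FF (hL i)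
  let J := DRing.homCx L D.I
  have hJz : ∀ q, q < D.a - (D.b - a) → IsZero (J.X q) := fun q hq => by
    refine @ModuleCat.isZero_of_subsingleton A _ _ ⟨fun (z z' : Cochain L D.I q) => Cochain.ext _ _ fun p r h => ?_⟩
    by_cases hp : p ≤ D.b - a
    · exact (D.zero r (Or.inl (by omega))).eq_of_tgt _ _
    · exact (hLv p hp).eq_of_src _ _
  haveI : J.IsKInjective := isKInjective_of_rep J _ hJz (injective_homCx_X L D.I (fun p => (hL p).2) D.inj)
  obtain ⟨h1⟩ := homCx_iso_of_iso D.I eL
  obtain ⟨h2⟩ := bidual_iso D K hK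
  refine ⟨J, inferInstance, ⟨h1 ≪≫ h2⟩, fun i => ?_⟩
  obtain ⟨gi⟩ := gCx_homCx_iso (maximalIdeal A) L D.I (fun p => (hL p).1) D.zero
  obtain ⟨-, ⟨eG⟩⟩ := gamma_dualModel D hn' E f hf
  haveI := hf.isInjective
  obtain ⟨eH⟩ := hom_injective_equiv E hf.isInjective ((QA A).obj L0) i
  let eK : (HF A (-i)).obj ((QA A).obj L0) ≃ₗ[A] ((QA A).obj K ⟶ ω⟦-i⟧) :=
    (HQIso L0 (-i)).toLinearEquiv.trans ((homologyHomCxEquiv K D.I (-i)).trans
      (CategoryTheory.Linear.homCongr A (Iso.refl _)
        (((QA A).commShiftIso (-i)).app D.I ≪≫ (CategoryTheory.shiftFunctor (Dual.D A) (-i)).mapIso eD)))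
  exact ⟨((HQIso _ i).symm ≪≫ (HF A i).mapIso ((QA A).mapIso gi.symm)).toLinearEquiv.trans
    ((homologyEquivP L (gCx (maximalIdeal A) D.I) i).symm.trans
      ((CategoryTheory.Linear.homCongr A eL ((CategoryTheory.shiftFunctor (Dual.D A) i).mapIso eG)).trans
        (eH.trans (LinearEquiv.congrLeft E A eK))))⟩

theorem localDuality_module {ω : Dual.D A} (hω : Dual.IsDualizing A ω) (hn : Dual.IsNormalized A ω)
    (E : Type u) [AddCommGroup E] [Module A E] (f : ResidueField A →ₗ[A] E) (hf : InjHull.IsInjectiveHull f)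
    (M : Type u) [AddCommGroup M] [Module A M] [Module.Finite A M] (i : ℕ) :
    Nonempty (LocCoh.H (maximalIdeal A) i M ≃ₗ[A] ((Dual.inD A M ⟶ ω⟦-(i : ℤ)⟧) →ₗ[A] E)) := by
  let K := sgl (ModuleCat.of A M)
  have hKb : ∀ j, (j < (0 : ℤ) ∨ (0 : ℤ) < j) → IsZero (K.X j) := fun j hj =>
    HomologicalComplex.isZero_single_obj_X _ _ _ _ (by omega)
  have hK : ∀ j : ℤ, Module.Finite A (Dual.HD A ((QA A).obj K) j) := fun j => by
    by_cases hj : j = 0
    · subst hj
      haveI : Module.Finite A (ModuleCat.of A M) := ‹_›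
      exact Module.Finite.equiv ((HQIso K 0).symm.toLinearEquiv.symm.trans
        (HomologicalComplex.singleObjHomologySelfIso (ComplexShape.up ℤ) 0 (ModuleCat.of A M)).toLinearEquiv).symm
    · exact finite_of_isZero ((isZero_HF_Q_iff K j).2 (HomologicalComplex.isZero_single_obj_homology _ _ _ _ hj))
  obtain ⟨J, hJ, ⟨eJ⟩, h⟩ := localDuality_core hω hn E f hf K hKb hK
  haveI := hJ
  obtain ⟨e1⟩ := H_equiv (maximalIdeal A) J M (eJ ≪≫ sglQIso (ModuleCat.of A M)) i
  obtain ⟨e2⟩ := h i
  exact ⟨e1.trans (e2.trans (LinearEquiv.congrLeft E A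
    (CategoryTheory.Linear.homCongr A (sglQIso (ModuleCat.of A M)) (Iso.refl _))))⟩

theorem finite_HD_inD (M : Type u) [AddCommGroup M] [Module A M] [Module.Finite A M] (i : ℤ) :
    Module.Finite A (Dual.HD A (Dual.inD A M) i) := by
  let e := ((HQIso (sgl (ModuleCat.of A M)) i).symm ≪≫ (HF A i).mapIso (sglQIso (ModuleCat.of A M)))
  by_cases hi : i = 0
  · subst hi
    haveI : Module.Finite A (ModuleCat.of A M) := ‹_›
    exact Module.Finite.equiv ((HomologicalComplex.singleObjHomologySelfIso (ComplexShape.up ℤ) 0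
      (ModuleCat.of A M)).symm ≪≫ e).toLinearEquiv
  · exact finite_of_isZero (IsZero.of_iso (HomologicalComplex.isZero_single_obj_homology _ _ _ _ hi) e.symm)

theorem hasFiniteInjDim_of_isDualizing {ω : Dual.D A} (hω : Dual.IsDualizing A ω) :
    DRing.HasFiniteInjDim A ω := by
  obtain ⟨D, ⟨eD⟩⟩ := exists_dualModel hω
  exact ⟨D.a, D.b, D.I, D.zero, D.inj, ⟨eD⟩⟩

theorem exists_small_hom {ω : Dual.D A} (hω : Dual.IsDualizing A ω) (M : Type u) [AddCommGroup M]
    [Module A M] [Module.Finite A M] (i : ℤ) :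
    ∃ N : ModuleCat.{u} A, Module.Finite A N ∧ Nonempty (N ≃ₗ[A] (Dual.inD A M ⟶ ω⟦i⟧)) := by
  obtain ⟨D, ⟨eD⟩⟩ := exists_dualModel hω
  haveI := D.isKInjective
  let K := sgl (ModuleCat.of A M)
  let e : (DRing.homCx K D.I).homology i ≃ₗ[A] (Dual.inD A M ⟶ ω⟦i⟧) :=
    (homologyHomCxEquiv K D.I i).trans (CategoryTheory.Linear.homCongr A (sglQIso (ModuleCat.of A M))
      (((QA A).commShiftIso i).app D.I ≪≫ (CategoryTheory.shiftFunctor (Dual.D A) i).mapIso eD))
  haveI : Module.Finite A (Dual.inD A M ⟶ ω⟦i⟧) := finite_hom _ _ (fun j => finite_HD_inD M j)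
    hω.finite_cohomology (hasFiniteInjDim_of_isDualizing hω) i
  exact ⟨_, Module.Finite.equiv e.symm, ⟨e⟩⟩

end Finite

end Groth.Agent.DR39
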