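import Groth.Prelude.Def_Wider
import Groth.Agent.InjHull18.Matlis
import Groth.Agent.DR39.LocalDuality

/-! Linear self-equivalences of the category of modules of finite length over a local ring. -/

set_option autoImplicit false
set_option linter.style.haveILetI false
set_option linter.unusedSectionVars false

universe u

open CategoryTheory

namespace Groth.Agent.DR39.FinLenEq

variable {A : Type u} [CommRing A] [IsLocalRing A] [IsNoetherianRing A]


/-- `A/(IsLocalRing.maximalIdeal A)^(n+1)` -/
noncomputable def Q (n : ℕ) : (Dual.FinLen A) :=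
  ⟨ModuleCat.of A (A ⧸ (IsLocalRing.maximalIdeal A) ^ (n + 1)), InjHull18.isFiniteLength_quotient_pow (n + 1)⟩

/-- the underlying module -/
abbrev U (M : (Dual.FinLen A)) : ModuleCat.{u} A := M.1

/-- the underlying linear map -/
abbrev lin {M N : (Dual.FinLen A)} (f : M ⟶ N) : U M →ₗ[A] U N := f.hom.hom

noncomputable def one (n : ℕ) : U (Q (A := A) n) := Submodule.Quotient.mk (1 : A)

theorem lin_injective {M N : (Dual.FinLen A)} : Function.Injective (lin (M := M) (N := N)) := fun _ _ h =>
  ObjectProperty.hom_ext _ (ModuleCat.hom_ext h)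

/-- `n` kills `M` -/
def Kills (n : ℕ) (M : (Dual.FinLen A)) : Prop := ∀ a ∈ (IsLocalRing.maximalIdeal A) ^ (n + 1), ∀ x : U M, a • x = 0

theorem kills_mono {n k : ℕ} (h : n ≤ k) {M : (Dual.FinLen A)} (hM : Kills n M) : Kills k M := fun a ha =>
  hM a (Ideal.pow_le_pow_right (Nat.succ_le_succ h) ha)

theorem exists_kills (M : (Dual.FinLen A)) : ∃ n, Kills n M := by
  obtain ⟨n, hn⟩ := DR39.pow_kills_finLen (A := A) M.2
  exact ⟨n, fun a ha => hn a (Ideal.pow_le_pow_right (Nat.le_succ n) ha)⟩

/-- the map `1 ↦ x` -/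
noncomputable def phi {n : ℕ} {M : (Dual.FinLen A)} (h : Kills n M) (x : U M) : Q n ⟶ M :=
  ObjectProperty.homMk (ModuleCat.ofHom (((IsLocalRing.maximalIdeal A) ^ (n + 1)).liftQ (LinearMap.toSpanSingleton A (U M) x)
    fun a ha => h a ha x))

theorem lin_phi_one {n : ℕ} {M : (Dual.FinLen A)} (h : Kills n M) (x : U M) : lin (phi h x) (one n) = x :=
  one_smul A x

theorem hom_ext_Q {n : ℕ} {M : (Dual.FinLen A)} {f g : Q n ⟶ M} (h : lin f (one n) = lin g (one n)) : f = g := by
  apply lin_injective
  refine Submodule.linearMap_qext _ (LinearMap.ext fun a => ?_)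
  have ha : (((IsLocalRing.maximalIdeal A) ^ (n + 1)).mkQ a : U (Q (A := A) n)) = a • one n := by
    show Submodule.Quotient.mk a = Submodule.Quotient.mk (a • (1 : A))
    rw [smul_eq_mul, mul_one]
  show lin f _ = lin g _
  exact (congrArg (lin f) ha).trans ((map_smul _ _ _).trans ((congrArg (a • ·) h).trans
    ((map_smul _ _ _).symm.trans (congrArg (lin g) ha).symm)))

theorem kills_Q {n k : ℕ} (h : n ≤ k) : Kills (A := A) k (Q n) := kills_mono h fun a ha x => by
  change A ⧸ (IsLocalRing.maximalIdeal A) ^ (n + 1) at x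
  obtain ⟨y, rfl⟩ := Submodule.Quotient.mk_surjective _ x
  exact (Submodule.Quotient.mk_eq_zero _).2 (Ideal.mul_mem_right y _ ha)

theorem phi_comp {n : ℕ} {M N : Dual.FinLen A} (hM : Kills n M) (hN : Kills n N) (x : U M) (f : M ⟶ N) :
    phi hM x ≫ f = phi hN (lin f x) := by
  refine hom_ext_Q ?_
  show lin f (lin (phi hM x) (one n)) = lin (phi hN (lin f x)) (one n)
  rw [lin_phi_one, lin_phi_one]

theorem phi_eq {n : ℕ} {M : Dual.FinLen A} (h : Kills n M) (f : Q n ⟶ M) : phi h (lin f (one n)) = f :=
  hom_ext_Q (lin_phi_one h _)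

theorem map_comp_apply (F : Dual.FinLen A ⥤ Dual.FinLen A) {X Y Z : Dual.FinLen A} (f : X ⟶ Y) (g : Y ⟶ Z)
    (x : U (F.obj X)) : lin (F.map (f ≫ g)) x = lin (F.map g) (lin (F.map f) x) :=
  congrArg (fun u : F.obj X ⟶ F.obj Z => lin u x) (F.map_comp f g)

variable (F : (Dual.FinLen A) ≌ (Dual.FinLen A)) [F.functor.Additive] [F.functor.Linear A]


theorem smul_map_eq_zero_iff (M : (Dual.FinLen A)) (a : A) :
    (∀ x : U (F.functor.obj M), a • x = 0) ↔ ∀ x : U M, a • x = 0 := by
  have key : ∀ N : (Dual.FinLen A), (∀ x : U N, a • x = 0) ↔ a • 𝟙 N = 0 := fun N =>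
    ⟨fun h => lin_injective (LinearMap.ext fun x => h x),
      fun h x => congrArg (fun f : N ⟶ N => lin f x) h⟩
  rw [key, key]
  constructor
  · intro h
    apply F.functor.map_injective
    rw [F.functor.map_smul, F.functor.map_id, h, F.functor.map_zero]
  · intro h
    rw [← F.functor.map_id, ← F.functor.map_smul, h, F.functor.map_zero]

theorem kills_map {n : ℕ} {M : (Dual.FinLen A)} (h : Kills n M) : Kills n (F.functor.obj M) := fun a ha =>
  (smul_map_eq_zero_iff F M a).2 (h a ha)

/-- the projection to `G (A/(IsLocalRing.maximalIdeal A))` -/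
noncomputable def p (n : ℕ) : U (F.functor.obj (Q n)) →ₗ[A] U (F.functor.obj (Q 0)) :=
  lin (F.functor.map (phi (kills_Q (Nat.zero_le n)) (one 0)))

theorem simple (S : Submodule A (U (F.functor.obj (Q 0)))) : S = ⊥ ∨ S = ⊤ := by
  let S' : (Dual.FinLen A) := ⟨ModuleCat.of A S,
    IsFiniteLength.of_injective (F.functor.obj (Q 0)).2 (f := S.subtype) Subtype.val_injective⟩
  let i : S' ⟶ F.functor.obj (Q 0) := ObjectProperty.homMk (ModuleCat.ofHom S.subtype)
  let e : F.functor.obj (F.functor.objPreimage S') ≅ S' := F.functor.objObjPreimageIso S'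
  let M : (Dual.FinLen A) := F.functor.objPreimage S'
  obtain ⟨j, hj⟩ := F.functor.map_surjective (e.hom ≫ i)
  have hMk : Kills 0 M := fun a ha => (smul_map_eq_zero_iff F M a).1 fun y => by
    have h0 : a • lin e.hom y = 0 := Subtype.ext ((map_smul S.subtype a (lin e.hom y)).trans
      (kills_map F (kills_Q le_rfl) a ha _))
    calc a • y = lin e.inv (lin e.hom (a • y)) := (congrArg (fun f : _ ⟶ _ => lin f (a • y)) e.hom_inv_id).symm
      _ = 0 := by rw [map_smul (lin e.hom), h0, map_zero]
  by_cases hj0 : lin j = 0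
  · left
    have : j = 0 := lin_injective hj0
    rw [this, F.functor.map_zero] at hj
    have hi : i = 0 := by rw [← cancel_epi e.hom, ← hj, Limits.comp_zero]
    rw [Submodule.eq_bot_iff]
    intro x hx
    exact congrArg (fun f : S' ⟶ _ => lin f ⟨x, hx⟩) hi
  · right
    obtain ⟨y, hy⟩ := DFunLike.ne_iff.1 hj0
    change lin j y ≠ 0 at hy
    obtain ⟨a, ha⟩ : ∃ a : A, lin j y = a • one 0 := by
      obtain ⟨a, ha⟩ := Submodule.Quotient.mk_surjective _ (lin j y)
      exact ⟨a, by
        show lin j y = Submodule.Quotient.mk (a • (1 : A))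
        rw [smul_eq_mul, mul_one]
        exact ha.symm⟩
    have hu : IsUnit a := by
      by_contra hu
      exact hy (ha.trans (kills_Q (A := A) (le_refl 0) a
        (by rw [zero_add, pow_one]; exact (IsLocalRing.mem_maximalIdeal a).2 hu) _))
    obtain ⟨v, rfl⟩ := hu
    have hid : phi hMk ((↑v⁻¹ : A) • y) ≫ j = 𝟙 _ := hom_ext_Q (by
      show lin j (lin (phi hMk _) (one 0)) = one 0
      rw [lin_phi_one, map_smul, ha, smul_smul, Units.inv_mul, one_smul])
    have h := congrArg F.functor.map hid
    rw [F.functor.map_comp, hj, F.functor.map_id] at h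
    rw [eq_top_iff]
    intro z _
    have hz := congrArg (fun f : F.functor.obj (Q 0) ⟶ F.functor.obj (Q 0) => lin f z) h
    change (lin e.hom (lin (F.functor.map _) z)).1 = z at hz
    rw [← hz]
    exact (lin e.hom (lin (F.functor.map _) z)).2

theorem exists_p_ne_zero (n : ℕ) : ∃ x, p F n x ≠ 0 := by
  by_contra! h
  have h0 : F.functor.map (phi (M := Q (A := A) 0) (kills_Q (Nat.zero_le n)) (one 0)) = F.functor.map 0 := by
    rw [F.functor.map_zero]
    exact lin_injective (LinearMap.ext h)
  have h1 : (one 0 : U (Q (A := A) 0)) = 0 :=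
    (lin_phi_one (kills_Q (A := A) (Nat.zero_le n)) (one 0)).symm.trans
      (congrArg (fun f : Q n ⟶ Q 0 => lin f (one n)) (F.functor.map_injective h0))
  have h2 : (1 : A) ∈ (IsLocalRing.maximalIdeal A) ^ (0 + 1) := (Submodule.Quotient.mk_eq_zero _).1 h1
  rw [zero_add, pow_one] at h2
  exact (IsLocalRing.mem_maximalIdeal (1 : A)).1 h2 isUnit_one

theorem span_eq_top {n : ℕ} {x : U (F.functor.obj (Q n))} (hx : p F n x ≠ 0) : Submodule.span A {x} = ⊤ := by
  haveI : IsArtinian A (U (F.functor.obj (Q n))) :=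
    (isFiniteLength_iff_isNoetherian_isArtinian.1 (F.functor.obj (Q n)).2).2
  haveI : IsNoetherian A (U (F.functor.obj (Q n))) :=
    (isFiniteLength_iff_isNoetherian_isArtinian.1 (F.functor.obj (Q n)).2).1
  by_contra hne
  obtain ⟨M', hM', hle⟩ := (eq_top_or_exists_le_coatom (Submodule.span A {x})).resolve_left hne
  haveI : IsSimpleModule A (U (F.functor.obj (Q n)) ⧸ M') := isSimpleModule_iff_isCoatom.2 hM'
  let T : (Dual.FinLen A) := ⟨ModuleCat.of A (U (F.functor.obj (Q n)) ⧸ M'),
    IsFiniteLength.of_surjective (F.functor.obj (Q n)).2 (f := M'.mkQ) (Submodule.mkQ_surjective M')⟩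
  let e : F.functor.obj (F.functor.objPreimage T) ≅ T := F.functor.objObjPreimageIso T
  let M : (Dual.FinLen A) := F.functor.objPreimage T
  let q : F.functor.obj (Q n) ⟶ T := ObjectProperty.homMk (ModuleCat.ofHom M'.mkQ)
  obtain ⟨φ, hφ⟩ := F.functor.map_surjective (q ≫ e.inv)
  -- `(IsLocalRing.maximalIdeal A)` kills a simple module
  have hkT : ∀ a ∈ (IsLocalRing.maximalIdeal A), ∀ t : U T, a • t = 0 := fun a ha t => by
    change U (F.functor.obj (Q n)) ⧸ M' at t
    by_contra hne0
    have htop := IsSimpleModule.span_singleton_eq_top A hne0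
    have : t ∈ Submodule.span A {a • t} := by rw [htop]; trivial
    obtain ⟨c, hc⟩ := Submodule.mem_span_singleton.1 this
    have hu : IsUnit (1 - c * a) := by
      by_contra hu
      exact (IsLocalRing.mem_maximalIdeal (1 : A)).1 (by
        simpa using add_mem ((IsLocalRing.mem_maximalIdeal _).2 hu) (Ideal.mul_mem_left (IsLocalRing.maximalIdeal A) c ha)) isUnit_one
    refine hne0 ?_
    have ht0 : t = 0 := hu.smul_eq_zero.1 (by rw [sub_smul, one_smul, mul_smul, hc, sub_self])
    rw [ht0, smul_zero]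
  have hMk : Kills 0 M := fun a ha => (smul_map_eq_zero_iff F M a).1 fun y => by
    have h0 : a • lin e.hom y = 0 := hkT a (by rwa [zero_add, pow_one] at ha) _
    calc a • y = lin e.inv (lin e.hom (a • y)) := (congrArg (fun f : _ ⟶ _ => lin f (a • y)) e.hom_inv_id).symm
      _ = 0 := by rw [map_smul (lin e.hom), h0, map_zero]
  have hMn : Kills n M := kills_mono (Nat.zero_le n) hMk
  have hfac : φ = phi (kills_Q (Nat.zero_le n)) (one 0) ≫ phi hMk (lin φ (one n)) := by
    rw [phi_comp _ hMn, lin_phi_one, phi_eq]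
  have hker : LinearMap.ker (p F n) ≤ M' := fun z hz => by
    rw [← Submodule.Quotient.mk_eq_zero (p := M')]
    have h1 := congrArg (fun f : F.functor.obj (Q n) ⟶ F.functor.obj M => lin e.hom (lin f z)) hφ
    have h2 : lin (F.functor.map φ) z = 0 := by
      rw [hfac, map_comp_apply]
      exact (congrArg (lin (F.functor.map (phi hMk _))) (LinearMap.mem_ker.1 hz)).trans (map_zero _)
    refine Eq.trans (b := lin e.hom (lin e.inv (lin q z))) ?_ (h1.symm.trans (by rw [h2, map_zero]))
    exact (congrArg (fun f : T ⟶ T => lin f (lin q z)) e.inv_hom_id).symm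
  apply hM'.1
  rw [eq_top_iff]
  intro z _
  have htop : Submodule.span A {p F n x} = ⊤ := (simple F _).resolve_left fun hb => hx (by
    rwa [Submodule.span_singleton_eq_bot] at hb)
  obtain ⟨c, hc⟩ := Submodule.mem_span_singleton.1 (htop.ge (Submodule.mem_top (x := p F n z)))
  have h3 : z - c • x ∈ M' := hker (by rw [LinearMap.mem_ker, map_sub, map_smul, hc, sub_self])
  simpa using add_mem h3 (M'.smul_mem c (hle (Submodule.mem_span_singleton_self x)))

/-- the transition map -/
noncomputable def t (n : ℕ) : Q (A := A) (n + 1) ⟶ Q n := phi (kills_Q (Nat.le_succ n)) (one n)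

theorem p_t (n : ℕ) (y : U (F.functor.obj (Q (n + 1)))) :
    p F n (lin (F.functor.map (t n)) y) = p F (n + 1) y := by
  have h : t n ≫ phi (kills_Q (Nat.zero_le n)) (one 0) =
      phi (kills_Q (A := A) (Nat.zero_le (n + 1))) (one 0) := by
    rw [t, phi_comp _ (kills_Q (Nat.zero_le (n + 1))), lin_phi_one]
  rw [p, p, ← map_comp_apply, h]

theorem exists_lift (n : ℕ) (x : U (F.functor.obj (Q n))) : ∃ y, lin (F.functor.map (t n)) y = x := by
  obtain ⟨y, hy⟩ := exists_p_ne_zero F (n + 1)
  have hx : p F n (lin (F.functor.map (t n)) y) ≠ 0 := by rwa [p_t]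
  obtain ⟨c, hc⟩ := Submodule.mem_span_singleton.1 ((span_eq_top F hx).ge (Submodule.mem_top (x := x)))
  exact ⟨c • y, by rw [map_smul, hc]⟩

/-- compatible generators -/
noncomputable def gen : ∀ n : ℕ, { x : U (F.functor.obj (Q n)) // p F n x ≠ 0 }
  | 0 => ⟨(exists_p_ne_zero F 0).choose, (exists_p_ne_zero F 0).choose_spec⟩
  | n + 1 => ⟨(exists_lift F n (gen n).1).choose, fun h => (gen n).2 (by
      rw [← (exists_lift F n (gen n).1).choose_spec, p_t, h])⟩

theorem gen_t (n : ℕ) : lin (F.functor.map (t n)) (gen F (n + 1)).1 = (gen F n).1 :=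
  (exists_lift F n (gen F n).1).choose_spec

/-- the comparison at level `n` -/
noncomputable def eta {n : ℕ} {M : (Dual.FinLen A)} (h : Kills n M) : U M →ₗ[A] U (F.functor.obj M) where
  toFun x := lin (F.functor.map (phi h x)) (gen F n).1
  map_add' x y := by
    have : phi h (x + y) = phi h x + phi h y := hom_ext_Q (by
      show _ = lin (phi h x) (one n) + lin (phi h y) (one n)
      rw [lin_phi_one, lin_phi_one, lin_phi_one])
    rw [this, F.functor.map_add]
    rfl
  map_smul' a x := by
    have : phi h (a • x) = a • phi h x := hom_ext_Q (by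
      show _ = a • lin (phi h x) (one n)
      rw [lin_phi_one, lin_phi_one])
    rw [this, F.functor.map_smul]
    rfl

theorem eta_succ {n : ℕ} {M : (Dual.FinLen A)} (h : Kills n M) (x : U M) :
    eta F (kills_mono (Nat.le_succ n) h) x = eta F h x := by
  show lin (F.functor.map (phi _ x)) (gen F (n + 1)).1 = lin (F.functor.map (phi h x)) (gen F n).1
  have : phi (kills_mono (Nat.le_succ n) h) x = t n ≫ phi h x := by
    rw [t, phi_comp _ (kills_mono (Nat.le_succ n) h), lin_phi_one]
  rw [this, map_comp_apply, gen_t]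

theorem eta_le {n k : ℕ} (hk : n ≤ k) {M : (Dual.FinLen A)} (h : Kills n M) (x : U M) :
    eta F (kills_mono hk h) x = eta F h x := by
  induction hk with
  | refl => rfl
  | step hk ih => exact (eta_succ F (kills_mono hk h) x).trans ih

theorem eta_natural {n : ℕ} {M N : (Dual.FinLen A)} (hM : Kills n M) (hN : Kills n N) (f : M ⟶ N) (x : U M) :
    eta F hN (lin f x) = lin (F.functor.map f) (eta F hM x) := by
  show lin (F.functor.map (phi hN (lin f x))) _ = _
  rw [← phi_comp hM hN x f, map_comp_apply]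
  rfl

theorem hom_ext_gen {n : ℕ} {N : (Dual.FinLen A)} {f g : F.functor.obj (Q n) ⟶ N}
    (h : lin f (gen F n).1 = lin g (gen F n).1) : f = g :=
  lin_injective (LinearMap.ext_on_range (v := fun _ : Unit => (gen F n).1)
    (by rw [Set.range_const]; exact span_eq_top F (gen F n).2) fun _ => h)

theorem eta_bijective {n : ℕ} {M : (Dual.FinLen A)} (h : Kills n M) : Function.Bijective (eta F h) := by
  refine ⟨fun x y hxy => ?_, fun y => ?_⟩
  · have := F.functor.map_injective (hom_ext_gen F (f := F.functor.map (phi h x)) (g := F.functor.map (phi h y)) hxy)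
    rw [← lin_phi_one h x, ← lin_phi_one h y, this]
  · -- the generator has annihilator `(IsLocalRing.maximalIdeal A)^(n+1)`
    let e := (gen F n).1
    let g : A →ₗ[A] U (F.functor.obj (Q n)) := LinearMap.toSpanSingleton A _ e
    have hg : Function.Surjective g := fun z => by
      obtain ⟨c, hc⟩ := Submodule.mem_span_singleton.1 ((span_eq_top F (gen F n).2).ge (Submodule.mem_top (x := z)))
      exact ⟨c, hc⟩
    have hker : LinearMap.ker g ≤ LinearMap.ker (LinearMap.toSpanSingleton A (U (F.functor.obj M)) y) := fun a ha => by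
      have ha' : ∀ z : U (F.functor.obj (Q n)), a • z = 0 := fun z => by
        obtain ⟨c, rfl⟩ := hg z
        show a • c • e = 0
        rw [smul_comm, show a • e = 0 from LinearMap.mem_ker.1 ha, smul_zero]
      have hmem : a ∈ (IsLocalRing.maximalIdeal A) ^ (n + 1) := by
        have := (smul_map_eq_zero_iff F (Q n) a).1 ha' (one n)
        rw [one] at this
        change Submodule.Quotient.mk (a • (1 : A)) = 0 at this
        rwa [Submodule.Quotient.mk_eq_zero, smul_eq_mul, mul_one] at this
      exact LinearMap.mem_ker.2 (kills_map F h a hmem y)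
    let E := g.quotKerEquivOfSurjective hg
    let ψ : F.functor.obj (Q n) ⟶ F.functor.obj M := ObjectProperty.homMk (ModuleCat.ofHom
      (((LinearMap.ker g).liftQ _ hker) ∘ₗ E.symm.toLinearMap))
    have hψ : lin ψ e = y := by
      show (LinearMap.ker g).liftQ _ hker (E.symm e) = y
      rw [(E.symm_apply_eq (y := Submodule.Quotient.mk (1 : A))).2 (one_smul A e).symm, Submodule.liftQ_apply]
      exact one_smul A y
    obtain ⟨φ, hφ⟩ := F.functor.map_surjective ψ
    refine ⟨lin φ (one n), ?_⟩
    show lin (F.functor.map (phi h _)) e = y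
    rw [show phi h (lin φ (one n)) = φ from hom_ext_Q (lin_phi_one _ _), hφ, hψ]

theorem nonempty_iso_id : Nonempty (F.functor ≅ 𝟭 (Dual.FinLen A)) := by
  choose n hn using exists_kills (A := A)
  let a : ∀ M : (Dual.FinLen A), M ≅ F.functor.obj M := fun M => ObjectProperty.isoMk _
    (LinearEquiv.ofBijective (eta F (hn M)) (eta_bijective F (hn M))).toModuleIso
  refine ⟨(NatIso.ofComponents (F := 𝟭 (Dual.FinLen A)) (G := F.functor) a fun {M N} f => ?_).symm⟩
  apply lin_injective
  refine LinearMap.ext fun x => ?_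
  show eta F (hn N) (lin f x) = lin (F.functor.map f) (eta F (hn M) x)
  rw [← eta_le F (le_max_right (n M) (n N)) (hn N), ← eta_le F (le_max_left (n M) (n N)) (hn M)]
  exact eta_natural F _ _ f x

end Groth.Agent.DR39.FinLenEq
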