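import Groth.Agent.DR39.Bidual3
import Groth.Agent.DR39.Residue
import Groth.Agent.LC15.Basic
import Groth.Prelude.Def_DRing3
import Groth.Prelude.Def_DualLC

/-! Torsion sections of a K-injective complex compute local cohomology. -/

set_option autoImplicit false
set_option linter.style.haveILetI false
set_option linter.unusedSectionVars false
set_option backward.isDefEq.respectTransparency false

universe u

open CategoryTheory CategoryTheory.Limits Opposite
open CochainComplex CochainComplex.HomComplex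

attribute [local instance] HasDerivedCategory.standard

namespace Groth.Agent.DR39

variable {A : Type u} [CommRing A] (I : Ideal A) (J : DRing.Cx A)

/-- torsion sections termwise -/
noncomputable abbrev gCx : DRing.Cx A :=
  ((DRing.gammaI I).mapHomologicalComplex (ComplexShape.up ℤ)).obj J

/-- the value at one of a map out of `A/I^n`, as a torsion element -/
noncomputable def tval (n : ℕ) (M : ModuleCat.{u} A) : (LC15.quotPow I n ⟶ M) →ₗ[A] DRing.torsionSub I M where
  toFun f := ⟨f.hom (Submodule.Quotient.mk 1), n, fun a ha => by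
    rw [← map_smul, ← Submodule.Quotient.mk_smul, smul_eq_mul, mul_one,
      (Submodule.Quotient.mk_eq_zero _).mpr ha, map_zero]⟩
  map_add' _ _ := rfl
  map_smul' _ _ := rfl

variable {I} in
theorem exists_of_killed {M : ModuleCat.{u} A} (x : M) {n : ℕ} (h : ∀ a ∈ I ^ n, a • x = 0) :
    ∃ f : LC15.quotPow I n ⟶ M, f.hom (Submodule.Quotient.mk 1) = x :=
  ⟨ModuleCat.ofHom ((I ^ n).liftQ (LinearMap.toSpanSingleton A M x) fun a ha => h a ha), one_smul A x⟩

variable {I} in
theorem quotPow_ext {M : ModuleCat.{u} A} {n : ℕ} {f g : LC15.quotPow I n ⟶ M}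
    (h : f.hom (Submodule.Quotient.mk 1) = g.hom (Submodule.Quotient.mk 1)) : f = g := by
  ext
  exact h

/-- evaluation of a cochain -/
noncomputable def evT (n : ℕ) (q : ℤ) :
    (DRing.homCx (sgl (LC15.quotPow I n)) J).X q →ₗ[A] (gCx I J).X q :=
  (tval I n (J.X q)).comp
    ({ toFun := fun (z : Cochain (sgl (LC15.quotPow I n)) J q) =>
        Cochain.fromSingleEquiv (show (0 : ℤ) + q = q by omega) z
       map_add' := fun z w => map_add (Cochain.fromSingleEquiv (show (0 : ℤ) + q = q by omega)) z w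
       map_smul' := fun c (z : Cochain (sgl (LC15.quotPow I n)) J q) => by
        show (HomologicalComplex.singleObjXSelf _ 0 _).inv ≫ (c • z).v 0 q _ =
          c • ((HomologicalComplex.singleObjXSelf _ 0 _).inv ≫ z.v 0 q _)
        rw [Cochain.smul_v, Linear.comp_smul] } :
      (DRing.homCx (sgl (LC15.quotPow I n)) J).X q →ₗ[A] (LC15.quotPow I n ⟶ J.X q))

theorem evT_fromSingleMk (n : ℕ) (q : ℤ) (f : LC15.quotPow I n ⟶ J.X q) :
    evT I J n q (Cochain.fromSingleMk f (show (0 : ℤ) + q = q by omega)) = tval I n (J.X q) f := by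
  exact congrArg (tval I n (J.X q)) (Cochain.fromSingleEquiv_fromSingleMk f _)

theorem exists_fromSingleMk (n : ℕ) (q : ℤ) (z : (DRing.homCx (sgl (LC15.quotPow I n)) J).X q) :
    ∃ f : LC15.quotPow I n ⟶ J.X q, z = Cochain.fromSingleMk f (show (0 : ℤ) + q = q by omega) :=
  ⟨_, ((Cochain.fromSingleEquiv (show (0 : ℤ) + q = q by omega)).symm_apply_apply (show Cochain _ J q from z)).symm⟩

theorem evT_d (n : ℕ) (q q' : ℤ) (z : (DRing.homCx (sgl (LC15.quotPow I n)) J).X q) :
    ((gCx I J).d q q').hom (evT I J n q z) =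
      evT I J n q' (((DRing.homCx (sgl (LC15.quotPow I n)) J).d q q').hom z) := by
  obtain ⟨f, rfl⟩ := exists_fromSingleMk I J n q z
  show _ = evT I J n q' (δ q q' (Cochain.fromSingleMk f _))
  rw [Cochain.δ_fromSingleMk f _ q' q' (by omega), evT_fromSingleMk, evT_fromSingleMk]
  rfl

/-- evaluation on cycles -/
noncomputable def evZ (n : ℕ) (i : ℤ) : Zd (DRing.homCx (sgl (LC15.quotPow I n)) J) i →ₗ[A] Zd (gCx I J) i :=
  LinearMap.codRestrict _ ((evT I J n i).comp (Submodule.subtype _)) fun z => by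
    show ((gCx I J).d i (i + 1)).hom (evT I J n i z.1) = 0
    rw [evT_d, show ((DRing.homCx (sgl (LC15.quotPow I n)) J).d i (i + 1)).hom z.1 = 0 from z.2, map_zero]

variable [J.IsKInjective]

/-- the comparison map -/
noncomputable def toΓ (n : ℕ) (i : ℤ) :
    ((QA A).obj (sgl (LC15.quotPow I n)) ⟶ (QA A).obj (J⟦i⟧)) →ₗ[A] (gCx I J).homology i :=
  (Submodule.liftQ (LinearMap.ker (clsLin (sgl (LC15.quotPow I n)) J i))
      ((hcls (gCx I J) i).comp (evZ I J n i)) fun z hz => by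
    rw [clsLin_ker, LinearMap.mem_ker, hcls_eq_zero_iff] at hz
    obtain ⟨y, hy⟩ := hz
    rw [LinearMap.mem_ker, LinearMap.comp_apply, hcls_eq_zero_iff]
    exact ⟨evT I J n (i - 1) y, by
      show ((gCx I J).d (i - 1) i).hom (evT I J n (i - 1) y) = evT I J n i z.1
      rw [evT_d, hy]⟩).comp
    (LinearMap.quotKerEquivOfSurjective _ (clsLin_surjective (sgl (LC15.quotPow I n)) J i)).symm.toLinearMap

theorem toΓ_cls (n : ℕ) (i : ℤ) (z : Zd (DRing.homCx (sgl (LC15.quotPow I n)) J) i) :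
    toΓ I J n i (clsLin (sgl (LC15.quotPow I n)) J i z) = hcls (gCx I J) i (evZ I J n i z) := by
  unfold toΓ
  rw [LinearMap.comp_apply]
  have : (LinearMap.quotKerEquivOfSurjective _ (clsLin_surjective (sgl (LC15.quotPow I n)) J i)).symm.toLinearMap
      (clsLin (sgl (LC15.quotPow I n)) J i z) = Submodule.Quotient.mk z := by
    rw [LinearEquiv.coe_toLinearMap, LinearEquiv.symm_apply_eq]
    rfl
  rw [this, Submodule.liftQ_apply]
  rfl

/-- the transition on cycles -/
theorem exists_pre_cycle {n m : ℕ} (h : n ≤ m) (i : ℤ) (z : Zd (DRing.homCx (sgl (LC15.quotPow I n)) J) i) :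
    ∃ z' : Zd (DRing.homCx (sgl (LC15.quotPow I m)) J) i,
      clsLin (sgl (LC15.quotPow I m)) J i z' =
        (QA A).map ((HomologicalComplex.single (ModuleCat.{u} A) (ComplexShape.up ℤ) 0).map (LC15.qmap I h)) ≫
          clsLin (sgl (LC15.quotPow I n)) J i z ∧
      evT I J m i z'.1 = evT I J n i z.1 := by
  let s := (HomologicalComplex.single (ModuleCat.{u} A) (ComplexShape.up ℤ) 0).map (LC15.qmap I h)
  let c := (zToCocycle (sgl (LC15.quotPow I n)) J i z).precomp s
  refine ⟨⟨c.1, Cocycle.δ_eq_zero c (i + 1)⟩, ?_, ?_⟩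
  · show (QA A).map (Cocycle.equivHomShift.symm c) = _ ≫ (QA A).map _
    rw [Cocycle.equivHomShift_symm_precomp, Functor.map_comp]
  · obtain ⟨f, hf⟩ := exists_fromSingleMk I J n i z.1
    have hc : c.1 = Cochain.fromSingleMk (LC15.qmap I h ≫ f) (show (0 : ℤ) + i = i by omega) := by
      show (Cochain.ofHom s).comp (show Cochain _ J i from z.1) (zero_add i) = _
      rw [hf]
      exact (Cochain.fromSingleMk_precomp (LC15.qmap I h) f _).symm
    show evT I J m i c.1 = evT I J n i z.1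
    rw [hc, hf, evT_fromSingleMk, evT_fromSingleMk]
    rfl

theorem toΓ_pre {n m : ℕ} (h : n ≤ m) (i : ℤ) (g : (QA A).obj (sgl (LC15.quotPow I n)) ⟶ (QA A).obj (J⟦i⟧)) :
    toΓ I J m i ((QA A).map ((HomologicalComplex.single (ModuleCat.{u} A) (ComplexShape.up ℤ) 0).map (LC15.qmap I h)) ≫ g) =
      toΓ I J n i g := by
  obtain ⟨z, rfl⟩ := clsLin_surjective (sgl (LC15.quotPow I n)) J i g
  obtain ⟨z', h1, h2⟩ := exists_pre_cycle I J h i z
  rw [← h1, toΓ_cls, toΓ_cls]
  exact congrArg (hcls (gCx I J) i) (Subtype.ext h2)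

theorem toΓ_surj (i : ℤ) (y : (gCx I J).homology i) :
    ∃ (n : ℕ) (g : (QA A).obj (sgl (LC15.quotPow I n)) ⟶ (QA A).obj (J⟦i⟧)), toΓ I J n i g = y := by
  obtain ⟨x, rfl⟩ := hcls_surjective (gCx I J) i y
  obtain ⟨x, hx⟩ := x
  obtain ⟨x, n, hn⟩ := x
  obtain ⟨f, hf⟩ := exists_of_killed x hn
  have hfd : f ≫ J.d i (i + 1) = 0 := quotPow_ext (by
    show (J.d i (i + 1)).hom (f.hom _) = 0
    rw [hf]
    exact congrArg Subtype.val hx)
  let z : Zd (DRing.homCx (sgl (LC15.quotPow I n)) J) i :=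
    ⟨Cochain.fromSingleMk f (show (0 : ℤ) + i = i by omega), by
      show δ i (i + 1) (Cochain.fromSingleMk f _) = 0
      rw [Cochain.δ_fromSingleMk f _ (i + 1) (i + 1) (by omega), hfd, Cochain.fromSingleMk_zero]⟩
  refine ⟨n, clsLin _ J i z, ?_⟩
  rw [toΓ_cls]
  refine congrArg (hcls (gCx I J) i) (Subtype.ext ?_)
  show evT I J n i (Cochain.fromSingleMk f (show (0 : ℤ) + i = i by omega)) = _
  rw [evT_fromSingleMk]
  exact Subtype.ext hf

theorem toΓ_ker {n : ℕ} (i : ℤ) (g : (QA A).obj (sgl (LC15.quotPow I n)) ⟶ (QA A).obj (J⟦i⟧))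
    (hg : toΓ I J n i g = 0) : ∃ (m : ℕ) (h : n ≤ m),
      (QA A).map ((HomologicalComplex.single (ModuleCat.{u} A) (ComplexShape.up ℤ) 0).map (LC15.qmap I h)) ≫ g = 0 := by
  obtain ⟨z, rfl⟩ := clsLin_surjective (sgl (LC15.quotPow I n)) J i g
  rw [toΓ_cls, hcls_eq_zero_iff] at hg
  obtain ⟨y, hy⟩ := hg
  obtain ⟨k, hk⟩ := (y : DRing.torsionSub I (J.X (i - 1))).2
  refine ⟨max n k, le_max_left n k, ?_⟩
  obtain ⟨f, hf⟩ := exists_of_killed (I := I) (y : DRing.torsionSub I (J.X (i - 1))).1 (n := max n k)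
    (fun a ha => hk a (Ideal.pow_le_pow_right (le_max_right n k) ha))
  obtain ⟨z', h1, h2⟩ := exists_pre_cycle I J (le_max_left n k) i z
  rw [← h1, ← LinearMap.mem_ker, clsLin_ker, LinearMap.mem_ker, hcls_eq_zero_iff]
  refine ⟨Cochain.fromSingleMk f (show (0 : ℤ) + (i - 1) = i - 1 by omega), ?_⟩
  obtain ⟨f', hf'⟩ := exists_fromSingleMk I J (max n k) i z'.1
  show δ (i - 1) i (Cochain.fromSingleMk f _) = z'.1
  rw [Cochain.δ_fromSingleMk f _ i i (by omega), hf']
  congr 1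
  refine quotPow_ext ?_
  have e1 : ((J.d (i - 1) i).hom (y : DRing.torsionSub I (J.X (i - 1))).1) = (evT I J n i z.1).1 :=
    congrArg Subtype.val hy
  rw [← h2, hf', evT_fromSingleMk] at e1
  show (J.d (i - 1) i).hom (f.hom _) = f'.hom _
  rw [hf]
  exact e1

section Compare

variable {X : Dual.D A} (e : (QA A).obj J ≅ X)

omit [J.IsKInjective] in
theorem congr_pre {n m : ℕ} (h : n ≤ m) {i : ℤ} {Y : Dual.D A} (e' : X⟦i⟧ ≅ Y)
    (g : Dual.inD A (A ⧸ I ^ n) ⟶ X⟦i⟧) :
    CategoryTheory.Linear.homCongr A (sglQIso (LC15.quotPow I m)).symm e'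
        ((DerivedCategory.singleFunctor (ModuleCat.{u} A) 0).map (LC15.qmap I h) ≫ g) =
      (QA A).map ((HomologicalComplex.single (ModuleCat.{u} A) (ComplexShape.up ℤ) 0).map (LC15.qmap I h)) ≫
        CategoryTheory.Linear.homCongr A (sglQIso (LC15.quotPow I n)).symm e' g := by
  have hn : (QA A).map ((HomologicalComplex.single (ModuleCat.{u} A) (ComplexShape.up ℤ) 0).map (LC15.qmap I h)) ≫
      (sglQIso (LC15.quotPow I n)).hom =
      (sglQIso (LC15.quotPow I m)).hom ≫ (DerivedCategory.singleFunctor (ModuleCat.{u} A) 0).map (LC15.qmap I h) :=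
    (DerivedCategory.singleFunctorIsoCompQ (ModuleCat.{u} A) 0).inv.naturality (LC15.qmap I h)
  simp only [CategoryTheory.Linear.homCongr_apply, Iso.symm_inv]
  refine (congrArg (· ≫ e'.hom) ((Category.assoc _ _ g).symm.trans
    ((congrArg (· ≫ g) hn.symm).trans (Category.assoc _ _ g)))).trans ?_
  exact Category.assoc _ _ e'.hom

/-- the comparison in the derived category -/
noncomputable def toΓ' (n : ℕ) (i : ℤ) :
    (Dual.inD A (A ⧸ I ^ n) ⟶ X⟦i⟧) →ₗ[A] (gCx I J).homology i :=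
  (toΓ I J n i).comp (CategoryTheory.Linear.homCongr A (sglQIso (LC15.quotPow I n)).symm
    ((CategoryTheory.shiftFunctor (Dual.D A) i).mapIso e.symm ≪≫ (((QA A).commShiftIso i).app J).symm)).toLinearMap

theorem toΓ'_pre {n m : ℕ} (h : n ≤ m) (i : ℤ) (g : Dual.inD A (A ⧸ I ^ n) ⟶ X⟦i⟧) :
    toΓ' I J e m i ((DerivedCategory.singleFunctor (ModuleCat.{u} A) 0).map (LC15.qmap I h) ≫ g) =
      toΓ' I J e n i g := by
  refine Eq.trans ?_ (toΓ_pre I J h i _)
  exact congrArg (toΓ I J m i) (congr_pre I h _ g)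

theorem toΓ'_surj (i : ℤ) (y : (gCx I J).homology i) :
    ∃ (n : ℕ) (g : Dual.inD A (A ⧸ I ^ n) ⟶ X⟦i⟧), toΓ' I J e n i g = y := by
  obtain ⟨n, g, hg⟩ := toΓ_surj I J i y
  obtain ⟨g', hg'⟩ := (CategoryTheory.Linear.homCongr A (sglQIso (LC15.quotPow I n)).symm
    ((CategoryTheory.shiftFunctor (Dual.D A) i).mapIso e.symm ≪≫ (((QA A).commShiftIso i).app J).symm)).surjective g
  exact ⟨n, g', by rw [← hg, ← hg']; rfl⟩

theorem toΓ'_ker {n : ℕ} (i : ℤ) (g : Dual.inD A (A ⧸ I ^ n) ⟶ X⟦i⟧) (hg : toΓ' I J e n i g = 0) :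
    ∃ (m : ℕ) (h : n ≤ m), (DerivedCategory.singleFunctor (ModuleCat.{u} A) 0).map (LC15.qmap I h) ≫ g = 0 := by
  obtain ⟨m, h, hm⟩ := toΓ_ker I J i _ hg
  refine ⟨m, h, (CategoryTheory.Linear.homCongr A (sglQIso (LC15.quotPow I m)).symm
    ((CategoryTheory.shiftFunctor (Dual.D A) i).mapIso e.symm ≪≫ (((QA A).commShiftIso i).app J).symm)).injective ?_⟩
  rw [map_zero, ← hm]
  exact congr_pre I h _ g

include e in
theorem HDI_equiv (i : ℤ) : Nonempty (Dual2.HDI A I X i ≃ₗ[A] (gCx I J).homology i) := by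
  let F := (localCohomology.ringModIdeals (localCohomology.idealPowersDiagram I) ⋙
      DerivedCategory.singleFunctor (ModuleCat.{u} A) 0).op ⋙ (linearYoneda A (Dual.D A)).obj (X⟦i⟧)
  let c : Cocone F :=
    { pt := ModuleCat.of A (ULift.{u + 1} ((gCx I J).homology i))
      ι :=
        { app := fun j => ModuleCat.ofHom (X := (Dual.inD A (A ⧸ I ^ (unop (unop j))) ⟶ X⟦i⟧))
            (ULift.moduleEquiv.symm.toLinearMap.comp (toΓ' I J e (unop (unop j)) i))
          naturality := by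
            rintro ⟨⟨n⟩⟩ ⟨⟨m⟩⟩ f
            have h : n ≤ m := leOfHom f.unop.unop
            obtain rfl : f = (homOfLE h).op.op :=
              Quiver.Hom.unop_inj (Quiver.Hom.unop_inj (Subsingleton.elim _ _))
            refine ModuleCat.hom_ext (LinearMap.ext fun x => ?_)
            exact congrArg ULift.up (toΓ'_pre I J e h i x) } }
  haveI : PreservesFilteredColimitsOfSize.{0, 0} (forget AddCommGrpCat.{u + 1}) :=
    preservesFilteredColimitsOfSize_shrink.{0, u + 1, 0, u + 1} _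
  haveI : PreservesColimit F (forget₂ (ModuleCat.{u + 1} A) AddCommGrpCat ⋙ forget AddCommGrpCat) := inferInstance
  haveI : PreservesColimit F (forget (ModuleCat.{u + 1} A)) := this
  let φ := (colimit.desc F c).hom
  have hφ : ∀ (j : ℕᵒᵖᵒᵖ) (x : F.obj j), φ (colimit.ι F j x) = c.ι.app j x := fun j x =>
    ConcreteCategory.congr_hom (colimit.ι_desc c j) x
  refine ⟨(LinearEquiv.ofBijective φ ⟨?_, ?_⟩).trans ULift.moduleEquiv⟩
  · rw [injective_iff_map_eq_zero]
    intro y hy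
    obtain ⟨⟨⟨n⟩⟩, x, rfl⟩ := Concrete.colimit_exists_rep F y
    rw [hφ] at hy
    obtain ⟨m, h, hm⟩ := toΓ'_ker I J e i x (congrArg ULift.down hy)
    have := ConcreteCategory.congr_hom (colimit.w F (homOfLE h).op.op) x
    rw [← this, ConcreteCategory.comp_apply]
    refine (congrArg _ ?_).trans (map_zero _)
    exact hm
  · rintro ⟨y⟩
    obtain ⟨n, g, hg⟩ := toΓ'_surj I J e i y
    exact ⟨colimit.ι F (op (op n)) g, (hφ _ _).trans (congrArg ULift.up hg)⟩

variable (M : Type u) [AddCommGroup M] [Module A M]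

theorem H_equiv (e : (QA A).obj J ≅ Dual.inD A M) (i : ℕ) :
    Nonempty (LocCoh.H I i M ≃ₗ[A] (gCx I J).homology (i : ℤ)) := by
  let E : ∀ n, Abelian.Ext (LC15.quotPow I n) (ModuleCat.of A M) i ≃ₗ[A]
      (Dual.inD A (A ⧸ I ^ n) ⟶ (Dual.inD A M)⟦(i : ℤ)⟧) := fun n =>
    { toEquiv := Abelian.Ext.homEquiv
      map_add' := fun x y => Abelian.Ext.add_hom x y
      map_smul' := fun r x => Abelian.Ext.smul_hom x r }
  let φ : ∀ n, Abelian.Ext (LC15.quotPow I n) (ModuleCat.of A M) i →ₗ[A] (gCx I J).homology (i : ℤ) := fun n =>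
    (toΓ' I J e n i).comp (E n).toLinearMap
  have hE : ∀ (n m : ℕ) (h : n ≤ m) (x : Abelian.Ext (LC15.quotPow I n) (ModuleCat.of A M) i),
      E m ((Abelian.Ext.mk₀ (LC15.qmap I h)).comp x (zero_add i)) =
        (DerivedCategory.singleFunctor (ModuleCat.{u} A) 0).map (LC15.qmap I h) ≫ E n x := fun n m h x => by
    show ((Abelian.Ext.mk₀ (LC15.qmap I h)).comp x (zero_add i)).hom = _
    rw [Abelian.Ext.comp_hom, Abelian.Ext.mk₀_hom, ShiftedHom.mk₀_comp]
    rfl
  have hφ : ∀ (n m : ℕ) (h : n ≤ m) (x : Abelian.Ext (LC15.quotPow I n) (ModuleCat.of A M) i),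
      φ m ((Abelian.Ext.mk₀ (LC15.qmap I h)).comp x (zero_add i)) = φ n x := fun n m h x => by
    show toΓ' I J e m i (E m _) = toΓ' I J e n i (E n x)
    rw [hE, toΓ'_pre]
  refine ⟨LinearEquiv.ofBijective (LC15.descH I i M φ hφ) ⟨?_, ?_⟩⟩
  · rw [injective_iff_map_eq_zero]
    intro y hy
    obtain ⟨n, x, rfl⟩ := LC15.toH_surj I i M y
    rw [LC15.descH_toH] at hy
    obtain ⟨m, h, hm⟩ := toΓ'_ker I J e (i : ℤ) (E n x) hy
    refine (LC15.toH_eq_zero_iff I i M x).2 ⟨m, h, (E m).injective ?_⟩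
    rw [hE, map_zero]
    exact hm
  · intro y
    obtain ⟨n, g, hg⟩ := toΓ'_surj I J e (i : ℤ) y
    refine ⟨LC15.toH I i M n ((E n).symm g), ?_⟩
    rw [LC15.descH_toH]
    show toΓ' I J e n i (E n ((E n).symm g)) = y
    rw [LinearEquiv.apply_symm_apply, hg]

end Compare

end Groth.Agent.DR39
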