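import Groth.Agent.DR39.InvTwist
import Mathlib.LinearAlgebra.Contraction
import Mathlib.Topology.Connected.Clopen

/-! Dualizing complexes on a connected spectrum differ by a shifted invertible module. -/

set_option autoImplicit false
set_option linter.style.haveILetI false
set_option linter.unusedSectionVars false
set_option backward.isDefEq.respectTransparency false

universe u

open CategoryTheory CategoryTheory.Limits MonoidalCategory
open CochainComplex CochainComplex.HomComplex HomologicalComplex
open scoped TensorProduct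

attribute [local instance] HasDerivedCategory.standard

namespace Groth.Agent.DR39

variable {A : Type u} [CommRing A]

theorem invertible_of_locally_one (H : Type*) [AddCommGroup H] [Module A H] [Module.Finite A H]
    [IsNoetherianRing A]
    (h : ∀ (P : Ideal A) [P.IsMaximal], ∃ g : H, (∀ x : H, ∃ s : A, s ∉ P ∧ ∃ r : A, s • x = r • g) ∧
      ∀ r : A, r • g = 0 → ∃ u : A, u ∉ P ∧ u * r = 0) :
    Module.Invertible A H := by
  classical
  have key : ∀ (P : Ideal A) [P.IsMaximal], ∃ (g : H) (s : A), s ∉ P ∧ (∀ x : H, ∃ r : A, s • x = r • g) ∧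
      ∃ u : A, u ∉ P ∧ ∀ r : A, r • g = 0 → u * r = 0 := by
    intro P _
    obtain ⟨g, h1, h2⟩ := h P
    obtain ⟨T, hT⟩ := Module.Finite.fg_top (R := A) (M := H)
    choose s hs r hr using fun x : H => h1 x
    refine ⟨g, T.prod s, fun hm => ?_, fun x => ?_, ?_⟩
    · obtain ⟨x, -, hx⟩ := ((inferInstance : P.IsPrime).prod_mem_iff).1 hm
      exact hs x hx
    · have hx : x ∈ Submodule.span A (T : Set H) := hT.symm ▸ Submodule.mem_top
      induction hx using Submodule.span_induction with
      | mem y hy =>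
        obtain ⟨c, hc⟩ := Finset.dvd_prod_of_mem s hy
        exact ⟨c * r y, by rw [hc, mul_comm, mul_smul, hr, ← mul_smul]⟩
      | zero => exact ⟨0, by rw [smul_zero, zero_smul]⟩
      | add y z _ _ hy hz =>
        obtain ⟨ry, hy⟩ := hy; obtain ⟨rz, hz⟩ := hz
        exact ⟨ry + rz, by rw [smul_add, hy, hz, add_smul]⟩
      | smul c y _ hy =>
        obtain ⟨ry, hy⟩ := hy
        exact ⟨c * ry, by rw [smul_comm, hy, mul_smul]⟩
    · let J : Ideal A := LinearMap.ker (LinearMap.toSpanSingleton A H g)
      obtain ⟨U, hU⟩ := IsNoetherian.noetherian J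
      choose u hu hu0 using fun x : J => h2 x.1 x.2
      let v : A → A := fun x => if hx : x ∈ J then u ⟨x, hx⟩ else 1
      refine ⟨U.prod v, fun hm => ?_, fun z hz => ?_⟩
      · obtain ⟨x, hx, hxv⟩ := ((inferInstance : P.IsPrime).prod_mem_iff).1 hm
        have hxJ : x ∈ J := hU ▸ Submodule.subset_span hx
        simp only [v, dif_pos hxJ] at hxv
        exact hu _ hxv
      · have hz' : z ∈ Submodule.span A (U : Set A) := hU.symm ▸ hz
        clear hz
        induction hz' using Submodule.span_induction with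
        | mem y hy =>
          obtain ⟨c, hc⟩ := Finset.dvd_prod_of_mem v hy
          have hyJ : y ∈ J := hU ▸ Submodule.subset_span hy
          have := hu0 ⟨y, hyJ⟩
          simp only [v, dif_pos hyJ] at hc
          rw [hc, mul_right_comm, this, zero_mul]
        | zero => rw [mul_zero]
        | add y z _ _ hy' hz' => rw [mul_add, hy', hz', add_zero]
        | smul c y _ hy' => rw [smul_eq_mul, mul_left_comm, hy', mul_zero]
  refine ⟨⟨?_, ?_⟩⟩
  · rw [injective_iff_map_eq_zero]
    intro x hx
    let I : Ideal A := LinearMap.ker (LinearMap.toSpanSingleton A _ x)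
    suffices hI : I = ⊤ by
      have h1 : (1 : A) • x = 0 := LinearMap.mem_ker.1 (show (1 : A) ∈ I by rw [hI]; trivial)
      rwa [one_smul] at h1
    by_contra hne
    obtain ⟨P, hP, hle⟩ := Ideal.exists_le_maximal I hne
    obtain ⟨g, s, hs, hsg, -⟩ := key P
    obtain ⟨φ, hφ⟩ : ∃ φ : Module.Dual A H, s • x = φ ⊗ₜ[A] g := by
      clear hx hle hne I
      induction x using TensorProduct.induction_on with
      | zero => exact ⟨0, by rw [smul_zero, TensorProduct.zero_tmul]⟩
      | tmul φ y =>
        obtain ⟨r, hr⟩ := hsg y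
        exact ⟨r • φ, by rw [← TensorProduct.tmul_smul, hr, TensorProduct.smul_tmul]⟩
      | add a b ha hb =>
        obtain ⟨φ, ha⟩ := ha; obtain ⟨ψ, hb⟩ := hb
        exact ⟨φ + ψ, by rw [smul_add, ha, hb, TensorProduct.add_tmul]⟩
    have hφg : φ g = 0 := by
      have := congrArg (contractLeft A H) hφ
      rw [map_smul, hx, smul_zero, contractLeft_apply] at this
      exact this.symm
    have hsφ : s • φ = 0 := LinearMap.ext fun y => by
      obtain ⟨r, hr⟩ := hsg y
      rw [LinearMap.smul_apply, ← map_smul, hr, map_smul, hφg, smul_zero, LinearMap.zero_apply]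
    have : s * s ∈ I := LinearMap.mem_ker.2 (by
      show (s * s) • x = 0
      rw [mul_smul, hφ, TensorProduct.smul_tmul', hsφ, TensorProduct.zero_tmul])
    exact hs ((hP.isPrime.mem_or_mem (hle this)).elim id id)
  · rw [← LinearMap.range_eq_top]
    by_contra hne
    obtain ⟨P, hP, hle⟩ := Ideal.exists_le_maximal (LinearMap.range (contractLeft A H)) hne
    obtain ⟨g, s, hs, hsg, u, hu, hug⟩ := key P
    choose r hr using hsg
    have hwd : ∀ (a b : A) (y : H), s • y = a • g → s • y = b • g → u * a = u * b := fun a b y ha hb => by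
      have := hug (a - b) (by rw [sub_smul, ← ha, ← hb, sub_self])
      rwa [mul_sub, sub_eq_zero] at this
    let φ : Module.Dual A H :=
      { toFun := fun y => u * r y
        map_add' := fun y z => by
          rw [← mul_add]
          exact hwd _ _ (y + z) (hr _) (by rw [smul_add, hr, hr, add_smul])
        map_smul' := fun c y => by
          rw [RingHom.id_apply, smul_eq_mul, mul_left_comm]
          exact hwd _ _ (c • y) (hr _) (by rw [smul_comm, hr, mul_smul]) }
    have hφ : φ g = u * s := hwd _ _ g (hr g) rfl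
    have hmem : φ g ∈ P := hle ⟨φ ⊗ₜ g, contractLeft_apply φ g⟩
    rw [hφ] at hmem
    exact (hP.isPrime.mem_or_mem hmem).elim hu hs

/-- maps out of a projective module in one degree -/
theorem homCx_single_proj_iso (p : ℤ) (M : Type u) [AddCommGroup M] [Module A M] [Module.Finite A M]
    [Module.Projective A M] (I : DRing.Cx A) :
    Nonempty (DRing.tensorCx (I⟦p⟧) (ModuleCat.of A (Module.Dual A M)) ≅
      DRing.homCx ((CochainComplex.singleFunctor (ModuleCat.{u} A) p).obj (ModuleCat.of A M)) I) := by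
  let τ : ∀ n, (I.X (n + p) ⊗[A] Module.Dual A M) ≃ₗ[A] (M →ₗ[A] I.X (n + p)) := fun n =>
    (TensorProduct.comm A _ _).trans (LinearEquiv.ofBijective (dualTensorHom A M (I.X (n + p))) dualTensorHom_bijective)
  let f : ∀ n, (I.X (n + p) ⊗[A] Module.Dual A M) →ₗ[A]
      Cochain ((CochainComplex.singleFunctor (ModuleCat.{u} A) p).obj (ModuleCat.of A M)) I n := fun n =>
    { toFun := fun w => (n * p).negOnePow • Cochain.fromSingleMk
        (ModuleCat.ofHom (X := M) (Y := I.X (n + p)) (τ n w)) (show p + n = n + p by omega)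
      map_add' := fun x y => by
        rw [← smul_add, ← Cochain.fromSingleMk_add, map_add]
        rfl
      map_smul' := fun c x => by
        rw [RingHom.id_apply, smul_comm]
        congr 1
        refine (Cochain.fromSingleEquiv (show p + n = n + p by omega)).injective ?_
        show _ = _ ≫ (c • _ : Cochain _ I n).v p (n + p) _
        rw [Cochain.fromSingleEquiv_fromSingleMk, Cochain.smul_v, Linear.comp_smul, Cochain.fromSingleMk_v,
          Iso.inv_hom_id_assoc, map_smul]
        rfl }
  have hf : ∀ n, Function.Bijective (f n) := fun n => by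
    refine ⟨fun x y hxy => ?_, fun z => ?_⟩
    · have h1 : Cochain.fromSingleMk (ModuleCat.ofHom (X := M) (Y := I.X (n + p)) (τ n x))
          (show p + n = n + p by omega) = Cochain.fromSingleMk
          (ModuleCat.ofHom (X := M) (Y := I.X (n + p)) (τ n y)) (show p + n = n + p by omega) :=
        (MulAction.injective (n * p).negOnePow) hxy
      have h2 := congrArg (Cochain.fromSingleEquiv (show p + n = n + p by omega)) h1
      rw [Cochain.fromSingleEquiv_fromSingleMk, Cochain.fromSingleEquiv_fromSingleMk] at h2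
      exact (τ n).injective (congrArg ModuleCat.Hom.hom h2)
    · obtain ⟨g, hg⟩ := Cochain.fromSingleMk_surjective ((n * p).negOnePow • z) (n + p) (show p + n = n + p by omega)
      refine ⟨(τ n).symm g.hom, ?_⟩
      show (n * p).negOnePow • Cochain.fromSingleMk _ _ = z
      rw [LinearEquiv.apply_symm_apply, ModuleCat.ofHom_hom, hg, smul_smul, Int.units_mul_self, one_smul]
  refine ⟨HomologicalComplex.Hom.isoOfComponents
    (fun n => ((LinearEquiv.ofBijective (f n) (hf n)).toModuleIso :
      ModuleCat.of A (I.X (n + p) ⊗[A] Module.Dual A M) ≅ _)) fun n n' hn => ?_⟩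
  change n + 1 = n' at hn
  subst hn
  refine ModuleCat.hom_ext (LinearMap.ext fun (x : I.X (n + p) ⊗[A] Module.Dual A M) => ?_)
  show δ n (n + 1) (f n x) = f (n + 1) ((p.negOnePow • I.d (n + p) (n + 1 + p)).hom.rTensor (Module.Dual A M) x)
  have hτ : ∀ w, τ (n + 1) ((p.negOnePow • I.d (n + p) (n + 1 + p)).hom.rTensor (Module.Dual A M) w) =
      p.negOnePow • ((I.d (n + p) (n + 1 + p)).hom ∘ₗ τ n w) := fun w => by
    induction w using TensorProduct.induction_on with
    | zero => simp
    | tmul a φ =>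
      refine LinearMap.ext fun m => ?_
      show φ m • (p.negOnePow • (I.d (n + p) (n + 1 + p)).hom a) = p.negOnePow • (I.d (n + p) (n + 1 + p)).hom (φ m • a)
      rw [map_smul, smul_comm]
    | add a b ha hb => simp only [map_add, ha, hb, LinearMap.comp_add, smul_add]
  rw [show f n x = (n * p).negOnePow • _ from rfl, δ_units_smul,
    Cochain.δ_fromSingleMk _ _ (n + 1) (n + 1 + p) (by omega),
    show f (n + 1) _ = ((n + 1) * p).negOnePow • _ from rfl, hτ,
    show ModuleCat.ofHom (X := M) (Y := I.X (n + 1 + p)) (p.negOnePow • ((I.d (n + p) (n + 1 + p)).hom ∘ₗ τ n x)) =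
      p.negOnePow • (ModuleCat.ofHom (X := M) (Y := I.X (n + p)) (τ n x) ≫ I.d (n + p) (n + 1 + p)) from rfl,
    ← Cochain.fromSingleEquiv_symm_units_smul, smul_smul, ← Int.negOnePow_add,
    show (n + 1) * p + p = n * p + (p + p) by ring, Int.negOnePow_add (n * p),
    Int.negOnePow_add p p, Int.units_mul_self, mul_one]
where
  Cochain.fromSingleEquiv_symm_units_smul {X : ModuleCat.{u} A} {K : DRing.Cx A} {p q n : ℤ} {h : p + n = q}
      (s : ℤˣ) (g : X ⟶ K.X q) : s • Cochain.fromSingleMk g h = Cochain.fromSingleMk (s • g) h := by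
    rw [Units.smul_def, Units.smul_def]
    exact (map_zsmul (Cochain.fromSingleEquiv h).symm _ _).symm

section Global

variable [IsNoetherianRing A] {ω ω' : Dual.D A}

theorem gm_atPrime (hω : Dual.IsDualizing A ω) (hω' : Dual.IsDualizing A ω') (P : Ideal A) [P.IsPrime] :
    ∃ n : ℤ, (∀ i, i ≠ n → Subsingleton (LocalizedModule P.primeCompl (ω' ⟶ ω⟦i⟧))) ∧
      Nonempty (LocalizedModule P.primeCompl (ω' ⟶ ω⟦n⟧) ≃ₗ[Localization P.primeCompl] Localization P.primeCompl) := by
  let C := Localization.AtPrime P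
  haveI : Module.Flat A C := IsLocalization.flat C P.primeCompl
  haveI : IsNoetherianRing C := IsLocalization.isNoetherianRing P.primeCompl _ inferInstance
  have h1 := isDualizing_atPrime hω P
  obtain ⟨n, ⟨e⟩⟩ := unique_up_to_shift h1 (isDualizing_atPrime hω' P)
  obtain ⟨a, b, hab, -⟩ := exists_bounds hω
  obtain ⟨a', b', hab', -⟩ := exists_bounds hω'
  have hpc : ∀ m, PC m ω' := fun m => pc_of_homology (b := b' + 1) (fun i hi => hab' i (Or.inr (by omega)))
    fun i _ => by
      haveI : Module.Finite A ((HF A i).obj ω') := hω'.finite_cohomology i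
      exact pc_inD (A := A) ((HF A i).obj ω') _
  let Y := (DF (extA A C)).obj ω
  let g : ∀ i, LocalizedModule P.primeCompl (ω' ⟶ ω⟦i⟧) ≃ₗ[C] (Y⟦n⟧ ⟶ Y⟦i⟧) := fun i =>
    (LocalizedModule.equivTensorProduct P.primeCompl (ω' ⟶ ω⟦i⟧)).trans
      ((LinearEquiv.ofBijective (thetaBar C ω' (ω⟦i⟧)) (good_shift C hpc (fun j hj => hab j (Or.inl hj)) i)).trans
        (CategoryTheory.Linear.homCongr C e (((DF (extA A C)).commShiftIso i).app ω)))
  refine ⟨n, fun i hi => ?_, ?_⟩
  · haveI : Subsingleton ((𝟭 (Dual.D C)).obj Y ⟶ (CategoryTheory.shiftFunctor (Dual.D C) (-n + i)).obj Y) :=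
      h1.ext_self_subsingleton (-n + i) (by omega)
    refine (g i).toEquiv.trans ((Functor.FullyFaithful.ofFullyFaithful (CategoryTheory.shiftFunctor (Dual.D C) (-n))).homEquiv.trans
      (Iso.homCongr ((CategoryTheory.shiftFunctorCompIsoId (Dual.D C) n (-n) (by omega)).app Y)
        ((CategoryTheory.shiftFunctorAdd' (Dual.D C) i (-n) (-n + i) (by omega)).app Y).symm)) |>.subsingleton
  · exact ⟨(g n).trans (((LinearEquiv.ofBijective (LinearMap.toSpanSingleton C _ (𝟙 Y)) h1.toEnd_bijective).trans
      (LinearEquiv.ofBijective ((CategoryTheory.shiftFunctor (Dual.D C) n).mapLinearMap C (X := Y) (Y := Y))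
        ⟨(CategoryTheory.shiftFunctor (Dual.D C) n).map_injective,
          (CategoryTheory.shiftFunctor (Dual.D C) n).map_surjective⟩)).symm)⟩

theorem exists_invertible_shift [ConnectedSpace (PrimeSpectrum A)] (hω : Dual.IsDualizing A ω)
    (hω' : Dual.IsDualizing A ω') :
    ∃ (E : DRing.Cx A) (P : ModuleCat.{u} A) (_ : Module.Invertible A P) (n : ℤ),
      Nonempty ((QA A).obj E ≅ ω) ∧ Nonempty (ω' ≅ ((QA A).obj (DRing.tensorCx E P))⟦n⟧) := by
  obtain ⟨D, ⟨eD⟩⟩ := exists_dualModel hω
  obtain ⟨D', ⟨eD'⟩⟩ := exists_dualModel hω'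
  haveI := D.isKInjective
  let L0 := DRing.homCx D'.I D.I
  let eH : ∀ i, (HF A i).obj ((QA A).obj L0) ≃ₗ[A] (ω' ⟶ ω⟦i⟧) := fun i =>
    (HQIso L0 i).toLinearEquiv.trans ((homologyHomCxEquiv D'.I D.I i).trans
      (CategoryTheory.Linear.homCongr A eD'
        (((QA A).commShiftIso i).app D.I ≪≫ (CategoryTheory.shiftFunctor (Dual.D A) i).mapIso eD)))
  have hL0fin := finite_HF_homCx D D'.I (fun j => D'.dualizing.finite_cohomology j)
  have hfin : ∀ i, Module.Finite A (ω' ⟶ ω⟦i⟧) := fun i => by
    haveI : Module.Finite A ((HF A i).obj ((QA A).obj L0)) := hL0fin i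
    exact Module.Finite.equiv (eH i)
  choose N hN1 hN2 using fun q : PrimeSpectrum A => gm_atPrime hω hω' q.asIdeal
  let S : ℤ → Set (PrimeSpectrum A) := fun i => {q | N q = i}
  have hS : ∀ i, S i = Module.support A (ω' ⟶ ω⟦i⟧) := fun i => Set.ext fun q => by
    rw [Module.mem_support_iff]
    constructor
    · intro h
      obtain rfl : N q = i := h
      exact (hN2 q).some.symm.toEquiv.nontrivial_congr.1 inferInstance
    · intro h
      by_contra hne
      exact not_subsingleton_iff_nontrivial.2 h (hN1 q i (Ne.symm hne))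
  have hclosed : ∀ i, IsClosed (S i) := fun i => by
    haveI := hfin i
    rw [hS i]
    exact Module.isClosed_support
  -- only finitely many degrees
  have hbd : ∀ q, N q ∈ Set.Icc (D.a - D'.b) (D.b - D'.a) := fun q => by
    by_contra hout
    rw [Set.mem_Icc] at hout
    have hz : IsZero ((HF A (N q)).obj ((QA A).obj L0)) := by
      refine (isZero_HF_Q_iff L0 (N q)).2 ((isZero_homology_iff L0 _).2 fun x _ => ⟨0, ?_⟩)
      have : Subsingleton (L0.X (N q)) := ⟨fun (z z' : Cochain D'.I D.I (N q)) => Cochain.ext _ _ fun p r hpr => by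
        by_cases hp : p < D'.a ∨ D'.b < p
        · exact (D'.zero p hp).eq_of_src _ _
        · exact (D.zero r (by omega)).eq_of_tgt _ _⟩
      exact Subsingleton.elim _ _
    haveI := ModuleCat.subsingleton_of_isZero hz
    haveI := (eH (N q)).symm.toEquiv.subsingleton
    have hq : q ∈ Module.support A (ω' ⟶ ω⟦N q⟧) := hS (N q) ▸ rfl
    rw [Module.support_eq_empty] at hq
    exact hq
  obtain ⟨q0⟩ := (inferInstance : Nonempty (PrimeSpectrum A))
  have hopen : IsOpen (S (N q0)) := by
    rw [← isClosed_compl_iff]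
    have : (S (N q0))ᶜ = ⋃ i ∈ Set.Icc (D.a - D'.b) (D.b - D'.a) \ {N q0}, S i := by
      ext q
      simp only [Set.mem_compl_iff, Set.mem_iUnion, exists_prop, Set.mem_sdiff, Set.mem_singleton_iff]
      exact ⟨fun h => ⟨N q, ⟨hbd q, h⟩, rfl⟩, fun ⟨i, ⟨_, hi⟩, hq⟩ h => hi (hq.symm.trans h)⟩
    rw [this]
    exact Set.Finite.isClosed_biUnion ((Set.finite_Icc _ _).subset Set.sdiff_subset) fun i _ => hclosed i
  have huniv : S (N q0) = Set.univ := (IsClopen.eq_univ ⟨hclosed _, hopen⟩ ⟨q0, rfl⟩)
  set n := N q0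
  have hNn : ∀ q, N q = n := fun q => (huniv.symm ▸ Set.mem_univ q : q ∈ S n)
  have hzero : ∀ i, i ≠ n → IsZero ((HF A i).obj ((QA A).obj L0)) := fun i hi => by
    haveI : Subsingleton (ω' ⟶ ω⟦i⟧) := by
      rw [← Module.support_eq_empty_iff (R := A), ← hS i]
      exact Set.eq_empty_iff_forall_notMem.2 fun q hq => hi (hq.symm.trans (hNn q))
    exact (isZero_HF_iff _ i).2 (eH i).toEquiv.subsingleton
  let H : ModuleCat.{u} A := (HF A n).obj ((QA A).obj L0)
  haveI : Module.Finite A H := hL0fin n
  haveI hinv : Module.Invertible A H := by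
    haveI := hfin n
    haveI : Module.Invertible A (ω' ⟶ ω⟦n⟧) := invertible_of_locally_one _ fun P hP => by
      let q : PrimeSpectrum A := ⟨P, hP.isPrime⟩
      obtain ⟨e⟩ := hN2 q
      rw [hNn q] at e
      obtain ⟨g, t, hg⟩ : ∃ (g : ω' ⟶ ω⟦n⟧) (t : P.primeCompl), LocalizedModule.mk g t = e.symm 1 := by
        induction e.symm 1 using LocalizedModule.induction_on with
        | h m s => exact ⟨m, s, rfl⟩
      refine ⟨g, fun x => ?_, fun r hr => ?_⟩
      · obtain ⟨⟨a, s⟩, ha⟩ := IsLocalization.surj P.primeCompl (e (LocalizedModule.mk x 1))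
        have h1 : (s : A) • LocalizedModule.mk x 1 = a • LocalizedModule.mk g t := e.injective (by
          rw [hg, ← algebraMap_smul (Localization P.primeCompl) (s : A), ← algebraMap_smul (Localization P.primeCompl) a,
            map_smul, map_smul, e.apply_symm_apply, smul_eq_mul, smul_eq_mul, mul_one, mul_comm]
          exact ha)
        rw [LocalizedModule.smul'_mk, LocalizedModule.smul'_mk, LocalizedModule.mk_eq] at h1
        obtain ⟨c, hc⟩ := h1
        refine ⟨c.1 * (t.1 * s.1), (c * (t * s)).2, c.1 * a, ?_⟩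
        simpa [Submonoid.smul_def, mul_smul] using hc
      · have h1 : r • LocalizedModule.mk g t = 0 := by
          rw [LocalizedModule.smul'_mk, hr, LocalizedModule.zero_mk]
        rw [hg, ← algebraMap_smul (Localization P.primeCompl) r, ← map_smul] at h1
        have h2 : r • (1 : Localization P.primeCompl) = 0 := by
          have := congrArg e h1
          rwa [map_zero, LinearEquiv.apply_symm_apply, algebraMap_smul] at this
        rw [Algebra.smul_def, mul_one, IsLocalization.map_eq_zero_iff P.primeCompl] at h2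
        obtain ⟨c, hc⟩ := h2
        exact ⟨c, c.2, hc⟩
    exact Module.Invertible.congr (eH n).symm
  obtain ⟨e1⟩ := exists_iso_single_homology ((QA A).obj L0) n hzero
  obtain ⟨h2⟩ := bidual_iso D D'.I fun j => D'.dualizing.finite_cohomology j
  obtain ⟨h3⟩ := homCx_iso_of_iso D.I (e1 ≪≫ (DerivedCategory.singleFunctorIsoCompQ (ModuleCat.{u} A) n).app H :
    (QA A).obj L0 ≅ (QA A).obj ((CochainComplex.singleFunctor (ModuleCat.{u} A) n).obj H))
  obtain ⟨h4⟩ := homCx_single_proj_iso n H D.I
  refine ⟨D.I, ModuleCat.of A (Module.Dual A H), inferInstanceAs (Module.Invertible A (Module.Dual A H)), n, ⟨eD⟩, ⟨?_⟩⟩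
  exact eD'.symm ≪≫ h2.symm ≪≫ h3 ≪≫ (QA A).mapIso h4.symm ≪≫
    (QA A).mapIso ((((tensorRight (ModuleCat.of A (Module.Dual A H))).mapHomologicalComplex (ComplexShape.up ℤ)).commShiftIso n).app D.I) ≪≫
    ((QA A).commShiftIso n).app _

end Global

end Groth.Agent.DR39
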