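import Groth.Agent.DR39.FibreExt
import Groth.Agent.DR39.InvExist
import Mathlib.RingTheory.PicardGroup

/-! Gorenstein fibres and invertibility of the top Ext module. -/

set_option autoImplicit false
set_option linter.style.haveILetI false
set_option linter.unusedSectionVars false
set_option backward.isDefEq.respectTransparency false

universe u

open CategoryTheory CategoryTheory.Limits
open scoped TensorProduct

attribute [local instance] HasDerivedCategory.standard Groth.Agent.Shriek42.hasLB
  Algebra.TensorProduct.rightAlgebra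

namespace Groth.Agent.DR39

theorem invertible_of_away {B : Type u} [CommRing B] [IsNoetherianRing B] (H : Type u) [AddCommGroup H] [Module B H]
    [Module.Finite B H]
    (h : ∀ P : Ideal B, P.IsMaximal → ∃ f : B, f ∉ P ∧
      Nonempty (LocalizedModule (Submonoid.powers f) H ≃ₗ[Localization.Away f] Localization.Away f)) :
    Module.Invertible B H := by
  refine invertible_of_locally_one H fun P hP => ?_
  obtain ⟨f, hf, ⟨e⟩⟩ := h P hP
  have hpow : ∀ s : Submonoid.powers f, (s : B) ∉ P := by
    rintro ⟨_, k, rfl⟩ hk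
    exact hf (hP.isPrime.mem_of_pow_mem k hk)
  have hone : (1 : B) ∉ P := fun h1 => hP.ne_top ((Ideal.eq_top_iff_one P).2 h1)
  obtain ⟨⟨g, t⟩, hg⟩ := IsLocalizedModule.surj (Submonoid.powers f)
    (LocalizedModule.mkLinearMap (Submonoid.powers f) H) (e.symm 1)
  let S := Submonoid.powers f
  let ι := LocalizedModule.mkLinearMap S H
  have hg' : ι g = algebraMap B (Localization.Away f) t • e.symm 1 := by
    rw [algebraMap_smul]
    exact hg.symm
  have hgen : ∀ (c : Localization.Away f), e.symm c = c • e.symm 1 := fun c => by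
    rw [← map_smul, smul_eq_mul, mul_one]
  refine ⟨g, fun x => ?_, fun r hr => ?_⟩
  · obtain ⟨⟨r, s⟩, hrs⟩ := IsLocalization.surj S (e (ι x))
    have h1 : ι ((s : B) • (t : B) • x) = ι (r • g) := by
      rw [map_smul, map_smul, map_smul, hg']
      rw [← algebraMap_smul (Localization.Away f) (s : B), ← algebraMap_smul (Localization.Away f) (t : B),
        ← algebraMap_smul (Localization.Away f) r, ← e.symm_apply_apply (ι x), hgen (e (ι x)), smul_smul, smul_smul,
        smul_smul]
      refine congrArg (· • e.symm 1) ?_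
      have hrs' : e (ι x) * algebraMap B (Localization.Away f) s = algebraMap B (Localization.Away f) r := hrs
      rw [← hrs']
      ring
    obtain ⟨c, hc⟩ := IsLocalizedModule.exists_of_eq (S := S) (f := ι) h1
    refine ⟨(c : B) * ((s : B) * t), fun hm => ?_, (c : B) * r, ?_⟩
    · rcases hP.isPrime.mem_or_mem hm with h2 | h2
      · exact hpow c h2
      rcases hP.isPrime.mem_or_mem h2 with h3 | h3
      · exact hpow s h3
      · exact hpow t h3
    · rw [mul_smul, mul_smul, mul_smul]
      exact hc
  · have h1 : e (ι (r • g)) = algebraMap B (Localization.Away f) (r * t) := by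
      rw [map_smul, hg', ← algebraMap_smul (Localization.Away f) r, smul_smul, ← hgen, e.apply_symm_apply, map_mul]
    rw [hr, map_zero, map_zero] at h1
    obtain ⟨c, hc⟩ := (IsLocalization.map_eq_zero_iff S (Localization.Away f) _).1 h1.symm
    refine ⟨(c : B) * t, fun hm => ?_, ?_⟩
    · rcases hP.isPrime.mem_or_mem hm with h2 | h2
      · exact hpow c h2
      · exact hpow t h2
    · rw [mul_assoc, mul_comm (t : B), hc]

theorem exists_away_equiv_of_invertible {B : Type u} [CommRing B] (H : Type u) [AddCommGroup H] [Module B H]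
    [Module.Invertible B H] (q : Ideal B) (hq : q ≠ ⊤) :
    ∃ f : B, f ∉ q ∧
      Nonempty (LocalizedModule (Submonoid.powers f) H ≃ₗ[Localization.Away f] Localization.Away f) := by
  obtain ⟨s, hs, hfree⟩ := Module.Invertible.exists_finset_free_localization (R := B) (M := H)
  obtain ⟨f, hfs, hfq⟩ : ∃ f ∈ s, f ∉ q := by
    by_contra! hall
    exact hq (top_le_iff.1 (hs ▸ Ideal.span_le.2 fun f hf => hall f hf))
  haveI := hfree f hfs
  exact ⟨f, hfq, Module.Invertible.free_iff_linearEquiv.1 inferInstance⟩

namespace FibreExt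

variable {A : Type u} [CommRing A] [IsNoetherianRing A] {B : Type u} [CommRing B] [Algebra A B] (N : ℕ)
  [Algebra (MvPolynomial (Fin N) A) B] [IsScalarTower A (MvPolynomial (Fin N) A) B] [Module.Flat A B]
  (hψ : Function.Surjective (algebraMap (MvPolynomial (Fin N) A) B))
  (Rψ : Dual.D (MvPolynomial (Fin N) A) ⥤ Dual.D B)
  (adj : DRing.restrictD (algebraMap (MvPolynomial (Fin N) A) B) ⊣ Rψ)

local notation "P" => MvPolynomial (Fin N) A
local notation "ω" => Dual2.shriekVia N Rψ (Dual.inD A A)

include hψ adj in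
theorem gorenstein_fibres_iff (n : ℕ) (hz : ∀ i : ℤ, i ≠ -(n : ℤ) → IsZero ((HF B i).obj ω)) :
    Module.Invertible B ((HF B (-(n : ℤ))).obj ω) ↔
      ∀ p : PrimeSpectrum A, LocCoh.IsGorensteinRing (B ⊗[A] p.asIdeal.ResidueField) := by
  let ψ : P →ₐ[A] B := IsScalarTower.toAlgHom A P B
  haveI : IsNoetherianRing B := isNoetherianRing_of_surjective P _ (algebraMap P B) hψ
  let H := (HF B (-(n : ℤ))).obj ω
  constructor
  · intro hinv p
    have h : ∀ q : PrimeSpectrum B, ∃ (f : B) (_ : f ∉ q.asIdeal) (m : ℤ),
        Nonempty ((DRing.LBaseChange (algebraMap B (Localization.Away f))).obj ω ≅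
          (Dual.inD (Localization.Away f) (Localization.Away f))⟦m⟧) := fun q => by
      obtain ⟨f, hf, ⟨ef⟩⟩ := exists_away_equiv_of_invertible H q.asIdeal q.2.ne_top
      obtain ⟨el⟩ := lbcIso (A := B) (Localization.Away f) ω
      obtain ⟨eH⟩ := nonempty_localized_HF (Submonoid.powers f) ω (-(n : ℤ))
      obtain ⟨e⟩ := nonempty_iso_of_single_free (X := (DF (extA B (Localization.Away f))).obj ω) (n : ℤ)
        (fun i hi => by
          obtain ⟨e⟩ := HF_DF (extA B (Localization.Away f)) ω i
          exact ((extA B (Localization.Away f)).map_isZero (hz i hi)).of_iso e)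
        (eH.trans ef)
      exact ⟨f, hf, n, ⟨el ≪≫ e⟩⟩
    exact gorRing_of_ringEquiv (Algebra.TensorProduct.comm A p.asIdeal.ResidueField B).toRingEquiv
      (ShriekFlat.isGorensteinRing_fibre_of_invertible N ψ hψ Rψ adj h p.asIdeal)
  · intro hG
    obtain ⟨-, hfin⟩ := ShriekFlat.finite_HD N ψ hψ Rψ adj
    haveI : Module.Finite B H := hfin _
    refine invertible_of_away H fun Q hQ => ?_
    haveI := hQ
    obtain ⟨f, hf, m, ⟨e⟩⟩ := ShriekFlat.invertible_of_isGorensteinRing_fibre N ψ hψ Rψ adj Q
      (gorRing_of_ringEquiv (Algebra.TensorProduct.comm A B _).toRingEquiv (hG ⟨Q.under A, inferInstance⟩))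
    obtain ⟨el⟩ := lbcIso (A := B) (Localization.Away f) ω
    obtain ⟨-, ⟨e0⟩⟩ := HF_shift_self (el.symm ≪≫ e)
    haveI : Nontrivial (Localization.Away f) := by
      refine nontrivial_of_ne (1 : Localization.Away f) 0 fun h0 => ?_
      rw [← map_one (algebraMap B (Localization.Away f))] at h0
      obtain ⟨⟨_, k, rfl⟩, hk⟩ := (IsLocalization.map_eq_zero_iff (Submonoid.powers f) _ _).1 h0
      rw [mul_one] at hk
      exact hf (hQ.isPrime.mem_of_pow_mem k (by rw [show f ^ k = 0 from hk]; exact Q.zero_mem))
    have hm : m = n := by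
      by_contra hne
      obtain ⟨e1⟩ := HF_DF (extA B (Localization.Away f)) ω (-m)
      haveI := ModuleCat.subsingleton_of_isZero
        (((extA B (Localization.Away f)).map_isZero (hz (-m) (by omega))).of_iso e1)
      exact not_subsingleton (Localization.Away f) e0.symm.toEquiv.subsingleton
    subst hm
    obtain ⟨eH⟩ := nonempty_localized_HF (Submonoid.powers f) ω (-(n : ℤ))
    exact ⟨f, hf, ⟨eH.symm.trans e0⟩⟩

end FibreExt

end Groth.Agent.DR39
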