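import Groth.Agent.DR39.LocalFibre2
import Groth.Agent.Gor18.ExtPattern
import Groth.Agent.Gor18.Dualizing
import Groth.Agent.Gor18.FieldExt
import Groth.Agent.Gor18.Regular
import Groth.Agent.Shriek42.Adj
import Groth.Agent.CAlg1.FlatFibre

/-! Dualizing complexes along flat maps with Gorenstein fibres. -/

set_option autoImplicit false
set_option linter.style.haveILetI false
set_option linter.unusedSectionVars false
set_option backward.isDefEq.respectTransparency false

universe u

open CategoryTheory CategoryTheory.Limits CategoryTheory.Pretriangulated TensorProduct IsLocalRing Abelian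

attribute [local instance] HasDerivedCategory.standard

namespace Groth.Agent.DR39

section Climb

variable {R : Type u} [CommRing R] [LocCoh.IsGorensteinLocalRing R]

theorem residue_self_of_gor {n : ℕ} (hn : ringKrullDim R = n) :
    (∀ i : ℤ, i ≠ n → Subsingleton (Dual.inD R (R ⧸ maximalIdeal R) ⟶ (Dual.inD R R)⟦i⟧)) ∧
      Nonempty ((Dual.inD R (R ⧸ maximalIdeal R) ⟶ (Dual.inD R R)⟦(n : ℤ)⟧) ≃ₗ[R] (R ⧸ maximalIdeal R)) := by
  obtain ⟨d, hv, ⟨hd⟩⟩ := ext_residue_single (maximalIdeal R) (Gor18.gor_iff_isDualizing.1 ‹_›)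
  have hne : ¬ Subsingleton (Dual.inD R (R ⧸ maximalIdeal R) ⟶ (Dual.inD R R)⟦d⟧) := fun h => by
    haveI := hd.symm.toEquiv.subsingleton
    exact (maximalIdeal.isMaximal R).ne_top (Ideal.Quotient.subsingleton_iff.1 inferInstance)
  have hd0 : 0 ≤ d := not_lt.1 fun h => hne (Gor18.subsingleton_hom_shift_neg_inD _ _ d h)
  lift d to ℕ using hd0
  have hdn : d = n := by
    by_contra h
    exact hne ((Gor18.subsingleton_ext_iff_hom _ _ d).1 ((Gor18.ext_pattern n R hn d).2 h))
  subst hdn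
  exact ⟨hv, ⟨hd⟩⟩

variable {C : Type u} [CommRing C] [IsLocalRing C] [IsNoetherianRing C] {Y : Dual.D C} {J : Ideal C} {c : ℤ}

theorem resData_maximal_of_gor {n : ℕ} (hgor : LocCoh.IsGorensteinLocalRing (C ⧸ J))
    (hn : ringKrullDim (C ⧸ J) = n) (h : ResData Y J c) : ResData Y (maximalIdeal C) (c + n) := by
  obtain ⟨hv, ⟨e0⟩⟩ := h
  let φ := algebraMap C (C ⧸ J)
  let adj := Shriek42.rightDAdj φ
  set Z := (Shriek42.rightD φ).obj Y
  -- the right adjoint is the ring in degree `c`
  have hzero : ∀ i, i ≠ c → IsZero ((HF (C ⧸ J) i).obj Z) := fun i hi =>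
    isZero_HF_of_ext_ring (subsingleton_gm_right adj (C ⧸ J) Y i (hv i hi))
  obtain ⟨e, he⟩ := exists_gm_right adj (C ⧸ J) Y c
  let f : LC17.GM Z (ModuleCat.of (C ⧸ J) (C ⧸ J)) c ≃ₗ[C ⧸ J] (C ⧸ J) :=
    { e.symm.trans e0.toAddEquiv with
      map_smul' := fun r g => by
        obtain ⟨p, rfl⟩ := Ideal.Quotient.mk_surjective r
        show e0 (e.symm (Ideal.Quotient.mk J p • g)) = Ideal.Quotient.mk J p • e0 (e.symm g)
        have : e.symm (Ideal.Quotient.mk J p • g) = p • e.symm g := by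
          apply e.injective
          rw [he, AddEquiv.apply_symm_apply, AddEquiv.apply_symm_apply]
          rfl
        rw [this, map_smul]
        exact (algebraMap_smul (C ⧸ J) p _).symm }
  obtain ⟨i1⟩ := exists_iso_single_homology Z c hzero
  let i2 : Z ≅ (Dual.inD (C ⧸ J) (C ⧸ J))⟦-c⟧ := i1 ≪≫
    (DerivedCategory.singleFunctor _ c).mapIso
      (LinearEquiv.toModuleIso ((gmSelfEquiv Z c).symm.trans f)) ≪≫ (singleShiftIso _ c (-c) (by omega)).symm
  let i3 : ∀ i j : ℤ, -c + i = j → (Z⟦i⟧ ≅ (Dual.inD (C ⧸ J) (C ⧸ J))⟦j⟧) := fun i j hij =>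
    (CategoryTheory.shiftFunctor _ i).mapIso i2 ≪≫ ((shiftFunctorAdd' _ (-c) i j hij).app _).symm
  obtain ⟨hv', ⟨he'⟩⟩ := residue_self_of_gor (R := C ⧸ J) hn
  -- transport to `C`
  let N := (C ⧸ J) ⧸ maximalIdeal (C ⧸ J)
  letI : Field N := Ideal.Quotient.field (maximalIdeal (C ⧸ J))
  let q : (C ⧸ maximalIdeal C) ≃ₗ[C] N := by
    refine (Submodule.quotEquivOfEq _ _ ?_).trans
      (LinearMap.quotKerEquivOfSurjective (Algebra.linearMap C N) ?_)
    · refine ((IsLocalRing.eq_maximalIdeal ?_).symm : maximalIdeal C = _)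
      exact RingHom.ker_isMaximal_of_surjective (algebraMap C N)
        (Ideal.Quotient.mk_surjective.comp Ideal.Quotient.mk_surjective)
    · exact Ideal.Quotient.mk_surjective.comp Ideal.Quotient.mk_surjective
  let cq : ∀ i, (Dual.inD C (C ⧸ maximalIdeal C) ⟶ Y⟦i⟧) ≃ₗ[C] LC17.GM Y (ModuleCat.of C N) i := fun i =>
    CategoryTheory.Linear.homCongr C ((DerivedCategory.singleFunctor (ModuleCat.{u} C) 0).mapIso q.toModuleIso)
      (Iso.refl (Y⟦i⟧))
  refine ⟨fun i hi => ?_, ?_⟩
  · obtain ⟨ei, -⟩ := exists_gm_right adj N Y i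
    haveI := hv' (-c + i) (by omega)
    haveI : Subsingleton (LC17.GM Z (ModuleCat.of (C ⧸ J) N) i) :=
      (Iso.homToEquiv (i3 i _ rfl) : (Dual.inD (C ⧸ J) N ⟶ Z⟦i⟧) ≃ _).subsingleton
    exact ((cq i).toEquiv.trans ei.toEquiv).subsingleton
  · obtain ⟨en, hen⟩ := exists_gm_right adj N Y (c + n)
    let g : LC17.GM Z (ModuleCat.of (C ⧸ J) N) (c + n) ≃ₗ[C ⧸ J] N :=
      (CategoryTheory.Linear.homCongr (C ⧸ J) (Iso.refl _) (i3 (c + n) n (by omega))).trans he'
    let g' : LC17.GM Y (ModuleCat.of C N) (c + n) ≃ₗ[C] N :=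
      { en.trans g.toAddEquiv with
        map_smul' := fun p x => by
          show g (en (p • x)) = p • g (en x)
          rw [hen, map_smul, algebraMap_smul] }
    exact ⟨((cq (c + n)).trans g').trans q.symm⟩

end Climb

section Global

variable {A : Type u} [CommRing A] {ω : Dual.D A} (hω : Dual.IsDualizing A ω)
  (B : Type u) [CommRing B] [Algebra A B] [Module.Flat A B] [IsNoetherianRing B]

theorem gor_fibre_local {A B : Type u} [CommRing A] [CommRing B] [Algebra A B]
    (hfib : ∀ (p : Ideal A) [p.IsPrime], LocCoh.IsGorensteinRing (p.Fiber B)) (p : Ideal A) [p.IsPrime]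
    (Q : Ideal (p.Fiber B)) [Q.IsPrime] (P : Ideal B) [P.IsPrime]
    (hQP : Q.comap (Algebra.TensorProduct.includeRight : B →ₐ[A] p.Fiber B) = P) (hp : p = P.under A) :
    LocCoh.IsGorensteinLocalRing (Localization.AtPrime P ⧸ p.map (algebraMap A (Localization.AtPrime P))) := by
  subst hQP
  set P := Q.comap (Algebra.TensorProduct.includeRight : B →ₐ[A] p.Fiber B)
  haveI : P.LiesOver p := ⟨hp⟩
  let := Localization.AtPrime.algebraOfLiesOver p P
  haveI := hfib p
  haveI := Gor18.gor_atPrime Q (Localization.AtPrime Q)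
  exact Gor18.gor_of_ringEquiv (R := Localization.AtPrime Q) (Ideal.Fiber.localizationAlgEquivQuotient p Q).toRingEquiv

include hω

theorem isDualizing_of_gor_fibres {N : ℕ} (hdimB : ringKrullDim B ≤ (N : ℕ∞))
    (hfib : ∀ (p : Ideal A) [p.IsPrime], LocCoh.IsGorensteinRing (p.Fiber B)) :
    Dual.IsDualizing B ((DF (extA A B)).obj ω) := by
  haveI := hω.isNoetherianRing
  obtain ⟨a, ha⟩ := exists_low_DF hω B
  obtain ⟨a', b, hab, hid⟩ := exists_bounds hω
  refine isDualizing_of_local_residues (finite_DF hω B) (b := b + N) ha fun P hP => ?_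
  obtain ⟨Q, hQ, hQP⟩ := CAlg1.exists_fibre_prime (R := A) P
  set p := P.under A with hp
  let C := Localization.AtPrime P
  haveI : IsNoetherianRing C := IsLocalization.isNoetherianRing P.primeCompl _ inferInstance
  haveI : Module.Flat B C := IsLocalization.flat C P.primeCompl
  haveI : Module.Flat A C := Module.Flat.trans A B C
  obtain ⟨d, hd, hR⟩ := exists_resData_flat hω C p fun s hsp => by
    rw [IsScalarTower.algebraMap_apply A B C]
    exact IsLocalization.map_units C (⟨algebraMap A B s, hsp⟩ : P.primeCompl)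
  have hdb : d ≤ b := by
    by_contra h
    have h0 := subsingleton_gm_iff.1 (hid (A ⧸ p) d (Or.inr (by omega)))
    exact (inferInstance : p.IsPrime).ne_top (top_le_iff.1 (h0 ▸ hd))
  have hgor := gor_fibre_local hfib p Q P hQP hp
  have hle : ringKrullDim (C ⧸ p.map (algebraMap A C)) ≤ (N : ℕ∞) := by
    refine ((ringKrullDim_quotient_le _).trans ?_).trans hdimB
    rw [IsLocalization.AtPrime.ringKrullDim_eq_height P C]
    exact Ideal.height_le_ringKrullDim_of_ne_top hP.ne_top
  haveI : Nontrivial (C ⧸ p.map (algebraMap A C)) := hgor.toIsLocalRing.toNontrivial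
  obtain ⟨n, hn, hnN⟩ : ∃ n : ℕ, ringKrullDim (C ⧸ p.map (algebraMap A C)) = n ∧ n ≤ N := by
    obtain ⟨m, hm⟩ := WithBot.ne_bot_iff_exists.1 (ringKrullDim_ne_bot (R := C ⧸ p.map (algebraMap A C)))
    rw [← hm] at hle ⊢
    obtain ⟨k, rfl, hk⟩ := ENat.le_coe_iff.1 (WithBot.coe_le_coe.1 hle)
    exact ⟨k, rfl, hk⟩
  obtain ⟨hv, ⟨he⟩⟩ := resData_maximal_of_gor hgor hn hR
  obtain ⟨e⟩ := DF_comp B C ω
  refine ⟨d + n, by omega, fun i hi => @Equiv.subsingleton _ _
    (Iso.homToEquiv ((CategoryTheory.shiftFunctor (Dual.D C) i).mapIso e)) (hv i hi),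
    ⟨(CategoryTheory.Linear.homCongr C (Iso.refl _)
      ((CategoryTheory.shiftFunctor (Dual.D C) (d + n)).mapIso e)).trans he⟩⟩

end Global

section FieldExt

attribute [local instance] Algebra.TensorProduct.rightAlgebra

theorem gor_fibre_fieldExt (k K : Type u) [Field k] [Field K] [Algebra k K] (A : Type u) [CommRing A] [Algebra k A]
    [Algebra.FiniteType k A] (p : Ideal A) [p.IsPrime] : LocCoh.IsGorensteinRing (p.Fiber (K ⊗[k] A)) := by
  haveI : Algebra.EssFiniteType k p.ResidueField := Algebra.EssFiniteType.comp k A _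
  haveI : LocCoh.IsGorensteinLocalRing K := Gor18.regular_gor K
  haveI : LocCoh.IsGorensteinRing K := Gor18.gorRing_of_gor K
  haveI := Gor18.gorRing_tensor_fg k p.ResidueField K (IntermediateField.fg_top k p.ResidueField)
  exact Gor18.gorRing_of_ringEquiv (R := p.ResidueField ⊗[k] K)
    ((Algebra.TensorProduct.cancelBaseChange k A A p.ResidueField K).symm.trans
      (Algebra.TensorProduct.congr AlgEquiv.refl (Algebra.TensorProduct.commRight k A K))).toRingEquiv

theorem isDualizing_fieldExt (k K : Type u) [Field k] [Field K] [Algebra k K] {A : Type u} [CommRing A]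
    [Algebra k A] [Algebra.FiniteType k A] {ω : Dual.D A} (hω : Dual.IsDualizing A ω)
    [Module.Flat A (K ⊗[k] A)] [IsNoetherianRing (K ⊗[k] A)] :
    Dual.IsDualizing (K ⊗[k] A) ((DF (extA A (K ⊗[k] A))).obj ω) := by
  obtain ⟨m, f, hf⟩ := Algebra.FiniteType.iff_quotient_mvPolynomial''.1
    (inferInstance : Algebra.FiniteType K (K ⊗[k] A))
  refine isDualizing_of_gor_fibres hω _ (N := m) ?_ fun p _ => gor_fibre_fieldExt k K A p
  refine (ringKrullDim_le_of_surjective f.toRingHom hf).trans (le_of_eq ?_)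
  rw [MvPolynomial.ringKrullDim_of_isNoetherianRing, ringKrullDim_eq_zero_of_field]
  simp

theorem flat_fieldExt (k K : Type u) [Field k] [Field K] [Algebra k K] (A : Type u) [CommRing A]
    [Algebra k A] : Module.Flat A (K ⊗[k] A) :=
  Module.Flat.of_linearEquiv (Algebra.TensorProduct.commRight k A K).toLinearEquiv.symm

end FieldExt

end Groth.Agent.DR39
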