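import Groth.Agent.DR39.DBasic
import Groth.Prelude.Def_DRing4
import Mathlib.Algebra.Homology.HomotopyCategory.HomComplexCohomology
import Mathlib.CategoryTheory.Functor.Derived.PointwiseRightDerived

/-! `Hom•(P, -)` for K-projective `P`. -/

set_option autoImplicit false
set_option linter.style.haveILetI false
set_option linter.unusedSectionVars false

universe u

open CategoryTheory CategoryTheory.Limits CochainComplex CochainComplex.HomComplex

attribute [local instance] HasDerivedCategory.standard

namespace Groth.Agent.DR39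

variable {A : Type u} [CommRing A] (P : DRing.Cx A) [P.IsKProjective] {L L' : DRing.Cx A}

/-- The class in `D(A)` of a cocycle. -/
noncomputable def theta {n : ℤ} (z : Cocycle P L n) :
    DerivedCategory.Q.obj P ⟶ DerivedCategory.Q.obj (L⟦n⟧) :=
  DerivedCategory.Q.map (Cocycle.equivHomShift.symm z)

theorem theta_sub {n : ℤ} (z w : Cocycle P L n) : theta P (z - w) = theta P z - theta P w := by
  show DerivedCategory.Q.map _ = _
  rw [map_sub, Functor.map_sub]
  rfl

theorem theta_postcomp {n : ℤ} (z : Cocycle P L n) (f : L ⟶ L') :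
    theta P (z.postcomp f) = theta P z ≫ DerivedCategory.Q.map (f⟦n⟧') := by
  show DerivedCategory.Q.map _ = _
  rw [Cocycle.equivHomShift_symm_postcomp, Functor.map_comp]
  rfl

theorem theta_surjective {n : ℤ} : Function.Surjective (theta P : Cocycle P L n → _) := fun u => by
  obtain ⟨g, rfl⟩ := Q_map_surjective P _ u
  exact ⟨Cocycle.equivHomShift g, by simp [theta]⟩

theorem theta_eq_zero_iff {n : ℤ} (z : Cocycle P L n) :
    theta P z = 0 ↔ z ∈ coboundaries P L n := by
  rw [← CohomologyClass.toHom_mk_eq_zero_iff, CohomologyClass.toHom_mk,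
    HomotopyCategory.quotient_map_eq_zero_iff, ← Q_map_eq_iff]
  simp [theta]

theorem quasiIso_homCxMap (f : L ⟶ L') [QuasiIso f] : QuasiIso (DRing.homCxMap P f) := by
  refine ⟨fun n => ?_⟩
  haveI : IsIso (DerivedCategory.Q.map (f⟦n⟧')) := by
    haveI := (DerivedCategory.isIso_Q_map_iff_quasiIso (ModuleCat.{u} A) f).2 inferInstance
    exact (NatIso.isIso_map_iff ((QA A).commShiftIso n) f).2
      (Functor.map_isIso (CategoryTheory.shiftFunctor (Dual.D A) n) (DerivedCategory.Q.map f))
  have hc : ∀ (M : DRing.Cx A) (x : Cochain P M n), δ n (n + 1) x = 0 →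
      ∃ z : Cocycle P M n, z.1 = x := fun M x hx => ⟨⟨x, (Cocycle.mem_iff n (n + 1) rfl x).2 hx⟩, rfl⟩
  rw [quasiIsoAt_iff_isIso_homologyMap, isIso_iff_bijective]
  refine ⟨(injective_homologyMap_iff _ n).2 fun (x : Cochain P L n) hx (y : Cochain P L' (n - 1)) hy => ?_,
    (surjective_homologyMap_iff _ n).2 fun (w : Cochain P L' n) hw => ?_⟩
  · change δ n (n + 1) x = 0 at hx
    obtain ⟨z, rfl⟩ := hc L x hx
    change δ (n - 1) n y = (z.postcomp f).1 at hy
    have h1 : theta P (z.postcomp f) = 0 :=
      (theta_eq_zero_iff P _).2 ((mem_coboundaries_iff _ (n - 1) (by omega)).2 ⟨y, hy⟩)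
    rw [theta_postcomp] at h1
    have h2 : theta P z = 0 := by rw [← cancel_mono (DerivedCategory.Q.map (f⟦n⟧')), h1, zero_comp]
    exact (mem_coboundaries_iff _ (n - 1) (by omega)).1 ((theta_eq_zero_iff P z).1 h2)
  · change δ n (n + 1) w = 0 at hw
    obtain ⟨z', rfl⟩ := hc L' w hw
    obtain ⟨z, hz⟩ := theta_surjective P (theta P z' ≫ inv (DerivedCategory.Q.map (f⟦n⟧')))
    refine ⟨z.1, Cocycle.δ_eq_zero z (n + 1), ?_⟩
    have h1 : theta P (z.postcomp f - z') = 0 := by
      rw [theta_sub, theta_postcomp, hz]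
      simp
    exact (mem_coboundaries_iff _ (n - 1) (by omega)).1 ((theta_eq_zero_iff P _).1 h1)

theorem RHomCx_iso [DRing.HasRHomCx P] (L : DRing.Cx A) :
    Nonempty ((DRing.RHomCx P).obj (DRing.toD L) ≅ DRing.toD (DRing.homCx P L)) := by
  let W := HomologicalComplex.quasiIso (ModuleCat.{u} A) (ComplexShape.up ℤ)
  have hW : W.IsInvertedBy (DRing.homCxQ P) := fun X Y f hf => by
    haveI : QuasiIso f := hf
    haveI := quasiIso_homCxMap P f
    exact (DerivedCategory.isIso_Q_map_iff_quasiIso (ModuleCat.{u} A) (DRing.homCxMap P f)).2 inferInstance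
  let G := Localization.lift (DRing.homCxQ P) hW DerivedCategory.Q
  haveI : G.IsRightDerivedFunctor (Localization.fac (DRing.homCxQ P) hW DerivedCategory.Q).inv W :=
    Functor.isRightDerivedFunctor_of_inverts W _ _
  exact ⟨(Functor.rightDerivedUnique (DRing.RHomCx P) G
    ((DRing.homCxQ P).totalRightDerivedUnit DerivedCategory.Q W)
    (Localization.fac (DRing.homCxQ P) hW DerivedCategory.Q).inv W).app _ ≪≫
    (Localization.fac (DRing.homCxQ P) hW DerivedCategory.Q).app L⟩

end Groth.Agent.DR39
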