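import Groth.Agent.DR39.HomAssoc
import Groth.Agent.DR39.HomCx
import Groth.Agent.DTen43.EvalPC
import Groth.Agent.DR39.TensorMap
import Mathlib.CategoryTheory.Localization.Adjunction

/-! The derived category of a commutative ring is closed: `RHom` exists. -/

set_option autoImplicit false
set_option linter.style.haveILetI false
set_option linter.unusedSectionVars false

universe u

open CategoryTheory CategoryTheory.Limits CochainComplex CochainComplex.HomComplex HomologicalComplex
open MonoidalCategory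

attribute [local instance] HasDerivedCategory.standard

namespace Groth.Agent.DR39

variable {A : Type u} [CommRing A] {K L M : DRing.Cx A}

theorem delta_psi (n : ℤ) (z : Cochain K (DRing.homCx L M) n) :
    δ n (n + 1) (psi z) = psi (δ n (n + 1) z) := by
  refine cochain_ext fun p a m r hpa hr x y => ?_
  rw [δ_v n (n + 1) rfl _ m r hr (m + n) (m + 1) (by omega) rfl, psi_apply,
    bil_eq _ p (p + (n + 1)) a r rfl,
    δ_v n (n + 1) rfl z p (p + (n + 1)) rfl (p + n) (p + 1) (by omega) rfl]
  show ((psi z).v m (m + n) rfl ≫ M.d (m + n) r).hom _ +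
      (n + 1).negOnePow • ((psi z).v (m + 1) r _).hom (((K ⊗ L).d m (m + 1)).hom _) = _
  rw [d_ι_tmul, map_add, LinearMap.map_smul_of_tower, psi_apply, psi_apply, ModuleCat.hom_comp,
    LinearMap.comp_apply, psi_apply, bil_eq z (p + 1) (p + (n + 1)) a r (by omega),
    bil_eq z p (p + n) a (m + n) rfl, bil_eq z p (p + n) (a + 1) r rfl]
  show _ = ((δ (p + n) (p + (n + 1)) (cv (p + n) ((z.v p (p + n) rfl).hom x)) +
    (n + 1).negOnePow • cv (p + (n + 1)) ((z.v (p + 1) (p + (n + 1)) _).hom ((K.d p (p + 1)).hom x)) :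
      Cochain L M (p + (n + 1))).v a r _).hom y
  rw [Cochain.add_v, Cochain.units_smul_v,
    δ_v (p + n) (p + (n + 1)) (by omega) _ a r (by omega) (m + n) (a + 1) (by omega) rfl]
  simp only [ModuleCat.hom_add, ModuleCat.hom_comp, LinearMap.add_apply, LinearMap.comp_apply]
  rw [smul_add, smul_smul, ← Int.negOnePow_add, show n + 1 + p = p + (n + 1) by omega]
  exact (add_assoc _ _ _).symm.trans (by rw [add_right_comm]; rfl)

/-- Currying on morphisms of complexes. -/
noncomputable def curryEquiv (K L M : DRing.Cx A) : (K ⊗ L ⟶ M) ≃ (K ⟶ DRing.homCx L M) :=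
  Equiv.symm <| Equiv.ofBijective
    (fun f : K ⟶ DRing.homCx L M => (Cocycle.homOf (Cocycle.mk (psi (Cochain.ofHom f)) 1 rfl (by
      have h := delta_psi 0 (Cochain.ofHom f)
      rw [show (0 : ℤ) + 1 = 1 from rfl, δ_ofHom] at h
      exact h.trans ((psiL (K := K) (L := L) (M := M) 1).map_zero))) : K ⊗ L ⟶ M))
    ⟨fun f g h => Cochain.ofHom_injective ((psi_bijective 0).1 (by
      have h' := congrArg Cochain.ofHom h
      simpa only [Cocycle.cochain_ofHom_homOf_eq_coe, Cocycle.mk_coe, psiL, LinearMap.coe_mk, AddHom.coe_mk] using h')),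
    fun F => by
      obtain ⟨z, hz⟩ := (psi_bijective (K := K) (L := L) (M := M) 0).2 (Cochain.ofHom F)
      have hδ : δ 0 1 z = 0 := (psi_bijective 1).1 (by
        rw [map_zero]
        exact (delta_psi 0 z).symm.trans ((congrArg (δ 0 (0 + 1)) hz).trans (δ_ofHom F)))
      refine ⟨Cocycle.homOf (Cocycle.mk z 1 rfl hδ), Cochain.ofHom_injective ?_⟩
      simp only [Cocycle.cochain_ofHom_homOf_eq_coe, Cocycle.mk_coe]
      exact hz⟩

theorem curryEquiv_symm_apply (K L M : DRing.Cx A) (f : K ⟶ DRing.homCx L M) :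
    Cochain.ofHom ((curryEquiv K L M).symm f) = psi (Cochain.ofHom f) := by
  show Cochain.ofHom (Cocycle.homOf _) = _
  rw [Cocycle.cochain_ofHom_homOf_eq_coe]
  rfl

theorem curryEquiv_symm_tmul (f : K ⟶ DRing.homCx L M) (p a m : ℤ) (h : p + a = m) (x : K.X p) (y : L.X a) :
    (((curryEquiv K L M).symm f).f m).hom ((ιTensorObj K L p a m h).hom (x ⊗ₜ[A] y)) =
      ((cv p ((f.f p).hom x)).v a m (by omega)).hom y := by
  rw [← Cochain.ofHom_v ((curryEquiv K L M).symm f) m, curryEquiv_symm_apply, psi_apply,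
    bil_eq _ p p a m (add_zero p), Cochain.ofHom_v]

/-- Tensoring with a complex is left adjoint to `Hom•`. -/
noncomputable def homCxAdj (L : DRing.Cx A) : tensorRight L ⊣ DRing.homCxFunctor L :=
  Adjunction.mkOfHomEquiv
    { homEquiv := fun K M => curryEquiv K L M
      homEquiv_naturality_left_symm := fun {K' K M} f g => by
        refine HomologicalComplex.hom_ext _ _ fun m => mapBifunctor.hom_ext fun p a hpa =>
          ModuleCat.hom_ext (TensorProduct.ext' fun x y => ?_)
        show (((curryEquiv K' L M).symm (f ≫ g)).f m).hom ((ιTensorObj K' L p a m hpa).hom (x ⊗ₜ[A] y)) = _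
        rw [curryEquiv_symm_tmul]
        refine Eq.trans ?_ (congrArg (((curryEquiv K L M).symm g).f m).hom
          (LinearMap.congr_fun (congrArg ModuleCat.Hom.hom (whiskerRight_ι (P := L) f p a hpa))
            (x ⊗ₜ[A] y))).symm
        exact (curryEquiv_symm_tmul g p a m hpa ((f.f p).hom x) y).symm
      homEquiv_naturality_right := fun {K M M'} f g => by
        refine (curryEquiv K L M').symm.injective ?_
        refine Eq.trans ((curryEquiv K L M').symm_apply_apply _) ?_
        refine HomologicalComplex.hom_ext _ _ fun m => mapBifunctor.hom_ext fun p a hpa =>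
          ModuleCat.hom_ext (TensorProduct.ext' fun x y => ?_)
        show (g.f m).hom ((f.f m).hom ((ιTensorObj K L p a m hpa).hom (x ⊗ₜ[A] y))) =
          (((curryEquiv K L M').symm ((curryEquiv K L M) f ≫ (DRing.homCxFunctor L).map g)).f m).hom
            ((ιTensorObj K L p a m hpa).hom (x ⊗ₜ[A] y))
        rw [curryEquiv_symm_tmul]
        conv_lhs => rw [← (curryEquiv K L M).symm_apply_apply f]
        rw [curryEquiv_symm_tmul]
        show _ = (((cv p ((((curryEquiv K L M) f).f p).hom x)).comp (Cochain.ofHom g) (add_zero p)).v a m _).hom y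
        rw [Cochain.comp_zero_cochain_v, Cochain.ofHom_v]
        rfl }

/-- `RHom` exists. -/
theorem hasRHom [DTen.HasLTen A] : DTen.HasRHom A := by
  haveI := DTen43.hasLTen₃ A
  haveI := DTen43.isSymMonoidal A
  refine ⟨fun L => ?_⟩
  obtain ⟨P, hPp, hP, ⟨e⟩⟩ := DTen43.exists_kproj L
  haveI := hPp
  let W := HomologicalComplex.quasiIso (ModuleCat.{u} A) (ComplexShape.up ℤ)
  let Q := DerivedCategory.Q (C := ModuleCat.{u} A)
  have hG : W.IsInvertedBy (tensorRight P ⋙ Q) := fun X Y f hf => by
    haveI : QuasiIso f := hf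
    haveI := quasiIso_whiskerRight hP f
    exact DTen43.isIso_Q_map (f ▷ P)
  have hF : W.IsInvertedBy (DRing.homCxFunctor P ⋙ Q) := fun X Y f hf => by
    haveI : QuasiIso f := hf
    haveI := quasiIso_homCxMap P f
    exact DTen43.isIso_Q_map (DRing.homCxMap P f)
  let G' := Localization.lift (tensorRight P ⋙ Q) hG Q
  let F' := Localization.lift (DRing.homCxFunctor P ⋙ Q) hF Q
  haveI : CatCommSq (tensorRight P) Q Q G' := ⟨(Localization.fac (tensorRight P ⋙ Q) hG Q).symm⟩
  haveI : CatCommSq (DRing.homCxFunctor P) Q Q F' :=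
    ⟨(Localization.fac (DRing.homCxFunctor P ⋙ Q) hF Q).symm⟩
  have adj : G' ⊣ F' := (homCxAdj P).localization Q W Q W G' F'
  let ν : Q ⋙ DTen.tensorRightD A (Q.obj P) ≅ tensorRight P ⋙ Q :=
    NatIso.ofComponents (fun X => @asIso _ _ _ _ (DTen43.μ X P) (DTen43.isIso_μ X P (Or.inr hP)))
      fun {X Y} f => by
        have := DTen43.μ_natural f (𝟙 P)
        rw [CategoryTheory.Functor.map_id] at this
        exact this
  letI : Localization.Lifting Q W (tensorRight P ⋙ Q) G' := ⟨Localization.fac (tensorRight P ⋙ Q) hG Q⟩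
  letI : Localization.Lifting Q W (Q ⋙ DTen.tensorRightD A (Q.obj P)) (DTen.tensorRightD A (Q.obj P)) :=
    ⟨Iso.refl _⟩
  let iso : G' ≅ DTen.tensorRightD A L :=
    (Localization.liftNatIso Q W (Q ⋙ DTen.tensorRightD A (Q.obj P)) (tensorRight P ⋙ Q) _ _ ν).symm ≪≫
      (DTen.LTen A).flip.mapIso e
  exact (adj.ofNatIsoLeft iso).isLeftAdjoint

end Groth.Agent.DR39
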