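import Groth.Agent.DR39.BC
import Groth.Agent.DR39.EvalZero
import Groth.Agent.DR39.Perf
import Groth.Agent.DR39.Amp
import Mathlib.Algebra.Homology.DerivedCategory.Linear
import Mathlib.Algebra.FiveLemma

/-! Flat base change of morphisms out of pseudo-coherent objects. -/

set_option autoImplicit false
set_option linter.style.haveILetI false
set_option linter.unusedSectionVars false

universe u

open CategoryTheory CategoryTheory.Limits CategoryTheory.Pretriangulated TensorProduct

attribute [local instance] HasDerivedCategory.standard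

namespace Groth.Agent.DR39

section Gen

variable {R : Type u} [CommRing R] {P X : DRing.Cx R} {m : ℤ} {n : ℕ}
  (bas : Module.Basis (Fin n) R (P.X m)) (hP : ∀ i, i ≠ m → IsZero (P.X i))

/-- cycles -/
noncomputable abbrev cyc (X : DRing.Cx R) (m : ℤ) : Submodule R (X.X m) :=
  LinearMap.ker (X.d m (m + 1)).hom

/-- the map out of a complex concentrated in degree `m` with given values on a basis -/
noncomputable def genHom (z : Fin n → cyc X m) : P ⟶ X where
  f i := if h : i = m then (P.XIsoOfEq h).hom ≫ ModuleCat.ofHom (bas.constr R fun j => (z j : X.X m)) ≫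
      (X.XIsoOfEq h).inv else 0
  comm' i j hij := by
    change i + 1 = j at hij
    by_cases h : i = m
    · subst h hij
      rw [dif_pos rfl, dif_neg (by omega)]
      simp only [HomologicalComplex.XIsoOfEq_rfl, Iso.refl_hom, Iso.refl_inv, Category.id_comp,
        Category.comp_id, comp_zero]
      ext : 1
      refine bas.ext fun k => ?_
      simp only [ModuleCat.hom_comp, LinearMap.comp_apply, ModuleCat.hom_ofHom,
        Module.Basis.constr_basis, ModuleCat.hom_zero, LinearMap.zero_apply]
      exact (z k).2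
    · exact (hP i h).eq_of_src _ _

theorem genHom_f (z : Fin n → cyc X m) (j : Fin n) :
    ((genHom bas hP z).f m).hom (bas j) = z j := by
  simp [genHom]

include bas hP in
theorem gen_ext {f g : P ⟶ X} (h : ∀ j, (f.f m).hom (bas j) = (g.f m).hom (bas j)) : f = g := by
  refine HomologicalComplex.hom_ext _ _ fun i => ?_
  by_cases hi : i = m
  · subst hi; exact ModuleCat.hom_ext (bas.ext h)
  · exact (hP i hi).eq_of_src _ _

include hP in
theorem val_mem_cyc (f : P ⟶ X) (x : P.X m) : (f.f m).hom x ∈ cyc X m := by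
  have h : f.f m ≫ X.d m (m + 1) = 0 := by
    rw [f.comm m (m + 1), (hP (m + 1) (by omega)).eq_of_src (f.f (m + 1)) 0, comp_zero]
  exact congrArg (fun u : P.X m ⟶ X.X (m + 1) => u.hom x) h

/-- cycles give morphisms in the derived category -/
noncomputable def genQ : (Fin n → cyc X m) →ₗ[R] ((QA R).obj P ⟶ (QA R).obj X) where
  toFun z := (QA R).map (genHom bas hP z)
  map_add' z w := by
    rw [← Functor.map_add]
    congr 1
    refine gen_ext bas hP fun j => ?_
    rw [HomologicalComplex.add_f_apply, ModuleCat.hom_add, LinearMap.add_apply]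
    simp [genHom_f]
  map_smul' r z := by
    rw [RingHom.id_apply, ← Functor.map_smul]
    congr 1
    refine gen_ext bas hP fun j => ?_
    rw [HomologicalComplex.smul_f_apply, ModuleCat.hom_smul, LinearMap.smul_apply]
    simp [genHom_f]

theorem genQ_eq (f : P ⟶ X) :
    genQ bas hP (fun j => ⟨(f.f m).hom (bas j), val_mem_cyc hP f _⟩) = (QA R).map f :=
  congrArg (QA R).map (gen_ext bas hP fun _ => genHom_f bas hP _ _)

theorem genQ_surjective [P.IsKProjective] :
    Function.Surjective (genQ (X := X) bas hP) := fun u => by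
  obtain ⟨f, rfl⟩ := Q_map_surjective P X u
  exact ⟨_, genQ_eq bas hP f⟩

theorem genQ_eq_zero_iff [P.IsKProjective] (z : Fin n → cyc X m) :
    genQ bas hP z = 0 ↔ ∀ j, (z j : X.X m) ∈ LinearMap.range (X.d (m - 1) m).hom := by
  have hr : (ComplexShape.up ℤ).Rel (m - 1) m := show m - 1 + 1 = m by omega
  have hr' : (ComplexShape.up ℤ).Rel m (m + 1) := rfl
  show (QA R).map (genHom bas hP z) = 0 ↔ _
  rw [← (QA R).map_zero, Q_map_eq_iff]
  constructor
  · rintro ⟨H⟩ j
    have hc := H.comm m
    rw [dNext_eq H.hom hr', prevD_eq H.hom hr, HomologicalComplex.zero_f, add_zero] at hc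
    refine ⟨(H.hom m (m - 1)).hom (bas j), ?_⟩
    rw [← genHom_f bas hP z j, hc, (hP (m + 1) (by omega)).eq_of_src (H.hom (m + 1) m) 0, comp_zero,
      zero_add]
    rfl
  · intro h
    choose w hw using h
    let hh : ∀ i j : ℤ, (ComplexShape.up ℤ).Rel j i → (P.X i ⟶ X.X j) := fun i j _ =>
      if hi : i = m ∧ j = m - 1 then (P.XIsoOfEq hi.1).hom ≫ ModuleCat.ofHom (bas.constr R w) ≫
        (X.XIsoOfEq hi.2).inv else 0
    have heq : genHom bas hP z = Homotopy.nullHomotopicMap' hh := by
      refine gen_ext bas hP fun j => ?_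
      rw [genHom_f, Homotopy.nullHomotopicMap'_f hr hr',
        (hP (m + 1) (by omega)).eq_of_src (hh (m + 1) m hr') 0, comp_zero, zero_add]
      simp [hh, hw]
    rw [heq]
    exact ⟨Homotopy.nullHomotopy' hh⟩

end Gen

section BaseChange

variable {A : Type u} [CommRing A] (B : Type u) [CommRing B] [Algebra A B] [Module.Flat A B]

theorem extA_map_oneL {M N : ModuleCat.{u} A} (g : M ⟶ N) (x : M) :
    ((extA A B).map g).hom ((oneL (algebraMap A B) M).hom x) = (oneL (algebraMap A B) N).hom (g.hom x) := rfl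

theorem oneL_smul {M : ModuleCat.{u} A} (a : A) (x : M) :
    ((oneL (algebraMap A B) M).hom (a • x) : (extA A B).obj M) =
      algebraMap A B a • ((oneL (algebraMap A B) M).hom x : (extA A B).obj M) :=
  (oneL (algebraMap A B) M).hom.map_smul a x

theorem extA_map_smul {M N : ModuleCat.{u} A} (g : M ⟶ N) (a : A) :
    (extA A B).map (a • g) = algebraMap A B a • (extA A B).map g := by
  refine ext_hom_ext _ _ fun x => ?_
  rw [extA_map_oneL, ModuleCat.hom_smul, LinearMap.smul_apply, oneL_smul, ModuleCat.hom_smul,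
    LinearMap.smul_apply]
  rfl

theorem DF_map_smul {K L : Dual.D A} (f : K ⟶ L) (a : A) :
    (DF (extA A B)).map (a • f) = algebraMap A B a • (DF (extA A B)).map f := by
  have key : (DF (extA A B)).map (a • 𝟙 L) = algebraMap A B a • 𝟙 ((DF (extA A B)).obj L) := by
    obtain ⟨E, ⟨e⟩⟩ := exists_complex_iso L
    have hcx : ((extA A B).mapHomologicalComplex (ComplexShape.up ℤ)).map (a • 𝟙 E) =
        algebraMap A B a • 𝟙 _ := by
      ext1 i
      rw [Functor.mapHomologicalComplex_map_f, HomologicalComplex.smul_f_apply, extA_map_smul,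
        HomologicalComplex.id_f, CategoryTheory.Functor.map_id]
      rfl
    have hQ : (DF (extA A B)).map ((QA A).map (a • 𝟙 E)) = algebraMap A B a • 𝟙 _ := by
      have hn := NatIso.naturality_2 (extA A B).mapDerivedCategoryFactors (a • 𝟙 E)
      refine hn.symm.trans ?_
      dsimp only [Functor.comp_obj, Functor.comp_map]
      rw [hcx, Functor.map_smul, CategoryTheory.Functor.map_id, Linear.smul_comp, Category.id_comp,
        Linear.comp_smul, Iso.hom_inv_id_app]
      rfl
    have : a • 𝟙 L = e.inv ≫ (QA A).map (a • 𝟙 E) ≫ e.hom := by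
      rw [Functor.map_smul, CategoryTheory.Functor.map_id, Linear.smul_comp, Category.id_comp,
        Linear.comp_smul, e.inv_hom_id]
    rw [this, Functor.map_comp, Functor.map_comp, hQ, Linear.smul_comp, Category.id_comp,
      Linear.comp_smul, ← Functor.map_comp, e.inv_hom_id, CategoryTheory.Functor.map_id]
  rw [← Category.comp_id f, ← Linear.comp_smul, Functor.map_comp, key, Linear.comp_smul,
    Category.comp_id, Category.comp_id]

/-- `B ⊗ Hom(K, L) → Hom(K_B, L_B)` -/
noncomputable def thetaBar (K L : Dual.D A) :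
    B ⊗[A] (K ⟶ L) →ₗ[B] ((DF (extA A B)).obj K ⟶ (DF (extA A B)).obj L) where
  toFun := TensorProduct.liftAddHom
    (AddMonoidHom.mk' (fun b => AddMonoidHom.mk' (fun f => b • (DF (extA A B)).map f)
        (fun f g => by rw [Functor.map_add, smul_add]))
      (fun b c => by ext f; simp [add_smul]))
    (fun a b f => by
      show (a • b) • (DF (extA A B)).map f = b • (DF (extA A B)).map (a • f)
      rw [DF_map_smul, smul_smul, Algebra.smul_def, mul_comm])
  map_add' := map_add _
  map_smul' c w := by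
    induction w using TensorProduct.induction_on with
    | zero => simp
    | tmul b f => exact mul_smul c b _
    | add x y hx hy =>
      simp only [RingHom.id_apply] at hx hy ⊢
      simp only [smul_add, map_add, hx, hy]

theorem thetaBar_tmul (K L : Dual.D A) (b : B) (f : K ⟶ L) :
    thetaBar B K L (b ⊗ₜ[A] f) = b • (DF (extA A B)).map f := rfl

theorem thetaBar_natural {K K' L L' : Dual.D A} (u : K' ⟶ K) (v : L ⟶ L')
    (w : B ⊗[A] (K ⟶ L)) :
    thetaBar B K' L' (((Linear.rightComp A _ v) ∘ₗ (Linear.leftComp A _ u)).lTensor B w) =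
      (DF (extA A B)).map u ≫ thetaBar B K L w ≫ (DF (extA A B)).map v := by
  induction w using TensorProduct.induction_on with
  | zero => simp
  | tmul b f =>
    simp [thetaBar_tmul, LinearMap.lTensor_tmul]
  | add x y hx hy => simp only [map_add, hx, hy, Preadditive.comp_add, Preadditive.add_comp]

omit [Module.Flat A B] in
theorem exists_extA_equiv (M : ModuleCat.{u} A) :
    ∃ e : B ⊗[A] M ≃ₗ[B] ((extA A B).obj M : ModuleCat.{u} B),
      ∀ x : M, e (1 ⊗ₜ[A] x) = (oneL (algebraMap A B) M).hom x := by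
  rename_i alg
  obtain ⟨φ, rfl⟩ : ∃ φ : A →+* B, alg = φ.toAlgebra :=
    ⟨algebraMap A B, Algebra.algebra_ext _ _ fun _ => rfl⟩
  exact ⟨LinearEquiv.refl B _, fun _ => rfl⟩

/-- morphisms out of `K` into `L` commute with base change -/
def Good (K L : Dual.D A) : Prop := Function.Bijective (thetaBar B K L)

theorem Good.of_iso {K K' L L' : Dual.D A} (h : Good B K L) (e : K ≅ K') (f : L ≅ L') :
    Good B K' L' := by
  let u : (K ⟶ L) →ₗ[A] (K' ⟶ L') := Linear.rightComp A _ f.hom ∘ₗ Linear.leftComp A _ e.inv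
  have hu : Function.Bijective u := by
    refine ⟨fun x y hxy => ?_, fun g => ⟨e.hom ≫ g ≫ f.inv, ?_⟩⟩
    · simpa [u] using hxy
    · simp [u]
  have hc : (thetaBar B K' L' : _ → _) ∘ (u.lTensor B) =
      (fun g => (DF (extA A B)).map e.inv ≫ g ≫ (DF (extA A B)).map f.hom) ∘ thetaBar B K L :=
    funext fun w => thetaBar_natural B e.inv f.hom w
  have h2 : Function.Bijective
      (fun g : ((DF (extA A B)).obj K ⟶ (DF (extA A B)).obj L) =>
        (DF (extA A B)).map e.inv ≫ g ≫ (DF (extA A B)).map f.hom) := by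
    refine ⟨fun x y hxy => ?_, fun g =>
      ⟨(DF (extA A B)).map e.hom ≫ g ≫ (DF (extA A B)).map f.inv, ?_⟩⟩
    · exact (cancel_mono _).1 ((cancel_epi _).1 hxy)
    · simp [← Functor.map_comp_assoc, ← Functor.map_comp]
  have h3 := hc ▸ h2.comp h
  exact (Function.Bijective.of_comp_iff _ (((LinearEquiv.ofBijective u hu).lTensor B).bijective)).1 h3

variable {B}

theorem good_gen {P X : DRing.Cx A} [P.IsKProjective] {m : ℤ} {n : ℕ}
    (bas : Module.Basis (Fin n) A (P.X m)) (hP : ∀ i, i ≠ m → IsZero (P.X i)) :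
    Good B ((QA A).obj P) ((QA A).obj X) := by
  classical
  let Fc := (extA A B).mapHomologicalComplex (ComplexShape.up ℤ)
  haveI : CochainComplex.IsKProjective (Fc.obj P) := isKProjective_extCx (algebraMap A B) P
  have hP' : ∀ i, i ≠ m → IsZero ((Fc.obj P).X i) := fun i hi => (extA A B).map_isZero (hP i hi)
  let t := fun i => Classical.choose (exists_extA_equiv B (X.X i))
  have ht : ∀ i (x : X.X i), t i (1 ⊗ₜ[A] x) = (oneL (algebraMap A B) (X.X i)).hom x := fun i =>
    Classical.choose_spec (exists_extA_equiv B (X.X i))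
  obtain ⟨eP, heP⟩ := exists_extA_equiv B (P.X m)
  let bas' : Module.Basis (Fin n) B ((Fc.obj P).X m) := (bas.baseChange B).map eP
  have hbas' : ∀ j, bas' j = (oneL (algebraMap A B) (P.X m)).hom (bas j) := fun j => by
    rw [Module.Basis.map_apply, Module.Basis.baseChange_apply]; exact heP _
  have htd : ∀ (i j : ℤ) (w : B ⊗[A] X.X i),
      ((Fc.obj X).d i j).hom (t i w) = t j ((X.d i j).hom.baseChange B w) := by
    intro i j w
    induction w using TensorProduct.induction_on with
    | zero => exact (congrArg _ (map_zero (t i))).trans ((map_zero _).trans (((congrArg (t j) (map_zero _)).trans (map_zero _)).symm))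
    | tmul b x =>
      rw [show b ⊗ₜ[A] x = b • (1 ⊗ₜ[A] x) by simp [smul_tmul'], map_smul, map_smul, ht]
      refine (LinearMap.map_smul _ _ _).trans ?_
      rw [map_smul, LinearMap.baseChange_tmul, ht]
      exact congrArg (b • ·) (extA_map_oneL B (X.d i j) x)
    | add x y hx hy =>
      rw [map_add, map_add, map_add]
      exact (map_add _ _ _).trans (congrArg₂ (· + ·) hx hy)
  let Z := cyc X m
  let J0 : B ⊗[A] Z →ₗ[B] (Fc.obj X).X m := (t m).toLinearMap ∘ₗ Z.subtype.baseChange B
  have hJ0mem : ∀ w, J0 w ∈ cyc (Fc.obj X) m := fun w => by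
    show ((Fc.obj X).d m (m + 1)).hom (t m (Z.subtype.baseChange B w)) = 0
    rw [htd, ← LinearMap.comp_apply, ← LinearMap.baseChange_comp,
      show (X.d m (m + 1)).hom ∘ₗ Z.subtype = 0 from LinearMap.ext fun z => z.2]
    exact (congrArg (t (m + 1)) (by simp)).trans (map_zero _)
  let J1 : B ⊗[A] Z →ₗ[B] cyc (Fc.obj X) m := LinearMap.codRestrict _ J0 hJ0mem
  have hJ1 : Function.Bijective J1 := by
    have hinj : Function.Injective (Z.subtype.baseChange B) :=
      Module.Flat.lTensor_preserves_injective_linearMap _ Subtype.val_injective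
    refine ⟨fun x y hxy => hinj ((t m).injective (congrArg Subtype.val hxy)), fun y => ?_⟩
    have hy : ((Fc.obj X).d m (m + 1)).hom (t m ((t m).symm y.1)) = 0 := by
      rw [LinearEquiv.apply_symm_apply]; exact y.2
    have hy := (LinearEquiv.map_eq_zero_iff _).1 ((htd _ _ _).symm.trans hy)
    obtain ⟨w, hw⟩ := (Module.Flat.lTensor_exact B
      (LinearMap.exact_subtype_ker_map (X.d m (m + 1)).hom) _).1 hy
    refine ⟨w, Subtype.ext ?_⟩
    show t m (Z.subtype.baseChange B w) = y.1
    rw [show Z.subtype.baseChange B w = (t m).symm y.1 from hw, LinearEquiv.apply_symm_apply]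
  let J : B ⊗[A] (Fin n → Z) ≃ₗ[B] (Fin n → cyc (Fc.obj X) m) :=
    TensorProduct.piRight A B B (fun _ : Fin n => Z) ≪≫ₗ
      LinearEquiv.piCongrRight fun _ => LinearEquiv.ofBijective J1 hJ1
  have hJ : ∀ b z j, (J (b ⊗ₜ[A] z) j).1 = b • (oneL (algebraMap A B) (X.X m)).hom (z j).1 := by
    intro b z j
    have h1 : (J (b ⊗ₜ[A] z) j).1 = t m (b ⊗ₜ[A] (z j).1) := by
      simp [J, J1, J0]; rfl
    rw [h1, show b ⊗ₜ[A] (z j).1 = b • (1 ⊗ₜ[A] (z j).1) by simp [smul_tmul'], map_smul, ht]
    rfl
  let c : ((QA B).obj (Fc.obj P) ⟶ (QA B).obj (Fc.obj X)) ≃ₗ[B]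
      ((DF (extA A B)).obj ((QA A).obj P) ⟶ (DF (extA A B)).obj ((QA A).obj X)) :=
    Linear.homCongr B (DFQ (extA A B) P).symm (DFQ (extA A B) X).symm
  have key : ∀ w, thetaBar B _ _ ((genQ (X := X) bas hP).lTensor B w) =
      c (genQ bas' hP' (J w)) := by
    intro w
    induction w using TensorProduct.induction_on with
    | zero => simp
    | add x y hx hy => simp only [map_add, hx, hy]
    | tmul b z =>
      rw [LinearMap.lTensor_tmul, thetaBar_tmul]
      have hz : J (b ⊗ₜ[A] z) = b • fun j => (⟨((Fc.map (genHom bas hP z)).f m).hom (bas' j),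
          val_mem_cyc hP' _ _⟩ : cyc (Fc.obj X) m) := by
        funext j
        refine Subtype.ext ((hJ b z j).trans (congrArg (b • ·) ?_))
        show _ = ((Fc.map (genHom bas hP z)).f m).hom (bas' j)
        rw [hbas']
        exact ((extA_map_oneL B ((genHom bas hP z).f m) (bas j)).trans
          (congrArg _ (genHom_f bas hP z j))).symm
      rw [hz, map_smul, map_smul, genQ_eq]
      refine congrArg (b • ·) ?_
      rw [show genHom bas hP z = genHom bas hP z from rfl, Linear.homCongr_apply, Category.assoc]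
      exact (NatIso.naturality_2 (extA A B).mapDerivedCategoryFactors (genHom bas hP z)).symm
  have hq := LinearMap.lTensor_surjective B (genQ_surjective (X := X) bas hP)
  refine ⟨(injective_iff_map_eq_zero _).2 fun y hy => ?_, fun y => ?_⟩
  · obtain ⟨w, rfl⟩ := hq y
    rw [key, LinearEquiv.map_eq_zero_iff, genQ_eq_zero_iff] at hy
    choose v hv using hy
    let d' : X.X (m - 1) →ₗ[A] Z := LinearMap.codRestrict Z (X.d (m - 1) m).hom
      (fun x => d_apply_d X _ _ _ x)
    let u : B ⊗[A] (Fin n → X.X (m - 1)) :=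
      (TensorProduct.piRight A B B (fun _ : Fin n => X.X (m - 1))).symm
        (fun j => (t (m - 1)).symm (v j))
    have hw : w = (LinearMap.pi fun j => d' ∘ₗ LinearMap.proj j).lTensor B u := by
      apply J.injective
      funext j
      refine Subtype.ext ((hv j).symm.trans ?_)
      have h1 : ∀ u : B ⊗[A] (Fin n → X.X (m - 1)),
          (J ((LinearMap.pi fun j => d' ∘ₗ LinearMap.proj j).lTensor B u) j).1 =
            t m ((X.d (m - 1) m).hom.baseChange B
              ((TensorProduct.piRight A B B (fun _ : Fin n => X.X (m - 1))) u j)) := by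
        intro u
        induction u using TensorProduct.induction_on with
        | zero => simp; rfl
        | tmul b x =>
          rw [LinearMap.lTensor_tmul, hJ, TensorProduct.piRight_apply,
            TensorProduct.piRightHom_tmul, LinearMap.baseChange_tmul,
            show b ⊗ₜ[A] (X.d (m - 1) m).hom (x j) = b • (1 ⊗ₜ[A] (X.d (m - 1) m).hom (x j)) by
              simp [smul_tmul'], map_smul, ht]
          rfl
        | add x y hx hy =>
          simp only [map_add, Pi.add_apply, Submodule.coe_add, hx, hy]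
          rfl
      rw [h1, ← htd]
      simp [u]
    rw [hw, ← LinearMap.lTensor_comp_apply,
      show genQ bas hP ∘ₗ (LinearMap.pi fun j => d' ∘ₗ LinearMap.proj j) = 0 from
        LinearMap.ext fun x => (genQ_eq_zero_iff bas hP _).2 fun j => ⟨x j, rfl⟩]
    simp
  · obtain ⟨z, hz⟩ := genQ_surjective bas' hP' (c.symm y)
    refine ⟨(genQ bas hP).lTensor B (J.symm z), ?_⟩
    rw [key, LinearEquiv.apply_symm_apply, hz, LinearEquiv.apply_symm_apply]

variable (B)


omit [Module.Flat A B] in
theorem yoneda_exact {A : Type u} [CommRing A] {T : Triangle (Dual.D A)} (hT : T ∈ distinguishedTriangles) (L : Dual.D A) :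
    Function.Exact (Linear.leftComp A L T.mor₂) (Linear.leftComp A L T.mor₁) := fun f => by
  refine ⟨fun h => ?_, ?_⟩
  · obtain ⟨g, rfl⟩ := Triangle.yoneda_exact₂ T hT f h
    exact ⟨g, rfl⟩
  · rintro ⟨g, rfl⟩
    show T.mor₁ ≫ T.mor₂ ≫ g = 0
    rw [← Category.assoc, comp_distTriang_mor_zero₁₂ T hT, zero_comp]

theorem good_obj₂ {T : Triangle (Dual.D A)} (hT : T ∈ distinguishedTriangles) {L : Dual.D A}
    (h₁ : Good B T.obj₁ L) (h₁' : Good B (T.obj₁⟦(1 : ℤ)⟧) L)
    (h₃ : Good B T.obj₃ L) (h₃' : Good B (T.obj₃⟦(-1 : ℤ)⟧) L) : Good B T.obj₂ L := by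
  let G := DF (extA A B)
  have hr := rot_of_distTriang _ hT
  have hi := inv_rot_of_distTriang _ hT
  let pre : ∀ {X Y : Dual.D A}, (X ⟶ Y) → (B ⊗[A] (Y ⟶ L) →ₗ[B] B ⊗[A] (X ⟶ L)) :=
    fun u => (Linear.leftComp A L u).baseChange B
  let pre' : ∀ {X Y : Dual.D A}, (X ⟶ Y) → ((G.obj Y ⟶ G.obj L) →ₗ[B] (G.obj X ⟶ G.obj L)) :=
    fun u => Linear.leftComp B _ (G.map u)
  have nat : ∀ {X Y : Dual.D A} (u : X ⟶ Y),
      (pre' u) ∘ₗ thetaBar B Y L = thetaBar B X L ∘ₗ pre u := fun {X Y} u => by
    refine LinearMap.ext fun w => ?_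
    induction w using TensorProduct.induction_on with
    | zero => simp
    | tmul b f => simp [pre, pre', thetaBar_tmul, G]
    | add x y hx hy => rw [map_add, map_add, hx, hy]
  have exA : ∀ (T : Triangle (Dual.D A)), T ∈ distinguishedTriangles →
      Function.Exact (pre T.mor₂) (pre T.mor₁) := fun T hT =>
    Module.Flat.lTensor_exact B (yoneda_exact hT L)
  have exB : ∀ (T : Triangle (Dual.D A)), T ∈ distinguishedTriangles →
      Function.Exact (pre' T.mor₂) (pre' T.mor₁) := fun T hT =>
    yoneda_exact (G.map_distinguished T hT) (G.obj L)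
  exact LinearMap.bijective_of_surjective_of_bijective_of_bijective_of_injective
    (pre T.rotate.mor₂) (pre T.mor₂) (pre T.mor₁) (pre T.invRotate.mor₁)
    (pre' T.rotate.mor₂) (pre' T.mor₂) (pre' T.mor₁) (pre' T.invRotate.mor₁)
    (thetaBar B _ L) (thetaBar B _ L) (thetaBar B _ L) (thetaBar B _ L) (thetaBar B _ L)
    (nat _) (nat _) (nat _) (nat _)
    (exA T.rotate hr) (exA T hT) (exA T.invRotate hi)
    (exB T.rotate hr) (exB T hT) (exB T.invRotate hi)
    h₁'.2 h₃ h₁ h₃'.1

theorem good_of_isZero {K L : Dual.D A} (h : IsZero K) : Good B K L := by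
  haveI : Subsingleton (K ⟶ L) := ⟨h.eq_of_src⟩
  haveI : Subsingleton (B ⊗[A] (K ⟶ L)) := by
    refine subsingleton_of_forall_eq 0 fun x => ?_
    induction x using TensorProduct.induction_on with
    | zero => rfl
    | tmul b f => rw [Subsingleton.elim f 0, tmul_zero]
    | add x y hx hy => rw [hx, hy, add_zero]
  haveI : Subsingleton ((DF (extA A B)).obj K ⟶ (DF (extA A B)).obj L) :=
    ⟨((DF (extA A B)).map_isZero h).eq_of_src⟩
  exact ⟨fun _ _ _ => Subsingleton.elim _ _, fun y => ⟨0, Subsingleton.elim _ _⟩⟩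

theorem good_single {M : ModuleCat.{u} A} (hM : FFp M) (i : ℤ) (L : Dual.D A) :
    Good B (sngl i M) L := by
  haveI := hM.1
  haveI := hM.2
  obtain ⟨E, ⟨e⟩⟩ := exists_complex_iso L
  haveI : Projective M := (IsProjective.iff_projective (R := A) M).1 (proj_of_FF hM)
  let P := (HomologicalComplex.single (ModuleCat.{u} A) (ComplexShape.up ℤ) i).obj M
  haveI : CochainComplex.IsKProjective P := isKProjective_single M i
  let bas : Module.Basis (Fin (Fintype.card (Module.Free.ChooseBasisIndex A M))) A (P.X i) :=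
    (((Module.Free.chooseBasis A M)).reindex (Fintype.equivFin _)).map
      (HomologicalComplex.singleObjXSelf (ComplexShape.up ℤ) i M).toLinearEquiv.symm
  exact (good_gen (B := B) (X := E) bas fun j hj =>
    HomologicalComplex.isZero_single_obj_X _ _ _ _ hj).of_iso B (Iso.refl _) e

theorem good_bff {K : Dual.D A} (hK : BFF K) (L : Dual.D A) : Good B K L := by
  obtain ⟨a, b, E, hE, hFF, ⟨e⟩⟩ := hK
  have hb : ∀ i, b < i → IsZero (E.X i) := fun i hi => hE i fun h => by
    rw [Set.mem_Icc] at h; omega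
  have ha : ∀ i, i < a → IsZero (E.X i) := fun i hi => hE i fun h => by
    rw [Set.mem_Icc] at h; omega
  have h0 : ∀ k : ℤ, Good B (((QA A).obj (cutGE E a))⟦k⟧) L := by
    refine induction_terms (P := fun X => ∀ k : ℤ, Good B (X⟦k⟧) L) ?_ ?_ E b hb a ?_
    · intro T hT h₁ h₃ k
      refine good_obj₂ B (T := (Triangle.shiftFunctor _ k).obj T)
        (Triangle.shift_distinguished T hT k) (h₁ k) ?_ (h₃ k) ?_
      · exact (h₁ (k + 1)).of_iso B ((shiftFunctorAdd' (Dual.D A) k 1 (k + 1) rfl).app _) (Iso.refl _)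
      · exact (h₃ (k + -1)).of_iso B ((shiftFunctorAdd' (Dual.D A) k (-1) (k + -1) rfl).app _) (Iso.refl _)
    · exact fun X hX k => good_of_isZero B ((shiftFunctor (Dual.D A) k).map_isZero hX)
    · intro i _ k
      exact (good_single B (hFF i) (i - k) L).of_iso B ((((DerivedCategory.singleFunctors (ModuleCat.{u} A)).shiftIso k (i - k) i (by omega)).app (E.X i)).symm)
        (Iso.refl _)
  haveI : IsIso (cutι E a) := cutι_isIso_of_vanishesOutside E a b fun i hi => by
    rcases hi with hi | hi
    · exact ha i hi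
    · exact hb i hi
  exact (h0 0).of_iso B ((shiftFunctorZero (Dual.D A) ℤ).app _ ≪≫ (QA A).mapIso (asIso (cutι E a)) ≪≫ e)
    (Iso.refl _)

/-- **Flat base change** of morphisms out of pseudo-coherent objects. -/
theorem good_of_pc {c : ℤ} {K L : Dual.D A} (hK : PC (c - 1) K)
    (hL : ∀ i, i < c → IsZero ((HF A i).obj L)) : Good B K L := by
  obtain ⟨X', α, hX', hα⟩ := (pc_iff _ K).1 hK
  obtain ⟨C, g, h, hT⟩ := distinguished_cocone_triangle α
  have hC : Acyc (c - 1) C := (approx_iff_acyc _ hT _).1 hα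
  have hC' : Acyc c (C⟦(-1 : ℤ)⟧) := acyc_shift C (-1) c (by rw [show c + -1 = c - 1 by omega]; exact hC)
  have hL' : ∀ i, i < c → IsZero ((HF B i).obj ((DF (extA A B)).obj L)) := fun i hi => by
    obtain ⟨e⟩ := HF_DF (extA A B) L i
    exact ((extA A B).map_isZero (hL i hi)).of_iso e
  haveI : L.IsGE c := (DerivedCategory.isGE_iff L c).2 fun i hi => hL i (by omega)
  haveI : ((DF (extA A B)).obj L).IsGE c :=
    (DerivedCategory.isGE_iff _ c).2 fun i hi => hL' i (by omega)
  haveI : C.IsLE (c - 1) := (acyc_iff_isLE c C).1 (hC.mono (by omega))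
  haveI : (C⟦(-1 : ℤ)⟧).IsLE (c - 1) := (acyc_iff_isLE _ _).1 hC'
  haveI : ((DF (extA A B)).obj C).IsLE (c - 1) :=
    (acyc_iff_isLE c _).1 ((hC.mono (by omega)).map _)
  haveI : ((DF (extA A B)).obj (C⟦(-1 : ℤ)⟧)).IsLE (c - 1) := (acyc_iff_isLE _ _).1 (hC'.map _)
  have z1 : Subsingleton (C ⟶ L) := subsingleton_of_forall_eq 0 fun f =>
    DerivedCategory.TStructure.t.zero_of_isLE_of_isGE f (c - 1) c (by omega) inferInstance inferInstance
  have z2 : Subsingleton ((C⟦(-1 : ℤ)⟧) ⟶ L) := subsingleton_of_forall_eq 0 fun f =>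
    DerivedCategory.TStructure.t.zero_of_isLE_of_isGE f (c - 1) c (by omega) inferInstance inferInstance
  let G := DF (extA A B)
  have w1 : Subsingleton (G.obj C ⟶ G.obj L) := subsingleton_of_forall_eq 0 fun f =>
    DerivedCategory.TStructure.t.zero_of_isLE_of_isGE f (c - 1) c (by omega) inferInstance inferInstance
  have w2 : Subsingleton (G.obj (C⟦(-1 : ℤ)⟧) ⟶ G.obj L) := subsingleton_of_forall_eq 0 fun f =>
    DerivedCategory.TStructure.t.zero_of_isLE_of_isGE f (c - 1) c (by omega) inferInstance inferInstance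
  let T := Triangle.mk α g h
  have hbij : Function.Bijective (Linear.leftComp A L α) := by
    refine ⟨(injective_iff_map_eq_zero _).2 fun f hf => ?_, fun f => ?_⟩
    · obtain ⟨q, rfl⟩ := Triangle.yoneda_exact₂ T hT f hf
      exact (congrArg (T.mor₂ ≫ ·) (Subsingleton.elim (α := C ⟶ L) q 0)).trans comp_zero
    · obtain ⟨q, hq⟩ := Triangle.yoneda_exact₂ T.invRotate (inv_rot_of_distTriang _ hT) f
        (Subsingleton.elim (α := (C⟦(-1 : ℤ)⟧) ⟶ L) _ _)
      exact ⟨q, hq.symm⟩
  have hbij' : Function.Bijective (fun f : G.obj K ⟶ G.obj L => G.map α ≫ f) := by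
    refine ⟨fun f f' hf => ?_, fun f => ?_⟩
    · obtain ⟨q, hq⟩ := Triangle.yoneda_exact₂ _ (G.map_distinguished T hT) (f - f') (by
        show G.map α ≫ (f - f') = 0
        rw [Preadditive.comp_sub, sub_eq_zero]; exact hf)
      rw [← sub_eq_zero]
      exact hq.trans ((congrArg _ (Subsingleton.elim (α := G.obj C ⟶ G.obj L) q 0)).trans comp_zero)
    · obtain ⟨q, hq⟩ := Triangle.yoneda_exact₂ _
        (G.map_distinguished T.invRotate (inv_rot_of_distTriang _ hT)) f
        (Subsingleton.elim (α := G.obj (C⟦(-1 : ℤ)⟧) ⟶ G.obj L) _ _)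
      exact ⟨q, hq.symm⟩
  have hsq : (fun f : G.obj K ⟶ G.obj L => G.map α ≫ f) ∘ thetaBar B K L =
      (thetaBar B X' L : _ → _) ∘ ((LinearEquiv.ofBijective _ hbij).lTensor B) := by
    funext w
    induction w using TensorProduct.induction_on with
    | zero => simp
    | tmul b f => simp [thetaBar_tmul, LinearEquiv.lTensor_tmul, G]
    | add x y hx hy =>
      simp only [Function.comp_apply] at hx hy ⊢
      simp only [map_add, Preadditive.comp_add, hx, hy]
  exact (Function.Bijective.of_comp_iff' hbij' _).1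
    (hsq ▸ (good_bff B hX' L).comp (LinearEquiv.bijective _))

end BaseChange

end Groth.Agent.DR39
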