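import Groth.Agent.DR39.TensorSymm
import Mathlib.Algebra.Homology.HomologicalComplexLimits
import Mathlib.Algebra.Category.ModuleCat.FilteredColimits
import Mathlib.CategoryTheory.Limits.ConcreteCategory.Basic

/-! Filtered colimits of K-flat complexes. -/

set_option autoImplicit false
set_option linter.style.haveILetI false
set_option linter.unusedSectionVars false

universe u

open CategoryTheory CategoryTheory.Limits MonoidalCategory HomologicalComplex

namespace Groth.Agent.DR39

variable {A : Type u} [CommRing A] {J : Type u} [SmallCategory J] [IsFiltered J]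

theorem colimit_rep_f (F : J ⥤ DRing.Cx A) (n : ℤ) (z : (colimit F).X n) :
    ∃ (j : J) (w : (F.obj j).X n), ((colimit.ι F j).f n).hom w = z :=
  Concrete.isColimit_exists_rep (F ⋙ eval (ModuleCat.{u} A) (ComplexShape.up ℤ) n)
    (isColimitOfPreserves (eval (ModuleCat.{u} A) (ComplexShape.up ℤ) n) (colimit.isColimit F)) z

theorem colimit_rep_f_eq_zero (F : J ⥤ DRing.Cx A) (n : ℤ) (j : J) (w : (F.obj j).X n)
    (h : ((colimit.ι F j).f n).hom w = 0) : ∃ (k : J) (u : j ⟶ k), ((F.map u).f n).hom w = 0 := by
  obtain ⟨k, u, v, huv⟩ := Concrete.isColimit_exists_of_rep_eq (F ⋙ eval (ModuleCat.{u} A) (ComplexShape.up ℤ) n)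
    (isColimitOfPreserves (eval (ModuleCat.{u} A) (ComplexShape.up ℤ) n) (colimit.isColimit F))
    (i := j) (j := j) w (0 : (F.obj j).X n) (by
      show ((colimit.ι F j).f n).hom w = ((colimit.ι F j).f n).hom 0
      rw [h, map_zero])
  exact ⟨k, u, huv.trans (map_zero _)⟩

theorem isZero_homology_colimit (F : J ⥤ DRing.Cx A) (i : ℤ)
    (h : ∀ j, IsZero ((F.obj j).homology i)) : IsZero ((colimit F).homology i) := by
  rw [isZero_homology_iff]
  intro z hz
  obtain ⟨j, w, rfl⟩ := colimit_rep_f F i z
  obtain ⟨k, u, hu⟩ := colimit_rep_f_eq_zero F (i + 1) j (((F.obj j).d i (i + 1)).hom w) (by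
    rw [f_apply_d]; exact hz)
  obtain ⟨y, hy⟩ := (isZero_homology_iff _ _).1 (h k) (((F.map u).f i).hom w) (by
    rw [← hu, f_apply_d])
  refine ⟨((colimit.ι F k).f (i - 1)).hom y, ?_⟩
  rw [← f_apply_d, hy, ← LinearMap.comp_apply, ← ModuleCat.hom_comp, ← comp_f, colimit.w]

/-- `colim (L ⊗ F) → L ⊗ colim F`. -/
noncomputable def tensorColim (L : DRing.Cx A) (F : J ⥤ DRing.Cx A) :
    colimit (F ⋙ tensorLeft L) ⟶ L ⊗ colimit F :=
  colimit.desc (F ⋙ tensorLeft L) ((tensorLeft L).mapCocone (colimit.cocone F))

theorem isIso_tensorColim (L : DRing.Cx A) (F : J ⥤ DRing.Cx A) : IsIso (tensorColim L F) := by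
  haveI : ∀ n, IsIso ((tensorColim L F).f n) := fun n => by
    have hι : ∀ j, (colimit.ι (F ⋙ tensorLeft L) j).f n ≫ (tensorColim L F).f n =
        (L ◁ colimit.ι F j).f n := fun j => by
      rw [← comp_f, tensorColim, colimit.ι_desc]
      rfl
    refine isIso_of_functionals _ (fun φ => ?_) fun φ hφ => ?_
    · let hc := fun q => isColimitOfPreserves (eval (ModuleCat.{u} A) (ComplexShape.up ℤ) q) (colimit.isColimit F)
      let φj : ∀ j, (L ⊗ F.obj j).X n ⟶ EA A := fun j => (colimit.ι (F ⋙ tensorLeft L) j).f n ≫ φ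
      have hφj : ∀ {j k : J} (u : j ⟶ k), (L ◁ F.map u).f n ≫ φj k = φj j := fun {j k} u => by
        show ((F ⋙ tensorLeft L).map u).f n ≫ _ = _
        rw [← Category.assoc, ← comp_f, colimit.w]
      have key : ∀ p q (h : p + q = n), ∃ g : L.X p →ₗ[A] (colimit F).X q →ₗ[A] CharacterModule A,
          ∀ j m x, g m (((colimit.ι F j).f q).hom x) = cmp L (F.obj j) (φj j) p q h m x := by
        intro p q h
        let s : L.X p → Cocone (F ⋙ eval (ModuleCat.{u} A) (ComplexShape.up ℤ) q) := fun m =>
          { pt := EA A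
            ι :=
              { app := fun j => ModuleCat.ofHom (cmp L (F.obj j) (φj j) p q h m)
                naturality := fun j k u => ModuleCat.hom_ext (LinearMap.ext fun x => by
                  have := congrArg (fun t => cmp L (F.obj j) t p q h m x) (hφj u)
                  simp only [cmp_whiskerLeft] at this
                  exact this) } }
        have hd : ∀ m j x, ((hc q).desc (s m)).hom (((colimit.ι F j).f q).hom x) =
            cmp L (F.obj j) (φj j) p q h m x := fun m j x =>
          LinearMap.congr_fun (congrArg ModuleCat.Hom.hom ((hc q).fac (s m) j)) x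
        refine ⟨{ toFun := fun m => ((hc q).desc (s m)).hom, map_add' := fun m m' => ?_,
                  map_smul' := fun r m => ?_ }, fun j m x => hd m j x⟩
        all_goals refine LinearMap.ext fun y => ?_
        all_goals obtain ⟨j, x, rfl⟩ := colimit_rep_f F q y
        · refine (hd _ j x).trans (Eq.trans ?_ (congrArg₂ (· + ·) (hd m j x) (hd m' j x)).symm)
          rw [map_add]; rfl
        · refine (hd _ j x).trans (Eq.trans ?_ (congrArg (r • ·) (hd m j x)).symm)
          rw [map_smul]; rfl
      choose g hg using key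
      refine ⟨mkφ L (colimit F) g, ?_⟩
      refine (isColimitOfPreserves (eval (ModuleCat.{u} A) (ComplexShape.up ℤ) n)
        (colimit.isColimit (F ⋙ tensorLeft L))).hom_ext fun j => ?_
      show (colimit.ι (F ⋙ tensorLeft L) j).f n ≫ (tensorColim L F).f n ≫ _ = φj j
      rw [← Category.assoc, hι]
      refine cmp_ext L (F.obj j) fun p q h => LinearMap.ext fun m => LinearMap.ext fun x => ?_
      rw [cmp_whiskerLeft, cmp_mkφ]
      exact hg p q h j m x
    · refine cmp_ext L (colimit F) fun p q h => ?_
      rw [cmp_zero]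
      refine LinearMap.ext fun m => LinearMap.ext fun y => ?_
      obtain ⟨j, x, rfl⟩ := colimit_rep_f F q y
      have h0 : cmp L (F.obj j) ((L ◁ colimit.ι F j).f n ≫ φ) p q h = 0 := by
        rw [← hι, Category.assoc, hφ, comp_zero]
        exact cmp_zero L (F.obj j) p q h
      rw [cmp_whiskerLeft] at h0
      exact LinearMap.congr_fun (LinearMap.congr_fun h0 m) x
  exact HomologicalComplex.Hom.isIso_of_components _

theorem isKFlat_colimit (F : J ⥤ DRing.Cx A) (hF : ∀ j, DRing.IsKFlat A (F.obj j)) :
    DRing.IsKFlat A (colimit F) := fun L hL i => by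
  haveI := isIso_tensorColim L F
  exact (isZero_homology_colimit (F ⋙ tensorLeft L) i fun j => hF j L hL i).of_iso
    ((homologyFunctor (ModuleCat.{u} A) (ComplexShape.up ℤ) i).mapIso (asIso (tensorColim L F))).symm

end Groth.Agent.DR39
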