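import Groth.Agent.DR39.PC
import Groth.Agent.DR39.KFlatColim
import Mathlib.Algebra.Category.ModuleCat.FilteredColimits

/-! `Hom` out of pseudo-coherent objects and filtered colimits of modules. -/

set_option autoImplicit false
set_option linter.style.haveILetI false
set_option linter.unusedSectionVars false

universe u

open CategoryTheory CategoryTheory.Limits CategoryTheory.Pretriangulated

attribute [local instance] HasDerivedCategory.standard

namespace Groth.Agent.DR39

variable {A : Type u} [CommRing A] {J : Type u} [SmallCategory J] [IsFiltered J]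
  (F : J ⥤ ModuleCat.{u} A) (c : Cocone F) (hc : IsColimit c)

include hc in
theorem exists_factor_module (P : ModuleCat.{u} A) [Module.Finite A P] [Module.Free A P] (φ : P ⟶ c.pt) :
    ∃ (j : J) (ψ : P ⟶ F.obj j), ψ ≫ c.ι.app j = φ := by
  classical
  let B := Module.Free.chooseBasis A P
  choose js xs hxs using fun i => Concrete.isColimit_exists_rep F hc (φ.hom (B i))
  obtain ⟨j0, hj0⟩ := IsFiltered.sup_objs_exists (Finset.univ.image js)
  have hto : ∀ i, Nonempty (js i ⟶ j0) := fun i => hj0 (Finset.mem_image_of_mem js (Finset.mem_univ i))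
  refine ⟨j0, ModuleCat.ofHom (B.constr ℕ fun i => (F.map (hto i).some).hom (xs i)),
    ModuleCat.hom_ext (B.ext fun i => ?_)⟩
  simp only [ModuleCat.hom_comp, ModuleCat.hom_ofHom, LinearMap.comp_apply, Module.Basis.constr_basis]
  rw [← hxs i]
  exact LinearMap.congr_fun (congrArg ModuleCat.Hom.hom (c.w (hto i).some)) (xs i)

include hc in
theorem exists_map_zero_module (P : ModuleCat.{u} A) [Module.Finite A P] {j : J} (φ : P ⟶ F.obj j)
    (h : φ ≫ c.ι.app j = 0) : ∃ (k : J) (f : j ⟶ k), φ ≫ F.map f = 0 := by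
  classical
  obtain ⟨G, hG⟩ := (inferInstance : Module.Finite A P).fg_top
  have key : ∀ (T : Finset P), ∃ (k : J) (f : j ⟶ k), ∀ x ∈ T, (F.map f).hom (φ.hom x) = 0 := by
    intro T
    induction T using Finset.induction_on with
    | empty => exact ⟨j, 𝟙 j, fun x hx => absurd hx (Finset.notMem_empty x)⟩
    | insert x T hx ih =>
      obtain ⟨k, f, hf⟩ := ih
      have h0 : (c.ι.app k).hom ((F.map f).hom (φ.hom x)) = (c.ι.app k).hom 0 := by
        rw [map_zero]
        exact (LinearMap.congr_fun (congrArg ModuleCat.Hom.hom (c.w f)) _).trans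
          (LinearMap.congr_fun (congrArg ModuleCat.Hom.hom h) x)
      obtain ⟨l, u, v, huv⟩ := Concrete.isColimit_exists_of_rep_eq F hc (i := k) (j := k) _ (0 : F.obj k) h0
      refine ⟨l, f ≫ u, fun y hy => ?_⟩
      rw [F.map_comp, ModuleCat.hom_comp, LinearMap.comp_apply]
      rcases Finset.mem_insert.1 hy with rfl | hy
      · exact huv.trans (map_zero _)
      · rw [hf y hy, map_zero]
  obtain ⟨k, f, hf⟩ := key G
  exact ⟨k, f, ModuleCat.hom_ext (LinearMap.ext_on hG fun x hx => hf x hx)⟩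

/-- A module placed in degree `p`. -/
noncomputable abbrev sglD (p : ℤ) : ModuleCat.{u} A ⥤ Dual.D A :=
  HomologicalComplex.single (ModuleCat.{u} A) (ComplexShape.up ℤ) p ⋙ QA A

include hc in
theorem hom_colim_complex (E : DRing.Cx A) (a b : ℤ) (hv : DRing.VanishesOutside E a b)
    (hE : DRing.TermwiseFiniteFree E) (p : ℤ) :
    (∀ x : (QA A).obj E ⟶ (sglD p).obj c.pt, ∃ (j : J) (y : (QA A).obj E ⟶ (sglD p).obj (F.obj j)),
      y ≫ (sglD p).map (c.ι.app j) = x) ∧
    (∀ (j : J) (y : (QA A).obj E ⟶ (sglD p).obj (F.obj j)), y ≫ (sglD p).map (c.ι.app j) = 0 →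
      ∃ (k : J) (f : j ⟶ k), y ≫ (sglD p).map (F.map f) = 0) := by
  haveI : ∀ i, Module.Finite A (E.X i) := fun i => (hE i).1
  haveI : ∀ i, Module.Free A (E.X i) := fun i => (hE i).2
  haveI := isKProjective_of_bddAbove E b (fun i hi => hv i (Or.inr hi)) (fun i => inferInstance)
  let σ := fun (M : ModuleCat.{u} A) => HomologicalComplex.singleObjXSelf (ComplexShape.up ℤ) p M
  refine ⟨fun x => ?_, fun j y hy => ?_⟩
  · obtain ⟨g, rfl⟩ := Q_map_surjective E _ x
    have hd : E.d (p - 1) p ≫ g.f p ≫ (σ c.pt).hom = 0 := by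
      rw [← Category.assoc, ← g.comm, HomologicalComplex.single_obj_d, comp_zero, zero_comp]
    obtain ⟨j, ψ, hψ⟩ := exists_factor_module F c hc (E.X p) (g.f p ≫ (σ c.pt).hom)
    obtain ⟨k, f, hf⟩ := exists_map_zero_module F c hc (E.X (p - 1)) (E.d (p - 1) p ≫ ψ)
      (by rw [Category.assoc, hψ, hd])
    refine ⟨k, (QA A).map (HomologicalComplex.mkHomToSingle (ψ ≫ F.map f) fun i hi => ?_), ?_⟩
    · obtain rfl : i = p - 1 := by
        have : i + 1 = p := hi
        omega
      rw [← Category.assoc]; exact hf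
    · rw [Functor.comp_map, ← Functor.map_comp]
      congr 1
      apply HomologicalComplex.to_single_hom_ext
      rw [← cancel_mono (σ c.pt).hom]
      simp [σ, HomologicalComplex.mkHomToSingle, HomologicalComplex.single_map_f_self,
        HomologicalComplex.singleObjXSelf, c.w, hψ]
  · obtain ⟨g, rfl⟩ := Q_map_surjective E _ y
    rw [Functor.comp_map, ← Functor.map_comp, ← (QA A).map_zero, Q_map_eq_iff] at hy
    obtain ⟨H⟩ := hy
    have hc' := congrArg (· ≫ (σ c.pt).hom) (H.comm p)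
    simp only [dNext_eq _ (show (ComplexShape.up ℤ).Rel p (p + 1) from rfl),
      prevD_eq _ (show (ComplexShape.up ℤ).Rel (p - 1) p from sub_add_cancel p 1),
      HomologicalComplex.single_obj_d, comp_zero, add_zero, HomologicalComplex.zero_f,
      HomologicalComplex.comp_f, Category.assoc] at hc'
    have hn : ((HomologicalComplex.single (ModuleCat.{u} A) (ComplexShape.up ℤ) p).map (c.ι.app j)).f p ≫
        (σ c.pt).hom = (σ (F.obj j)).hom ≫ c.ι.app j := by
      simp [σ, HomologicalComplex.single_map_f_self]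
    rw [hn] at hc'
    obtain ⟨k, ψ, hψ⟩ := exists_factor_module F c hc (E.X (p + 1)) (H.hom (p + 1) p ≫ (σ c.pt).hom)
    let l := IsFiltered.max j k
    obtain ⟨m, u, hu⟩ := exists_map_zero_module F c hc (E.X p)
      (g.f p ≫ (σ (F.obj j)).hom ≫ F.map (IsFiltered.leftToMax j k) -
        E.d p (p + 1) ≫ ψ ≫ F.map (IsFiltered.rightToMax j k)) (by
      simp only [Preadditive.sub_comp, Category.assoc, c.w, hψ, hc', sub_self])
    refine ⟨m, IsFiltered.leftToMax j k ≫ u, ?_⟩
    let h : ∀ i i', E.X i ⟶ ((HomologicalComplex.single (ModuleCat.{u} A) (ComplexShape.up ℤ) p).obj (F.obj m)).X i' :=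
      fun i i' => if hi : i = p + 1 ∧ i' = p then
        (E.XIsoOfEq hi.1).hom ≫ ψ ≫ F.map (IsFiltered.rightToMax j k ≫ u) ≫
          (HomologicalComplex.singleObjXIsoOfEq (ComplexShape.up ℤ) p (F.obj m) i' hi.2).inv else 0
    have hh : ∀ i i', ¬(ComplexShape.up ℤ).Rel i' i → h i i' = 0 := fun i i' hii =>
      dif_neg fun hi => hii (show i' + 1 = i by omega)
    rw [Functor.comp_map, ← Functor.map_comp, ← (QA A).map_zero, Q_map_eq_iff]
    refine ⟨(Homotopy.ofEq ?_).trans (Homotopy.nullHomotopy h hh)⟩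
    apply HomologicalComplex.to_single_hom_ext
    rw [← cancel_mono (σ (F.obj m)).hom,
      Homotopy.nullHomotopicMap_f (k₂ := p - 1) (k₀ := p + 1) (sub_add_cancel p 1) rfl]
    simp only [HomologicalComplex.single_obj_d, comp_zero, add_zero, h, dif_pos (And.intro rfl rfl)]
    simp only [Preadditive.sub_comp, Category.assoc, sub_eq_zero] at hu
    simpa [σ, HomologicalComplex.single_map_f_self, HomologicalComplex.singleObjXSelf] using hu

include hc in
theorem hom_colim_pc (m : ℤ) (K : Dual.D A) (hK : DRing.IsPseudoCoherent A m K)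
    (G : ModuleCat.{u} A ⥤ Dual.D A) (p : ℤ) (η : G ≅ sglD p) :
    (m < p → ∀ x : K ⟶ G.obj c.pt, ∃ (j : J) (y : K ⟶ G.obj (F.obj j)), y ≫ G.map (c.ι.app j) = x) ∧
    (m ≤ p → ∀ (j : J) (y : K ⟶ G.obj (F.obj j)), y ≫ G.map (c.ι.app j) = 0 →
      ∃ (k : J) (f : j ⟶ k), y ≫ G.map (F.map f) = 0) := by
  obtain ⟨E, a, b, α, hv, hE, hiso, hepi⟩ := hK
  obtain ⟨C, v, w, hT⟩ := distinguished_cocone_triangle α
  have hC : Acyc m C := (acyc_obj₃_iff _ hT m).2 ⟨hiso, hepi⟩
  have hvan : ∀ (X : Dual.D A) (q : ℤ), Acyc q X → q ≤ p → ∀ (M : ModuleCat.{u} A) (g : X ⟶ (sglD p).obj M), g = 0 := by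
    intro X q hX hq M g
    haveI := (acyc_iff_isLE q X).1 hX
    haveI : ((sglD p).obj M).IsGE p := inferInstanceAs (((DerivedCategory.singleFunctor (ModuleCat.{u} A) p).obj M).IsGE p)
    exact Triangulated.TStructure.zero DerivedCategory.TStructure.t g (q - 1) p (by omega)
  have hinj : m ≤ p → ∀ (M : ModuleCat.{u} A) (g : K ⟶ (sglD p).obj M), α ≫ g = 0 → g = 0 := by
    intro hm M g hg
    obtain ⟨u, rfl⟩ := Triangle.yoneda_exact₂ _ hT g hg
    have : u = 0 := hvan C m hC hm M u
    rw [this]; exact comp_zero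
  have hsurj : m < p → ∀ (M : ModuleCat.{u} A) (e : (QA A).obj E ⟶ (sglD p).obj M), ∃ g, α ≫ g = e := by
    intro hm M e
    have hT' := inv_rot_of_distTriang _ hT
    obtain ⟨g, hg⟩ := Triangle.yoneda_exact₂ _ hT' e (hvan _ (m + 1)
      (acyc_shift C (-1) (m + 1) (hC.mono (by omega))) (by omega) M _)
    exact ⟨g, hg.symm⟩
  obtain ⟨hS, hI⟩ := hom_colim_complex F c hc E a b hv hE p
  refine ⟨fun hm x => ?_, fun hm j y hy => ?_⟩
  · obtain ⟨j, e, he⟩ := hS (α ≫ x ≫ η.hom.app c.pt)
    obtain ⟨g, hg⟩ := hsurj hm _ e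
    refine ⟨j, g ≫ η.inv.app (F.obj j), ?_⟩
    have hgx : g ≫ (sglD p).map (c.ι.app j) = x ≫ η.hom.app c.pt := by
      rw [← sub_eq_zero]
      exact hinj hm.le _ _ (by rw [Preadditive.comp_sub, reassoc_of% hg, he, sub_self])
    rw [Category.assoc, ← η.inv.naturality]
    refine (Category.assoc _ _ _).symm.trans ((congrArg (· ≫ _) hgx).trans ?_)
    refine (Category.assoc _ _ _).trans ((congrArg (x ≫ ·) (η.hom_inv_id_app c.pt)).trans ?_)
    exact Category.comp_id _
  · have h0 : (α ≫ y ≫ η.hom.app (F.obj j)) ≫ (sglD p).map (c.ι.app j) = 0 := by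
      rw [Category.assoc, Category.assoc, ← η.hom.naturality, reassoc_of% hy, zero_comp, comp_zero]
    obtain ⟨k, f, hf⟩ := hI j _ h0
    refine ⟨k, f, ?_⟩
    rw [Category.assoc, Category.assoc, ← η.hom.naturality] at hf
    have := hinj hm _ (y ≫ G.map (F.map f) ≫ η.hom.app (F.obj k)) hf
    rw [← cancel_mono (η.hom.app (F.obj k)), Category.assoc, this, zero_comp]

end Groth.Agent.DR39
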