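import Groth.Agent.DR39.LocalFibre
import Groth.Agent.DR39.Unique
import Mathlib.RingTheory.Flat.CategoryTheory
import Mathlib.RingTheory.PicardGroup

/-! Twisting dualizing complexes by invertible modules. -/

set_option autoImplicit false
set_option linter.style.haveILetI false
set_option linter.unusedSectionVars false
set_option backward.isDefEq.respectTransparency false

universe u

open CategoryTheory CategoryTheory.Limits MonoidalCategory
open scoped TensorProduct

attribute [local instance] HasDerivedCategory.standard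

namespace Groth.Agent.DR39

variable {A : Type u} [CommRing A]

/-- the map induced on the twisted complex -/
noncomputable def twMap (E : DRing.Cx A) {M N : ModuleCat.{u} A} (g : M ⟶ N) :
    (QA A).obj (DRing.tensorCx E M) ⟶ (QA A).obj (DRing.tensorCx E N) :=
  (QA A).map ((NatTrans.mapHomologicalComplex ((tensoringRight (ModuleCat.{u} A)).map g) _).app E)

variable (E : DRing.Cx A) {M N L : ModuleCat.{u} A}

theorem twMap_comp (g : M ⟶ N) (h : N ⟶ L) : twMap E (g ≫ h) = twMap E g ≫ twMap E h := by
  unfold twMap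
  rw [← (QA A).map_comp]
  congr 1
  exact HomologicalComplex.hom_ext _ _ fun i => MonoidalCategory.whiskerLeft_comp (E.X i) g h

theorem twMap_id : twMap E (𝟙 M) = 𝟙 _ := by
  unfold twMap
  rw [show (NatTrans.mapHomologicalComplex ((tensoringRight (ModuleCat.{u} A)).map (𝟙 M)) _).app E = 𝟙 _ from
    HomologicalComplex.hom_ext _ _ fun i => MonoidalCategory.whiskerLeft_id (E.X i) M]
  exact (QA A).map_id _

theorem twMap_add (g h : M ⟶ N) : twMap E (g + h) = twMap E g + twMap E h := by
  unfold twMap
  rw [← (QA A).map_add]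
  congr 1
  exact HomologicalComplex.hom_ext _ _ fun i => MonoidalPreadditive.whiskerLeft_add (X := E.X i) g h

theorem twMap_smul (a : A) (g : M ⟶ N) : twMap E (a • g) = a • twMap E g := by
  unfold twMap
  rw [← (QA A).map_smul]
  congr 1
  exact HomologicalComplex.hom_ext _ _ fun i => MonoidalLinear.whiskerLeft_smul (E.X i) a g

/-- twisting by the ring does nothing -/
noncomputable def twUnit : (QA A).obj (DRing.tensorCx E (ModuleCat.of A A)) ≅ (QA A).obj E :=
  (QA A).mapIso (HomologicalComplex.Hom.isoOfComponents (fun i => ρ_ (E.X i))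
    (fun i j _ => (rightUnitor_naturality (E.d i j)).symm))

section HomTw

variable (P : Type u) [AddCommGroup P] [Module A P]

/-- the map attached to a functional -/
noncomputable def twHom : Module.Dual A P →ₗ[A] ((QA A).obj (DRing.tensorCx E (ModuleCat.of A P)) ⟶ (QA A).obj E) where
  toFun φ := twMap E (ModuleCat.ofHom (X := P) (Y := A) φ) ≫ (twUnit E).hom
  map_add' φ ψ := by
    rw [show ModuleCat.ofHom (X := P) (Y := A) (φ + ψ) = ModuleCat.ofHom φ + ModuleCat.ofHom ψ from rfl, twMap_add,
      Preadditive.add_comp]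
  map_smul' a φ := by
    rw [show ModuleCat.ofHom (X := P) (Y := A) (a • φ) = a • ModuleCat.ofHom φ from rfl, twMap_smul, Linear.smul_comp,
      RingHom.id_apply]

variable {E P}

/-- the inclusion of the line through a point -/
noncomputable def lineι (p : P) : ModuleCat.of A A ⟶ ModuleCat.of A P :=
  ModuleCat.ofHom (LinearMap.toSpanSingleton A P p)

theorem lineι_twHom (p : P) (φ : Module.Dual A P) :
    (twUnit E).inv ≫ twMap E (lineι p) ≫ twHom E P φ = φ p • 𝟙 _ := by
  show (twUnit E).inv ≫ twMap E (lineι p) ≫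
    (twMap E (ModuleCat.ofHom (X := P) (Y := A) φ) ≫ (twUnit E).hom) = φ p • 𝟙 ((QA A).obj E)
  rw [← Category.assoc (twMap E (lineι p)), ← twMap_comp,
    show lineι p ≫ ModuleCat.ofHom (X := P) (Y := A) φ = φ p • 𝟙 (ModuleCat.of A A) from
      ModuleCat.hom_ext (LinearMap.ext_ring (by simp [lineι])),
    twMap_smul, twMap_id, Linear.smul_comp, Category.id_comp, Linear.comp_smul, Iso.inv_hom_id]

theorem twHom_bijective [Module.Finite A P] [Module.Projective A P]
    (h : Function.Bijective fun a : A => a • 𝟙 ((QA A).obj E)) : Function.Bijective (twHom E P) := by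
  constructor
  · intro φ ψ hh
    refine LinearMap.ext fun p => h.1 ?_
    show φ p • 𝟙 _ = ψ p • 𝟙 _
    rw [← lineι_twHom, ← lineι_twHom, hh]
  · intro g
    choose a ha using fun p : P => h.2 ((twUnit E).inv ≫ twMap E (lineι p) ≫ g)
    let φ : Module.Dual A P :=
      { toFun := a
        map_add' := fun p q => h.1 (by
          show a (p + q) • 𝟙 _ = (a p + a q) • 𝟙 _
          have h1 := ha (p + q); have h2 := ha p; have h3 := ha q
          dsimp only at h1 h2 h3
          rw [add_smul, h1, h2, h3,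
            show lineι (A := A) (p + q) = lineι p + lineι q from
              ModuleCat.hom_ext (LinearMap.ext_ring (by simp [lineι])),
            twMap_add, Preadditive.add_comp, Preadditive.comp_add])
        map_smul' := fun c p => h.1 (by
          show a (c • p) • 𝟙 _ = (c • a p) • 𝟙 _
          have h1 := ha (c • p); have h2 := ha p
          dsimp only at h1 h2
          rw [smul_eq_mul, ← smul_smul, h1, h2,
            show lineι (A := A) (c • p) = c • lineι p from
              ModuleCat.hom_ext (LinearMap.ext_ring (by simp [lineι])),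
            twMap_smul, Linear.smul_comp, Linear.comp_smul]) }
    obtain ⟨n, f, g', -, -, hfg⟩ := Module.Finite.exists_comp_eq_id_of_projective A P
    have hid : 𝟙 (ModuleCat.of A P) = ∑ j : Fin n,
        ModuleCat.ofHom (X := P) (Y := A) ((LinearMap.proj j).comp g') ≫ lineι (f (Pi.single j 1)) := by
      refine ModuleCat.hom_ext (LinearMap.ext fun x => ?_)
      rw [ModuleCat.hom_sum, LinearMap.sum_apply]
      show x = ∑ j : Fin n, g' x j • f (Pi.single j 1)
      have hx := LinearMap.congr_fun hfg x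
      rw [← map_smul_sum_single f (g' x)]
      exact hx.symm
    refine ⟨φ, ?_⟩
    rw [← Category.id_comp (twHom E P φ), ← Category.id_comp g, ← twMap_id E, hid]
    simp only [show twMap E (∑ j : Fin n, ModuleCat.ofHom (X := P) (Y := A) ((LinearMap.proj j).comp g') ≫
      lineι (f (Pi.single j 1))) = ∑ j : Fin n, twMap E (ModuleCat.ofHom (X := P) (Y := A) ((LinearMap.proj j).comp g') ≫
      lineι (f (Pi.single j 1))) from map_sum (AddMonoidHom.mk' (twMap E) (twMap_add E)) _ _, Preadditive.sum_comp, twMap_comp,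
      Category.assoc]
    refine Finset.sum_congr rfl fun j _ => ?_
    congr 1
    rw [← cancel_epi (twUnit E).inv, lineι_twHom]
    exact ha (f (Pi.single j 1))
where
  map_smul_sum_single {n : ℕ} (f : (Fin n → A) →ₗ[A] P) (v : Fin n → A) :
      f v = ∑ j : Fin n, v j • f (Pi.single j 1) := by
    conv_lhs => rw [pi_eq_sum_univ' v]
    simp

end HomTw

section Dualizing

variable (P : Type u) [AddCommGroup P] [Module A P]
theorem twExtIso (B : Type u) [CommRing B] [alg : Algebra A B] (e : B ⊗[A] P ≃ₗ[B] B) :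
    Nonempty (tensorRight (ModuleCat.of A P) ⋙ extA A B ≅ extA A B) := by
  obtain ⟨φ, rfl⟩ : ∃ φ : A →+* B, alg = φ.toAlgebra :=
    ⟨algebraMap A B, Algebra.algebra_ext _ _ fun _ => rfl⟩
  letI := φ.toAlgebra
  let c : ∀ X : ModuleCat.{u} A, B ⊗[A] (X ⊗[A] P) ≃ₗ[B] B ⊗[A] X := fun X =>
    (TensorProduct.AlgebraTensorModule.congr (LinearEquiv.refl B B) (TensorProduct.comm A X P)).trans
      ((TensorProduct.AlgebraTensorModule.assoc A A B B P X).symm.trans
        (TensorProduct.AlgebraTensorModule.congr e (LinearEquiv.refl A X)))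
  refine ⟨NatIso.ofComponents (fun X => ((c X).toModuleIso :
    ModuleCat.of B (B ⊗[A] (X ⊗[A] P)) ≅ ModuleCat.of B (B ⊗[A] X))) fun {X Y} g => ?_⟩
  refine ModuleCat.hom_ext (LinearMap.ext fun (z : B ⊗[A] (X ⊗[A] P)) => ?_)
  show c Y (TensorProduct.AlgebraTensorModule.lTensor B B (g.hom.rTensor P) z) =
    TensorProduct.AlgebraTensorModule.lTensor B B g.hom (c X z)
  induction z using TensorProduct.induction_on with
  | zero => simp
  | tmul b w =>
    induction w using TensorProduct.induction_on with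
    | zero => simp
    | tmul x p =>
      simp only [c, LinearEquiv.trans_apply, TensorProduct.AlgebraTensorModule.lTensor_tmul,
        LinearMap.rTensor_tmul, TensorProduct.AlgebraTensorModule.congr_tmul, LinearEquiv.refl_apply,
        TensorProduct.comm_tmul, TensorProduct.AlgebraTensorModule.assoc_symm_tmul]
    | add w w' hw hw' => simp only [TensorProduct.tmul_add, map_add, hw, hw']
  | add z w hz hw => simp only [map_add, hz, hw]

theorem DF_tw_iso [Module.Flat A P] (B : Type u) [CommRing B] [Algebra A B] [Module.Flat A B]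
    (e : B ⊗[A] P ≃ₗ[B] B) (E : DRing.Cx A) :
    Nonempty ((DF (extA A B)).obj ((QA A).obj (DRing.tensorCx E (ModuleCat.of A P))) ≅
      (DF (extA A B)).obj ((QA A).obj E)) := by
  obtain ⟨n⟩ := twExtIso P B e
  let c : ((extA A B).mapHomologicalComplex (ComplexShape.up ℤ)).obj (DRing.tensorCx E (ModuleCat.of A P)) ≅
        ((extA A B).mapHomologicalComplex (ComplexShape.up ℤ)).obj E :=
    HomologicalComplex.Hom.isoOfComponents (fun i => n.app (E.X i))
      (fun i j _ => (n.hom.naturality (E.d i j)).symm)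
  exact ⟨DFQ (extA A B) _ ≪≫ (QA B).mapIso c ≪≫ (DFQ (extA A B) E).symm⟩

theorem isDualizing_tw [IsNoetherianRing A] [Module.Invertible A P] (E : DRing.Cx A)
    (hω : Dual.IsDualizing A ((QA A).obj E)) :
    Dual.IsDualizing A ((QA A).obj (DRing.tensorCx E (ModuleCat.of A P))) := by
  let R := (QA A).obj (DRing.tensorCx E (ModuleCat.of A P))
  let eR : (DF (tensorRight (ModuleCat.of A P))).obj ((QA A).obj E) ≅ R := DFQ _ E
  obtain ⟨a, b, hab, hid⟩ := exists_bounds hω
  have hH : ∀ i, Nonempty ((HF A i).obj R ≅ (tensorRight (ModuleCat.of A P)).obj ((HF A i).obj ((QA A).obj E))) := by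
    intro i
    obtain ⟨e⟩ := HF_DF (tensorRight (ModuleCat.of A P)) ((QA A).obj E) i
    exact ⟨(HF A i).mapIso eR.symm ≪≫ e⟩
  have hfin : ∀ i : ℤ, Module.Finite A (Dual.HD A R i) := fun i => by
    obtain ⟨e⟩ := hH i
    haveI : Module.Finite A ((HF A i).obj ((QA A).obj E)) := hω.finite_cohomology i
    haveI : Module.Finite A (TensorProduct A ((HF A i).obj ((QA A).obj E)) P) := inferInstance
    exact @Module.Finite.equiv A (TensorProduct A ((HF A i).obj ((QA A).obj E)) P) _ _ _ _ _ _ inferInstance e.toLinearEquiv.symm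
  refine isDualizing_of_local_residues hfin (b := b) (a := a)
    (fun i hi => ((tensorRight _).map_isZero (hab i (Or.inl hi))).of_iso (hH i).some) fun Q hQ => ?_
  let C := Localization.AtPrime Q
  haveI : Module.Flat A C := IsLocalization.flat C Q.primeCompl
  haveI : Module.Free C (C ⊗[A] P) := Module.free_of_flat_of_isLocalRing
  obtain ⟨e⟩ := Module.Invertible.free_iff_linearEquiv.1 (inferInstance : Module.Free C (C ⊗[A] P))
  obtain ⟨eD⟩ := DF_tw_iso P C e E
  obtain ⟨d, hd, hR⟩ := exists_resData_flat hω C Q fun s hs => IsLocalization.map_units C (⟨s, hs⟩ : Q.primeCompl)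
  have hdb : d ≤ b := by
    by_contra h
    have h0 := subsingleton_gm_iff.1 (hid (A ⧸ Q) d (Or.inr (by omega)))
    exact hQ.ne_top (top_le_iff.1 (h0 ▸ hd))
  obtain ⟨hv, ⟨he⟩⟩ := hR.congr Localization.AtPrime.map_eq_maximalIdeal
  exact ⟨d, hdb, fun i hi => @Equiv.subsingleton _ _
    (Iso.homToEquiv ((CategoryTheory.shiftFunctor (Dual.D C) i).mapIso eD)) (hv i hi),
    ⟨(CategoryTheory.Linear.homCongr C (Iso.refl _)
      ((CategoryTheory.shiftFunctor (Dual.D C) d).mapIso eD)).trans he⟩⟩

theorem exists_LTensor_iso [Module.Flat A P] [DRing.HasLTensor A (ModuleCat.of A P)] (X : Dual.D A) :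
    ∃ E : DRing.Cx A, Nonempty ((QA A).obj E ≅ X) ∧
      Nonempty ((DRing.LTensor A (ModuleCat.of A P)).obj X ≅ (QA A).obj (DRing.tensorCx E (ModuleCat.of A P))) := by
  obtain ⟨K, ⟨e⟩⟩ := exists_complex_iso X
  let e' : (QA A).obj (SF.res K) ≅ X := asIso ((QA A).map (SF.aug K)) ≪≫ e
  exact ⟨SF.res K, ⟨e'⟩, ⟨(DRing.LTensor A (ModuleCat.of A P)).mapIso e'.symm ≪≫
    LTensorIso (ModuleCat.of A P) (SF.res K) (isKFlat_of_isKProjective (P := SF.res K))⟩⟩

theorem twist_shift_unique [IsNoetherianRing A] [Nontrivial A] (P' : Type u) [AddCommGroup P'] [Module A P']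
    [Module.Invertible A P] [Module.Invertible A P'] (E : DRing.Cx A)
    (hω : Dual.IsDualizing A ((QA A).obj E)) (n n' : ℤ)
    (φ : ((QA A).obj (DRing.tensorCx E (ModuleCat.of A P)))⟦n⟧ ≅ ((QA A).obj (DRing.tensorCx E (ModuleCat.of A P')))⟦n'⟧) :
    n = n' ∧ Nonempty (P ≃ₗ[A] P') := by
  have hn : n = n' := by
    obtain ⟨Q, hQ⟩ := Ideal.exists_maximal A
    let C := Localization.AtPrime Q
    haveI : Module.Flat A C := IsLocalization.flat C Q.primeCompl
    haveI : Module.Free C (C ⊗[A] P) := Module.free_of_flat_of_isLocalRing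
    haveI : Module.Free C (C ⊗[A] P') := Module.free_of_flat_of_isLocalRing
    obtain ⟨e1⟩ := Module.Invertible.free_iff_linearEquiv.1 (inferInstance : Module.Free C (C ⊗[A] P))
    obtain ⟨e2⟩ := Module.Invertible.free_iff_linearEquiv.1 (inferInstance : Module.Free C (C ⊗[A] P'))
    obtain ⟨d1⟩ := DF_tw_iso P C e1 E
    obtain ⟨d2⟩ := DF_tw_iso P' C e2 E
    obtain ⟨d, hv, ⟨hd⟩⟩ := ext_residue_single (IsLocalRing.maximalIdeal C) (isDualizing_atPrime hω Q)
    let Y := (DF (extA A C)).obj ((QA A).obj E)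
    let ψ : Y⟦n⟧ ≅ Y⟦n'⟧ :=
      (CategoryTheory.shiftFunctor (Dual.D C) n).mapIso d1.symm ≪≫ (((DF (extA A C)).commShiftIso n).app _).symm ≪≫
        (DF (extA A C)).mapIso φ ≪≫ ((DF (extA A C)).commShiftIso n').app _ ≪≫
          (CategoryTheory.shiftFunctor (Dual.D C) n').mapIso d2
    by_contra hne
    haveI := hv (n' + (d - n)) (by omega)
    let k := Dual.inD C (C ⧸ IsLocalRing.maximalIdeal C)
    haveI : Subsingleton (k ⟶ Y⟦d⟧) :=
      (Iso.homToEquiv ((CategoryTheory.shiftFunctorAdd' (Dual.D C) n (d - n) d (by omega)).app Y ≪≫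
        (CategoryTheory.shiftFunctor (Dual.D C) (d - n)).mapIso ψ ≪≫
        ((CategoryTheory.shiftFunctorAdd' (Dual.D C) n' (d - n) _ rfl).app Y).symm) :
          (k ⟶ Y⟦d⟧) ≃ _).subsingleton
    haveI := hd.symm.toEquiv.subsingleton
    exact (IsLocalRing.maximalIdeal.isMaximal C).ne_top (Ideal.Quotient.subsingleton_iff.1 inferInstance)
  subst hn
  refine ⟨rfl, ?_⟩
  let ψ : (QA A).obj (DRing.tensorCx E (ModuleCat.of A P)) ≅ (QA A).obj (DRing.tensorCx E (ModuleCat.of A P')) :=
    (Functor.FullyFaithful.ofFullyFaithful (CategoryTheory.shiftFunctor (Dual.D A) n)).preimageIso φ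
  let eDual : Module.Dual A P ≃ₗ[A] Module.Dual A P' :=
    ((LinearEquiv.ofBijective _ (twHom_bijective (P := P) hω.toEnd_bijective)).trans
      (CategoryTheory.Linear.homCongr A ψ (Iso.refl _))).trans
      (LinearEquiv.ofBijective _ (twHom_bijective (P := P') hω.toEnd_bijective)).symm
  exact ⟨(Module.evalEquiv A P).trans (eDual.symm.dualMap.trans (Module.evalEquiv A P').symm)⟩

end Dualizing

end Groth.Agent.DR39
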