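import Groth.Agent.Koszul19.Homotopy
import Groth.Agent.EGA4Alg4.Depth
import Groth.Agent.LC17.DualG

/-! A depth bound from Koszul complexes: `depth A_q ≤ depth (A/p)_q + m` generically on `V(p)`. -/

set_option autoImplicit false
set_option linter.style.haveILetI false
set_option linter.unusedSectionVars false

universe u

open CategoryTheory CategoryTheory.Abelian IsLocalRing
open Groth.Agent.Koszul19

attribute [local instance] HasDerivedCategory.standard

namespace Groth.Agent.DR39

/-- depth at least `k`, in `Ext` form -/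
def DepthGE (A : Type u) [CommRing A] [IsLocalRing A] (N : Type u) [AddCommGroup N] [Module A N] (k : ℕ) : Prop :=
  ∀ i < k, Subsingleton (Ext (ModuleCat.of A (ResidueField A)) (ModuleCat.of A N) i)

section Loc

variable {A : Type u} [CommRing A] [IsLocalRing A]

theorem DepthGE.mono {N : Type u} [AddCommGroup N] [Module A N] {k l : ℕ} (h : DepthGE A N l) (hkl : k ≤ l) :
    DepthGE A N k := fun i hi => h i (lt_of_lt_of_le hi hkl)

theorem depthGE_of_subsingleton {N : Type u} [AddCommGroup N] [Module A N] [Subsingleton N] (k : ℕ) :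
    DepthGE A N k := fun i _ => subsingleton_of_forall_eq 0 fun x => by
  rw [← x.comp_mk₀_id, (ModuleCat.isZero_of_subsingleton (ModuleCat.of A N)).eq_of_src (𝟙 _) 0,
    Ext.mk₀_zero, Ext.comp_zero]

theorem depthGE_iff [IsNoetherianRing A] {N : Type u} [AddCommGroup N] [Module A N] [Module.Finite A N] (k : ℕ) :
    DepthGE A N k ↔ (k : ℕ∞) ≤ LocCoh.depth A N := by
  rcases subsingleton_or_nontrivial N with h | h
  · rw [EGA4Alg4.depth_of_subsingleton]
    exact ⟨fun _ => le_top, fun _ => depthGE_of_subsingleton k⟩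
  · exact (EGA4Alg4.natCast_le_depth_iff_ext k).symm

variable {S : ShortComplex (ModuleCat.{u} A)} (hS : S.ShortExact)
include hS

theorem depthGE_left {k : ℕ} (h2 : DepthGE A S.X₂ (k + 1)) (h3 : DepthGE A S.X₃ k) : DepthGE A S.X₁ (k + 1) := by
  intro i hi
  refine subsingleton_of_forall_eq 0 fun x => ?_
  have hx := @Subsingleton.elim _ (h2 i hi) (x.comp (Ext.mk₀ S.f) (add_zero i)) 0
  obtain _ | i := i
  · obtain ⟨φ, rfl⟩ := (Ext.mk₀_bijective _ _).2 x
    rw [Ext.mk₀_comp_mk₀, ← Ext.mk₀_zero] at hx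
    haveI := hS.mono_f
    have h := (Ext.mk₀_bijective _ _).1 hx
    rw [(cancel_mono S.f).1 (h.trans Limits.zero_comp.symm), Ext.mk₀_zero]
  · obtain ⟨y, rfl⟩ := Ext.covariant_sequence_exact₁ _ hS x hx rfl
    rw [@Subsingleton.elim _ (h3 i (by omega)) y 0, Ext.zero_comp]

theorem depthGE_mid {k : ℕ} (h1 : DepthGE A S.X₁ k) (h3 : DepthGE A S.X₃ k) : DepthGE A S.X₂ k := by
  intro i hi
  refine subsingleton_of_forall_eq 0 fun x => ?_
  obtain ⟨y, rfl⟩ := Ext.covariant_sequence_exact₂ _ hS x (@Subsingleton.elim _ (h3 i hi) _ 0)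
  rw [@Subsingleton.elim _ (h1 i hi) y 0, Ext.zero_comp]

theorem depthGE_right {k : ℕ} (h2 : DepthGE A S.X₂ k) (h1 : DepthGE A S.X₁ (k + 1)) : DepthGE A S.X₃ k := by
  intro i hi
  refine subsingleton_of_forall_eq 0 fun x => ?_
  obtain ⟨y, rfl⟩ := Ext.covariant_sequence_exact₃ _ hS x rfl (@Subsingleton.elim _ (h1 (i + 1) (by omega)) _ 0)
  rw [@Subsingleton.elim _ (h2 i hi) y 0, Ext.zero_comp]

end Loc

section Chain

variable {A : Type u} [CommRing A] (q : Ideal A) [q.IsPrime]

/-- depth at least `k` at the prime `q` -/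
abbrev DepthAt (N : Type u) [AddCommGroup N] [Module A N] (k : ℕ) : Prop :=
  DepthGE (Localization.AtPrime q) (LocalizedModule q.primeCompl N) k

variable {M₁ M₂ M₃ : Type u} [AddCommGroup M₁] [Module A M₁] [AddCommGroup M₂] [Module A M₂]
  [AddCommGroup M₃] [Module A M₃] {f : M₁ →ₗ[A] M₂} {g : M₂ →ₗ[A] M₃}
  (hf : Function.Injective f) (hg : Function.Surjective g) (hfg : Function.Exact f g)
include hf hg hfg

theorem shortExact_atPrime :
    ∃ (S : ShortComplex (ModuleCat.{u} (Localization.AtPrime q))), S.ShortExact ∧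
      S.X₁ = ModuleCat.of (Localization.AtPrime q) (LocalizedModule q.primeCompl M₁) ∧
      S.X₂ = ModuleCat.of (Localization.AtPrime q) (LocalizedModule q.primeCompl M₂) ∧
      S.X₃ = ModuleCat.of (Localization.AtPrime q) (LocalizedModule q.primeCompl M₃) :=
  ⟨_, LC17.shortExact_of_exact
    (IsLocalizedModule.mapExtendScalars q.primeCompl (LocalizedModule.mkLinearMap q.primeCompl M₁)
      (LocalizedModule.mkLinearMap q.primeCompl M₂) (Localization.AtPrime q) f)
    (IsLocalizedModule.mapExtendScalars q.primeCompl (LocalizedModule.mkLinearMap q.primeCompl M₂)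
      (LocalizedModule.mkLinearMap q.primeCompl M₃) (Localization.AtPrime q) g)
    (IsLocalizedModule.map_injective q.primeCompl (LocalizedModule.mkLinearMap q.primeCompl M₁)
      (LocalizedModule.mkLinearMap q.primeCompl M₂) f hf)
    (IsLocalizedModule.map_surjective q.primeCompl (LocalizedModule.mkLinearMap q.primeCompl M₂)
      (LocalizedModule.mkLinearMap q.primeCompl M₃) g hg)
    (IsLocalizedModule.map_exact q.primeCompl (LocalizedModule.mkLinearMap q.primeCompl M₁)
      (LocalizedModule.mkLinearMap q.primeCompl M₂) (LocalizedModule.mkLinearMap q.primeCompl M₃) f g hfg),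
    rfl, rfl, rfl⟩

theorem depthAt_left {k : ℕ} (h2 : DepthAt q M₂ (k + 1)) (h3 : DepthAt q M₃ k) : DepthAt q M₁ (k + 1) :=
  depthGE_left (LC17.shortExact_of_exact
    (IsLocalizedModule.mapExtendScalars q.primeCompl (LocalizedModule.mkLinearMap q.primeCompl M₁)
      (LocalizedModule.mkLinearMap q.primeCompl M₂) (Localization.AtPrime q) f)
    (IsLocalizedModule.mapExtendScalars q.primeCompl (LocalizedModule.mkLinearMap q.primeCompl M₂)
      (LocalizedModule.mkLinearMap q.primeCompl M₃) (Localization.AtPrime q) g)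
    (IsLocalizedModule.map_injective _ _ _ f hf) (IsLocalizedModule.map_surjective _ _ _ g hg)
    (IsLocalizedModule.map_exact _ _ _ _ f g hfg)) h2 h3

theorem depthAt_mid {k : ℕ} (h1 : DepthAt q M₁ k) (h3 : DepthAt q M₃ k) : DepthAt q M₂ k :=
  depthGE_mid (LC17.shortExact_of_exact
    (IsLocalizedModule.mapExtendScalars q.primeCompl (LocalizedModule.mkLinearMap q.primeCompl M₁)
      (LocalizedModule.mkLinearMap q.primeCompl M₂) (Localization.AtPrime q) f)
    (IsLocalizedModule.mapExtendScalars q.primeCompl (LocalizedModule.mkLinearMap q.primeCompl M₂)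
      (LocalizedModule.mkLinearMap q.primeCompl M₃) (Localization.AtPrime q) g)
    (IsLocalizedModule.map_injective _ _ _ f hf) (IsLocalizedModule.map_surjective _ _ _ g hg)
    (IsLocalizedModule.map_exact _ _ _ _ f g hfg)) h1 h3

theorem depthAt_right {k : ℕ} (h2 : DepthAt q M₂ k) (h1 : DepthAt q M₁ (k + 1)) : DepthAt q M₃ k :=
  depthGE_right (LC17.shortExact_of_exact
    (IsLocalizedModule.mapExtendScalars q.primeCompl (LocalizedModule.mkLinearMap q.primeCompl M₁)
      (LocalizedModule.mkLinearMap q.primeCompl M₂) (Localization.AtPrime q) f)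
    (IsLocalizedModule.mapExtendScalars q.primeCompl (LocalizedModule.mkLinearMap q.primeCompl M₂)
      (LocalizedModule.mkLinearMap q.primeCompl M₃) (Localization.AtPrime q) g)
    (IsLocalizedModule.map_injective _ _ _ f hf) (IsLocalizedModule.map_surjective _ _ _ g hg)
    (IsLocalizedModule.map_exact _ _ _ _ f g hfg)) h2 h1

end Chain

section Cx

variable {A : Type u} [CommRing A] (q : Ideal A) [q.IsPrime]

theorem depthAt_congr {M N : Type u} [AddCommGroup M] [Module A M] [AddCommGroup N] [Module A N]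
    (e : M ≃ₗ[A] N) {k : ℕ} (h : DepthAt q M k) : DepthAt q N k :=
  depthAt_mid (q := q) (f := e.toLinearMap) (g := (0 : N →ₗ[A] PUnit.{u + 1})) e.injective
    (fun y => ⟨0, Subsingleton.elim _ _⟩)
    (fun y => ⟨fun _ => e.surjective y, fun _ => Subsingleton.elim _ _⟩) h
    (haveI : Subsingleton (LocalizedModule q.primeCompl PUnit.{u + 1}) := inferInstance
     depthGE_of_subsingleton k)

theorem depthAt_of_subsingleton {M : Type u} [AddCommGroup M] [Module A M] [Subsingleton M] (k : ℕ) :
    DepthAt q M k := depthGE_of_subsingleton k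

theorem depthAt_pi {M : Type u} [AddCommGroup M] [Module A M] {k : ℕ} (h : DepthAt q M k) :
    ∀ r : ℕ, DepthAt q (Fin r → M) k
  | 0 => depthAt_of_subsingleton q k
  | r + 1 => depthAt_congr q (Fin.consLinearEquiv A fun _ : Fin (r + 1) => M)
      (depthAt_mid (q := q) (f := LinearMap.inl A M (Fin r → M)) (g := LinearMap.snd A M (Fin r → M))
        LinearMap.inl_injective LinearMap.snd_surjective Function.Exact.inl_snd h (depthAt_pi h r))

theorem depthAt_of_pi {M : Type u} [AddCommGroup M] [Module A M] {k : ℕ} (h : DepthAt q M k) (r : ℕ)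
    (h' : DepthAt q (Fin (r + 1) → M) (k + 1)) : DepthAt q M (k + 1) :=
  depthAt_left (q := q) (f := LinearMap.inl A M (Fin r → M)) (g := LinearMap.snd A M (Fin r → M))
    LinearMap.inl_injective LinearMap.snd_surjective Function.Exact.inl_snd
    (depthAt_congr q (Fin.consLinearEquiv A fun _ : Fin (r + 1) => M).symm h') (depthAt_pi q h r)

variable (K : CochainComplex (ModuleCat.{u} A) ℤ) (m d D : ℕ)
  (hbd : ∀ j : ℤ, (0 < j ∨ j < -(m : ℤ)) → Subsingleton (K.X j : Type u))
  (hX : ∀ j : ℤ, DepthAt q (K.X j : Type u) D)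
  (hH : ∀ p j r : ℤ, p + 1 = j → j + 1 = r → DepthAt q (Hc K p j r) d)

theorem cyc_exact (a b : ℤ) :
    Function.Exact (LinearMap.ker (dd K a b)).subtype (dd K a b).rangeRestrict := fun x => by
  rw [← LinearMap.mem_ker, LinearMap.ker_rangeRestrict]
  exact ⟨fun h => ⟨⟨x, h⟩, rfl⟩, fun ⟨y, hy⟩ => hy ▸ y.2⟩

theorem hc_exact (p j r : ℤ) :
    Function.Exact (Submodule.inclusion (range_le_ker K p j r))
      ((LinearMap.range (dd K p j)).comap (LinearMap.ker (dd K j r)).subtype).mkQ := fun x => by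
  rw [Submodule.mkQ_apply, Submodule.Quotient.mk_eq_zero]
  exact ⟨fun h => ⟨⟨x.1, h⟩, rfl⟩, fun ⟨y, hy⟩ => hy ▸ y.2⟩

include hbd hX hH in
theorem depth_le_of_cx (j₀ : ℤ) (hlow : ∀ p j r : ℤ, p + 1 = j → j + 1 = r → j < j₀ →
      Subsingleton (LocalizedModule q.primeCompl (Hc K p j r)))
    (hj₀ : -(m : ℤ) ≤ j₀) (hj₀' : j₀ ≤ 0)
    (hne : ∀ p r : ℤ, p + 1 = j₀ → j₀ + 1 = r → ¬ DepthAt q (Hc K p j₀ r) (d + 1)) :
    D ≤ d + m := by
  by_contra hlt
  rw [not_le] at hlt
  have down : ∀ (e : ℕ) (j r : ℤ), j + 1 = r → 1 - (e : ℤ) ≤ j →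
      DepthAt q (LinearMap.ker (dd K j r)) (d + 1) := by
    intro e
    induction e with
    | zero =>
      intro j r _ hj
      haveI := hbd j (Or.inl (by omega))
      exact depthAt_of_subsingleton q _
    | succ e ih =>
      intro j r hjr hj
      have hB : DepthAt q (LinearMap.range (dd K j r)) (d + 1) :=
        depthAt_left (q := q) (Submodule.inclusion_injective _) (Submodule.mkQ_surjective _)
          (hc_exact K j r (r + 1)) (ih r (r + 1) rfl (by omega)) (hH j r (r + 1) hjr rfl)
      exact depthAt_left (q := q) (Submodule.injective_subtype _) (LinearMap.surjective_rangeRestrict _)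
        (cyc_exact K j r) ((hX j).mono (by omega)) (hB.mono (by omega))
  have up : ∀ (n : ℕ) (p j : ℤ), p + 1 = j → j = -(m : ℤ) + n → j ≤ j₀ →
      DepthAt q (LinearMap.range (dd K p j)) (D + 1 - n) := by
    intro n
    induction n with
    | zero =>
      intro p j hpj hj _
      haveI : Subsingleton (LinearMap.range (dd K p j)) := by
        haveI := hbd p (Or.inr (by omega))
        exact (LinearMap.surjective_rangeRestrict (dd K p j)).subsingleton
      exact depthAt_of_subsingleton q _
    | succ n ih =>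
      intro p j hpj hj hj0
      have hB := ih (p - 1) p (by omega) (by omega) (by omega)
      haveI := hlow (p - 1) p j (by omega) hpj (by omega)
      have hZ : DepthAt q (LinearMap.ker (dd K p j)) (D + 1 - n) :=
        depthAt_mid (q := q) (Submodule.inclusion_injective _) (Submodule.mkQ_surjective _)
          (hc_exact K (p - 1) p j) hB (depthGE_of_subsingleton _)
      exact depthAt_right (q := q) (Submodule.injective_subtype _) (LinearMap.surjective_rangeRestrict _)
        (cyc_exact K p j) ((hX p).mono (by omega)) (hZ.mono (by omega))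
  obtain ⟨n, hn⟩ : ∃ n : ℕ, j₀ = -(m : ℤ) + n := ⟨(j₀ + m).toNat, by omega⟩
  have hB := up n (j₀ - 1) j₀ (by omega) hn le_rfl
  have hZ := down ((1 - j₀).toNat) j₀ (j₀ + 1) rfl (by omega)
  exact hne (j₀ - 1) (j₀ + 1) (by omega) rfl
    (depthAt_right (q := q) (Submodule.inclusion_injective _) (Submodule.mkQ_surjective _)
      (hc_exact K (j₀ - 1) j₀ (j₀ + 1)) hZ (hB.mono (by omega)))

end Cx

section Koszul

variable {A : Type u} [CommRing A]

theorem finite_free_koszul : ∀ (l : List A) (j : ℤ),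
    Module.Finite A ((Koszul.koszul A l).X j : Type u) ∧ Module.Free A ((Koszul.koszul A l).X j : Type u)
  | [], j => by
    by_cases hj : j = 0
    · subst hj
      exact ⟨Module.Finite.equiv nilZero.symm, Module.Free.of_equiv nilZero.symm⟩
    · haveI := subsingleton_nil (A := A) hj
      exact ⟨inferInstance, inferInstance⟩
  | f :: l, j => by
    haveI := (finite_free_koszul l j).1
    haveI := (finite_free_koszul l (j + 1)).1
    haveI := (finite_free_koszul l j).2
    haveI := (finite_free_koszul l (j + 1)).2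
    exact ⟨Module.Finite.equiv ((consData f l).e j (j + 1) rfl).symm,
      Module.Free.of_equiv ((consData f l).e j (j + 1) rfl).symm⟩

theorem smul_hc_koszul (l : List A) {y : A} (hy : y ∈ Ideal.ofList l) (p j r : ℤ) (hp : p + 1 = j)
    (hr : j + 1 = r) (z : Hc (Koszul.koszul A l) p j r) : y • z = 0 := by
  obtain ⟨h, hh⟩ := nullHtp_koszul l hy
  obtain ⟨z, rfl⟩ := Submodule.Quotient.mk_surjective _ z
  rw [← Submodule.Quotient.mk_smul, Submodule.Quotient.mk_eq_zero, Submodule.mem_comap]
  refine ⟨h p j hp z.1, ?_⟩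
  have := hh p j r hp hr z.1
  rw [LinearMap.mem_ker.1 z.2, map_zero, add_zero] at this
  exact this

theorem finite_hc [IsNoetherianRing A] (l : List A) (p j r : ℤ) : Module.Finite A (Hc (Koszul.koszul A l) p j r) := by
  haveI := (finite_free_koszul l j).1
  haveI : IsNoetherian A ((Koszul.koszul A l).X j : Type u) := isNoetherian_of_isNoetherianRing_of_finite A _
  infer_instance

theorem exists_generic_free [IsNoetherianRing A] (p : Ideal A) [p.IsPrime] (H : Type u) [AddCommGroup H]
    [Module A H] [Module.Finite A H] (hH : ∀ y ∈ p, ∀ z : H, y • z = 0) :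
    ∃ c ∉ p, ∃ (r : ℕ) (φ : (Fin r → A ⧸ p) →ₗ[A] H), Function.Injective φ ∧ ∀ z, c • z ∈ LinearMap.range φ := by
  classical
  have htor : Module.IsTorsionBySet A H p := fun z a => hH a.1 a.2 z
  letI : Module (A ⧸ p) H := htor.module
  haveI : IsScalarTower A (A ⧸ p) H := ⟨fun a x z => by
    obtain ⟨x, rfl⟩ := Ideal.Quotient.mk_surjective x
    rw [Algebra.smul_def, Ideal.Quotient.algebraMap_eq, ← map_mul]
    show (a * x) • z = a • (x • z)
    rw [mul_smul]⟩
  obtain ⟨s, hs⟩ := (‹Module.Finite A H› : Module.Finite A H).fg_top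
  let v : {x // x ∈ s} → H := fun i => i.1
  obtain ⟨t, hind, hmax⟩ := exists_maximal_linearIndepOn (A ⧸ p) v
  haveI : Fintype t := Fintype.ofFinite t
  let w : Fin (Fintype.card t) → H := fun i => v ((Fintype.equivFin t).symm i).1
  have hw : LinearIndependent (A ⧸ p) w := hind.comp _ (Fintype.equivFin t).symm.injective
  let ψ : (Fin (Fintype.card t) → A ⧸ p) →ₗ[A ⧸ p] H := Fintype.linearCombination (A ⧸ p) w
  have hψ : Function.Injective ψ := linearIndependent_iff_injective_fintypeLinearCombination.1 hw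
  have hrange : ∀ i : {x // x ∈ s}, ∃ a : A, a ∉ p ∧ a • v i ∈ LinearMap.range (ψ.restrictScalars A) := by
    intro i
    have hsub : Submodule.span (A ⧸ p) (v '' t) ≤ LinearMap.range ψ := by
      rw [Submodule.span_le]
      rintro _ ⟨j, hj, rfl⟩
      refine ⟨Pi.single (Fintype.equivFin t ⟨j, hj⟩) 1, ?_⟩
      simp only [ψ, Fintype.linearCombination_apply_single, one_smul, w, Equiv.symm_apply_apply]
    by_cases hi : i ∈ t
    · refine ⟨1, fun h => Ideal.IsPrime.ne_top' (p.eq_top_iff_one.2 h), ?_⟩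
      obtain ⟨c, hc⟩ := hsub (Submodule.subset_span ⟨i, hi, rfl⟩)
      exact ⟨c, by rw [one_smul]; exact hc⟩
    · obtain ⟨a, ha, hav⟩ := hmax i hi
      obtain ⟨a, rfl⟩ := Ideal.Quotient.mk_surjective a
      refine ⟨a, fun h => ha (Ideal.Quotient.eq_zero_iff_mem.2 h), ?_⟩
      obtain ⟨c, hc⟩ := hsub hav
      exact ⟨c, hc⟩
  choose a ha hav using hrange
  refine ⟨∏ i, a i, fun h => ?_, Fintype.card t, ψ.restrictScalars A, hψ, fun z => ?_⟩
  · obtain ⟨i, -, hi⟩ := Ideal.IsPrime.prod_mem_iff.1 h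
    exact ha i hi
  · have hz : z ∈ Submodule.span A (s : Set H) := hs ▸ trivial
    induction hz using Submodule.span_induction with
    | mem y hy =>
      rw [← Finset.prod_erase_mul Finset.univ a (Finset.mem_univ ⟨y, hy⟩), mul_smul]
      exact Submodule.smul_mem _ _ (hav ⟨y, hy⟩)
    | zero => rw [smul_zero]; exact zero_mem _
    | add y y' _ _ h h' => rw [smul_add]; exact add_mem h h'
    | smul c y _ h => rw [smul_comm]; exact Submodule.smul_mem _ c h

theorem depthAt_iff_of_generic (q : Ideal A) [q.IsPrime] {c : A} (hc : c ∉ q) {M N : Type u} [AddCommGroup M]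
    [Module A M] [AddCommGroup N] [Module A N] (φ : M →ₗ[A] N) (hφ : Function.Injective φ)
    (hck : ∀ z, c • z ∈ LinearMap.range φ) :
    (∀ k, DepthAt q M k → DepthAt q N k) ∧ ∀ k, DepthAt q N (k + 1) → DepthAt q M (k + 1) := by
  haveI : Subsingleton (LocalizedModule q.primeCompl (N ⧸ LinearMap.range φ)) := by
    rw [LocalizedModule.subsingleton_iff]
    intro z
    obtain ⟨z, rfl⟩ := Submodule.Quotient.mk_surjective _ z
    exact ⟨c, hc, (Submodule.Quotient.mk_eq_zero _).2 (hck z)⟩
  have hex : Function.Exact φ (LinearMap.range φ).mkQ := LinearMap.exact_map_mkQ_range φ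
  exact ⟨fun k h => depthAt_mid (q := q) hφ (Submodule.mkQ_surjective _) hex h (depthGE_of_subsingleton k),
    fun k h => depthAt_left (q := q) hφ (Submodule.mkQ_surjective _) hex h (depthGE_of_subsingleton k)⟩

theorem exists_depth_bound [IsNoetherianRing A] (p : Ideal A) [p.IsPrime] :
    ∃ c ∉ p, ∃ m : ℕ, ∀ (q : Ideal A) [q.IsPrime], p ≤ q → c ∉ q → ∀ d D : ℕ,
      LocCoh.depth (Localization.AtPrime q) (LocalizedModule q.primeCompl (A ⧸ p)) = d →
      LocCoh.depth (Localization.AtPrime q) (LocalizedModule q.primeCompl A) = D → D ≤ d + m := by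
  classical
  obtain ⟨s, hs⟩ := (IsNoetherian.noetherian p : Submodule.FG p)
  let l := s.toList
  let m := l.length
  have hl : Ideal.ofList l = p := by
    rw [← hs]
    exact congrArg Ideal.span (Set.ext fun x => by simp [l])
  let H : ℕ → Type u := fun n => Hc (Koszul.koszul A l) (-(m : ℤ) + n - 1) (-(m : ℤ) + n) (-(m : ℤ) + n + 1)
  haveI : ∀ a b c : ℤ, Module.Finite A (Hc (Koszul.koszul A l) a b c) := finite_hc l
  choose c hc r φ hφ hck using fun n : ℕ => exists_generic_free p (H n) fun y hy z =>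
    smul_hc_koszul l (hl.symm ▸ hy) _ _ _ (by omega) rfl z
  refine ⟨∏ n ∈ Finset.range (m + 1), c n, fun h => ?_, m, fun q _ hpq hcq d D hd hD => ?_⟩
  · obtain ⟨i, -, hi⟩ := Ideal.IsPrime.prod_mem_iff.1 h
    exact hc i hi
  haveI : IsNoetherianRing (Localization.AtPrime q) := IsLocalization.isNoetherianRing q.primeCompl _ inferInstance
  have hcn : ∀ n, n < m + 1 → c n ∉ q := fun n hn h =>
    hcq (Ideal.mem_of_dvd _ (Finset.dvd_prod_of_mem c (Finset.mem_range.2 hn)) h)
  have hQd : DepthAt q (A ⧸ p) d := (depthGE_iff d).2 (le_of_eq hd.symm)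
  have hQd' : ¬ DepthAt q (A ⧸ p) (d + 1) := fun h => by
    have h1 := (depthGE_iff (d + 1)).1 h
    rw [hd, ENat.coe_le_coe] at h1
    omega
  have hout : ∀ a b e : ℤ, (0 < b ∨ b < -(m : ℤ)) → Subsingleton (Hc (Koszul.koszul A l) a b e) := fun a b e hb => by
    haveI := subsingleton_X l b hb
    infer_instance
  have hH : ∀ a b e : ℤ, a + 1 = b → b + 1 = e → DepthAt q (Hc (Koszul.koszul A l) a b e) d := fun a b e ha he => by
    by_cases hb : 0 < b ∨ b < -(m : ℤ)
    · haveI := hout a b e hb
      exact depthAt_of_subsingleton q d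
    obtain ⟨n, rfl⟩ : ∃ n : ℕ, b = -(m : ℤ) + n := ⟨(b + m).toNat, by omega⟩
    obtain rfl : a = -(m : ℤ) + n - 1 := by omega
    subst he
    exact (depthAt_iff_of_generic q (hcn n (by omega)) (φ n) (hφ n) (hck n)).1 d (depthAt_pi q hQd (r n))
  have h0 : ∃ n, n ≤ m ∧ Nontrivial (LocalizedModule q.primeCompl (H n)) := by
    refine ⟨m, le_rfl, ?_⟩
    have hp : (⟨q, inferInstance⟩ : PrimeSpectrum A) ∈ Module.support A (Hc (Koszul.koszul A l) (-1) 0 1) := by
      rw [(hcZero l).support_eq, Module.mem_support_iff_of_finite, Ideal.annihilator_quotient, hl]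
      exact hpq
    have he : -(m : ℤ) + m = 0 := by omega
    show Nontrivial (LocalizedModule q.primeCompl (Hc (Koszul.koszul A l) (-(m : ℤ) + m - 1) (-(m : ℤ) + m) (-(m : ℤ) + m + 1)))
    rw [he, show (0 : ℤ) - 1 = -1 from rfl, zero_add]
    exact Module.mem_support_iff.1 hp
  obtain ⟨hn, hnt⟩ := Nat.find_spec h0
  refine depth_le_of_cx q (Koszul.koszul A l) m d D (fun j hj => subsingleton_X l j hj) (fun j => ?_) hH
    (-(m : ℤ) + Nat.find h0) (fun a b e ha he hb => ?_) (by omega) (by omega) fun a e ha he h => ?_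
  · haveI := (finite_free_koszul l j).1
    haveI := (finite_free_koszul l j).2
    haveI : Nontrivial A := ⟨⟨0, 1, fun h => Ideal.IsPrime.ne_top' (q.eq_top_iff_one.2 (h ▸ q.zero_mem))⟩⟩
    exact depthAt_congr q (Module.finBasis A _).equivFun.symm
      (depthAt_pi q ((depthGE_iff D).2 (le_of_eq hD.symm)) _)
  · by_cases hb' : b < -(m : ℤ)
    · haveI := hout a b e (Or.inr hb')
      infer_instance
    obtain ⟨n, rfl⟩ : ∃ n : ℕ, b = -(m : ℤ) + n := ⟨(b + m).toNat, by omega⟩
    obtain rfl : a = -(m : ℤ) + n - 1 := by omega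
    subst he
    rw [← not_nontrivial_iff_subsingleton]
    exact fun h => Nat.find_min h0 (m := n) (by omega) ⟨by omega, h⟩
  · obtain rfl : a = -(m : ℤ) + Nat.find h0 - 1 := by omega
    subst he
    obtain ⟨hlift, hdown⟩ := depthAt_iff_of_generic q (hcn (Nat.find h0) (by omega)) (φ _) (hφ _) (hck _)
    obtain ⟨k, hk⟩ : ∃ k, r (Nat.find h0) = k + 1 := by
      refine ⟨r (Nat.find h0) - 1, ?_⟩
      by_contra hr0
      haveI : IsEmpty (Fin (r (Nat.find h0))) := by
        rw [show r (Nat.find h0) = 0 by omega]; infer_instance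
      refine not_subsingleton_iff_nontrivial.2 hnt ?_
      rw [LocalizedModule.subsingleton_iff]
      intro z
      obtain ⟨w, hw⟩ := hck (Nat.find h0) z
      exact ⟨c (Nat.find h0), hcn (Nat.find h0) (by omega), by rw [← hw, Subsingleton.elim w 0, map_zero]⟩
    have h' := hdown d h
    rw [hk] at h'
    exact hQd' (depthAt_of_pi q hQd k h')

end Koszul

end Groth.Agent.DR39
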