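import Groth.Agent.DR39.Rep
import Groth.Agent.DR39.Elem
import Mathlib.LinearAlgebra.TensorProduct.Quotient
import Mathlib.RingTheory.Ideal.Quotient.Operations
import Mathlib.RingTheory.Finiteness.Basic

/-! Lifting complexes of projectives along `R → R/I`. -/

set_option autoImplicit false
set_option linter.style.haveILetI false
set_option linter.unusedSectionVars false

universe u

open CategoryTheory CategoryTheory.Limits

namespace Groth.Agent.DR39

variable {R : Type u} [CommRing R] (I : Ideal R)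

/-- `π` identifies `M` with the reduction of `X` modulo `I`. -/
structure Red {X M : ModuleCat.{u} R} (π : X →ₗ[R] M) : Prop where
  surj : Function.Surjective π
  mem : ∀ x, π x = 0 ↔ x ∈ I • (⊤ : Submodule R X)

theorem map_mem_smul_top {X Y : Type u} [AddCommGroup X] [Module R X] [AddCommGroup Y] [Module R Y]
    (f : X →ₗ[R] Y) {x : X} (hx : x ∈ I • (⊤ : Submodule R X)) : f x ∈ I • (⊤ : Submodule R Y) := by
  have h := Submodule.mem_map_of_mem (f := f) hx
  rw [Submodule.map_smul''] at h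
  exact Submodule.smul_mono le_rfl le_top h

/-- The conditions on a class of modules. -/
structure LiftClass (Pc : ObjectProperty (ModuleCat.{u} R)) : Prop where
  of_iso : ∀ {X Y : ModuleCat.{u} R}, (X ≅ Y) → Pc X → Pc Y
  proj : ∀ X, Pc X → Module.Projective R X
  compl : ∀ X Y : ModuleCat.{u} R, Pc X → Pc (ModuleCat.of R (X × Y)) → Pc Y
  surj : ∀ (X Y : ModuleCat.{u} R) (f : X ⟶ Y), Pc X → Pc Y →
      LinearMap.range f.hom ⊔ I • (⊤ : Submodule R Y) = ⊤ → Function.Surjective f.hom

variable {I} {Pc : ObjectProperty (ModuleCat.{u} R)} (hP : LiftClass I Pc)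
include hP

theorem LiftClass.surjective {X Y : ModuleCat.{u} R} (hX : Pc X) (hY : Pc Y) (f : X →ₗ[R] Y)
    (h : ∀ y, ∃ x, y - f x ∈ I • (⊤ : Submodule R Y)) : Function.Surjective f := by
  refine hP.surj X Y (ModuleCat.ofHom f) hX hY (eq_top_iff.2 fun y _ => ?_)
  obtain ⟨x, hx⟩ := h y
  exact Submodule.mem_sup.2 ⟨f x, ⟨x, rfl⟩, y - f x, hx, by simp⟩

theorem LiftClass.subsingleton {X : ModuleCat.{u} R} (hX : Pc X)
    (h : ∀ x : X, x ∈ I • (⊤ : Submodule R X)) : Subsingleton X := by
  have hs := hP.surjective hX hX 0 fun y => ⟨0, by simpa using h y⟩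
  exact subsingleton_of_forall_eq 0 fun x => by
    obtain ⟨y, hy⟩ := hs x
    exact hy.symm

theorem LiftClass.subsingleton_of_red {X M : ModuleCat.{u} R} (hX : Pc X) {π : X →ₗ[R] M}
    (hπ : Red I π) (hM : IsZero M) : Subsingleton X :=
  haveI := ModuleCat.subsingleton_of_isZero hM
  hP.subsingleton hX fun x => (hπ.mem x).1 (Subsingleton.elim _ _)

theorem LiftClass.ker {X Y : ModuleCat.{u} R} (hX : Pc X) (hY : Pc Y) (f : X →ₗ[R] Y)
    (hf : Function.Surjective f) : Pc (ModuleCat.of R (LinearMap.ker f)) := by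
  haveI := hP.proj Y hY
  obtain ⟨σ, hσ⟩ := Module.projective_lifting_property f LinearMap.id hf
  have hσ' : ∀ y, f (σ y) = y := LinearMap.congr_fun hσ
  have hr : ∀ x, (LinearMap.id - σ ∘ₗ f : X →ₗ[R] X) x ∈ LinearMap.ker f := fun x => by simp [hσ']
  let e : X ≃ₗ[R] Y × LinearMap.ker f :=
    { f.prod (LinearMap.codRestrict _ _ hr) with
      invFun := fun p => σ p.1 + p.2
      left_inv := fun x => by simp [LinearMap.codRestrict]
      right_inv := fun p => by
        have h2 : f p.2 = 0 := p.2.2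
        refine Prod.ext ?_ (Subtype.ext ?_) <;> simp [LinearMap.codRestrict, hσ', h2] }
  exact hP.compl Y (ModuleCat.of R (LinearMap.ker f)) hY (hP.of_iso e.toModuleIso hX)

theorem LiftClass.injective_of_surjective {X : ModuleCat.{u} R} (hX : Pc X) (f : X →ₗ[R] X)
    (hf : ∀ x, f x - x ∈ I • (⊤ : Submodule R X)) : Function.Bijective f := by
  have hs := hP.surjective hX hX f fun y => ⟨y, by simpa using Submodule.neg_mem _ (hf y)⟩
  refine ⟨?_, hs⟩
  haveI := hP.proj X hX
  obtain ⟨σ, hσ⟩ := Module.projective_lifting_property f LinearMap.id hs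
  have hσ' : ∀ y, f (σ y) = y := LinearMap.congr_fun hσ
  have hr : ∀ x, (LinearMap.id - σ ∘ₗ f : X →ₗ[R] X) x ∈ LinearMap.ker f := fun x => by simp [hσ']
  haveI := hP.subsingleton (hP.ker hX hX f hs) fun k => by
    have hk : (k : X) ∈ I • (⊤ : Submodule R X) := by
      have := hf k
      rw [show f k = 0 from k.2, zero_sub] at this
      simpa using Submodule.neg_mem _ this
    have h2 := map_mem_smul_top I (LinearMap.codRestrict _ _ hr) hk
    convert h2 using 1
    exact Subtype.ext (by simp [LinearMap.codRestrict])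
  rw [injective_iff_map_eq_zero]
  exact fun x hx => congrArg Subtype.val (Subsingleton.elim (⟨x, hx⟩ : LinearMap.ker f) 0)

omit hP

namespace AcLift

variable (E : DRing.Cx R) (X : ℤ → ModuleCat.{u} R) (π : ∀ i, X i →ₗ[R] E.X i)

/-- A lift of the cycles. -/
structure Lev (I : Ideal R) (Pc : ObjectProperty (ModuleCat.{u} R)) (i : ℤ) where
  Q : Submodule R (X i)
  pc : Pc (ModuleCat.of R Q)
  cyc : ∀ q ∈ Q, (E.d i (i + 1)).hom (π i q) = 0
  surj : ∀ e, (E.d i (i + 1)).hom e = 0 → ∃ q ∈ Q, π i q = e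
  red : ∀ q : Q, π i q = 0 → q ∈ I • (⊤ : Submodule R Q)
  ret : X i →ₗ[R] Q
  ret_eq : ∀ q : Q, ret q = q

variable {E X π}

/-- The differential linking consecutive levels. -/
structure Step {i : ℤ} (l : Lev E X π I Pc i) (l' : Lev E X π I Pc (i + 1)) where
  d : X i →ₗ[R] X (i + 1)
  sec : X (i + 1) →ₗ[R] X i
  ker : ∀ x, x ∈ l.Q ↔ d x = 0
  mem : ∀ x, d x ∈ l'.Q
  comm : ∀ x, π (i + 1) (d x) = (E.d i (i + 1)).hom (π i x)
  dsec : ∀ q ∈ l'.Q, d (sec q) = q
  split : ∀ x, sec (d x) + (l.ret x : X i) = x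

include hP in
theorem exists_next (hpc : ∀ i, Pc (X i)) (hπ : ∀ i, Red I (π i))
    (hE : ∀ i, IsZero (E.homology i)) {i : ℤ} (l' : Lev E X π I Pc (i + 1)) :
    ∃ l : Lev E X π I Pc i, Nonempty (Step l l') := by
  haveI := hP.proj _ (hpc i)
  haveI := hP.proj _ (hpc (i + 1))
  haveI := hP.proj _ l'.pc
  let Z := LinearMap.ker (E.d (i + 1) (i + 1 + 1)).hom
  let π' : l'.Q →ₗ[R] Z := LinearMap.codRestrict Z (π (i + 1) ∘ₗ l'.Q.subtype) fun q => l'.cyc q q.2
  have hπ' : Function.Surjective π' := fun z => by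
    obtain ⟨q, hq, hqz⟩ := l'.surj z z.2
    exact ⟨⟨q, hq⟩, Subtype.ext hqz⟩
  let g : X i →ₗ[R] Z :=
    LinearMap.codRestrict Z ((E.d i (i + 1)).hom ∘ₗ π i) fun x => d_apply_d E _ _ _ _
  obtain ⟨f, hf⟩ := Module.projective_lifting_property π' g hπ'
  have hf' : ∀ x, π (i + 1) (f x) = (E.d i (i + 1)).hom (π i x) := fun x =>
    congrArg Subtype.val (LinearMap.congr_fun hf x)
  have hfs : Function.Surjective f := by
    refine hP.surjective (Y := ModuleCat.of R l'.Q) (hpc i) l'.pc f fun q => ?_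
    obtain ⟨j, hj⟩ : ∃ j, j = i := ⟨i, rfl⟩
    have hq : π (i + 1) q ∈ LinearMap.range (E.d j (i + 1)).hom := by
      obtain ⟨j', hj'⟩ : ∃ j', j' = i + 1 - 1 := ⟨_, rfl⟩
      have := (isZero_homology_iff E (i + 1)).1 (hE (i + 1)) _ (l'.cyc q q.2)
      rw [show j = i + 1 - 1 by omega]
      exact this
    subst hj
    obtain ⟨e, he⟩ := hq
    obtain ⟨x, rfl⟩ := (hπ j).surj e
    refine ⟨x, l'.red _ ?_⟩
    show π (j + 1) ((q : X (j + 1)) - f x) = 0
    rw [map_sub, hf', he, sub_self]
  obtain ⟨σ, hσ⟩ := Module.projective_lifting_property f LinearMap.id hfs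
  have hσ' : ∀ q, f (σ q) = q := LinearMap.congr_fun hσ
  have hr : ∀ x, (LinearMap.id - σ ∘ₗ f : X i →ₗ[R] X i) x ∈ LinearMap.ker f := fun x => by simp [hσ']
  let l : Lev E X π I Pc i :=
    { Q := LinearMap.ker f
      pc := hP.ker (Y := ModuleCat.of R l'.Q) (hpc i) l'.pc f hfs
      cyc := fun q hq => by rw [← hf', (hq : f q = 0)]; exact map_zero _
      surj := fun e he => by
        obtain ⟨x, rfl⟩ := (hπ i).surj e
        have hx : f x ∈ I • (⊤ : Submodule R l'.Q) := l'.red _ (by rw [hf', he])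
        refine ⟨_, hr x, ?_⟩
        have h2 := ((hπ i).mem _).2 (map_mem_smul_top I σ hx)
        simp [h2]
      red := fun q hq => by
        have h2 := map_mem_smul_top I (LinearMap.codRestrict _ _ hr) (((hπ i).mem _).1 hq)
        convert h2 using 1
        exact Subtype.ext (by simp [LinearMap.codRestrict])
      ret := LinearMap.codRestrict _ _ hr
      ret_eq := fun q => Subtype.ext (by simp [LinearMap.codRestrict]) }
  exact ⟨l, ⟨{ d := l'.Q.subtype ∘ₗ f
               sec := σ ∘ₗ l'.ret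
               ker := fun x => ⟨fun h => congrArg Subtype.val h, fun h => Subtype.ext h⟩
               mem := fun x => (f x).2
               comm := hf'
               dsec := fun q hq => by
                 show ((f (σ (l'.ret q)) : l'.Q) : X (i + 1)) = q
                 rw [hσ', show l'.ret q = (⟨q, hq⟩ : l'.Q) from l'.ret_eq ⟨q, hq⟩]
               split := fun x => by
                 show σ (l'.ret (f x : X (i + 1))) + (x - σ (f x)) = x
                 rw [l'.ret_eq]
                 exact add_sub_cancel _ _ }⟩⟩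

/-- The trivial level. -/
def triv (hpc : ∀ i, Pc (X i)) (i : ℤ) (hX : Subsingleton (X i)) (hEi : IsZero (E.X i))
    (hiso : ∀ {M N : ModuleCat.{u} R}, (M ≅ N) → Pc M → Pc N) : Lev E X π I Pc i where
  Q := ⊤
  pc := hiso (Submodule.topEquiv (R := R) (M := X i)).symm.toModuleIso (hpc i)
  cyc _ _ := by
    haveI := ModuleCat.subsingleton_of_isZero hEi
    rw [Subsingleton.elim (π i _) 0, map_zero]
  surj e _ := ⟨0, trivial, by
    haveI := ModuleCat.subsingleton_of_isZero hEi
    exact Subsingleton.elim _ _⟩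
  red q _ := by
    rw [Subsingleton.elim q 0]
    exact Submodule.zero_mem _
  ret := LinearMap.codRestrict _ LinearMap.id fun _ => trivial
  ret_eq _ := Subtype.ext rfl

/-- Lifting of a bounded above acyclic complex. -/
theorem exists_lift (hP : LiftClass I Pc) (hpc : ∀ i, Pc (X i)) (hπ : ∀ i, Red I (π i))
    (b : ℤ) (hb : DRing.VanishesAbove E b) (hE : ∀ i, IsZero (E.homology i)) :
    ∃ (D : ∀ i, X i →ₗ[R] X (i + 1)) (H : ∀ i, X (i + 1) →ₗ[R] X i),
      (∀ i x, D (i + 1) (D i x) = 0) ∧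
      (∀ i x, π (i + 1) (D i x) = (E.d i (i + 1)).hom (π i x)) ∧
      (∀ i x, H (i + 1) (D (i + 1) x) + D i (H i x) = x) := by
  have hs : ∀ i, b < i → Subsingleton (X i) := fun i hi => hP.subsingleton_of_red (hpc i) (hπ i) (hb i hi)
  let mkTriv : ∀ i, b < i → Lev E X π I Pc i := fun i hi => triv hpc i (hs i hi) (hb i hi) hP.of_iso
  have hex : ∀ (n : ℕ) (i : ℤ), (b + 1 - i).toNat = n → Nonempty (Lev E X π I Pc i) := by
    intro n
    induction n with
    | zero => exact fun i hi => ⟨mkTriv i (by omega)⟩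
    | succ n ih =>
      intro i hi
      obtain ⟨l'⟩ := ih (i + 1) (by omega)
      obtain ⟨l, -⟩ := exists_next hP hpc hπ hE l'
      exact ⟨l⟩
  let nxt : ∀ i, Lev E X π I Pc (i + 1) → Lev E X π I Pc i := fun i l' =>
    (exists_next hP hpc hπ hE l').choose
  have hnxt : ∀ i l', Nonempty (Step (nxt i l') l') := fun i l' =>
    (exists_next hP hpc hπ hE l').choose_spec
  let L : ∀ (n : ℕ) (i : ℤ), (b + 1 - i).toNat = n → Lev E X π I Pc i := fun n =>
    Nat.rec (motive := fun n => ∀ i : ℤ, (b + 1 - i).toNat = n → Lev E X π I Pc i)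
      (fun i (hi : (b + 1 - i).toNat = 0) => mkTriv i (by omega))
      (fun m ih i (hi : (b + 1 - i).toNat = m + 1) => nxt i (ih (i + 1) (by omega))) n
  let lev : ∀ i, Lev E X π I Pc i := fun i => L _ i rfl
  have hlev : ∀ i, i ≤ b → Nonempty (Step (lev i) (lev (i + 1))) := by
    intro i hi
    have key : ∀ (n : ℕ) (h : (b + 1 - i).toNat = n + 1),
        L (n + 1) i h = nxt i (L n (i + 1) (by omega)) := fun n h => rfl
    have hcongr : ∀ (j : ℤ) (n m : ℕ) (h : (b + 1 - j).toNat = n) (h' : (b + 1 - j).toNat = m),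
        L n j h = L m j h' := by
      intro j n m h h'
      obtain rfl : n = m := h.symm.trans h'
      rfl
    obtain ⟨n, hn⟩ : ∃ n, (b + 1 - i).toNat = n + 1 := ⟨(b - i).toNat, by omega⟩
    show Nonempty (Step (L _ i rfl) (L _ (i + 1) rfl))
    rw [hcongr i _ (n + 1) rfl hn, key n hn, hcongr (i + 1) _ n rfl (by omega)]
    exact hnxt i _
  have hstep : ∀ i, Nonempty (Step (lev i) (lev (i + 1))) := by
    intro i
    by_cases hi : i ≤ b
    · exact hlev i hi
    · haveI := hs i (by omega); haveI := hs (i + 1) (by omega)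
      exact ⟨{ d := 0
               sec := 0
               ker := fun x => ⟨fun _ => rfl, fun _ => by
                 rw [Subsingleton.elim x 0]; exact Submodule.zero_mem _⟩
               mem := fun _ => Submodule.zero_mem _
               comm := fun x => by
                 haveI := ModuleCat.subsingleton_of_isZero (hb (i + 1) (by omega))
                 exact Subsingleton.elim _ _
               dsec := fun q _ => Subsingleton.elim _ _
               split := fun x => Subsingleton.elim _ _ }⟩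
  let S := fun i => (hstep i).some
  refine ⟨fun i => (S i).d, fun i => (S i).sec ∘ₗ (lev (i + 1)).Q.subtype ∘ₗ (lev (i + 1)).ret,
    fun i x => ((S (i + 1)).ker _).1 ((S i).mem x), fun i => (S i).comm, fun i x => ?_⟩
  show (S (i + 1)).sec ((lev (i + 1 + 1)).ret ((S (i + 1)).d x)) +
    (S i).d ((S i).sec ((lev (i + 1)).ret x)) = x
  rw [show ((lev (i + 1 + 1)).ret ((S (i + 1)).d x) : X (i + 1 + 1)) = (S (i + 1)).d x from
    congrArg Subtype.val ((lev (i + 1 + 1)).ret_eq ⟨_, (S (i + 1)).mem x⟩),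
    (S i).dsec _ ((lev (i + 1)).ret x).2]
  exact (S (i + 1)).split x

end AcLift

end Groth.Agent.DR39
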