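import Groth.Agent.DR39.Lift
import Groth.Agent.DR39.Factor

/-! Lifting bounded above complexes of projectives. -/

set_option autoImplicit false
set_option linter.style.haveILetI false
set_option linter.unusedSectionVars false

universe u

open CategoryTheory CategoryTheory.Limits

attribute [local instance] HasDerivedCategory.standard

namespace Groth.Agent.DR39

variable {R : Type u} [CommRing R] {I : Ideal R} {Pc : ObjectProperty (ModuleCat.{u} R)}

/-- A complex from linear maps. -/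
noncomputable def ofL (X : ℤ → ModuleCat.{u} R) (D : ∀ i, X i →ₗ[R] X (i + 1))
    (h : ∀ i x, D (i + 1) (D i x) = 0) : DRing.Cx R :=
  CochainComplex.of X (fun i => ModuleCat.ofHom (D i)) fun i => ModuleCat.hom_ext (LinearMap.ext (h i))

theorem ofL_d (X : ℤ → ModuleCat.{u} R) (D : ∀ i, X i →ₗ[R] X (i + 1))
    (h : ∀ i x, D (i + 1) (D i x) = 0) (i : ℤ) (x : X i) :
    ((ofL X D h).d i (i + 1)).hom x = D i x := by
  have e : (ofL X D h).d i (i + 1) = ModuleCat.ofHom (D i) :=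
    CochainComplex.of_d X (fun i => ModuleCat.ofHom (D i)) i
  rw [e]
  rfl

theorem range_d_congr (K : DRing.Cx R) {j j' : ℤ} (h : j' = j) (k : ℤ) {x : K.X k}
    (hx : x ∈ LinearMap.range (K.d j k).hom) : x ∈ LinearMap.range (K.d j' k).hom := by
  subst h; exact hx

theorem range_d_self (K : DRing.Cx R) (j : ℤ) (y : K.X j) :
    (K.d j (j + 1)).hom y ∈ LinearMap.range (K.d (j + 1 - 1) (j + 1)).hom :=
  range_d_congr K (by omega) _ ⟨y, rfl⟩

/-- Lifting when the map is surjective. -/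
theorem lift_of_surjective (hP : LiftClass I Pc) (Q E : DRing.Cx R) (b : ℤ)
    (hQb : DRing.VanishesAbove Q b) (hQ : ∀ i, Pc (Q.X i))
    (X : ℤ → ModuleCat.{u} R) (π : ∀ i, X i →ₗ[R] E.X i) (hpc : ∀ i, Pc (X i)) (hπ : ∀ i, Red I (π i))
    (hEI : ∀ i, ∀ x ∈ I • (⊤ : Submodule R (E.X i)), x = 0)
    (f : Q ⟶ E) (hf : ∀ i, Function.Surjective (f.f i).hom)
    (hS : ∀ j z, (E.d (j + 1) (j + 1 + 1)).hom z = 0 → ∃ (x : Q.X (j + 1)) (e : E.X j),
      (Q.d (j + 1) (j + 1 + 1)).hom x ∈ I • (⊤ : Submodule R (Q.X (j + 1 + 1))) ∧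
        (f.f (j + 1)).hom x - z = (E.d j (j + 1)).hom e)
    (hI : ∀ j (x : Q.X (j + 1)),
      (Q.d (j + 1) (j + 1 + 1)).hom x ∈ I • (⊤ : Submodule R (Q.X (j + 1 + 1))) →
      ∀ e : E.X j, (f.f (j + 1)).hom x = (E.d j (j + 1)).hom e →
        ∃ y : Q.X j, x - (Q.d j (j + 1)).hom y ∈ I • (⊤ : Submodule R (Q.X (j + 1)))) :
    ∃ (P : DRing.Cx R) (p : P ⟶ E), (∀ i, Pc (P.X i)) ∧ (∀ i, Red I (p.f i).hom) ∧
      Nonempty ((QA R).obj Q ≅ (QA R).obj P) := by
  -- lifts of the components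
  have hh : ∀ i, ∃ (h : Q.X i →ₗ[R] X i) (σ : X i →ₗ[R] Q.X i),
      (∀ x, π i (h x) = (f.f i).hom x) ∧ (∀ x, h (σ x) = x) ∧ Function.Surjective h := by
    intro i
    haveI := hP.proj _ (hQ i)
    haveI := hP.proj _ (hpc i)
    obtain ⟨h, hh⟩ := Module.projective_lifting_property (π i) (f.f i).hom (hπ i).surj
    have hh' : ∀ x, π i (h x) = (f.f i).hom x := LinearMap.congr_fun hh
    have hs : Function.Surjective h := hP.surjective (hQ i) (hpc i) h fun y => by
      obtain ⟨x, hx⟩ := hf i (π i y)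
      exact ⟨x, ((hπ i).mem _).1 (by rw [map_sub, hh', hx, sub_self])⟩
    obtain ⟨σ, hσ⟩ := Module.projective_lifting_property h LinearMap.id hs
    exact ⟨h, σ, hh', LinearMap.congr_fun hσ, hs⟩
  choose h σ hπh hσ hhs using hh
  have fI : ∀ i (x : Q.X i), x ∈ I • (⊤ : Submodule R (Q.X i)) → (f.f i).hom x = 0 := fun i x hx =>
    hEI i _ (map_mem_smul_top I (f.f i).hom hx)
  -- the kernel, modulo `I`
  let T : ∀ i, Submodule R (Q.X i) := fun i => LinearMap.ker (f.f i).hom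
  let J : ∀ i, Submodule R (T i) := fun i => (I • (⊤ : Submodule R (Q.X i))).comap (T i).subtype
  let M : ℤ → ModuleCat.{u} R := fun i => ModuleCat.of R (T i ⧸ J i)
  have hdT : ∀ i (x : T i), ((Q.d i (i + 1)).hom ∘ₗ (T i).subtype) x ∈ T (i + 1) := fun i x => by
    show (f.f (i + 1)).hom ((Q.d i (i + 1)).hom x) = 0
    rw [f_apply_d, (x.2 : (f.f i).hom x = 0), map_zero]
  let dT : ∀ i, T i →ₗ[R] T (i + 1) := fun i => LinearMap.codRestrict _ _ (hdT i)
  let dM : ∀ i, M i →ₗ[R] M (i + 1) := fun i =>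
    Submodule.mapQ (J i) (J (i + 1)) (dT i) fun x hx => map_mem_smul_top I (Q.d i (i + 1)).hom hx
  have hdM : ∀ i m, dM (i + 1) (dM i m) = 0 := fun i m => by
    obtain ⟨x, rfl⟩ := Submodule.mkQ_surjective _ m
    refine (Submodule.Quotient.mk_eq_zero _).2 ?_
    show (Q.d (i + 1) (i + 1 + 1)).hom ((Q.d i (i + 1)).hom x) ∈ I • (⊤ : Submodule R (Q.X (i + 1 + 1)))
    rw [d_apply_d]; exact Submodule.zero_mem _
  let F := ofL M dM hdM
  let W : ℤ → ModuleCat.{u} R := fun i => ModuleCat.of R (LinearMap.ker (h i))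
  have hWT : ∀ i (w : W i), (w.1 : Q.X i) ∈ T i := fun i w => by
    show (f.f i).hom w.1 = 0
    rw [← hπh, (w.2 : h i w.1 = 0), map_zero]
  let πF : ∀ i, W i →ₗ[R] F.X i := fun i =>
    Submodule.mkQ (J i) ∘ₗ LinearMap.codRestrict _ (LinearMap.ker (h i)).subtype (hWT i)
  have hρ : ∀ i x, (LinearMap.id - σ i ∘ₗ h i : Q.X i →ₗ[R] Q.X i) x ∈ LinearMap.ker (h i) :=
    fun i x => by simp [hσ]
  let ρ : ∀ i, Q.X i →ₗ[R] W i := fun i => LinearMap.codRestrict _ _ (hρ i)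
  have hρW : ∀ i (w : W i), ρ i w.1 = w := fun i w =>
    Subtype.ext (show w.1 - σ i (h i w.1) = w.1 by rw [(w.2 : h i w.1 = 0), map_zero, sub_zero])
  have hπF : ∀ i, Red I (πF i) := fun i => by
    refine ⟨fun m => ?_, fun w => ⟨fun hw => ?_, fun hw => ?_⟩⟩
    · obtain ⟨x, rfl⟩ := Submodule.mkQ_surjective _ m
      refine ⟨ρ i x.1, (Submodule.Quotient.eq _).2 ?_⟩
      show (x.1 - σ i (h i x.1)) - x.1 ∈ I • (⊤ : Submodule R (Q.X i))
      rw [sub_sub_cancel_left]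
      exact Submodule.neg_mem _ (map_mem_smul_top I (σ i)
        (((hπ i).mem _).1 (by rw [hπh]; exact x.2)))
    · have hw' : (w.1 : Q.X i) ∈ I • (⊤ : Submodule R (Q.X i)) := (Submodule.Quotient.mk_eq_zero (J i)).1 hw
      have := map_mem_smul_top I (ρ i) hw'
      rwa [hρW] at this
    · exact (Submodule.Quotient.mk_eq_zero _).2 (map_mem_smul_top I (LinearMap.ker (h i)).subtype hw)
  have hFb : DRing.VanishesAbove F b := fun i hi => by
    haveI := ModuleCat.subsingleton_of_isZero (hQb i hi)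
    exact ModuleCat.isZero_of_subsingleton (M i)
  have hFa : ∀ i, IsZero (F.homology i) := fun i => by
    obtain ⟨j, rfl⟩ : ∃ j, i = j + 1 := ⟨i - 1, by omega⟩
    rw [isZero_homology_iff]
    intro (m : M (j + 1)) hm
    obtain ⟨x, rfl⟩ := Submodule.mkQ_surjective _ m
    rw [ofL_d] at hm
    have hx : (Q.d (j + 1) (j + 1 + 1)).hom x.1 ∈ I • (⊤ : Submodule R (Q.X (j + 1 + 1))) :=
      (Submodule.Quotient.mk_eq_zero (J (j + 1 + 1))).1 hm
    have hx0 : (f.f (j + 1)).hom x.1 = 0 := x.2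
    obtain ⟨y, hy⟩ := hI j x.1 hx 0 (by rw [hx0, map_zero])
    obtain ⟨k, rfl⟩ : ∃ k, j = k + 1 := ⟨j - 1, by omega⟩
    have hfy : (E.d (k + 1) (k + 1 + 1)).hom ((f.f (k + 1)).hom y) = 0 := by
      rw [← f_apply_d]
      have := fI _ _ hy
      rwa [map_sub, hx0, zero_sub, neg_eq_zero] at this
    obtain ⟨x', e, hx', he⟩ := hS k _ hfy
    obtain ⟨ε, rfl⟩ := hf k e
    have hy' : y - x' + (Q.d k (k + 1)).hom ε ∈ T (k + 1) := by
      show (f.f (k + 1)).hom _ = 0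
      rw [map_add, map_sub, f_apply_d, ← he]
      abel
    refine range_d_congr F (show k + 1 + 1 - 1 = k + 1 by omega) _
      ⟨Submodule.mkQ (J (k + 1)) ⟨_, hy'⟩, (ofL_d M dM hdM (k + 1) _).trans ?_⟩
    refine (Submodule.Quotient.eq _).2 ?_
    show (Q.d (k + 1) (k + 1 + 1)).hom (y - x' + (Q.d k (k + 1)).hom ε) - x.1 ∈
      I • (⊤ : Submodule R (Q.X (k + 1 + 1)))
    rw [map_add, map_sub, d_apply_d, add_zero,
      show ∀ a c d : Q.X (k + 1 + 1), a - c - d = -(d - a) - c from fun a c d => by abel]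
    exact Submodule.sub_mem _ (Submodule.neg_mem _ hy) hx'
  obtain ⟨D, H, hDD, hcomm, hhom⟩ := AcLift.exists_lift (E := F) (X := W) (π := πF) hP
    (fun i => hP.ker (hQ i) (hpc i) (h i) (hhs i)) hπF b hFb hFa
  -- a chain map lifting the inclusion
  let Fl := ofL W D hDD
  let hl : ∀ i j : ℤ, Fl.X i ⟶ Q.X j := fun i j =>
    if hij : j + 1 = i then
      (Fl.XIsoOfEq hij.symm).hom ≫ ModuleCat.ofHom ((LinearMap.ker (h j)).subtype ∘ₗ H j)
    else 0
  let s : Fl ⟶ Q := Homotopy.nullHomotopicMap hl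
  let S : ∀ i, W i →ₗ[R] Q.X i := fun i => (s.f i).hom
  have hS' : ∀ i (w : W i), (Q.d i (i + 1)).hom (S i w) = S (i + 1) (D i w) := fun i w => by
    show (Q.d i (i + 1)).hom ((s.f i).hom w) = _
    rw [← f_apply_d s]
    exact congrArg (s.f (i + 1)).hom (ofL_d W D hDD i w)
  have hscong : ∀ i (w : W i), S i w - w.1 ∈ I • (⊤ : Submodule R (Q.X i)) := fun i => by
    obtain ⟨j, rfl⟩ : ∃ j, i = j + 1 := ⟨i - 1, by omega⟩
    intro w
    have e : S (j + 1) w = (H (j + 1) (D (j + 1) w)).1 + (Q.d j (j + 1)).hom (H j w).1 := by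
      show ((Homotopy.nullHomotopicMap hl).f (j + 1)).hom w = _
      rw [Homotopy.nullHomotopicMap_f (k₂ := j) (k₀ := j + 1 + 1) (by simp) (by simp)]
      simp only [hl, dif_pos, HomologicalComplex.XIsoOfEq_rfl, Iso.refl_hom, Category.id_comp]
      exact congrArg₂ (· + ·) (congrArg (fun v => (H (j + 1) v).1) (ofL_d W D hDD (j + 1) w)) rfl
    have e2 : w.1 = (H (j + 1) (D (j + 1) w)).1 + (D j (H j w)).1 := congrArg Subtype.val (hhom j w).symm
    rw [e, e2, add_sub_add_left_eq_sub]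
    exact (Submodule.Quotient.eq (J (j + 1))).1 (((hcomm j (H j w)).trans (ofL_d M dM hdM j _)).symm)
  -- its retraction
  have hb' : ∀ i, Function.Bijective (ρ i ∘ₗ S i) := fun i =>
    hP.injective_of_surjective (hP.ker (hQ i) (hpc i) (h i) (hhs i)) (ρ i ∘ₗ S i) fun w => by
      have h2 := map_mem_smul_top I (ρ i) (hscong i w)
      rwa [map_sub, hρW] at h2
  let e : ∀ i, Q.X i →ₗ[R] W i := fun i => (LinearEquiv.ofBijective _ (hb' i)).symm.toLinearMap ∘ₗ ρ i
  have hes : ∀ i w, e i (S i w) = w := fun i w =>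
    (LinearEquiv.ofBijective _ (hb' i)).symm_apply_apply w
  have hρσ : ∀ i x, ρ i (σ i x) = 0 := fun i x => Subtype.ext (show σ i x - σ i (h i (σ i x)) = 0 by rw [hσ, sub_self])
  let φ : ∀ i, Q.X i →ₗ[R] X i := fun i => h i ∘ₗ (LinearMap.id - S i ∘ₗ e i)
  have hφs : ∀ i w, φ i (S i w) = 0 := fun i w => by simp [φ, hes]
  have hφσ : ∀ i x, φ i (σ i x) = x := fun i x => by simp [φ, e, hρσ, hσ]
  have hσφ : ∀ i x, σ i (φ i x) = x - S i (e i x) := fun i x => by
    have h1 : ρ i (x - S i (e i x)) = 0 := by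
      rw [map_sub, sub_eq_zero]
      exact ((LinearEquiv.ofBijective _ (hb' i)).apply_symm_apply (ρ i x)).symm
    have h2 : (x - S i (e i x)) - σ i (h i (x - S i (e i x))) = 0 := congrArg Subtype.val h1
    exact (sub_eq_zero.1 h2).symm
  have hπφ : ∀ i x, π i (φ i x) = (f.f i).hom x := fun i x => by
    have hfs : (f.f i).hom (S i (e i x)) = 0 := by
      have := fI i _ (hscong i (e i x))
      rwa [map_sub, (hWT i (e i x) : (f.f i).hom (e i x).1 = 0), sub_zero] at this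
    show π i (h i (x - S i (e i x))) = _
    rw [hπh, map_sub, hfs, sub_zero]
  let dP : ∀ i, X i →ₗ[R] X (i + 1) := fun i => φ (i + 1) ∘ₗ (Q.d i (i + 1)).hom ∘ₗ σ i
  have hchain : ∀ i x, dP i (φ i x) = φ (i + 1) ((Q.d i (i + 1)).hom x) := fun i x => by
    show φ (i + 1) ((Q.d i (i + 1)).hom (σ i (φ i x))) = _
    rw [hσφ, map_sub, hS', map_sub, hφs, sub_zero]
  have hdd : ∀ i x, dP (i + 1) (dP i x) = 0 := fun i x => by
    show dP (i + 1) (φ (i + 1) ((Q.d i (i + 1)).hom (σ i x))) = 0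
    rw [hchain, d_apply_d, map_zero]
  let P := ofL X dP hdd
  let p : P ⟶ E :=
    { f := fun i => ModuleCat.ofHom (π i)
      comm' := fun i k hik => by
        change i + 1 = k at hik
        subst hik
        refine ModuleCat.hom_ext (LinearMap.ext fun x => ?_)
        show (E.d i (i + 1)).hom (π i x) = π (i + 1) ((P.d i (i + 1)).hom x)
        rw [show (P.d i (i + 1)).hom x = dP i x from ofL_d X dP hdd i x]
        show _ = π (i + 1) (φ (i + 1) ((Q.d i (i + 1)).hom (σ i x)))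
        rw [hπφ, f_apply_d, ← hπh, hσ] }
  let Φ : Q ⟶ P :=
    { f := fun i => ModuleCat.ofHom (φ i)
      comm' := fun i k hik => by
        change i + 1 = k at hik
        subst hik
        refine ModuleCat.hom_ext (LinearMap.ext fun x => ?_)
        exact (ofL_d X dP hdd i (φ i x)).trans (hchain i x) }
  haveI : QuasiIso Φ := by
    refine ⟨fun i => ?_⟩
    obtain ⟨j, rfl⟩ : ∃ j, i = j + 1 := ⟨i - 1, by omega⟩
    refine quasiIsoAt_of_elements _ _ (fun x hx y hy => ?_) fun (z : X (j + 1)) hz => ?_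
    · obtain ⟨p0, hp0⟩ : (φ (j + 1) x : P.X (j + 1)) ∈ LinearMap.range (P.d j (j + 1)).hom :=
        range_d_congr P (show j = j + 1 - 1 by omega) _ ⟨y, hy⟩
      change X j at p0
      have hp1 : φ (j + 1) x = φ (j + 1) ((Q.d j (j + 1)).hom (σ j p0)) :=
        hp0.symm.trans (ofL_d X dP hdd j p0)
      let x' := x - (Q.d j (j + 1)).hom (σ j p0)
      have hx' : x' = S (j + 1) (e (j + 1) x') := by
        have h0 := hσφ (j + 1) x'
        rw [show φ (j + 1) x' = 0 by simp [x', hp1], map_zero] at h0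
        exact sub_eq_zero.1 h0.symm
      have hv : D (j + 1) (e (j + 1) x') = 0 := by
        rw [← hes (j + 1 + 1) (D (j + 1) (e (j + 1) x')), ← hS', ← hx']
        simp [x', hx, d_apply_d]
      have hv2 := hhom j (e (j + 1) x')
      rw [hv, map_zero, zero_add] at hv2
      have hx2 : x ∈ LinearMap.range (Q.d j (j + 1)).hom :=
        ⟨σ j p0 + S j (H j (e (j + 1) x')), by rw [map_add, hS', hv2, ← hx']; simp [x']⟩
      exact range_d_congr Q (by omega) _ hx2
    · rw [ofL_d] at hz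
      let d0 := (Q.d (j + 1) (j + 1 + 1)).hom (σ (j + 1) z)
      have hd0 : d0 = S (j + 1 + 1) (e (j + 1 + 1) d0) := by
        have h0 := hσφ (j + 1 + 1) d0
        rw [show φ (j + 1 + 1) d0 = 0 from hz, map_zero] at h0
        exact sub_eq_zero.1 h0.symm
      have hv : D (j + 1 + 1) (e (j + 1 + 1) d0) = 0 := by
        rw [← hes (j + 1 + 1 + 1) (D (j + 1 + 1) (e (j + 1 + 1) d0)), ← hS', ← hd0]
        simp [d0, d_apply_d]
      have hv2 := hhom (j + 1) (e (j + 1 + 1) d0)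
      rw [hv, map_zero, zero_add] at hv2
      refine ⟨σ (j + 1) z - S (j + 1) (H (j + 1) (e (j + 1 + 1) d0)), ?_, 0, ?_⟩
      · rw [map_sub, hS', hv2, ← hd0, sub_self]
      · show _ = φ (j + 1) _ - z
        rw [map_zero, map_sub, hφσ, hφs, sub_zero, sub_self]
        rfl
  exact ⟨P, p, hpc, hπ, ⟨@asIso _ _ _ _ ((QA R).map Φ)
    ((DerivedCategory.isIso_Q_map_iff_quasiIso (ModuleCat.{u} R) _).2 inferInstance)⟩⟩

/-- Zero differentials. -/
noncomputable def zc (X : ℤ → ModuleCat.{u} R) : DRing.Cx R := ofL X (fun _ => 0) fun _ _ => rfl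

theorem zc_d (X : ℤ → ModuleCat.{u} R) (i : ℤ) (x : X i) : ((zc X).d i (i + 1)).hom x = 0 :=
  ofL_d X (fun _ => 0) (fun _ _ => rfl) i x

/-- Lifting a bounded above complex through a quasi-isomorphism modulo `I`. -/
theorem exists_lift_cx (hP : LiftClass I Pc)
    (hprod : ∀ X Y : ModuleCat.{u} R, Pc X → Pc Y → Pc (ModuleCat.of R (X × Y)))
    (Q E : DRing.Cx R) (b : ℤ) (hQb : DRing.VanishesAbove Q b) (hEb : DRing.VanishesAbove E b)
    (hQ : ∀ i, Pc (Q.X i))
    (X : ℤ → ModuleCat.{u} R) (π : ∀ i, X i →ₗ[R] E.X i) (hpc : ∀ i, Pc (X i)) (hπ : ∀ i, Red I (π i))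
    (hEI : ∀ i, ∀ x ∈ I • (⊤ : Submodule R (E.X i)), x = 0)
    (f : Q ⟶ E)
    (hS : ∀ j z, (E.d (j + 1) (j + 1 + 1)).hom z = 0 → ∃ (x : Q.X (j + 1)) (e : E.X j),
      (Q.d (j + 1) (j + 1 + 1)).hom x ∈ I • (⊤ : Submodule R (Q.X (j + 1 + 1))) ∧
        (f.f (j + 1)).hom x - z = (E.d j (j + 1)).hom e)
    (hI : ∀ j (x : Q.X (j + 1)),
      (Q.d (j + 1) (j + 1 + 1)).hom x ∈ I • (⊤ : Submodule R (Q.X (j + 1 + 1))) →
      ∀ e : E.X j, (f.f (j + 1)).hom x = (E.d j (j + 1)).hom e →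
        ∃ y : Q.X j, x - (Q.d j (j + 1)).hom y ∈ I • (⊤ : Submodule R (Q.X (j + 1)))) :
    ∃ (P : DRing.Cx R) (p : P ⟶ E), (∀ i, Pc (P.X i)) ∧ (∀ i, Red I (p.f i).hom) ∧
      DRing.VanishesAbove P b ∧ Nonempty ((QA R).obj Q ≅ (QA R).obj P) := by
  let Y : ℤ → ModuleCat.{u} R := fun i => X (i - 1)
  let c : ∀ i, X i →ₗ[R] Y (i + 1) := fun i => ((zc X).XIsoOfEq (show i = i + 1 - 1 by omega)).hom.hom
  have hcb : ∀ i, Function.Bijective (c i) := fun i =>
    (isIso_iff_bijective ((zc X).XIsoOfEq (show i = i + 1 - 1 by omega)).hom).1 inferInstance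
  let G := extnCx (zc Y) (zc X) c fun i x =>
    (zc_d Y (i + 1) (c i x)).trans (by erw [zc_d X i x, map_zero, neg_zero])
  let Q' := extnCx Q G (fun _ => 0) fun i x => by simp
  let pQ : ∀ i, Q'.X i →ₗ[R] Q.X i × (Y i × X i) := fun i => LinearMap.id
  have hGd : ∀ i (v : Y i × X i), ((G.d i (i + 1)).hom v : Y (i + 1) × X (i + 1)) = (c i v.2, 0) := fun i v =>
    (extnCx_d (zc Y) (zc X) c _ i v).trans (Prod.ext
      ((congrArg (fun t => t + c i v.2) (zc_d Y i v.1)).trans (zero_add _)) (zc_d X i v.2))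
  have hd : ∀ i (q : Q'.X i), pQ (i + 1) ((Q'.d i (i + 1)).hom q) =
      ((Q.d i (i + 1)).hom (pQ i q).1, (c i (pQ i q).2.2, 0)) := fun i q =>
    (extnCx_d Q G _ _ i q).trans (Prod.ext (by simp; rfl) (hGd i _))
  have hdπ : ∀ i j (h : i = j) k (a : X i), (E.d j k).hom (π j (((zc X).XIsoOfEq h).hom.hom a)) =
      (E.d i k).hom (π i a) := by
    rintro i _ rfl k a; rfl
  let qp : ∀ i, Q.X i × (Y i × X i) →ₗ[R] Q'.X i := fun i => LinearMap.id
  have hmem : ∀ i (z : Q'.X i), pQ i z ∈ I • (⊤ : Submodule R (Q.X i × (Y i × X i))) →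
      z ∈ I • (⊤ : Submodule R (Q'.X i)) := fun i z h => map_mem_smul_top I (qp i) h
  let F : ∀ i, Q.X i × (Y i × X i) →ₗ[R] E.X i := fun i => (f.f i).hom.coprod
    (((E.d (i - 1) i).hom ∘ₗ π (i - 1)).coprod (π i))
  let f' : Q' ⟶ E :=
    { f := fun i => ModuleCat.ofHom (F i ∘ₗ pQ i)
      comm' := fun i k hik => by
        change i + 1 = k at hik
        subst hik
        refine ModuleCat.hom_ext (LinearMap.ext fun q => ?_)
        show (E.d i (i + 1)).hom (F i (pQ i q)) = F (i + 1) (pQ (i + 1) ((Q'.d i (i + 1)).hom q))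
        rw [hd]
        show (E.d i (i + 1)).hom ((f.f i).hom (pQ i q).1 + ((E.d (i - 1) i).hom (π (i - 1) (pQ i q).2.1) + π i (pQ i q).2.2)) =
          (f.f (i + 1)).hom ((Q.d i (i + 1)).hom (pQ i q).1) + ((E.d (i + 1 - 1) (i + 1)).hom (π (i + 1 - 1) (c i (pQ i q).2.2)) + π (i + 1) 0)
        rw [map_add, map_add, d_apply_d, map_zero, zero_add, add_zero, f_apply_d]
        exact congrArg _ (hdπ i _ _ (i + 1) _).symm }
  have hQ'b : DRing.VanishesAbove Q' (b + 1) := fun i hi => by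
    haveI := ModuleCat.subsingleton_of_isZero (hQb i (by omega))
    haveI : Subsingleton (X i) := hP.subsingleton_of_red (hpc i) (hπ i) (hEb i (by omega))
    haveI : Subsingleton (Y i) := hP.subsingleton_of_red (hpc (i - 1)) (hπ _) (hEb (i - 1) (by omega))
    exact ModuleCat.isZero_of_subsingleton (ModuleCat.of R (Q.X i × (Y i × X i)))
  have hQ'pc : ∀ i, Pc (Q'.X i) := fun i =>
    hprod _ (ModuleCat.of R (Y i × X i)) (hQ i) (hprod _ _ (hpc _) (hpc i))
  let p1 : ∀ i, Q'.X i →ₗ[R] Q.X i := fun i => LinearMap.fst R _ _ ∘ₗ pQ i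
  obtain ⟨P, p, h1, h2, ⟨e⟩⟩ := lift_of_surjective hP Q' E (b + 1) hQ'b hQ'pc X π hpc hπ hEI f'
    (fun i z => by
      obtain ⟨a, rfl⟩ := (hπ i).surj z
      refine ⟨((0, (0, a)) : Q.X i × (Y i × X i)), ?_⟩
      show (f.f i).hom 0 + ((E.d (i - 1) i).hom (π (i - 1) 0) + π i a) = π i a
      simp)
    (fun j z hz => by
      obtain ⟨x, e, hx, he⟩ := hS j z hz
      refine ⟨((x, 0) : Q.X (j + 1) × (Y (j + 1) × X (j + 1))), e, ?_, ?_⟩
      · have h0 : pQ (j + 1 + 1) ((Q'.d (j + 1) (j + 1 + 1)).hom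
            ((x, 0) : Q.X (j + 1) × (Y (j + 1) × X (j + 1)))) =
            ((Q.d (j + 1) (j + 1 + 1)).hom x, 0) := (hd _ _).trans (Prod.ext rfl (Prod.ext (map_zero _) rfl))
        refine hmem _ _ ?_
        erw [h0]
        exact map_mem_smul_top I (LinearMap.inl R (Q.X (j + 1 + 1)) (Y (j + 1 + 1) × X (j + 1 + 1))) hx
      · rw [← he]
        show (f.f (j + 1)).hom x + ((E.d (j + 1 - 1) (j + 1)).hom (π (j + 1 - 1) 0) + π (j + 1) 0) - z = _
        simp)
    (fun j q hq e he => by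
      obtain ⟨x, y1, a, hxy⟩ : ∃ x y1 a, pQ (j + 1) q = (x, (y1, a)) := ⟨_, _, _, rfl⟩
      have hdq := hd (j + 1) q
      rw [hxy] at hdq
      have h1 : (Q.d (j + 1) (j + 1 + 1)).hom x ∈ I • (⊤ : Submodule R (Q.X (j + 1 + 1))) := by
        have := map_mem_smul_top I (p1 (j + 1 + 1)) hq
        rwa [show p1 (j + 1 + 1) _ = _ from congrArg Prod.fst hdq] at this
      have ha : a ∈ I • (⊤ : Submodule R (X (j + 1))) := by
        have h2 := map_mem_smul_top I (LinearMap.fst R _ _ ∘ₗ LinearMap.snd R _ _ ∘ₗ pQ (j + 1 + 1)) hq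
        rw [show (LinearMap.fst R _ _ ∘ₗ LinearMap.snd R _ _ ∘ₗ pQ (j + 1 + 1)) _ = c (j + 1) a from
          congrArg (fun v => v.2.1) hdq] at h2
        have h3 := map_mem_smul_top I (LinearEquiv.ofBijective (c (j + 1)) (hcb _)).symm.toLinearMap h2
        rwa [show (LinearEquiv.ofBijective (c (j + 1)) (hcb _)).symm.toLinearMap (c (j + 1) a) = a from
          (LinearEquiv.ofBijective (c (j + 1)) (hcb _)).symm_apply_apply a] at h3
      obtain ⟨a', ha'⟩ := (hcb j).2 y1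
      have hfx : (f.f (j + 1)).hom x = (E.d j (j + 1)).hom (e - π j a') := by
        have he' : F (j + 1) (pQ (j + 1) q) = (E.d j (j + 1)).hom e := he
        rw [hxy] at he'
        change (f.f (j + 1)).hom x + ((E.d (j + 1 - 1) (j + 1)).hom (π (j + 1 - 1) y1) + π (j + 1) a) = _ at he'
        rw [((hπ (j + 1)).mem a).2 ha, add_zero, ← ha'] at he'
        erw [hdπ] at he'
        rw [map_sub, ← he', add_sub_cancel_right]
      obtain ⟨y, hy⟩ := hI j x h1 _ hfx
      refine ⟨((y, (0, a')) : Q.X j × (Y j × X j)), ?_⟩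
      have hy2 : pQ (j + 1) (q - (Q'.d j (j + 1)).hom ((y, (0, a')) : Q.X j × (Y j × X j))) =
          (x - (Q.d j (j + 1)).hom y, (0, a)) := by
        rw [map_sub, hxy]
        erw [hd]
        show (x - (Q.d j (j + 1)).hom y, (y1 - c j a', a - 0)) = _
        rw [ha', sub_self, sub_zero]
      refine hmem _ _ ?_
      erw [hy2]
      rw [show ((x - (Q.d j (j + 1)).hom y, ((0 : Y (j + 1)), a)) : Q.X (j + 1) × (Y (j + 1) × X (j + 1))) =
        LinearMap.inl R _ _ (x - (Q.d j (j + 1)).hom y) + LinearMap.inr R _ _ (LinearMap.inr R _ _ a) by simp]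
      exact Submodule.add_mem _ (map_mem_smul_top I _ hy)
        (map_mem_smul_top I _ (map_mem_smul_top I _ ha)))
  haveI : QuasiIso (extnInl Q G (fun _ => 0) fun i x => by simp) := by
    refine ⟨fun i => ?_⟩
    obtain ⟨j, rfl⟩ : ∃ j, i = j + 1 := ⟨i - 1, by omega⟩
    refine quasiIsoAt_of_elements _ _ (fun x _ y hy => ?_) fun (z : Q'.X (j + 1)) hz => ?_
    · obtain ⟨y0, hy0⟩ := range_d_congr Q' (show j = j + 1 - 1 by omega) _ ⟨y, hy⟩
      refine range_d_congr Q (show j + 1 - 1 = j by omega) _ ⟨(pQ j y0).1, ?_⟩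
      exact congrArg Prod.fst ((hd j y0).symm.trans (congrArg (pQ (j + 1)) hy0))
    · obtain ⟨x, y1, a, hxy⟩ : ∃ x y1 a, pQ (j + 1) z = (x, (y1, a)) := ⟨_, _, _, rfl⟩
      have hdq := (hd (j + 1) z).symm.trans (congrArg (pQ (j + 1 + 1)) hz)
      rw [hxy, map_zero] at hdq
      have hx : (Q.d (j + 1) (j + 1 + 1)).hom x = 0 := congrArg Prod.fst hdq
      have ha : a = 0 := (hcb (j + 1)).1 ((congrArg (fun v => v.2.1) hdq).trans (map_zero (c (j + 1))).symm)
      obtain ⟨a', ha'⟩ := (hcb j).2 y1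
      refine ⟨x, hx, range_d_congr Q' (show j + 1 - 1 = j by omega) _
        ⟨((0, (0, -a')) : Q.X j × (Y j × X j)), ?_⟩⟩
      show pQ (j + 1) _ = pQ (j + 1) (qp (j + 1) (x, 0) - z)
      refine (hd j _).trans ((Eq.trans ?_ (map_sub (pQ (j + 1)) _ z).symm))
      rw [hxy]
      show ((Q.d j (j + 1)).hom 0, (c j (-a'), (0 : X (j + 1)))) = (x - x, (0 - y1, 0 - a))
      rw [map_zero, map_neg, ha', ha, sub_self, zero_sub, sub_zero]
  refine ⟨P, p, h1, h2, fun i hi => ?_, ⟨(@asIso _ _ _ _ ((QA R).map (extnInl Q G (fun _ => 0) fun i x => by simp))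
    ((DerivedCategory.isIso_Q_map_iff_quasiIso (ModuleCat.{u} R) _).2 inferInstance)) ≪≫ e⟩⟩
  haveI := hP.subsingleton_of_red (h1 i) (h2 i) (hEb i hi)
  exact ModuleCat.isZero_of_subsingleton (P.X i)

end Groth.Agent.DR39
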