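import Groth.Agent.DR39.LiftBC
import Mathlib.RingTheory.Idempotents
import Mathlib.RingTheory.Nakayama
import Mathlib.RingTheory.Finiteness.Nilpotent
import Mathlib.Algebra.Module.StablyFree.Basic

/-! Classes of projective modules along which complexes lift. -/

set_option autoImplicit false
set_option linter.style.haveILetI false
set_option linter.unusedSectionVars false

universe u

open CategoryTheory CategoryTheory.Limits
open scoped TensorProduct

namespace Groth.Agent.DR39

variable {R B : Type u} [CommRing R] [CommRing B] {φ : R →+* B}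

theorem eq_top_of_nilpotent {I : Ideal R} (hI : IsNilpotent I) {M : Type u} [AddCommGroup M] [Module R M]
    (N : Submodule R M) (h : N ⊔ I • (⊤ : Submodule R M) = ⊤) : N = ⊤ := by
  obtain ⟨n, hn⟩ := hI
  rw [eq_top_iff]
  have hk : ∀ k : ℕ, (⊤ : Submodule R M) ≤ N ⊔ I ^ k • ⊤ := by
    intro k
    induction k with
    | zero => simp
    | succ k ih =>
      refine ih.trans (sup_le le_sup_left ?_)
      refine (Submodule.smul_mono le_rfl h.ge).trans ?_
      rw [Submodule.smul_sup, pow_succ, Submodule.mul_smul]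
      exact sup_le (Submodule.smul_le_right.trans le_sup_left) le_sup_right
  simpa [hn] using hk n

theorem le_jacobson_of_nilpotent {I : Ideal R} (hI : IsNilpotent I) : I ≤ Ideal.jacobson ⊥ := by
  obtain ⟨n, hn⟩ := hI
  intro x hx
  rw [Ideal.jacobson, Ideal.mem_sInf]
  rintro J ⟨-, hJ⟩
  refine hJ.isPrime.mem_of_pow_mem n ?_
  have : x ^ n ∈ I ^ n := Ideal.pow_mem_pow hx n
  rw [hn] at this
  rw [(Submodule.mem_bot R).1 this]
  exact J.zero_mem

theorem liftClass_PR {I : Ideal R} (hI : IsNilpotent I) :
    LiftClass I (fun X : ModuleCat.{u} R => Module.Projective R X) where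
  of_iso e h := Module.Projective.of_equiv e.toLinearEquiv
  proj _ h := h
  compl X Y _ h := Module.Projective.of_split (LinearMap.inr R X Y) (LinearMap.snd R X Y) (LinearMap.ext fun _ => rfl)
  surj X Y f _ _ h := LinearMap.range_eq_top.1 (eq_top_of_nilpotent hI _ h)

theorem liftClass_FP {I : Ideal R} (hI : I ≤ Ideal.jacobson ⊥) :
    LiftClass I (fun X : ModuleCat.{u} R => FPp X) where
  of_iso e h := isModClass_FP.of_iso e h
  proj _ h := h.2
  compl X Y _ h := ⟨by
      haveI : Module.Finite R (X × Y) := h.1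
      exact Module.Finite.of_surjective (LinearMap.snd R X Y) fun y => ⟨(0, y), rfl⟩, by
      haveI : Module.Projective R (X × Y) := h.2
      exact Module.Projective.of_split (LinearMap.inr R X Y) (LinearMap.snd R X Y) (LinearMap.ext fun _ => rfl)⟩
  surj X Y f _ hY h := by
    haveI := hY.1
    exact LinearMap.range_eq_top.1 (top_le_iff.1
      (Submodule.le_of_le_smul_of_le_jacobson_bot (I := I) Module.Finite.fg_top hI h.ge))

/-- Finite stably free modules. -/
def SFp (X : ModuleCat.{u} R) : Prop := Module.Finite R X ∧ Module.IsStablyFree R X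

theorem SFp_prod (X Y : ModuleCat.{u} R) (hX : SFp X) (hY : SFp Y) :
    SFp (ModuleCat.of R (X × Y)) := by
  haveI := hX.1; haveI := hY.1; haveI := hX.2; haveI := hY.2
  obtain ⟨N, _, _, _, _, _⟩ := Module.IsStablyFree.exist_free_prod R X
  obtain ⟨N', _, _, _, _, _⟩ := Module.IsStablyFree.exist_free_prod R Y
  haveI : Module.Free R ((X × Y) × (N × N')) :=
    Module.Free.of_equiv (LinearEquiv.prodProdProdComm R X N Y N')
  exact ⟨inferInstanceAs (Module.Finite R (X × Y)), Module.IsStablyFree.of_free_prod R (X × Y) (N × N')⟩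

theorem liftClass_SF {I : Ideal R} (hI : I ≤ Ideal.jacobson ⊥) :
    LiftClass I (fun X : ModuleCat.{u} R => SFp X) where
  of_iso e h := by
    haveI := h.1; haveI := h.2
    exact ⟨Module.Finite.equiv e.toLinearEquiv, Module.IsStablyFree.equiv e.toLinearEquiv⟩
  proj X h := by haveI := h.2; infer_instance
  compl X Y hX h := by
    haveI := hX.1; haveI := hX.2
    haveI : Module.Finite R (X × Y) := h.1
    haveI : Module.IsStablyFree R (X × Y) := h.2
    refine ⟨Module.Finite.of_surjective (LinearMap.snd R X Y) fun y => ⟨(0, y), rfl⟩, ?_⟩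
    obtain ⟨N, _, _, _, _, _⟩ := Module.IsStablyFree.exist_free_prod R X
    obtain ⟨N', _, _, _, _, _⟩ := Module.IsStablyFree.exist_free_prod R (X × Y)
    haveI : Module.Free R (Y × ((X × N) × N')) := Module.Free.of_equiv
      (show (((X × Y) × N') × N) ≃ₗ[R] Y × ((X × N) × N') from
        { toFun := fun p => (p.1.1.2, ((p.1.1.1, p.2), p.1.2))
          invFun := fun q => (((q.2.1.1, q.1), q.2.2), q.2.1.2)
          map_add' := fun _ _ => rfl
          map_smul' := fun _ _ => rfl
          left_inv := fun _ => rfl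
          right_inv := fun _ => rfl })
    exact Module.IsStablyFree.of_free_prod R Y ((X × N) × N')
  surj X Y f _ hY h := by
    haveI := hY.1
    exact LinearMap.range_eq_top.1 (top_le_iff.1
      (Submodule.le_of_le_smul_of_le_jacobson_bot (I := I) Module.Finite.fg_top hI h.ge))

theorem red_of_ker {X : ModuleCat.{u} R} {M : ModuleCat.{u} B} (π : X →ₗ[R] resM φ M)
    (hs : Function.Surjective π) (hk : ∀ x, π x = 0 → x ∈ RingHom.ker φ • (⊤ : Submodule R X)) :
    Red (RingHom.ker φ) π :=
  ⟨hs, fun x => ⟨hk x, fun hx => eq_zero_of_mem_smul_top _ _ (map_mem_smul_top _ π hx)⟩⟩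

theorem finite_of_red {X : ModuleCat.{u} R} {M : ModuleCat.{u} R} {I : Ideal R} (hI : IsNilpotent I)
    {π : X →ₗ[R] M} (hπ : Red I π) [Module.Finite R M] : Module.Finite R X := by
  obtain ⟨n, g, hg⟩ := Module.Finite.exists_fin' R M
  obtain ⟨h, hh⟩ := Module.projective_lifting_property π g hπ.surj
  refine Module.Finite.of_surjective h (LinearMap.range_eq_top.1 (eq_top_of_nilpotent hI _ (eq_top_iff.2 fun x _ => ?_)))
  obtain ⟨y, hy⟩ := hg (π x)
  refine Submodule.mem_sup.2 ⟨h y, ⟨y, rfl⟩, x - h y, (hπ.mem _).1 ?_, by simp⟩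
  rw [map_sub, show π (h y) = g y from LinearMap.congr_fun hh y, hy, sub_self]

theorem finite_resM (hφ : Function.Surjective φ) (M : ModuleCat.{u} B) [Module.Finite B M] :
    Module.Finite R (resM φ M) := by
  letI := φ.toAlgebra
  letI : Module R M := Module.compHom M φ
  haveI : IsScalarTower R B M := ⟨fun a b m => mul_smul (φ a) b m⟩
  haveI : Module.Finite R B := Module.Finite.of_surjective (Algebra.linearMap R B) hφ
  exact (Module.Finite.trans B M : Module.Finite R M)

/-- Finite free modules lift. -/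
theorem exists_red_free (hφ : Function.Surjective φ) (M : ModuleCat.{u} B) {n : ℕ}
    (e : (Fin n → B) ≃ₗ[B] M) :
    ∃ π : (ModuleCat.of R (Fin n → R) : ModuleCat.{u} R) →ₗ[R] resM φ M, Red (RingHom.ker φ) π := by
  let π : (ModuleCat.of R (Fin n → R) : ModuleCat.{u} R) →ₗ[R] resM φ M :=
    { toFun := fun x => (show resM φ M from e fun i => φ ((show Fin n → R from x) i))
      map_add' := fun a b => by
        show e (fun i => φ ((show Fin n → R from a) i + (show Fin n → R from b) i)) = _
        simp only [map_add]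
        exact map_add e _ _
      map_smul' := fun r a => by
        show e (fun i => φ (r * (show Fin n → R from a) i)) = φ r • e (fun i => φ ((show Fin n → R from a) i))
        rw [← map_smul]
        exact congrArg e (funext fun i => map_mul φ _ _) }
  refine ⟨π, red_of_ker π (fun m => ?_) fun x hx => ?_⟩
  · choose g hg using hφ
    exact ⟨fun i => g ((e.symm (show M from m)) i), by
      show e (fun i => φ (g _)) = (show M from m)
      simp [hg]⟩
  · have h0 := e.map_eq_zero_iff.1 hx
    show (show Fin n → R from x) ∈ RingHom.ker φ • (⊤ : Submodule R (Fin n → R))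
    rw [pi_eq_sum_univ (show Fin n → R from x)]
    exact Submodule.sum_mem _ fun i _ =>
      Submodule.smul_mem_smul (congrFun h0 i) Submodule.mem_top

/-- Projective modules lift along surjections with nilpotent kernel. -/
theorem exists_red_projective (hφ : Function.Surjective φ) (hnil : IsNilpotent (RingHom.ker φ))
    (M : ModuleCat.{u} B) [Module.Projective B M] :
    ∃ (X : ModuleCat.{u} R) (π : X →ₗ[R] resM φ M), Module.Projective R X ∧ Red (RingHom.ker φ) π := by
  let I := RingHom.ker φ
  let F : ModuleCat.{u} R := ModuleCat.of R (M →₀ R)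
  let vM : M → resM φ M := fun m => m
  let g : F ⟶ resM φ M := ModuleCat.ofHom (X := (M →₀ R : Type u)) (Y := resM φ M) (Finsupp.linearCombination R (M := (resM φ M : Type u)) vM)
  let q := ModuleCat.ExtendRestrictScalarsAdj.HomEquiv.fromExtendScalars φ g
  have hq : ∀ x, q.hom ((oneL φ F).hom x) = g.hom x := fun x =>
    LinearMap.congr_fun (congrArg ModuleCat.Hom.hom
      ((ModuleCat.ExtendRestrictScalarsAdj.homEquiv φ).apply_symm_apply g)) x
  have hgs : Function.Surjective g.hom := fun m =>
    ⟨(Finsupp.single (show M from m) 1 : M →₀ R), by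
      show Finsupp.linearCombination R (M := (resM φ M : Type u)) vM (Finsupp.single (show M from m) 1) = m
      rw [Finsupp.linearCombination_single, one_smul]⟩
  obtain ⟨s, hs⟩ := Module.projective_lifting_property q.hom LinearMap.id fun m => by
    obtain ⟨x, hx⟩ := hgs m
    exact ⟨(oneL φ F).hom x, (hq x).trans hx⟩
  have hs' : ∀ m, q.hom (s m) = m := LinearMap.congr_fun hs
  let T : F →ₗ[R] resM φ ((ModuleCat.extendScalars.{u, u, u} φ).obj F) :=
    ((ModuleCat.restrictScalars φ).map (q ≫ ModuleCat.ofHom s)).hom ∘ₗ (oneL φ F).hom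
  obtain ⟨f0, hf0⟩ := Module.projective_lifting_property (oneL φ F).hom T (oneL_surjective hφ F)
  have hf0' : ∀ x, (oneL φ F).hom (f0 x) = s (q.hom ((oneL φ F).hom x)) := LinearMap.congr_fun hf0
  let S : Submodule R F := I • ⊤
  let red : Module.End R F →+* Module.End R (F ⧸ S) :=
    { toFun := fun f => Submodule.mapQ S S f fun x hx => map_mem_smul_top I f hx
      map_one' := Submodule.linearMap_qext _ rfl
      map_mul' := fun _ _ => Submodule.linearMap_qext _ rfl
      map_zero' := Submodule.linearMap_qext _ rfl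
      map_add' := fun _ _ => Submodule.linearMap_qext _ rfl }
  have hker : ∀ f ∈ RingHom.ker red, IsNilpotent f := by
    intro f hf
    obtain ⟨n, hn⟩ := hnil
    have hk : ∀ (k : ℕ) (x : F), (f ^ k) x ∈ I ^ k • (⊤ : Submodule R F) := by
      intro k
      induction k with
      | zero => intro x; simp
      | succ k ih =>
        intro x
        rw [pow_succ' f k, Module.End.mul_apply, pow_succ I k, Submodule.mul_smul]
        refine Submodule.smul_induction_on (ih x) (fun c hc y _ => ?_) fun a b ha hb => ?_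
        · rw [map_smul]
          exact Submodule.smul_mem_smul hc ((Submodule.Quotient.mk_eq_zero S).1
            (LinearMap.congr_fun (RingHom.mem_ker.1 hf) (Submodule.Quotient.mk y)))
        · rw [map_add]; exact add_mem ha hb
    refine ⟨n, LinearMap.ext fun x => ?_⟩
    have := hk n x
    rw [show I ^ n = ⊥ from hn, Submodule.bot_smul] at this
    exact this
  have hr := red_oneL hφ F
  have hidem : IsIdempotentElem (red f0) := Submodule.linearMap_qext _ (LinearMap.ext fun x => by
    show Submodule.Quotient.mk (f0 (f0 x)) = Submodule.Quotient.mk (f0 x)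
    rw [Submodule.Quotient.eq]
    refine (hr.mem _).1 ?_
    rw [map_sub, hf0', hf0', hs', sub_self])
  obtain ⟨ε, hε, hεf⟩ := exists_isIdempotentElem_eq_of_ker_isNilpotent red hker (red f0) ⟨f0, rfl⟩ hidem
  have hε' : ∀ x, ε (ε x) = ε x := LinearMap.congr_fun hε
  have hεone : ∀ x, (oneL φ F).hom (ε x) = s (q.hom ((oneL φ F).hom x)) := fun x => by
    rw [← hf0', ← sub_eq_zero, ← map_sub]
    exact (hr.mem _).2 ((Submodule.Quotient.eq S).1 (LinearMap.congr_fun hεf (Submodule.Quotient.mk x)))
  let X : ModuleCat.{u} R := ModuleCat.of R (LinearMap.range ε)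
  let π : X →ₗ[R] resM φ M := g.hom ∘ₗ (LinearMap.range ε).subtype
  have hsplit : ε.rangeRestrict ∘ₗ (LinearMap.range ε).subtype = LinearMap.id := by
    refine LinearMap.ext fun ⟨_, w, rfl⟩ => Subtype.ext (hε' w)
  refine ⟨X, π, Module.Projective.of_split (LinearMap.range ε).subtype ε.rangeRestrict hsplit,
    red_of_ker π (fun m => ?_) ?_⟩
  · obtain ⟨x, rfl⟩ := hgs m
    refine ⟨⟨ε x, x, rfl⟩, ?_⟩
    show g.hom (ε x) = g.hom x
    rw [← hq (ε x), hεone, hs', hq]
  · rintro ⟨_, w, rfl⟩ h
    have h0 : q.hom ((oneL φ F).hom (ε w)) = 0 := (hq (ε w)).trans h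
    have h1 : (oneL φ F).hom (ε w) = 0 := by
      rw [← hε', hεone, h0]
      exact map_zero s
    have h2 := map_mem_smul_top I ε.rangeRestrict ((hr.mem _).1 h1)
    convert h2 using 1
    exact Subtype.ext (hε' w).symm

/-- Finite projective modules with the same reduction are isomorphic. -/
theorem equiv_of_red {I : Ideal R} (hI : I ≤ Ideal.jacobson ⊥) {X Y M N : ModuleCat.{u} R}
    (hX : FPp X) (hY : FPp Y) {π : X →ₗ[R] M} (hπ : Red I π) {ρ : Y →ₗ[R] N} (hρ : Red I ρ)
    (e : M ≃ₗ[R] N) : Nonempty (X ≃ₗ[R] Y) := by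
  haveI := hX.1; haveI := hX.2; haveI := hY.1; haveI := hY.2
  obtain ⟨f, hf⟩ := Module.projective_lifting_property ρ (e.toLinearMap ∘ₗ π) hρ.surj
  obtain ⟨g, hg⟩ := Module.projective_lifting_property π (e.symm.toLinearMap ∘ₗ ρ) hπ.surj
  have hfs : Function.Surjective f := (liftClass_FP hI).surjective hX hY f fun y => by
    obtain ⟨x, hx⟩ := hπ.surj (e.symm (ρ y))
    refine ⟨x, (hρ.mem _).1 ?_⟩
    rw [map_sub, show ρ (f x) = e (π x) from LinearMap.congr_fun hf x, hx, e.apply_symm_apply, sub_self]
  have hgs : Function.Surjective g := (liftClass_FP hI).surjective hY hX g fun x => by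
    obtain ⟨y, hy⟩ := hρ.surj (e (π x))
    refine ⟨y, (hπ.mem _).1 ?_⟩
    rw [map_sub, show π (g y) = e.symm (ρ y) from LinearMap.congr_fun hg y, hy, e.symm_apply_apply, sub_self]
  have : Function.Bijective (g.comp f) :=
    OrzechProperty.bijective_of_surjective_endomorphism _ (hgs.comp hfs)
  exact ⟨LinearEquiv.ofBijective f ⟨fun a b h => this.1 (congrArg g h), hfs⟩⟩

/-- Finite stably free modules lift. -/
theorem exists_red_stablyFree (hφ : Function.Surjective φ) (hI : RingHom.ker φ ≤ Ideal.jacobson ⊥)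
    (M : ModuleCat.{u} B) [Module.Finite B M] [Module.IsStablyFree B M] :
    ∃ (X : ModuleCat.{u} R) (π : X →ₗ[R] resM φ M), SFp X ∧ Red (RingHom.ker φ) π := by
  rcases subsingleton_or_nontrivial B with hB | hB
  · haveI : Subsingleton M := Module.subsingleton B M
    refine ⟨ModuleCat.of R PUnit.{u+1}, 0, ⟨inferInstanceAs (Module.Finite R PUnit.{u+1}),
      inferInstanceAs (Module.IsStablyFree R PUnit.{u+1})⟩, red_of_ker 0
      (fun m => ⟨0, (Subsingleton.elim (α := M) _ _)⟩) fun x _ => ?_⟩
    rw [show x = 0 from Subsingleton.elim (α := PUnit) _ _]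
    exact Submodule.zero_mem _
  obtain ⟨N, _, _, _, _, _⟩ := Module.IsStablyFree.exist_free_prod B M
  let eN : N ≃ₗ[B] (Fin _ → B) := (Module.finBasis B N).equivFun
  let eMN : (Fin _ → B) ≃ₗ[B] M × N := (Module.finBasis B (M × N)).equivFun.symm
  set m := Module.finrank B N
  set n := Module.finrank B (M × N)
  obtain ⟨p, hp⟩ := exists_red_free hφ (ModuleCat.of B (M × N)) eMN
  obtain ⟨p', hp'⟩ := exists_red_free hφ (ModuleCat.of B N) eN.symm
  haveI : Module.Projective R (Fin n → R) := inferInstance
  obtain ⟨h, hh⟩ := Module.projective_lifting_property p'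
    (((ModuleCat.restrictScalars φ).map (ModuleCat.ofHom (X := (M × N : Type u)) (Y := N) (LinearMap.snd B M N))).hom ∘ₗ p)
    hp'.surj
  have hh' : ∀ x, p' (h x) = (show M × N from p x).2 := LinearMap.congr_fun hh
  have hhs : Function.Surjective h := (liftClass_FP hI).surjective
    (X := ModuleCat.of R (Fin n → R)) (Y := ModuleCat.of R (Fin m → R))
    ⟨inferInstanceAs (Module.Finite R (Fin n → R)), inferInstanceAs (Module.Projective R (Fin n → R))⟩
    ⟨inferInstanceAs (Module.Finite R (Fin m → R)), inferInstanceAs (Module.Projective R (Fin m → R))⟩ h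
    fun y => by
      obtain ⟨x, hx⟩ := hp.surj ((0, (show N from p' y)) : M × N)
      refine ⟨x, (hp'.mem _).1 ?_⟩
      rw [map_sub, hh', hx]
      exact sub_self (p' y)
  obtain ⟨σ, hσ⟩ := Module.projective_lifting_property h LinearMap.id hhs
  have hσ' : ∀ y, h (σ y) = y := LinearMap.congr_fun hσ
  let X : ModuleCat.{u} R := ModuleCat.of R (LinearMap.ker h)
  let π : X →ₗ[R] resM φ M := ((ModuleCat.restrictScalars φ).map
    (ModuleCat.ofHom (X := (M × N : Type u)) (Y := M) (LinearMap.fst B M N))).hom ∘ₗ p ∘ₗ (LinearMap.ker h).subtype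
  have hr : ∀ x, (LinearMap.id - σ ∘ₗ h : (Fin n → R) →ₗ[R] (Fin n → R)) x ∈ LinearMap.ker h := fun x => by simp [hσ']
  refine ⟨X, π, ⟨?_, ?_⟩, red_of_ker π (fun m0 => ?_) fun x hx => ?_⟩
  · exact Module.Finite.of_surjective (LinearMap.codRestrict (LinearMap.ker h) (LinearMap.id - σ ∘ₗ h) hr)
      fun x => ⟨x.1, Subtype.ext (show x.1 - σ (h x.1) = x.1 by rw [(x.2 : h x.1 = 0), map_zero, sub_zero])⟩
  · let e : (Fin n → R) ≃ₗ[R] LinearMap.ker h × (Fin m → R) :=
      { (LinearMap.codRestrict (LinearMap.ker h) (LinearMap.id - σ ∘ₗ h) hr).prod h with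
        invFun := fun q => q.1.1 + σ q.2
        left_inv := fun x => by simp
        right_inv := fun q => by
          have : h q.1.1 = 0 := q.1.2
          refine Prod.ext (Subtype.ext ?_) ?_ <;> simp [this, hσ'] }
    haveI : Module.Free R (LinearMap.ker h × (Fin m → R)) := Module.Free.of_equiv e
    exact Module.IsStablyFree.of_free_prod R (LinearMap.ker h) (Fin m → R)
  · obtain ⟨x, hx⟩ := hp.surj (((show M from m0), (0 : N)) : M × N)
    have hI' : h x ∈ RingHom.ker φ • (⊤ : Submodule R (Fin m → R)) := (hp'.mem _).1 (by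
      rw [hh', hx]; rfl)
    refine ⟨⟨_, hr x⟩, ?_⟩
    show (show M × N from p ((LinearMap.id - σ ∘ₗ h : (Fin n → R) →ₗ[R] (Fin n → R)) x)).1 = _
    rw [LinearMap.sub_apply, map_sub, LinearMap.id_apply, LinearMap.comp_apply,
      (hp.mem _).2 (map_mem_smul_top _ σ hI'), sub_zero, hx]
  · have h2 : p x.1 = 0 := by
      show (show M × N from p x.1) = 0
      refine Prod.ext hx ?_
      rw [← hh', (x.2 : h x.1 = 0), map_zero]
      rfl
    have h3 := map_mem_smul_top (RingHom.ker φ)
      (LinearMap.codRestrict (LinearMap.ker h) (LinearMap.id - σ ∘ₗ h) hr) ((hp.mem _).1 h2)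
    convert h3 using 1
    exact Subtype.ext (by simp [(x.2 : h x.1 = 0)])

end Groth.Agent.DR39
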