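import Groth.Agent.DR39.FiniteRight

/-! Residue data of the base change of a dualizing complex along a flat map to a local ring. -/

set_option autoImplicit false
set_option linter.style.haveILetI false
set_option linter.unusedSectionVars false
set_option backward.isDefEq.respectTransparency false

universe u

open CategoryTheory CategoryTheory.Limits CategoryTheory.Pretriangulated TensorProduct

attribute [local instance] HasDerivedCategory.standard

namespace Groth.Agent.DR39

/-- the residue datum of `Y` at the ideal `J` in degree `c` -/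
def ResData {L : Type u} [CommRing L] (Y : Dual.D L) (J : Ideal L) (c : ℤ) : Prop :=
  (∀ i : ℤ, i ≠ c → Subsingleton (Dual.inD L (L ⧸ J) ⟶ Y⟦i⟧)) ∧
    Nonempty ((Dual.inD L (L ⧸ J) ⟶ Y⟦c⟧) ≃ₗ[L] (L ⧸ J))

section Comp

variable {A : Type u} [CommRing A] (B C : Type u) [CommRing B] [CommRing C] [Algebra A B] [Algebra A C]
  [Algebra B C] [IsScalarTower A B C] [Module.Flat A B] [Module.Flat B C] [Module.Flat A C]

theorem DF_comp (X : Dual.D A) :
    Nonempty ((DF (extA B C)).obj ((DF (extA A B)).obj X) ≅ (DF (extA A C)).obj X) := by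
  obtain ⟨K, ⟨e⟩⟩ := exists_complex_iso X
  let n : extA A B ⋙ extA B C ≅ extA A C :=
    (ModuleCat.extendScalarsComp (algebraMap A B) (algebraMap B C)).symm ≪≫
      eqToIso (congrArg ModuleCat.extendScalars.{u, u, u} (IsScalarTower.algebraMap_eq A B C).symm)
  let c : ((extA B C).mapHomologicalComplex (ComplexShape.up ℤ)).obj
      (((extA A B).mapHomologicalComplex (ComplexShape.up ℤ)).obj K) ≅
        ((extA A C).mapHomologicalComplex (ComplexShape.up ℤ)).obj K :=
    HomologicalComplex.Hom.isoOfComponents (fun i => n.app (K.X i))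
      (fun i j _ => (n.hom.naturality (K.d i j)).symm)
  exact ⟨(DF (extA B C)).mapIso ((DF (extA A B)).mapIso e.symm ≪≫ DFQ (extA A B) K) ≪≫ DFQ (extA B C) _ ≪≫
    (QA C).mapIso c ≪≫ (DFQ (extA A C) K).symm ≪≫ (DF (extA A C)).mapIso e⟩

end Comp

section Flat

variable {A : Type u} [CommRing A] {ω : Dual.D A}

theorem exists_resData_flat (hω : Dual.IsDualizing A ω) (L : Type u) [CommRing L] [Algebra A L]
    [Module.Flat A L] (p : Ideal A) [p.IsPrime] (hp : ∀ s : A, s ∉ p → IsUnit (algebraMap A L s)) :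
    ∃ d : ℤ, LC17.gAnn ω (ModuleCat.of A (A ⧸ p)) d ≤ p ∧
      ResData ((DF (extA A L)).obj ω) (p.map (algebraMap A L)) d := by
  haveI := hω.isNoetherianRing
  let P := Localization.AtPrime p
  have hP := isDualizing_atPrime hω p
  obtain ⟨a, b, hab, hid⟩ := exists_bounds hω
  have hlow : ∀ i, i < a → IsZero ((HF A i).obj ω) := fun i hi => hab i (Or.inl hi)
  obtain ⟨d, hv, ⟨hd⟩⟩ := ext_residue_single (IsLocalRing.maximalIdeal P) hP
  obtain ⟨eP⟩ := exists_inD_quotient_iso P p
  rw [Localization.AtPrime.map_eq_maximalIdeal] at eP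
  let g : ∀ i, (P ⊗[A] LC17.GM ω (ModuleCat.of A (A ⧸ p)) i) ≃ₗ[P]
      (Dual.inD P (P ⧸ IsLocalRing.maximalIdeal P) ⟶ ((DF (extA A P)).obj ω)⟦i⟧) := fun i =>
    (LinearEquiv.ofBijective (thetaBar P (Dual.inD A (A ⧸ p)) (ω⟦i⟧))
      (good_shift P (pc_inD (A ⧸ p)) hlow i)).trans
      (CategoryTheory.Linear.homCongr P eP (((DF (extA A P)).commShiftIso i).app ω))
  letI : Algebra P L := (IsLocalization.lift (M := p.primeCompl) (g := algebraMap A L)
    (fun s => hp s.1 s.2)).toAlgebra
  haveI : IsScalarTower A P L := IsScalarTower.of_algebraMap_eq fun a =>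
    (IsLocalization.lift_eq (M := p.primeCompl) (fun s : p.primeCompl => hp s.1 s.2) a).symm
  obtain ⟨eL⟩ := exists_inD_quotient_iso L p
  let h : ∀ i, (L ⊗[P] (P ⊗[A] LC17.GM ω (ModuleCat.of A (A ⧸ p)) i)) ≃ₗ[L]
      (Dual.inD L (L ⧸ p.map (algebraMap A L)) ⟶ ((DF (extA A L)).obj ω)⟦i⟧) := fun i =>
    (AlgebraTensorModule.cancelBaseChange A P L L _).trans
    ((LinearEquiv.ofBijective (thetaBar L (Dual.inD A (A ⧸ p)) (ω⟦i⟧))
      (good_shift L (pc_inD (A ⧸ p)) hlow i)).trans
      (CategoryTheory.Linear.homCongr L eL (((DF (extA A L)).commShiftIso i).app ω)))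
  refine ⟨d, ?_, fun i hi => ?_, ⟨?_⟩⟩
  · rw [gAnn_le_iff_nontrivial hω (A ⧸ p) d p]
    refine ((CategoryTheory.Linear.homCongr P eP (Iso.refl (((DF (extA A P)).obj ω)⟦d⟧))).trans hd).toEquiv.nontrivial_congr.2 ?_
    exact Ideal.Quotient.nontrivial_iff.2 (IsLocalRing.maximalIdeal.isMaximal P).ne_top
  · haveI := hv i hi
    haveI : Subsingleton (P ⊗[A] LC17.GM ω (ModuleCat.of A (A ⧸ p)) i) := (g i).toEquiv.subsingleton
    refine @Equiv.subsingleton _ _ (h i).symm.toEquiv (subsingleton_of_forall_eq 0 fun x => ?_)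
    induction x using TensorProduct.induction_on with
    | zero => rfl
    | tmul l y => rw [Subsingleton.elim y 0, tmul_zero]
    | add x y hx hy => rw [hx, hy, add_zero]
  · exact (h d).symm.trans
      ((AlgebraTensorModule.congr (LinearEquiv.refl L L)
        ((g d).trans (hd.trans ((Submodule.quotEquivOfEq _ _ Localization.AtPrime.map_eq_maximalIdeal.symm).trans
          (Algebra.TensorProduct.quotIdealMapEquivTensorQuot P p).toLinearEquiv)))).trans
        ((AlgebraTensorModule.cancelBaseChange A P L L (A ⧸ p)).trans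
          (Algebra.TensorProduct.quotIdealMapEquivTensorQuot L p).toLinearEquiv.symm))

end Flat

section Step

variable {L : Type u} [CommRing L] {Y : Dual.D L} {J : Ideal L} {c : ℤ}

theorem ResData.congr {J' : Ideal L} (h : ResData Y J c) (e : J = J') : ResData Y J' c := e ▸ h

theorem ResData.step (h : ResData Y J c) {x : L} (hx : ∀ y : L, x * y ∈ J → y ∈ J) :
    ResData Y (J ⊔ Ideal.span {x}) (c + 1) := by
  obtain ⟨hv, ⟨e⟩⟩ := h
  let J' := J ⊔ Ideal.span {x}
  let f : (L ⧸ J) →ₗ[L] L ⧸ J := x • LinearMap.id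
  let q : (L ⧸ J) →ₗ[L] L ⧸ J' := Submodule.mapQ J J' LinearMap.id le_sup_left
  have hq : ∀ a : L, q (Ideal.Quotient.mk J a) = Ideal.Quotient.mk J' a := fun a => rfl
  have hfi : Function.Injective f := by
    rw [injective_iff_map_eq_zero]
    intro y hy
    obtain ⟨y, rfl⟩ := Ideal.Quotient.mk_surjective y
    rw [LinearMap.smul_apply, LinearMap.id_apply, ← Ideal.Quotient.mkₐ_eq_mk L, ← map_smul,
      Ideal.Quotient.mkₐ_eq_mk, Ideal.Quotient.eq_zero_iff_mem] at hy
    exact Ideal.Quotient.eq_zero_iff_mem.2 (hx y hy)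
  have hqs : Function.Surjective q := fun y => by
    obtain ⟨y, rfl⟩ := Ideal.Quotient.mk_surjective y
    exact ⟨Ideal.Quotient.mk J y, rfl⟩
  have hexact : Function.Exact f q := by
    intro y
    obtain ⟨y, rfl⟩ := Ideal.Quotient.mk_surjective y
    rw [hq, Ideal.Quotient.eq_zero_iff_mem]
    constructor
    · intro hy
      obtain ⟨j, hj, z, hz, rfl⟩ := Submodule.mem_sup.1 hy
      obtain ⟨r, rfl⟩ := Ideal.mem_span_singleton'.1 hz
      refine ⟨Ideal.Quotient.mk J r, ?_⟩
      show Ideal.Quotient.mk J (x * r) = _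
      rw [map_add, Ideal.Quotient.eq_zero_iff_mem.2 hj, zero_add, mul_comm]
    · rintro ⟨w, hw⟩
      obtain ⟨r, rfl⟩ := Ideal.Quotient.mk_surjective w
      have hw' : Ideal.Quotient.mk J (x * r) = Ideal.Quotient.mk J y := hw
      rw [Ideal.Quotient.eq] at hw'
      rw [show y = x * r - (x * r - y) by ring]
      exact J'.sub_mem (Ideal.mem_sup_right (Ideal.mul_mem_right _ _ (Ideal.mem_span_singleton_self x)))
        (Ideal.mem_sup_left hw')
  have hS := LC17.shortExact_of_exact f q hfi hqs hexact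
  have hxinj : Function.Injective (LC17.pre Y (ModuleCat.ofHom f) c) := fun u v huv => by
    have : LC17.pre Y (ModuleCat.ofHom f) c = x • LinearMap.id :=
      LinearMap.ext fun g => LC17.pre_smul_id Y x c g
    rw [this] at huv
    refine e.injective (hfi ?_)
    show x • e u = x • e v
    rw [← map_smul, ← map_smul]
    exact congrArg e huv
  refine ⟨fun i hi => subsingleton_of_forall_eq 0 fun g => ?_, ?_⟩
  · have h0 : LC17.pre Y (ModuleCat.ofHom q) i g = 0 := by
      by_cases hic : i = c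
      · subst hic
        apply hxinj
        rw [map_zero, LC17.pre_pre, show ModuleCat.ofHom f ≫ ModuleCat.ofHom q = 0 from
          ModuleCat.hom_ext hexact.linearMap_comp_eq_zero]
        show (DerivedCategory.singleFunctor _ 0).map 0 ≫ g = 0
        rw [Functor.map_zero, zero_comp]
      · exact @Subsingleton.elim _ (hv i hic) _ _
    obtain ⟨g', hg'⟩ := LC17.exact₃ Y hS (i - 1) i (by omega) g h0
    haveI := hv (i - 1) (by omega)
    rw [← hg', show g' = 0 from Subsingleton.elim (α := Dual.inD L (L ⧸ J) ⟶ Y⟦i - 1⟧) _ _, map_zero]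
  · let h1 : LC17.GM Y (ModuleCat.of L (L ⧸ J)) c := e.symm 1
    let T : L →ₗ[L] LC17.GM Y (ModuleCat.of L (L ⧸ J')) (c + 1) :=
      LinearMap.toSpanSingleton L _ (LC17.conn Y hS c (c + 1) rfl h1)
    have hgen : ∀ g : LC17.GM Y (ModuleCat.of L (L ⧸ J)) c, ∃ r : L, r • h1 = g := fun g => by
      obtain ⟨r, hr⟩ := Ideal.Quotient.mk_surjective (e g)
      refine ⟨r, e.injective ?_⟩
      rw [map_smul, e.apply_symm_apply, ← hr, Algebra.smul_def, mul_one]
      rfl
    have hTs : Function.Surjective T := fun g => by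
      obtain ⟨g', hg'⟩ := LC17.exact₃ Y hS c (c + 1) rfl g (@Subsingleton.elim _ (hv (c + 1) (by omega)) _ _)
      obtain ⟨r, hr⟩ := hgen g'
      exact ⟨r, by rw [← hg', ← hr, map_smul]; rfl⟩
    have hker : LinearMap.ker T = J' := by
      refine le_antisymm (fun r hr => ?_) (fun r hr => smul_gm_eq_zero J' Y (c + 1) hr _)
      have hr' : LC17.conn Y hS c (c + 1) rfl (r • h1) = 0 := by rw [map_smul]; exact hr
      obtain ⟨g', hg'⟩ := LC17.exact₁ Y hS c (c + 1) rfl (r • h1) hr'
      obtain ⟨r', hr''⟩ := hgen g'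
      have h2 : LC17.pre Y (ModuleCat.ofHom f) c g' = x • g' := LC17.pre_smul_id Y x c g'
      rw [h2, ← hr'', smul_smul] at hg'
      have h3 := congrArg e hg'
      rw [map_smul, map_smul, e.apply_symm_apply, Algebra.smul_def, mul_one, Algebra.smul_def, mul_one,
        Ideal.Quotient.algebraMap_eq, Ideal.Quotient.eq] at h3
      rw [show r = x * r' - (x * r' - r) by ring]
      exact J'.sub_mem (Ideal.mem_sup_right (Ideal.mul_mem_right _ _ (Ideal.mem_span_singleton_self x)))
        (Ideal.mem_sup_left h3)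
    exact ⟨(LinearMap.quotKerEquivOfSurjective T hTs).symm.trans (Submodule.quotEquivOfEq _ _ hker)⟩

end Step

section AtMaximal

variable {B : Type u} [CommRing B] [IsNoetherianRing B]

/-- global criterion from residue data in the local rings -/
theorem isDualizing_of_local_residues {R : Dual.D B} (hfin : ∀ i : ℤ, Module.Finite B (Dual.HD B R i)) {a b : ℤ}
    (hlow : ∀ i, i < a → IsZero ((HF B i).obj R))
    (h : ∀ P : Ideal B, ∀ [P.IsMaximal], ∃ d ≤ b, ResData ((DF (extA B (Localization.AtPrime P))).obj R)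
      (IsLocalRing.maximalIdeal (Localization.AtPrime P)) d) :
    Dual.IsDualizing B R := by
  have hres : ∀ (M : Ideal B), M.IsMaximal → ∀ j, b < j → Subsingleton (Dual.inD B (B ⧸ M) ⟶ R⟦j⟧) := by
    intro M hM j hj
    haveI : Module.Finite B (LC17.GM R (ModuleCat.of B (B ⧸ M)) j) := finite_hom_inD hlow hfin j (B ⧸ M)
    by_contra hne
    obtain ⟨P, hP⟩ := (Module.nonempty_support_iff (R := B) (M := LC17.GM R (ModuleCat.of B (B ⧸ M)) j)).2
      (not_subsingleton_iff_nontrivial.1 hne)
    have hMP : M ≤ P.asIdeal := fun x hx =>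
      Module.mem_support_iff_of_finite.1 hP (Module.mem_annihilator.2 fun f => smul_gm_eq_zero M R j hx f)
    have hPM : P.asIdeal = M := (hM.eq_of_le P.2.ne_top hMP).symm
    subst hPM
    haveI : P.asIdeal.IsMaximal := hM
    let C := Localization.AtPrime P.asIdeal
    obtain ⟨d, hdb, hv, -⟩ := h P.asIdeal
    obtain ⟨e'⟩ := exists_inD_quotient_iso C P.asIdeal
    rw [Localization.AtPrime.map_eq_maximalIdeal] at e'
    haveI hs : Subsingleton ((DF (extA B C)).obj (Dual.inD B (B ⧸ P.asIdeal)) ⟶ (DF (extA B C)).obj (R⟦j⟧)) :=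
      @Equiv.subsingleton _ _ (Iso.homCongr e' (((DF (extA B C)).commShiftIso j).app R)) (hv j (by omega))
    have hg : Good C (Dual.inD B (B ⧸ P.asIdeal)) (R⟦j⟧) := good_shift C (pc_inD (B ⧸ P.asIdeal)) hlow j
    have h2 : Nontrivial (C ⊗[B] (Dual.inD B (B ⧸ P.asIdeal) ⟶ R⟦j⟧)) :=
      (LocalizedModule.equivTensorProduct P.asIdeal.primeCompl
        (LC17.GM R (ModuleCat.of B (B ⧸ P.asIdeal)) j)).toEquiv.nontrivial_congr.1 (Module.mem_support_iff.1 hP)
    exact not_subsingleton _ hg.1.subsingleton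
  have hab : ∀ i, b < i → IsZero ((HF B i).obj R) := fun i hi => isZero_HF_of_ext_ring (X := R) (n := i)
    (subsingleton_gm_iff.2 (gAnn_top_of_residue hlow hfin b
      (fun M hM k hk => (LC17.gAnn_eq_top_iff R).2 fun f => @Subsingleton.elim _ (hres M hM k hk) f 0) B hi))
  refine isDualizing_of_atMaximal hfin (ia_of_residue hlow hfin b hab hres) fun P hP => ?_
  obtain ⟨d, -, hv, hd⟩ := h P
  haveI : IsNoetherianRing (Localization.AtPrime P) := IsLocalization.isNoetherianRing P.primeCompl _ inferInstance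
  refine isDualizing_of_residue _ (fun i => ?_) a (fun i hi => ?_) d hv hd
  · haveI := hfin i
    exact finite_HF_DF (Localization.AtPrime P)
  · obtain ⟨e⟩ := HF_DF (extA B (Localization.AtPrime P)) R i
    exact ((extA B (Localization.AtPrime P)).map_isZero (hlow i hi)).of_iso e

end AtMaximal

end Groth.Agent.DR39
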