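import Groth.Agent.DR39.LocalFibre

/-! Dualizing complexes along flat maps with controlled closed fibres. -/

set_option autoImplicit false
set_option linter.style.haveILetI false
set_option linter.unusedSectionVars false
set_option backward.isDefEq.respectTransparency false

universe u

open CategoryTheory CategoryTheory.Limits CategoryTheory.Pretriangulated TensorProduct

attribute [local instance] HasDerivedCategory.standard

namespace Groth.Agent.DR39

variable {A : Type u} [CommRing A] {ω : Dual.D A} (hω : Dual.IsDualizing A ω)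
  (B : Type u) [CommRing B] [Algebra A B] [Module.Flat A B]

include hω

theorem exists_low_DF : ∃ a : ℤ, ∀ i, i < a → IsZero ((HF B i).obj ((DF (extA A B)).obj ω)) := by
  obtain ⟨a, b, hab, -⟩ := exists_bounds hω
  refine ⟨a, fun i hi => ?_⟩
  obtain ⟨e⟩ := HF_DF (extA A B) ω i
  exact ((extA A B).map_isZero (hab i (Or.inl hi))).of_iso e

theorem finite_DF (i : ℤ) : Module.Finite B (Dual.HD B ((DF (extA A B)).obj ω) i) := by
  haveI := hω.finite_cohomology i
  exact finite_HF_DF B

theorem isDualizing_flat_local [IsLocalRing A] [IsLocalRing B] [IsNoetherianRing B]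
    (hm : (IsLocalRing.maximalIdeal A).map (algebraMap A B) = IsLocalRing.maximalIdeal B) :
    Dual.IsDualizing B ((DF (extA A B)).obj ω) := by
  obtain ⟨a, ha⟩ := exists_low_DF hω B
  obtain ⟨d, -, h⟩ := exists_resData_flat hω B (IsLocalRing.maximalIdeal A)
    (fun s hs => ((IsLocalRing.notMem_maximalIdeal).1 hs).map _)
  obtain ⟨hv, he⟩ := h.congr hm
  exact isDualizing_of_residue _ (finite_DF hω B) a ha d hv he

theorem isNormalized_flat_local [IsLocalRing A] [IsLocalRing B] (hn : Dual.IsNormalized A ω)
    (hm : (IsLocalRing.maximalIdeal A).map (algebraMap A B) = IsLocalRing.maximalIdeal B) :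
    Dual.IsNormalized B ((DF (extA A B)).obj ω) := by
  haveI := hω.isNoetherianRing
  obtain ⟨d, hd, h⟩ := exists_resData_flat hω B (IsLocalRing.maximalIdeal A)
    (fun s hs => ((IsLocalRing.notMem_maximalIdeal).1 hs).map _)
  obtain rfl : d = 0 := by
    by_contra hne
    rw [LC17.gAnn_residue hω hn hne] at hd
    exact (IsLocalRing.maximalIdeal.isMaximal A).ne_top (top_le_iff.1 hd)
  exact (h.congr hm).1

theorem isDualizing_flat_iso_mod [IsNoetherianRing B] (I : Ideal A)
    (hs : Function.Surjective ((Ideal.Quotient.mk (I.map (algebraMap A B))).comp (algebraMap A B)))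
    (hJ : I.map (algebraMap A B) ≤ (⊥ : Ideal B).jacobson) :
    Dual.IsDualizing B ((DF (extA A B)).obj ω) := by
  haveI := hω.isNoetherianRing
  obtain ⟨a, ha⟩ := exists_low_DF hω B
  obtain ⟨a', b, hab, hid⟩ := exists_bounds hω
  refine isDualizing_of_local_residues (finite_DF hω B) (b := b) ha fun P hP => ?_
  have hIP : I.map (algebraMap A B) ≤ P := hJ.trans (sInf_le ⟨bot_le, hP⟩)
  set p : Ideal A := P.comap (algebraMap A B) with hp
  have hpP : p.map (algebraMap A B) = P := by
    refine le_antisymm Ideal.map_comap_le fun x hx => ?_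
    obtain ⟨y, hy⟩ := hs (Ideal.Quotient.mk _ x)
    rw [RingHom.comp_apply, Ideal.Quotient.eq] at hy
    have hyp : y ∈ p := Ideal.mem_comap.2 (by simpa using P.add_mem (hIP hy) hx)
    have hI : I ≤ p := Ideal.map_le_iff_le_comap.1 hIP
    have := (p.map (algebraMap A B)).sub_mem (Ideal.mem_map_of_mem _ hyp) (Ideal.map_mono hI hy)
    simpa using this
  let C := Localization.AtPrime P
  haveI : Module.Flat B C := IsLocalization.flat C P.primeCompl
  haveI : Module.Flat A C := Module.Flat.trans A B C
  obtain ⟨d, hd, hR⟩ := exists_resData_flat hω C p fun s hsp => by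
    rw [IsScalarTower.algebraMap_apply A B C]
    exact IsLocalization.map_units C (⟨algebraMap A B s, hsp⟩ : P.primeCompl)
  have hdb : d ≤ b := by
    by_contra h
    have h0 := subsingleton_gm_iff.1 (hid (A ⧸ p) d (Or.inr (by omega)))
    exact (inferInstance : p.IsPrime).ne_top (top_le_iff.1 (h0 ▸ hd))
  obtain ⟨e⟩ := DF_comp B C ω
  have hmap : p.map (algebraMap A C) = IsLocalRing.maximalIdeal C := by
    rw [IsScalarTower.algebraMap_eq A B C, ← Ideal.map_map, hpP, Localization.AtPrime.map_eq_maximalIdeal]
  obtain ⟨hv, ⟨he⟩⟩ := hR.congr hmap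
  refine ⟨d, hdb, fun i hi => @Equiv.subsingleton _ _
    (Iso.homToEquiv ((CategoryTheory.shiftFunctor (Dual.D C) i).mapIso e)) (hv i hi),
    ⟨(CategoryTheory.Linear.homCongr C (Iso.refl _)
      ((CategoryTheory.shiftFunctor (Dual.D C) d).mapIso e)).trans he⟩⟩

end Groth.Agent.DR39
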