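import Groth.Agent.InjHull18.Torsion
import Groth.Agent.InjHull18.Matlis

/-! The double Matlis dual of a finite module is its completion. -/

set_option autoImplicit false
set_option linter.unusedSectionVars false

universe u

open IsLocalRing

namespace Groth.Agent.DR39

variable {A : Type u} [CommRing A] [IsLocalRing A] [IsNoetherianRing A]
  (N : Type u) [AddCommGroup N] [Module A N] [Module.Finite A N]

theorem nonempty_adicCompletion_equiv_bidual (E : Type u) [AddCommGroup E] [Module A E]
    (f : ResidueField A →ₗ[A] E) (hf : InjHull.IsInjectiveHull f) :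
    Nonempty (AdicCompletion (maximalIdeal A) N ≃ₗ[A] ((N →ₗ[A] E) →ₗ[A] E)) := by
  classical
  set m := maximalIdeal A with hm
  let S : ℕ → Submodule A N := fun n => m ^ n • ⊤
  have hE : LocCoh.IsPowerTorsion m E := InjHull18.hull_isPowerTorsion hf fun x =>
    ⟨1, fun a ha => by
      rw [Algebra.smul_def, IsLocalRing.ResidueField.algebraMap_eq,
        (IsLocalRing.residue_eq_zero_iff a).2 ((pow_one m).le ha), zero_mul]⟩
  have hkill : ∀ φ : N →ₗ[A] E, ∃ n : ℕ, S n ≤ LinearMap.ker φ := fun φ => by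
    obtain ⟨n, hn⟩ := InjHull18.exists_pow_smul_eq_zero (M := LinearMap.range φ)
      (InjHull18.isPowerTorsion_of_injective_map hE (LinearMap.range φ).subtype (Submodule.subtype_injective _))
    refine ⟨n, Submodule.smul_le.2 fun a ha x _ => ?_⟩
    show φ (a • x) = 0
    rw [map_smul]
    exact congrArg Subtype.val (hn a ha ⟨φ x, LinearMap.mem_range_self φ x⟩)
  choose k hk using hkill
  have hfl : ∀ n, IsFiniteLength A (N ⧸ S n) ∧ LocCoh.IsPowerTorsion m (N ⧸ S n) := fun n => by
    have ht : ∀ a ∈ m ^ n, ∀ x : N ⧸ S n, a • x = 0 := fun a ha x => by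
      induction x using Submodule.Quotient.induction_on with
      | H y => exact (Submodule.Quotient.mk_eq_zero _).2 (Submodule.smul_mem_smul ha Submodule.mem_top)
    refine ⟨?_, fun x => ⟨n, fun a ha => ht a ha x⟩⟩
    obtain ⟨r, g, hg⟩ := Module.Finite.exists_fin' A N
    have h1 : IsFiniteLength A (Fin r → A ⧸ m ^ n) := by
      rw [isFiniteLength_iff_isNoetherian_isArtinian]
      obtain ⟨h1, h2⟩ := isFiniteLength_iff_isNoetherian_isArtinian.1
        (InjHull18.isFiniteLength_quotient_pow (R := A) (m := maximalIdeal A) n)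
      exact ⟨inferInstance, inferInstance⟩
    let p := (Submodule.mkQ (S n)).comp g
    have hp : ∀ v : Fin r → A, (∀ i, v i ∈ m ^ n) → p v = 0 := fun v hv => by
      rw [← (Pi.basisFun A (Fin r)).sum_repr v, map_sum]
      exact Finset.sum_eq_zero fun i _ => by
        rw [Pi.basisFun_repr, map_smul, ht _ (hv i)]
    let π : (Fin r → A) →ₗ[A] Fin r → A ⧸ m ^ n := LinearMap.pi fun i => (Submodule.mkQ _).comp (LinearMap.proj i)
    have hπ : Function.Surjective π := fun v => by
      choose w hw using fun i => Submodule.Quotient.mk_surjective _ (v i)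
      exact ⟨w, funext hw⟩
    have hle : LinearMap.ker π ≤ LinearMap.ker p := fun v hv => hp v fun i =>
      (Submodule.Quotient.mk_eq_zero _).1 (congrFun hv i)
    let q := (Submodule.liftQ _ p hle).comp (LinearMap.quotKerEquivOfSurjective π hπ).symm.toLinearMap
    refine h1.of_surjective (f := q) fun x => ?_
    obtain ⟨y, rfl⟩ := Submodule.Quotient.mk_surjective _ x
    obtain ⟨v, rfl⟩ := hg y
    refine ⟨π v, ?_⟩
    show Submodule.liftQ _ p hle ((LinearMap.quotKerEquivOfSurjective π hπ).symm (π v)) = _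
    rw [show (LinearMap.quotKerEquivOfSurjective π hπ).symm (π v) = Submodule.Quotient.mk v from
      (LinearEquiv.symm_apply_eq _).2 rfl]
    rfl
  let α := fun n => LinearEquiv.ofBijective (LinearMap.applyₗ : (N ⧸ S n) →ₗ[A] ((N ⧸ S n) →ₗ[A] E) →ₗ[A] E)
    (InjHull18.applyₗ_bijective hf (hfl n).1 (hfl n).2)
  let β : ∀ n, ((N →ₗ[A] E) →ₗ[A] E) →ₗ[A] (N ⧸ S n) := fun n =>
    (α n).symm.toLinearMap.comp (LinearMap.lcomp A E (LinearMap.lcomp A E (Submodule.mkQ (S n))))
  have hβ : ∀ n g (φ : (N ⧸ S n) →ₗ[A] E), φ (β n g) = g (φ.comp (Submodule.mkQ (S n))) := fun n g φ =>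
    LinearMap.congr_fun ((α n).apply_symm_apply _) φ
  let Θ : ((N →ₗ[A] E) →ₗ[A] E) →ₗ[A] AdicCompletion m N :=
    { toFun := fun g => ⟨fun n => β n g, fun {i n} h => by
        refine (InjHull18.applyₗ_bijective hf (hfl i).1 (hfl i).2).1 (LinearMap.ext fun φ => ?_)
        show φ (AdicCompletion.transitionMap m N h (β n g)) = φ (β i g)
        rw [hβ i g φ]
        refine (hβ n g (φ.comp (AdicCompletion.transitionMap m N h))).trans (congrArg g ?_)
        exact LinearMap.ext fun x => rfl⟩
      map_add' := fun g g' => AdicCompletion.ext fun n => map_add (β n) g g'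
      map_smul' := fun c g => AdicCompletion.ext fun n => map_smul (β n) c g }
  have key : ∀ (φ : N →ₗ[A] E) n (h : S n ≤ LinearMap.ker φ) g,
      (Submodule.liftQ (S n) φ h) (β n g) = g φ := fun φ n h g => by
    rw [hβ, Submodule.liftQ_mkQ]
  have hinj : Function.Injective Θ := fun g g' hgg => LinearMap.ext fun φ => by
    rw [← key φ _ (hk φ) g, ← key φ _ (hk φ) g']
    exact congrArg (Submodule.liftQ (S (k φ)) φ (hk φ)) (congrArg (fun z => z.1 (k φ)) hgg)
  have hsurj : Function.Surjective Θ := fun x => by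
    have ind : ∀ (φ : N →ₗ[A] E) n l (_ : n ≤ l) (h : S n ≤ LinearMap.ker φ) (h' : S l ≤ LinearMap.ker φ),
        Submodule.liftQ (S l) φ h' (x.1 l) = Submodule.liftQ (S n) φ h (x.1 n) := fun φ n l hnl h h' => by
      rw [← x.2 hnl]
      obtain ⟨y, hy⟩ := Submodule.Quotient.mk_surjective _ (x.1 l)
      rw [← hy]
      rfl
    have mono : ∀ {n l : ℕ}, n ≤ l → S l ≤ S n := fun h => Submodule.smul_mono_left (Ideal.pow_le_pow_right h)
    let v : (N →ₗ[A] E) → E := fun φ => Submodule.liftQ (S (k φ)) φ (hk φ) (x.1 (k φ))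
    have hv : ∀ φ n (h : S n ≤ LinearMap.ker φ), v φ = Submodule.liftQ (S n) φ h (x.1 n) := fun φ n h =>
      ((ind φ (k φ) (max (k φ) n) (le_max_left _ _) (hk φ) ((mono (le_max_left _ _)).trans (hk φ))).symm).trans
        (ind φ n (max (k φ) n) (le_max_right _ _) h ((mono (le_max_left _ _)).trans (hk φ)))
    let g : (N →ₗ[A] E) →ₗ[A] E :=
      { toFun := v
        map_add' := fun φ ψ => by
          have h1 := (mono (le_max_left (k φ) (k ψ))).trans (hk φ)
          have h2 := (mono (le_max_right (k φ) (k ψ))).trans (hk ψ)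
          have h3 : S (max (k φ) (k ψ)) ≤ LinearMap.ker (φ + ψ) := fun z hz => by
            show φ z + ψ z = 0
            rw [show φ z = 0 from h1 hz, show ψ z = 0 from h2 hz, add_zero]
          rw [hv _ _ h1, hv _ _ h2, hv _ _ h3]
          obtain ⟨y, hy⟩ := Submodule.Quotient.mk_surjective _ (x.1 (max (k φ) (k ψ)))
          rw [← hy]; rfl
        map_smul' := fun c φ => by
          have h3 : S (k φ) ≤ LinearMap.ker (c • φ) := fun z hz => by
            show c • φ z = 0
            rw [show φ z = 0 from hk φ hz, smul_zero]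
          rw [hv _ _ h3, hv _ _ (hk φ)]
          obtain ⟨y, hy⟩ := Submodule.Quotient.mk_surjective _ (x.1 (k φ))
          rw [← hy]; rfl }
    refine ⟨g, AdicCompletion.ext fun n => (InjHull18.applyₗ_bijective hf (hfl n).1 (hfl n).2).1
      (LinearMap.ext fun φ => ?_)⟩
    show φ (β n g) = φ (x.1 n)
    have h : S n ≤ LinearMap.ker (φ.comp (Submodule.mkQ (S n))) := fun z hz => by
      show φ (Submodule.Quotient.mk z) = 0
      rw [(Submodule.Quotient.mk_eq_zero _).2 hz, map_zero]
    rw [hβ]
    show v _ = _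
    rw [hv _ n h]
    obtain ⟨y, hy⟩ := Submodule.Quotient.mk_surjective _ (x.1 n)
    rw [← hy]; rfl
  exact ⟨(LinearEquiv.ofBijective Θ ⟨hinj, hsurj⟩).symm⟩

end Groth.Agent.DR39
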