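import Groth.Agent.DR39.LiftClass
import Groth.Agent.DR39.Restrict
import Groth.Agent.DR39.TA
import Groth.Agent.DR39.Resolution

/-! Descent along surjections with nilpotent kernel. -/

set_option autoImplicit false
set_option linter.style.haveILetI false
set_option linter.unusedSectionVars false

universe u

open CategoryTheory CategoryTheory.Limits CategoryTheory.Pretriangulated
open scoped TensorProduct

attribute [local instance] HasDerivedCategory.standard

namespace Groth.Agent.DR39

variable {R B : Type u} [CommRing R] [CommRing B]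

theorem exT_extA [Algebra R B] (F : DRing.Cx R) (i : ℤ) (M : Type u) [AddCommGroup M] [Module R M]
    [Module B M] [IsScalarTower R B M]
    (h : Function.Exact (((F.d (i - 1) i).hom.baseChange B).rTensor M) (((F.d i (i + 1)).hom.baseChange B).rTensor M)) :
    ExT F (ModuleCat.of R M) i := by
  rw [exT_iff_exact]
  refine (Function.Exact.iff_of_ladder_addEquiv (e₁ := cancelX (B := B) (F.X (i - 1)) M)
    (e₂ := cancelX (B := B) (F.X i) M) (e₃ := cancelX (B := B) (F.X (i + 1)) M)
    (f₁₂ := (((F.d (i - 1) i).hom.baseChange B).lTensor M).toAddMonoidHom)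
    (f₂₃ := (((F.d i (i + 1)).hom.baseChange B).lTensor M).toAddMonoidHom)
    (g₁₂ := ((F.d (i - 1) i).hom.rTensor M).toAddMonoidHom)
    (g₂₃ := ((F.d i (i + 1)).hom.rTensor M).toAddMonoidHom) (cancelX_natural _ M) (cancelX_natural _ M)).2 ?_
  exact (LinearMap.rTensor_exact_iff_lTensor_exact _).1 h

theorem exT_of_ext (φ : R →+* B) (P : DRing.Cx R) (i : ℤ) (N : ModuleCat.{u} B)
    (h : ExT (extCx φ P) N i) : ExT P (resM φ N) i := by
  letI := φ.toAlgebra
  letI : Module R N := Module.compHom N φ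
  haveI : IsScalarTower R B N := ⟨fun a b m => mul_smul (φ a) b m⟩
  exact exT_extA (B := B) P i N ((exT_iff_exact (extCx φ P) N i).1 h)

theorem exT_killed {φ : R →+* B} (hφ : Function.Surjective φ) (P : DRing.Cx R) (i : ℤ)
    (h : ∀ N : ModuleCat.{u} B, ExT (extCx φ P) N i) (M : Type u) [AddCommGroup M] [Module R M]
    (hM : ∀ r ∈ RingHom.ker φ, ∀ m : M, r • m = 0) : ExT P (ModuleCat.of R M) i := by
  letI : Module (R ⧸ RingHom.ker φ) M :=
    (show Module.IsTorsionBySet R M (RingHom.ker φ : Set R) from fun a c => hM c c.2 a).module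
  letI : Module B M := Module.compHom M (RingHom.quotientKerEquivOfSurjective hφ).symm.toRingHom
  letI := φ.toAlgebra
  haveI : IsScalarTower R B M := ⟨fun r b m => by
    show (RingHom.quotientKerEquivOfSurjective hφ).symm (φ r * b) • m =
      r • ((RingHom.quotientKerEquivOfSurjective hφ).symm b • m)
    rw [map_mul, mul_smul,
      show (RingHom.quotientKerEquivOfSurjective hφ).symm (φ r) = Ideal.Quotient.mk _ r from
        (RingEquiv.symm_apply_eq _).2 (RingHom.quotientKerEquivOfSurjective_apply_mk hφ r).symm]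
    rfl⟩
  exact exT_extA (B := B) P i M ((exT_iff_exact (extCx φ P) (ModuleCat.of B M) i).1 (h _))

theorem exT_of_nilpotent {φ : R →+* B} (hφ : Function.Surjective φ) (hnil : IsNilpotent (RingHom.ker φ))
    (P : DRing.Cx R) (hP : ∀ j, Module.Flat R (P.X j)) (i : ℤ)
    (h : ∀ N : ModuleCat.{u} B, ExT (extCx φ P) N i) (M : ModuleCat.{u} R) : ExT P M i := by
  obtain ⟨n, hn⟩ := hnil
  set I := RingHom.ker φ
  suffices key : ∀ (k : ℕ) (M : Type u) [AddCommGroup M] [Module R M],
      (∀ r ∈ I ^ k, ∀ m : M, r • m = 0) → ExT P (ModuleCat.of R M) i from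
    key n M fun r hr m => by
      rw [show I ^ n = ⊥ from hn, Ideal.mem_bot] at hr
      rw [hr, zero_smul]
  intro k
  induction k with
  | zero =>
    intro M _ _ hM
    refine exT_killed hφ P i h M fun r hr m => hM r (by simp) m
  | succ k ih =>
    intro M _ _ hM
    let N : Submodule R M := I • ⊤
    have hN : ExT P (ModuleCat.of R N) i := ih N fun r hr x => Subtype.ext <| by
      show r • (x : M) = 0
      refine Submodule.smul_induction_on x.2 (fun s hs m _ => ?_) fun a b ha hb => by rw [smul_add, ha, hb, add_zero]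
      rw [smul_smul]
      exact hM _ (by rw [pow_succ]; exact Ideal.mul_mem_mul hr hs) m
    have hQ : ExT P (ModuleCat.of R (M ⧸ N)) i := exT_killed hφ P i h (M ⧸ N) fun r hr q => by
      obtain ⟨m, rfl⟩ := Submodule.mkQ_surjective N q
      rw [← map_smul]
      exact (Submodule.Quotient.mk_eq_zero N).2 (Submodule.smul_mem_smul hr Submodule.mem_top)
    have hex : Function.Exact N.subtype N.mkQ := LinearMap.exact_subtype_mkQ N
    intro x hx
    change P.X i ⊗[R] M at x
    obtain ⟨y', hy'⟩ := hQ (N.mkQ.lTensor (P.X i) x) (by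
      show (P.d i (i + 1)).hom.rTensor (M ⧸ N) _ = 0
      rw [← LinearMap.comp_apply, LinearMap.rTensor_comp_lTensor, ← LinearMap.lTensor_comp_rTensor,
        LinearMap.comp_apply]
      erw [hx, map_zero])
    obtain ⟨y, rfl⟩ := LinearMap.lTensor_surjective (P.X (i - 1)) N.mkQ_surjective y'
    have h0 : N.mkQ.lTensor (P.X i) (x - (P.d (i - 1) i).hom.rTensor M y) = 0 := by
      rw [map_sub, sub_eq_zero, ← LinearMap.comp_apply (N.mkQ.lTensor (P.X i)),
        LinearMap.lTensor_comp_rTensor, ← LinearMap.rTensor_comp_lTensor, LinearMap.comp_apply]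
      exact hy'.symm
    obtain ⟨z, hz⟩ := (lTensor_exact (P.X i) hex N.mkQ_surjective _).1 h0
    haveI := hP (i + 1)
    have hdz : (P.d i (i + 1)).hom.rTensor N z = 0 := by
      apply Module.Flat.lTensor_preserves_injective_linearMap (M := P.X (i + 1)) N.subtype Subtype.val_injective
      rw [map_zero, ← LinearMap.comp_apply, LinearMap.lTensor_comp_rTensor,
        ← LinearMap.rTensor_comp_lTensor, LinearMap.comp_apply, hz, map_sub]
      erw [hx]
      rw [← LinearMap.comp_apply, ← LinearMap.rTensor_comp, ← ModuleCat.hom_comp, P.d_comp_d]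
      simp
    obtain ⟨w, hw⟩ := hN z hdz
    refine ⟨y + N.subtype.lTensor (P.X (i - 1)) w, ?_⟩
    have e1 : (P.d (i - 1) i).hom.rTensor M (N.subtype.lTensor (P.X (i - 1)) w) = N.subtype.lTensor (P.X i) z := by
      rw [← hw, ← LinearMap.comp_apply, LinearMap.rTensor_comp_lTensor, ← LinearMap.lTensor_comp_rTensor]
      rfl
    show (P.d (i - 1) i).hom.rTensor M _ = x
    rw [map_add, e1, hz]
    exact add_sub_cancel _ _

theorem acyc_of_LBaseChange {φ : R →+* B} (hφ : Function.Surjective φ) (hnil : IsNilpotent (RingHom.ker φ))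
    [DRing.HasLBaseChange φ] {K : Dual.D R} {b : ℤ} (h : Acyc (b + 1) ((DRing.LBaseChange φ).obj K)) :
    Acyc (b + 1) K := by
  obtain ⟨K0, ⟨e⟩⟩ := exists_complex_iso K
  haveI := SF.isKProjective_res K0
  haveI : IsIso ((QA R).map (SF.aug K0)) :=
    (DerivedCategory.isIso_Q_map_iff_quasiIso (ModuleCat.{u} R) _).2 inferInstance
  let eP : (QA R).obj (SF.res K0) ≅ K := asIso ((QA R).map (SF.aug K0)) ≪≫ e
  have hk : DRing.IsKFlat R (SF.res K0) := isKFlat_of_isKProjective
  let eX := (LBaseChangeIso φ (SF.res K0) hk).symm ≪≫ (DRing.LBaseChange φ).mapIso eP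
  obtain ⟨F, hFv, hF, ⟨f⟩⟩ := rep_free_of_acyc h
  have hFk : DRing.IsKFlat B F := isKFlat_of_rep (fun M => flat_of_FR) hFv hF
  intro i hi
  refine IsZero.of_iso ((isZero_HF_Q_iff (SF.res K0) i).2 ((exT_self_iff _ i).1
    (exT_of_nilpotent hφ hnil (SF.res K0)
      (fun j => haveI := SF.free_res K0 j; Module.Flat.of_free) i (fun N => ?_) _))) ((HF R i).mapIso eP).symm
  rw [← isZero_tensorCx_iff]
  obtain ⟨t⟩ := tensor_iso hFk (isKFlat_extendScalars φ (SF.res K0) hk) (f ≪≫ eX.symm) N i
  refine IsZero.of_iso ?_ t.symm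
  rw [isZero_tensorCx_iff]
  haveI := ModuleCat.subsingleton_of_isZero (hFv i fun hm => absurd (Set.mem_Iic.1 hm) (by omega))
  intro x _
  exact ⟨0, Subsingleton.elim _ _⟩

theorem ta_of_LBaseChange {φ : R →+* B} (hφ : Function.Surjective φ) (hnil : IsNilpotent (RingHom.ker φ))
    [DRing.HasLBaseChange φ] {K : Dual.D R} {a b : ℤ} (h : TA a b ((DRing.LBaseChange φ).obj K)) :
    TA a b K := by
  have hb := acyc_of_LBaseChange hφ hnil h.acyc
  obtain ⟨F, hFv, hF, ⟨f⟩⟩ := rep_free_of_acyc hb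
  have hFk : DRing.IsKFlat R F := isKFlat_of_rep (fun M => flat_of_FR) hFv hF
  refine (ta_iff a b F hFk f).2 ⟨hb, fun M i hi => (isZero_tensorCx_iff F M i).2 ?_⟩
  exact exT_of_nilpotent hφ hnil F (fun j => flat_of_FR (hF j)) i
    (fun N => exT_of_lowEx (h.lowEx (isKFlat_extendScalars φ F hFk)
      ((LBaseChangeIso φ F hFk).symm ≪≫ (DRing.LBaseChange φ).mapIso f)) N hi) M

/-- Projective representatives lift. -/
theorem exists_projective_lift_rep {φ : R →+* B} (hφ : Function.Surjective φ)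
    (hnil : IsNilpotent (RingHom.ker φ)) [DRing.HasLBaseChange φ] (K : Dual.D R)
    (E : DRing.Cx B) (b : ℤ) (hEb : DRing.VanishesAbove E b) (hEp : ∀ i, Module.Projective B (E.X i))
    (hE : Nonempty (DRing.toD E ≅ (DRing.LBaseChange φ).obj K)) :
    ∃ P : DRing.Cx R, DRing.VanishesAbove P b ∧ (∀ i, Module.Projective R (P.X i)) ∧
      Nonempty (DRing.toD P ≅ K) ∧ Nonempty (extCx φ P ≅ E) := by
  obtain ⟨eE⟩ := hE
  have hK : Acyc (b + 1) K := acyc_of_LBaseChange hφ hnil fun i hi =>
    IsZero.of_iso ((isZero_HF_Q_iff E i).2 ((isZero_homology_iff E i).2 fun x _ => by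
      haveI := ModuleCat.subsingleton_of_isZero (hEb i (by omega))
      exact ⟨0, Subsingleton.elim _ _⟩)) ((HF B i).mapIso eE).symm
  obtain ⟨Q, hQv, hQ, ⟨eQ⟩⟩ := rep_free_of_acyc hK
  choose X π hX hπ using fun i => haveI := hEp i; exists_red_projective hφ hnil (E.X i)
  exact exists_lift_rep' hφ (Pc := fun X : ModuleCat.{u} R => Module.Projective R X) (liftClass_PR hnil)
    (fun A C hA hC => by haveI : Module.Projective R A := hA; haveI : Module.Projective R C := hC
                         exact (inferInstance : Module.Projective R (A × C)))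
    K ⟨Q, b, (vanishesAbove_iff Q b).2 hQv, fun i => proj_of_FR (hQ i), ⟨eQ⟩⟩
    E b hEb X hX π hπ ⟨eE⟩

theorem red_of_extIso {φ : R →+* B} (hφ : Function.Surjective φ) {P : DRing.Cx R} {E : DRing.Cx B}
    (e : extCx φ P ≅ E) (i : ℤ) : ∃ π : P.X i →ₗ[R] resM φ (E.X i), Red (RingHom.ker φ) π := by
  let g := (ModuleCat.restrictScalars φ).map ((HomologicalComplex.eval _ _ i).map e.hom)
  have hg : Function.Bijective g.hom := (isIso_iff_bijective g).1 inferInstance
  refine ⟨g.hom ∘ₗ (oneL φ (P.X i)).hom, hg.2.comp (oneL_surjective hφ _), fun x => ?_⟩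
  rw [← (red_oneL hφ (P.X i)).mem x, LinearMap.comp_apply]
  exact map_eq_zero_iff g.hom hg.1

theorem rep_FP_of_LBaseChange {φ : R →+* B} (hφ : Function.Surjective φ)
    (hnil : IsNilpotent (RingHom.ker φ)) [DRing.HasLBaseChange φ] {K : Dual.D R} {b : ℤ}
    (E : DRing.Cx B) (hEb : DRing.VanishesAbove E b) (hE : ∀ i, FPp (E.X i))
    (e : DRing.toD E ≅ (DRing.LBaseChange φ).obj K) :
    ∃ P : DRing.Cx R, (∀ i, IsZero (E.X i) → IsZero (P.X i)) ∧ (∀ i, FPp (P.X i)) ∧
      Nonempty (DRing.toD P ≅ K) := by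
  obtain ⟨P, -, hPp, hPK, ⟨eP⟩⟩ :=
    exists_projective_lift_rep hφ hnil K E b hEb (fun i => (hE i).2) ⟨e⟩
  refine ⟨P, fun i hi => ?_, fun i => ?_, hPK⟩
  all_goals obtain ⟨π, hπ⟩ := red_of_extIso hφ eP i
  · haveI := (liftClass_PR hnil).subsingleton_of_red (hPp i) hπ
      ((ModuleCat.restrictScalars φ).map_isZero hi)
    exact ModuleCat.isZero_of_subsingleton (P.X i)
  · haveI := (hE i).1
    haveI := finite_resM hφ (E.X i)
    exact ⟨finite_of_red hnil hπ, hPp i⟩

end Groth.Agent.DR39
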