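/- helper39: flat base change of the finite relative dualizing module and of the different. -/
import Groth.Prelude.Def_QFDual
import Mathlib.Algebra.Module.FinitePresentation
import Mathlib.RingTheory.Flat.Stability

set_option autoImplicit false
universe u

open TensorProduct

namespace DR39.OmegaBC

section Dual

variable {R : Type u} [CommRing R] {S : Type u} [CommRing S] [Algebra R S]
  {V W : Type u} [AddCommGroup V] [Module R V] [AddCommGroup W] [Module R W] [Module S W]
  [IsScalarTower R S W] {j : V →ₗ[R] W}

/-- the dual of a finitely presented module commutes with flat base change -/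
theorem isBaseChange_toDual [Module.Flat R S] [Module.FinitePresentation R V]
    (ibc : IsBaseChange S j) : IsBaseChange S ibc.toDual := by
  have h := Module.FinitePresentation.isBaseChange_map R V R S
  refine IsBaseChange.of_equiv
    (h.equiv ≪≫ₗ ibc.equiv.arrowCongr (AlgebraTensorModule.rid R S S)) fun f => ?_
  apply ibc.algHom_ext
  intro v
  rw [ibc.toDual_comp_apply]
  simp [IsBaseChange.equiv_tmul, LinearEquiv.arrowCongr_apply, IsBaseChange.equiv_symm_apply,
    Algebra.algebraMap_eq_smul_one]

end Dual

section Omega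

variable {A : Type u} {B' : Type u} {A₁ : Type u} {B'₁ : Type u}
  [CommRing A] [CommRing B'] [CommRing A₁] [CommRing B'₁]
  [Algebra A B'] [Algebra A A₁] [Algebra B' B'₁] [Algebra A₁ B'₁] [Algebra A B'₁]
  [IsScalarTower A A₁ B'₁] [IsScalarTower A B' B'₁]

/-- B' acts on the forms of the base change through B' → B'₁ -/
noncomputable local instance : Module B' (Disc.Omega A₁ B'₁) :=
  Module.compHom _ (algebraMap B' B'₁)

local instance : IsScalarTower B' B'₁ (Disc.Omega A₁ B'₁) :=
  IsScalarTower.of_algebraMap_smul fun _ _ => rfl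

/-- the base change map on forms, extended B'₁-linearly -/
noncomputable def liftBC (h : Algebra.IsPushout A A₁ B' B'₁) :
    B'₁ ⊗[B'] Disc.Omega A B' →ₗ[B'₁] Disc.Omega A₁ B'₁ :=
  TensorProduct.AlgebraTensorModule.lift
    { toFun := fun s =>
        { toFun := fun φ => s • QFDual.bcFin h φ
          map_add' := fun φ ψ => by simp [smul_add]
          map_smul' := fun b φ => by
            rw [LinearMap.map_smulₛₗ, RingHom.id_apply, algebraMap_smul, smul_comm] }
      map_add' := fun s t => by ext φ; simp [add_smul, mul_add, add_mul]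
      map_smul' := fun c s => by ext φ; simp [mul_assoc, mul_left_comm] }

@[simp] theorem liftBC_tmul (h : Algebra.IsPushout A A₁ B' B'₁) (s : B'₁) (φ : Disc.Omega A B') :
    liftBC h (s ⊗ₜ[B'] φ) = s • QFDual.bcFin h φ := rfl

theorem liftBC_bijective (h : Algebra.IsPushout A A₁ B' B'₁) [Module.Flat A A₁]
    [Module.FinitePresentation A B'] : Function.Bijective (liftBC h) := by
  letI modA : Module A (Disc.Omega A B') := Module.compHom _ (algebraMap A B')
  haveI : IsScalarTower A B' (Disc.Omega A B') :=
    IsScalarTower.of_algebraMap_smul fun _ _ => rfl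
  letI modA₁ : Module A₁ (Disc.Omega A₁ B'₁) := Module.compHom _ (algebraMap A₁ B'₁)
  have hd : IsBaseChange A₁ h.out.toDual := isBaseChange_toDual h.out
  let e₁ : (Disc.Omega A B') ≃ₗ[A] (B' →ₗ[A] A) :=
    { toFun := Disc.Omega.toLinearMap
      invFun := Disc.Omega.mk
      left_inv := fun _ => rfl
      right_inv := fun _ => rfl
      map_add' := fun _ _ => rfl
      map_smul' := fun a φ => by
        ext x
        show φ.toLinearMap (algebraMap A B' a * x) = a • φ.toLinearMap x
        rw [← Algebra.smul_def, map_smul] }
  let e₂ : (B'₁ →ₗ[A₁] A₁) ≃ₗ[A₁] Disc.Omega A₁ B'₁ :=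
    { toFun := Disc.Omega.mk
      invFun := Disc.Omega.toLinearMap
      left_inv := fun _ => rfl
      right_inv := fun _ => rfl
      map_add' := fun _ _ => rfl
      map_smul' := fun a φ => by
        ext x
        show a • φ x = φ (algebraMap A₁ B'₁ a * x)
        rw [← Algebra.smul_def, map_smul] }
  let Θ := LinearEquiv.baseChange A A₁ _ _ e₁ ≪≫ₗ hd.equiv ≪≫ₗ e₂
  have key : ∀ y, liftBC h ((Algebra.IsPushout.cancelBaseChange A A₁ B' B'₁ (Disc.Omega A B')).symm y) = Θ y := by
    intro y
    induction y with
    | zero => simp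
    | tmul a φ =>
      rw [Algebra.IsPushout.cancelBaseChange_symm_tmul, liftBC_tmul]
      simp only [Θ, LinearEquiv.trans_apply, LinearEquiv.baseChange_tmul, IsBaseChange.equiv_tmul,
        map_smul]
      rfl
    | add x y hx hy => simp only [map_add, hx, hy]
  have : (liftBC h : _ → _) =
      Θ ∘ (Algebra.IsPushout.cancelBaseChange A A₁ B' B'₁ (Disc.Omega A B')) := by
    funext x
    rw [Function.comp_apply, ← key, LinearEquiv.symm_apply_apply]
  rw [this]
  exact Θ.bijective.comp (LinearEquiv.bijective _)

end Omega

section Colon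

variable {R : Type u} [CommRing R] {S : Type u} [CommRing S] [Algebra R S]
  {M : Type u} [AddCommGroup M] [Module R M] {N : Type u} [AddCommGroup N] [Module S N]

/-- the different (colon ideal) commutes with flat base change -/
theorem map_different_eq [Module.Flat R S] [Module.Finite R M] (τ : M)
    (θ : S ⊗[R] M ≃ₗ[S] N) :
    Ideal.map (algebraMap R S) (QFDual.different R τ) = QFDual.different S (θ (1 ⊗ₜ τ)) := by
  apply le_antisymm
  · rw [Ideal.map_le_iff_le_comap]
    intro r hr
    rw [Ideal.mem_comap, QFDual.mem_different_iff]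
    rw [QFDual.mem_different_iff] at hr
    intro n
    obtain ⟨z, rfl⟩ := θ.surjective n
    induction z with
    | zero => exact ⟨0, by simp⟩
    | tmul s m =>
      obtain ⟨c, hc⟩ := hr m
      refine ⟨s * algebraMap R S c, ?_⟩
      rw [← map_smul, ← map_smul]
      congr 1
      rw [algebraMap_smul, TensorProduct.smul_tmul', smul_eq_mul, mul_one, ← tmul_smul, ← hc,
        ← TensorProduct.smul_tmul, Algebra.smul_def, mul_comm]
    | add x y hx hy =>
      obtain ⟨c, hc⟩ := hx
      obtain ⟨d, hd⟩ := hy
      exact ⟨c + d, by rw [add_smul, hc, hd, map_add, smul_add]⟩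
  · intro s hs
    rw [QFDual.mem_different_iff] at hs
    classical
    obtain ⟨k, x, hx⟩ := Module.Finite.exists_fin (R := R) (M := M)
    let Q := M ⧸ (R ∙ τ)
    let ψ : R →ₗ[R] (Fin k → Q) := LinearMap.toSpanSingleton R _ (fun i => Submodule.Quotient.mk (x i))
    have hI : ∀ r ∈ LinearMap.ker ψ, r ∈ QFDual.different R τ := by
      intro r hr
      rw [QFDual.mem_different_iff]
      intro m
      have hm : m ∈ (⊤ : Submodule R M) := trivial
      rw [← hx] at hm
      induction hm using Submodule.span_induction with
      | mem y hy =>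
        obtain ⟨i, rfl⟩ := hy
        have : (Submodule.Quotient.mk (r • x i) : Q) = 0 := by
          rw [Submodule.Quotient.mk_smul]
          exact congrFun (LinearMap.mem_ker.mp hr) i
        rw [Submodule.Quotient.mk_eq_zero, Submodule.mem_span_singleton] at this
        exact this
      | zero => exact ⟨0, by simp⟩
      | add a b _ _ ha hb =>
        obtain ⟨c, hc⟩ := ha
        obtain ⟨d, hd⟩ := hb
        exact ⟨c + d, by rw [add_smul, hc, hd, smul_add]⟩
      | smul c a _ ha =>
        obtain ⟨d, hd⟩ := ha
        exact ⟨c * d, by rw [mul_smul, hd, smul_comm]⟩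
    have hz : ψ.lTensor S (s ⊗ₜ (1 : R)) = 0 := by
      apply (TensorProduct.piRight R S S (fun _ : Fin k => Q)).injective
      rw [LinearMap.lTensor_tmul, map_zero, TensorProduct.piRight_apply,
        TensorProduct.piRightHom_tmul]
      funext i
      obtain ⟨c, hc⟩ := hs (θ (1 ⊗ₜ x i))
      rw [← map_smul, ← map_smul, θ.injective.eq_iff] at hc
      have := congrArg ((Submodule.mkQ (R ∙ τ)).lTensor S) hc.symm
      simpa [TensorProduct.smul_tmul', ψ, Q, (Submodule.Quotient.mk_eq_zero _).mpr
        (Submodule.mem_span_singleton_self τ)] using this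
    have hex := Module.Flat.lTensor_exact S (LinearMap.exact_subtype_ker_map ψ)
    obtain ⟨w, hw⟩ := (hex _).mp hz
    have hs' : s = (TensorProduct.rid R S) (s ⊗ₜ (1 : R)) := by simp
    rw [hs', ← hw]
    clear hw hs'
    induction w with
    | zero => simp
    | tmul t i =>
      rw [LinearMap.lTensor_tmul, TensorProduct.rid_tmul, Algebra.smul_def, mul_comm]
      exact Ideal.mul_mem_left _ t (Ideal.mem_map_of_mem _ (hI _ i.2))
    | add a b ha hb => simpa using Ideal.add_mem _ ha hb

end Colon

end DR39.OmegaBC
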