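import Groth.Agent.DR39.Rep
import Mathlib.Algebra.FiveLemma

/-! Pseudo-coherent objects of `D(A)`. -/

set_option autoImplicit false
set_option linter.style.haveILetI false
set_option linter.unusedSectionVars false

universe u

open CategoryTheory CategoryTheory.Limits CategoryTheory.Pretriangulated ZeroObject

attribute [local instance] HasDerivedCategory.standard

namespace Groth.Agent.DR39

variable {A : Type u} [CommRing A]

/-- `m`-pseudo-coherence. -/
abbrev PC (m : ℤ) (X : Dual.D A) : Prop := DRing.IsPseudoCoherent A m X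

/-- Bounded complexes of finite free modules. -/
def BFF (X : Dual.D A) : Prop := ∃ a b : ℤ, Rep FFp (Set.Icc a b) X

/-- `H^i α` is iso for `i > m` and epi for `i = m`. -/
def Approx (m : ℤ) {X Y : Dual.D A} (α : X ⟶ Y) : Prop :=
  (∀ i, m < i → IsIso ((HF A i).map α)) ∧ Epi ((HF A m).map α)

theorem Approx.epi {m : ℤ} {X Y : Dual.D A} {α : X ⟶ Y} (h : Approx m α) {i : ℤ} (hi : m ≤ i) :
    Epi ((HF A i).map α) := by
  rcases eq_or_lt_of_le hi with rfl | hlt
  · exact h.2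
  · haveI := h.1 i hlt; infer_instance

theorem Approx.mono {m m' : ℤ} {X Y : Dual.D A} {α : X ⟶ Y} (h : Approx m α) (hm : m ≤ m') :
    Approx m' α :=
  ⟨fun i hi => h.1 i (by omega), h.epi hm⟩

theorem Approx.comp {m : ℤ} {X Y Z : Dual.D A} {α : X ⟶ Y} {β : Y ⟶ Z} (h : Approx m α)
    (h' : Approx m β) : Approx m (α ≫ β) := by
  refine ⟨fun i hi => ?_, ?_⟩
  · rw [Functor.map_comp]
    haveI := h.1 i hi; haveI := h'.1 i hi
    infer_instance
  · rw [Functor.map_comp]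
    haveI := h.2; haveI := h'.2
    exact epi_comp _ _

theorem Approx.of_isIso (m : ℤ) {X Y : Dual.D A} (α : X ⟶ Y) [IsIso α] : Approx m α :=
  ⟨fun _ _ => inferInstance, inferInstance⟩

theorem approx_iff_acyc (T : Triangle (Dual.D A)) (hT : T ∈ distinguishedTriangles) (m : ℤ) :
    Approx m T.mor₁ ↔ Acyc m T.obj₃ := (acyc_obj₃_iff T hT m).symm

theorem pc_iff (m : ℤ) (X : Dual.D A) :
    PC m X ↔ ∃ (X' : Dual.D A) (α : X' ⟶ X), BFF X' ∧ Approx m α := by
  constructor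
  · rintro ⟨E, a, b, α, hv, hff, h1, h2⟩
    exact ⟨_, α, ⟨a, b, E, (vanishesOutside_iff E a b).1 hv, hff, ⟨Iso.refl _⟩⟩, h1, h2⟩
  · rintro ⟨X', α, ⟨a, b, E, hv, hff, ⟨e⟩⟩, hα⟩
    have := (Approx.of_isIso m e.hom).comp hα
    exact ⟨E, a, b, e.hom ≫ α, (vanishesOutside_iff E a b).2 hv, hff, this.1, this.2⟩

theorem PC.of_iso {m : ℤ} {X Y : Dual.D A} (h : PC m X) (e : X ≅ Y) : PC m Y := by
  obtain ⟨X', α, h1, h2⟩ := (pc_iff m X).1 h
  exact (pc_iff m Y).2 ⟨X', α ≫ e.hom, h1, h2.comp (Approx.of_isIso m e.hom)⟩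

theorem PC.mono {m m' : ℤ} {X : Dual.D A} (h : PC m X) (hm : m ≤ m') : PC m' X := by
  obtain ⟨X', α, h1, h2⟩ := (pc_iff m X).1 h
  exact (pc_iff m' X).2 ⟨X', α, h1, h2.mono hm⟩

theorem pc_of_acyc {m : ℤ} {X : Dual.D A} (h : Acyc m X) : PC m X :=
  (pc_iff m X).2 ⟨_, 0, ⟨0, 0, Rep.of_isZero isModClass_FF (isZero_zero _)⟩,
    (approx_iff_acyc (Triangle.mk (0 : 0 ⟶ X) (𝟙 X) 0) (contractible_distinguished₁ X) m).2 h⟩

theorem pc_of_bff {m : ℤ} {X : Dual.D A} (h : BFF X) : PC m X :=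
  (pc_iff m X).2 ⟨X, 𝟙 X, h, Approx.of_isIso m _⟩

theorem PC.shift {m : ℤ} {X : Dual.D A} (h : PC m X) (n m' : ℤ) (hm : m' + n = m) : PC m' (X⟦n⟧) := by
  obtain ⟨X', α, ⟨a, b, hX'⟩, hα⟩ := (pc_iff m X).1 h
  refine (pc_iff _ _).2 ⟨X'⟦n⟧, α⟦n⟧',
    ⟨a - n, b - n, hX'.shift n fun i hi => ?_⟩, ?_⟩
  · simp only [Set.mem_Icc] at hi ⊢; omega
  · have key : ∀ i, ((HF A i).map (α⟦n⟧')) =
        (((HF A 0).shiftIso n i (n + i) rfl).hom.app X') ≫ (HF A (n + i)).map α ≫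
          (((HF A 0).shiftIso n i (n + i) rfl).inv.app X) := fun i => by
      have := ((HF A 0).shiftIso n i (n + i) rfl).hom.naturality α
      erw [← reassoc_of% this]
      simp
      rfl
    refine ⟨fun i hi => ?_, ?_⟩
    · rw [key]
      exact IsIso.comp_isIso' (Iso.isIso_hom (((HF A 0).shiftIso n i (n + i) rfl).app X'))
        (IsIso.comp_isIso' (hα.1 (n + i) (by omega))
          (Iso.isIso_inv (((HF A 0).shiftIso n i (n + i) rfl).app X)))
    · rw [key]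
      haveI i1 : IsIso (((HF A 0).shiftIso n m' (n + m') rfl).hom.app X') :=
        Iso.isIso_hom (((HF A 0).shiftIso n m' (n + m') rfl).app X')
      haveI i2 : IsIso (((HF A 0).shiftIso n m' (n + m') rfl).inv.app X) :=
        Iso.isIso_inv (((HF A 0).shiftIso n m' (n + m') rfl).app X)
      exact epi_comp' (@IsIso.epi_of_iso _ _ _ _ _ i1)
        (epi_comp' (hα.epi (i := n + m') (by omega)) (@IsIso.epi_of_iso _ _ _ _ _ i2))

theorem pc_shift_iff {m : ℤ} (X : Dual.D A) (n m' : ℤ) (hm : m' + n = m) :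
    PC m' (X⟦n⟧) ↔ PC m X :=
  ⟨fun h => (h.shift (-n) m (by omega)).of_iso ((shiftEquiv (Dual.D A) n).unitIso.symm.app X),
    fun h => h.shift n m' hm⟩

theorem BFF.cone {T : Triangle (Dual.D A)} (hT : T ∈ distinguishedTriangles)
    (h₁ : BFF T.obj₁) (h₂ : BFF T.obj₂) : BFF T.obj₃ := by
  obtain ⟨a, b, h₁⟩ := h₁
  obtain ⟨a', b', h₂⟩ := h₂
  refine ⟨min (a - 1) a', max (b - 1) b', Rep.cone isModClass_FF Set.Icc_subset_Iic_self hT h₁
    (fun M hM => proj_of_FF hM) h₂ fun i hi => ?_⟩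
  simp only [Set.mem_Icc] at hi ⊢
  omega

/-- An approximation by a complex supported in degrees `≥ m`. -/
theorem PC.nice {m : ℤ} {X : Dual.D A} (h : PC m X) :
    ∃ (X' : Dual.D A) (α : X' ⟶ X) (b : ℤ), Rep FFp (Set.Icc m b) X' ∧ Approx m α := by
  obtain ⟨X', α, ⟨a, b, E, hE, hFF, ⟨e⟩⟩, hα⟩ := (pc_iff m X).1 h
  refine ⟨_, (QA A).map (cutι E m) ≫ e.hom ≫ α, b, ⟨cutGE E m, fun i hi => ?_, fun i => ?_,
    ⟨Iso.refl _⟩⟩, ?_⟩
  · rw [Set.mem_Icc, not_and_or, not_le, not_le] at hi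
    rcases hi with hi | hi
    · exact isZero_cutGE E hi
    · exact isZero_cutGE_of_isZero E (hE i fun h => by rw [Set.mem_Icc] at h; omega)
  · by_cases hi : m ≤ i
    · haveI : IsIso ((cutι E m).f i) := (isIso_iff_bijective _).2 (cutι_bijective E hi)
      exact isModClass_FF.of_iso (asIso ((cutι E m).f i)).symm (hFF i)
    · exact isModClass_FF.of_isZero (isZero_cutGE E (by omega))
  · obtain ⟨Z, g, k, hT⟩ := distinguished_cocone_triangle ((QA A).map (cutι E m))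
    refine Approx.comp ((approx_iff_acyc _ hT m).2 (acyc_cone_cutι E m _ hT (Iso.refl _) (Iso.refl _)
      ((Category.comp_id _).trans (Category.id_comp _).symm))) ((Approx.of_isIso m e.hom).comp hα)

theorem exact_ff {S : ShortComplex (ModuleCat.{u} A)} (h : S.Exact) : Function.Exact S.f.hom S.g.hom :=
  LinearMap.exact_iff.2 h.moduleCat_range_eq_ker.symm

open DerivedCategory.HomologySequence in
/-- Four lemma for morphisms of distinguished triangles. -/
theorem Approx.third {T T' : Triangle (Dual.D A)} (hT : T ∈ distinguishedTriangles)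
    (hT' : T' ∈ distinguishedTriangles) (φ : T ⟶ T') {m : ℤ} (h₁ : Approx (m + 1) φ.hom₁)
    (h₂ : Approx m φ.hom₂) : Approx m φ.hom₃ := by
  have c1 : ∀ i, ((HF A i).map T'.mor₁).hom.comp ((HF A i).map φ.hom₁).hom =
      ((HF A i).map φ.hom₂).hom.comp ((HF A i).map T.mor₁).hom := fun i => by
    rw [← ModuleCat.hom_comp, ← ModuleCat.hom_comp, ← Functor.map_comp, ← Functor.map_comp, φ.comm₁]
  have c2 : ∀ i, ((HF A i).map T'.mor₂).hom.comp ((HF A i).map φ.hom₂).hom =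
      ((HF A i).map φ.hom₃).hom.comp ((HF A i).map T.mor₂).hom := fun i => by
    rw [← ModuleCat.hom_comp, ← ModuleCat.hom_comp, ← Functor.map_comp, ← Functor.map_comp, φ.comm₂]
  have c3 : ∀ i, (δ T' i (i + 1) rfl).hom.comp ((HF A i).map φ.hom₃).hom =
      ((HF A (i + 1)).map φ.hom₁).hom.comp (δ T i (i + 1) rfl).hom := fun i => by
    rw [← ModuleCat.hom_comp, ← ModuleCat.hom_comp]
    congr 1
    have := congrArg (fun f => (HF A 0).shiftMap f i (i + 1) (by omega)) φ.comm₃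
    exact ((Functor.shiftMap_comp' (HF A 0) φ.hom₃ T'.mor₃ i (i + 1) (by omega)).symm.trans
      (this.symm.trans (Functor.shiftMap_comp (HF A 0) T.mor₃ φ.hom₁ i (i + 1) (by omega))))
  have ee : ∀ i, m ≤ i → Function.Surjective ((HF A i).map φ.hom₂).hom := fun i hi =>
    (ModuleCat.epi_iff_surjective _).1 (h₂.epi hi)
  have aa : ∀ i, m + 1 ≤ i → Function.Surjective ((HF A i).map φ.hom₁).hom := fun i hi =>
    (ModuleCat.epi_iff_surjective _).1 (h₁.epi hi)
  have bb : ∀ i, m + 1 ≤ i → Function.Injective ((HF A i).map φ.hom₂).hom := fun i hi =>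
    haveI := h₂.1 i (by omega)
    (ModuleCat.mono_iff_injective _).1 inferInstance
  have hs : ∀ i, m ≤ i → Function.Surjective ((HF A i).map φ.hom₃).hom := fun i hi =>
    LinearMap.surjective_of_surjective_of_surjective_of_injective _ _ _ _ _ _ _ _ _ _ (c2 i) (c3 i)
      (c1 (i + 1)) (exact_ff (exact₁ T hT i (i + 1) rfl)) (exact_ff (exact₃ T' hT' i (i + 1) rfl))
      (exact_ff (exact₁ T' hT' i (i + 1) rfl)) (ee i hi) (aa (i + 1) (by omega)) (bb (i + 1) (by omega))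
  refine ⟨fun i hi => (isIso_iff_bijective _).2 ⟨?_, hs i hi.le⟩, (ModuleCat.epi_iff_surjective _).2 (hs m le_rfl)⟩
  haveI := h₁.1 (i + 1) (by omega)
  exact LinearMap.injective_of_surjective_of_injective_of_injective _ _ _ _ _ _ _ _ _ _ (c1 i) (c2 i)
    (c3 i) (exact_ff (exact₂ T hT i)) (exact_ff (exact₃ T hT i (i + 1) rfl))
    (exact_ff (exact₂ T' hT' i)) (aa i (by omega)) (bb i (by omega))
    ((ModuleCat.mono_iff_injective _).1 inferInstance)

/-- `K` is `(m+1)`-pc and `L` is `m`-pc, then the cone is `m`-pc. -/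
theorem PC.obj₃ {T : Triangle (Dual.D A)} (hT : T ∈ distinguishedTriangles) {m : ℤ}
    (h₁ : PC (m + 1) T.obj₁) (h₂ : PC m T.obj₂) : PC m T.obj₃ := by
  obtain ⟨P, α, b, hP, hα⟩ := h₁.nice
  obtain ⟨Q, β, hQ, hβ⟩ := (pc_iff m _).1 h₂
  obtain ⟨Z, g, k, hTβ⟩ := distinguished_cocone_triangle β
  have hz : (α ≫ T.mor₁) ≫ g = 0 := by
    obtain ⟨E, hE, hFF, ⟨e⟩⟩ := hP
    rw [← cancel_epi e.hom, comp_zero]
    exact hom_eq_zero_of_projective E (m + 1) b ((vanishesOutside_iff E _ _).2 hE)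
      (fun i => proj_of_FF (hFF i)) (((approx_iff_acyc _ hTβ m).1 hβ).mono (by omega)) _
  obtain ⟨c, hc⟩ := Triangle.coyoneda_exact₂ _ hTβ (α ≫ T.mor₁) hz
  obtain ⟨M', p, q, hT'⟩ := distinguished_cocone_triangle c
  obtain ⟨ε, hε1, hε2⟩ := complete_distinguished_triangle_morphism _ T hT' hT α β hc.symm
  exact (pc_iff m _).2 ⟨M', ε, BFF.cone hT' ⟨m + 1, b, hP⟩ hQ,
    Approx.third hT' hT { hom₁ := α, hom₂ := β, hom₃ := ε, comm₁ := hc.symm, comm₂ := hε1,
                          comm₃ := hε2 } (hα) hβ⟩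

theorem PC.obj₂ {T : Triangle (Dual.D A)} (hT : T ∈ distinguishedTriangles) {m : ℤ}
    (h₁ : PC m T.obj₁) (h₃ : PC m T.obj₃) : PC m T.obj₂ :=
  PC.obj₃ (inv_rot_of_distTriang T hT) (h₃.shift (-1) (m + 1) (by omega)) h₁

theorem PC.obj₁ {T : Triangle (Dual.D A)} (hT : T ∈ distinguishedTriangles) {m : ℤ}
    (h₂ : PC (m + 1) T.obj₂) (h₃ : PC m T.obj₃) : PC (m + 1) T.obj₁ :=
  (pc_shift_iff T.obj₁ 1 m rfl).1 (PC.obj₃ (rot_of_distTriang T hT) h₂ h₃)

/-- Pseudo-coherence passes to direct factors. -/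
theorem PC.of_biprod {m : ℤ} {X Y : Dual.D A} [HasBinaryBiproduct X Y] (h : PC m (X ⊞ Y)) : PC m X := by
  obtain ⟨P, α, ⟨a, b, hP⟩, hα⟩ := (pc_iff m _).1 h
  have hN : ∃ N : ℤ, Acyc N X := by
    refine ⟨max (m + 1) (b + 1), fun i hi => ?_⟩
    haveI := hα.1 i (by omega)
    have hz : IsZero ((HF A i).obj (X ⊞ Y)) :=
      ((hP.acyc (m := b + 1) fun j hj => by rw [Set.mem_Icc] at hj; omega) i (by omega)).of_iso
        (asIso ((HF A i).map α)).symm
    haveI : Mono ((HF A i).map (biprod.inl : X ⟶ X ⊞ Y)) := inferInstance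
    exact hz.of_mono ((HF A i).map (biprod.inl : X ⟶ X ⊞ Y))
  obtain ⟨N, hN⟩ := hN
  suffices key : ∀ (k : ℕ) (n : ℤ), m ≤ n → N ≤ n + k → PC n X from
    key (N - m).toNat m le_rfl (by omega)
  intro k
  induction k with
  | zero => exact fun n _ hn => pc_of_acyc (hN.mono (by omega))
  | succ k ih =>
    intro n hmn hn
    have hX2 : PC (n + 2) X := ih (n + 2) (by omega) (by omega)
    obtain ⟨hmor, -⟩ : (binaryBiproductTriangle X Y) ∈ distinguishedTriangles ∧ True :=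
      ⟨binaryBiproductTriangle_distinguished X Y, trivial⟩
    have h12 := rot_of_distTriang _ hmor
    have h23 : (binaryBiproductTriangle Y X) ∈ distinguishedTriangles :=
      binaryBiproductTriangle_distinguished Y X
    obtain ⟨C, v, w, h13⟩ := distinguished_cocone_triangle
      ((binaryBiproductTriangle X Y).mor₂ ≫ (biprod.inr : Y ⟶ X ⊞ Y))
    obtain ⟨Z, v', w', h23'⟩ := distinguished_cocone_triangle (biprod.inr : Y ⟶ X ⊞ Y)
    let o := Triangulated.someOctahedron rfl h12 h23' h13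
    have eZ : Z ≅ X := Triangle.π₃.mapIso (isoTriangleOfIso₁₂ _ _ h23' h23 (Iso.refl _)
      (biprod.braiding X Y) (by change (biprod.inr : Y ⟶ X ⊞ Y) ≫ (biprod.braiding X Y).hom = 𝟙 Y ≫ (biprod.inl : Y ⟶ Y ⊞ X); apply biprod.hom_ext <;> simp))
    have hC : PC n C := PC.obj₃ h13 (h.mono (by omega)) (h.mono hmn)
    exact (PC.obj₃ o.mem (hX2.shift 1 (n + 1) (by omega)) hC).of_iso eZ

end Groth.Agent.DR39
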