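import Groth.Agent.DR39.TensorSymm
import Mathlib.CategoryTheory.Monoidal.Rigid.Basic

/-! Complexes with a dual are bounded complexes of finite projectives. -/

set_option autoImplicit false
set_option linter.style.haveILetI false
set_option linter.unusedSectionVars false

universe u v₁ u₁ v₂ u₂

open CategoryTheory CategoryTheory.Limits MonoidalCategory

namespace Groth.Agent.DR39

section Generic

variable {C : Type u₁} [Category.{v₁} C] [MonoidalCategory C]

theorem id_factor_left {X Y L : C} [ExactPairing X Y] (i : L ⟶ X) (η' : 𝟙_ C ⟶ L ⊗ Y)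
    (h : η' ≫ i ▷ Y = η_ X Y) :
    ((λ_ X).inv ≫ η' ▷ X ≫ (α_ L Y X).hom ≫ L ◁ ε_ X Y ≫ (ρ_ L).hom) ≫ i = 𝟙 X := by
  have h1 : η' ▷ X ≫ (α_ L Y X).hom ≫ L ◁ ε_ X Y ≫ (ρ_ L).hom ≫ i =
      η_ X Y ▷ X ≫ (α_ X Y X).hom ≫ X ◁ ε_ X Y ≫ (ρ_ X).hom := by
    rw [← h, comp_whiskerRight, Category.assoc, ← rightUnitor_naturality, whisker_exchange_assoc,
      associator_naturality_left_assoc]
  simp only [Category.assoc, h1, ExactPairing.evaluation_coevaluation_assoc, Iso.inv_hom_id_assoc,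
    Iso.inv_hom_id]

theorem id_factor_right {X Y L : C} [ExactPairing X Y] (i : L ⟶ Y) (η' : 𝟙_ C ⟶ X ⊗ L)
    (h : η' ≫ X ◁ i = η_ X Y) :
    ((ρ_ Y).inv ≫ Y ◁ η' ≫ (α_ Y X L).inv ≫ ε_ X Y ▷ L ≫ (λ_ L).hom) ≫ i = 𝟙 Y := by
  have h1 : Y ◁ η' ≫ (α_ Y X L).inv ≫ ε_ X Y ▷ L ≫ (λ_ L).hom ≫ i =
      Y ◁ η_ X Y ≫ (α_ Y X Y).inv ≫ ε_ X Y ▷ Y ≫ (λ_ Y).hom := by
    rw [← h, whiskerLeft_comp, Category.assoc, ← leftUnitor_naturality, ← whisker_exchange_assoc,
      associator_inv_naturality_right_assoc]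
  simp only [Category.assoc, h1, ExactPairing.coevaluation_evaluation_assoc, Iso.inv_hom_id_assoc,
    Iso.inv_hom_id]

open Functor.LaxMonoidal Functor.OplaxMonoidal in
/-- A monoidal functor preserves exact pairings. -/
@[reducible] def mapPairing {D : Type u₂} [Category.{v₂} D] [MonoidalCategory D] (F : C ⥤ D) [F.Monoidal]
    (X Y : C) [ExactPairing X Y] : ExactPairing (F.obj X) (F.obj Y) where
  coevaluation' := Functor.LaxMonoidal.ε F ≫ F.map (η_ X Y) ≫ δ F X Y
  evaluation' := μ F Y X ≫ F.map (ε_ X Y) ≫ Functor.OplaxMonoidal.η F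
  coevaluation_evaluation' := by
    have key : F.obj Y ◁ F.map (η_ X Y) ≫ F.obj Y ◁ δ F X Y ≫ (α_ (F.obj Y) (F.obj X) (F.obj Y)).inv ≫
        μ F Y X ▷ F.obj Y ≫ F.map (ε_ X Y) ▷ F.obj Y =
        μ F Y (𝟙_ C) ≫ F.map (Y ◁ η_ X Y ≫ (α_ Y X Y).inv ≫ ε_ X Y ▷ Y) ≫ δ F (𝟙_ C) Y := by
      simp only [Functor.map_comp, Functor.Monoidal.map_whiskerLeft, Functor.Monoidal.map_whiskerRight,
        Functor.Monoidal.map_associator_inv, Category.assoc, Functor.Monoidal.μ_δ_assoc,
        Functor.Monoidal.μ_δ, Category.comp_id]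
    simp only [whiskerLeft_comp, comp_whiskerRight, Category.assoc]
    rw [reassoc_of% key, ExactPairing.coevaluation_evaluation]
    simp
  evaluation_coevaluation' := by
    have key : F.map (η_ X Y) ▷ F.obj X ≫ δ F X Y ▷ F.obj X ≫ (α_ (F.obj X) (F.obj Y) (F.obj X)).hom ≫
        F.obj X ◁ μ F Y X ≫ F.obj X ◁ F.map (ε_ X Y) =
        μ F (𝟙_ C) X ≫ F.map (η_ X Y ▷ X ≫ (α_ X Y X).hom ≫ X ◁ ε_ X Y) ≫ δ F X (𝟙_ C) := by
      simp only [Functor.map_comp, Functor.Monoidal.map_whiskerLeft, Functor.Monoidal.map_whiskerRight,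
        Functor.Monoidal.map_associator, Category.assoc, Functor.Monoidal.μ_δ_assoc,
        Functor.Monoidal.μ_δ, Category.comp_id]
    simp only [whiskerLeft_comp, comp_whiskerRight, Category.assoc]
    rw [reassoc_of% key, ExactPairing.evaluation_coevaluation]
    simp

end Generic

section Graded

variable {A : Type u} [CommRing A]

/-- The tensor product of graded modules. -/
noncomputable instance gradedMonoidal : MonoidalCategory (GradedObject ℤ (ModuleCat.{u} A)) := inferInstance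

noncomputable instance gradedMonoidalStruct : MonoidalCategoryStruct (GradedObject ℤ (ModuleCat.{u} A)) :=
  (gradedMonoidal (A := A)).toMonoidalCategoryStruct

/-- Forgetting the differential. -/
noncomputable abbrev fgt (A : Type u) [CommRing A] :
    DRing.Cx A ⥤ GradedObject ℤ (ModuleCat.{u} A) :=
  HomologicalComplex.forget (ModuleCat.{u} A) (ComplexShape.up ℤ)

noncomputable instance : (fgt A).Monoidal :=
  Monoidal.fromInducedMonoidal _ (HomologicalComplex.Monoidal.inducingFunctorData _ _)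

/-- A map out of the unit of graded modules. -/
noncomputable def fromUnit {G : GradedObject ℤ (ModuleCat.{u} A)} (z : G 0) :
    𝟙_ (GradedObject ℤ (ModuleCat.{u} A)) ⟶ G := fun i =>
  if h : i = 0 then
    (GradedObject.singleObjApplyIsoOfEq (0 : ℤ) (𝟙_ (ModuleCat.{u} A)) i h).hom ≫
      ModuleCat.ofHom (LinearMap.toSpanSingleton A (G 0) z) ≫ eqToHom (congrArg G h.symm)
  else 0

theorem fromUnit_comp {G H : GradedObject ℤ (ModuleCat.{u} A)} (z : G 0) (f : G ⟶ H)
    (η : 𝟙_ (GradedObject ℤ (ModuleCat.{u} A)) ⟶ H)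
    (h : (f 0).hom z = (GradedObject.Monoidal.tensorUnit₀.inv ≫ η 0).hom (1 : A)) :
    fromUnit z ≫ f = η := by
  funext i
  by_cases hi : i = 0
  · subst hi
    rw [← cancel_epi GradedObject.Monoidal.tensorUnit₀.inv]
    refine ModuleCat.hom_ext (LinearMap.ext_ring ?_)
    show (f 0).hom ((GradedObject.Monoidal.tensorUnit₀.inv ≫ fromUnit z 0).hom (1 : A)) = _
    rw [show GradedObject.Monoidal.tensorUnit₀.inv ≫ fromUnit z 0 =
        ModuleCat.ofHom (LinearMap.toSpanSingleton A (G 0) z) by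
      simp only [fromUnit, dif_pos, eqToHom_refl, Category.comp_id]
      exact Iso.inv_hom_id_assoc GradedObject.Monoidal.tensorUnit₀ _]
    refine (congrArg (f 0).hom ((LinearMap.toSpanSingleton_apply A (G 0) z (1 : A)).trans (one_smul A z))).trans ?_
    simpa using h
  · exact (GradedObject.Monoidal.isInitialTensorUnitApply i hi).hom_ext _ _

theorem exists_sum (X Y : GradedObject ℤ (ModuleCat.{u} A)) (j : ℤ) (z : (X ⊗ Y : GradedObject ℤ (ModuleCat.{u} A)) j) :
    ∃ (s : ℕ) (p q : Fin s → ℤ) (h : ∀ k, p k + q k = j) (x : ∀ k, X (p k)) (y : ∀ k, Y (q k)),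
      z = ∑ k, (GradedObject.Monoidal.ιTensorObj X Y (p k) (q k) j (h k)).hom (x k ⊗ₜ[A] y k) := by
  let Gen : Set ((X ⊗ Y : GradedObject ℤ (ModuleCat.{u} A)) j) :=
    {w | ∃ (a b : ℤ) (h : a + b = j) (x : X a) (y : Y b),
      w = (GradedObject.Monoidal.ιTensorObj X Y a b j h).hom (x ⊗ₜ[A] y)}
  have htop : Submodule.span A Gen = ⊤ := by
    refine eq_top_iff.2 fun w _ => (Submodule.Quotient.mk_eq_zero _).1 ?_
    have h0 : ModuleCat.ofHom (Submodule.span A Gen).mkQ = 0 := by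
      refine GradedObject.Monoidal.tensorObj_ext _ _ fun a b h => ?_
      refine ModuleCat.hom_ext (TensorProduct.ext' fun x y => ?_)
      exact (Submodule.Quotient.mk_eq_zero _).2 (Submodule.subset_span ⟨a, b, h, x, y, rfl⟩)
    exact LinearMap.congr_fun (congrArg ModuleCat.Hom.hom h0) w
  obtain ⟨s, c, g, rfl⟩ := Submodule.mem_span_set'.1 (htop ▸ Submodule.mem_top : z ∈ Submodule.span A Gen)
  choose p q h x y hw using fun k => (g k).2
  refine ⟨s, p, q, h, fun k => c k • x k, y, Finset.sum_congr rfl fun k _ => ?_⟩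
  rw [hw k, ← map_smul, TensorProduct.smul_tmul']

open Classical in
/-- A map from a constant graded free module. -/
noncomputable def fromFree {s : ℕ} {X : GradedObject ℤ (ModuleCat.{u} A)} (p : Fin s → ℤ)
    (x : ∀ k, X (p k)) : (fun _ => ModuleCat.of A (Fin s → A) : GradedObject ℤ (ModuleCat.{u} A)) ⟶ X := fun j =>
  ModuleCat.ofHom ((Pi.basisFun A (Fin s)).constr ℕ fun k =>
    if h : p k = j then (eqToHom (congrArg X h)).hom (x k) else 0)

theorem fromFree_single {s : ℕ} {X : GradedObject ℤ (ModuleCat.{u} A)} (p : Fin s → ℤ)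
    (x : ∀ k, X (p k)) (k : Fin s) :
    (fromFree p x (p k)).hom (Pi.single k (1 : A)) = x k := by
  rw [← Pi.basisFun_apply, fromFree, ModuleCat.hom_ofHom, Module.Basis.constr_basis, dif_pos rfl]
  rfl

theorem fromFree_eq_zero {s : ℕ} {X : GradedObject ℤ (ModuleCat.{u} A)} (p : Fin s → ℤ)
    (x : ∀ k, X (p k)) (j : ℤ) (hj : ∀ k, p k ≠ j) : fromFree p x j = 0 :=
  ModuleCat.hom_ext ((Pi.basisFun A (Fin s)).ext fun k => by
    rw [fromFree, ModuleCat.hom_ofHom, Module.Basis.constr_basis, dif_neg (hj k)]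
    rfl)

theorem retract_props {s : ℕ} {X : GradedObject ℤ (ModuleCat.{u} A)} (p : Fin s → ℤ)
    (x : ∀ k, X (p k)) (r : X ⟶ (fun _ => ModuleCat.of A (Fin s → A) : GradedObject ℤ (ModuleCat.{u} A)))
    (hr : r ≫ fromFree p x = 𝟙 X) :
    (∀ j, Module.Finite A (X j) ∧ Module.Projective A (X j)) ∧
      ∃ a b : ℤ, ∀ j, (j < a ∨ b < j) → IsZero (X j) := by
  have hr' : ∀ j, r j ≫ fromFree p x j = 𝟙 (X j) := fun j => congrFun hr j
  refine ⟨fun j => ⟨Module.Finite.of_surjective (fromFree p x j).hom fun y =>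
      ⟨(r j).hom y, LinearMap.congr_fun (congrArg ModuleCat.Hom.hom (hr' j)) y⟩,
    Module.Projective.of_split (r j).hom (fromFree p x j).hom (congrArg ModuleCat.Hom.hom (hr' j))⟩, ?_⟩
  obtain ⟨b, hb⟩ := (Finset.univ.image p).bddAbove
  obtain ⟨a, ha⟩ := (Finset.univ.image p).bddBelow
  refine ⟨a, b, fun j hj => ?_⟩
  rw [IsZero.iff_id_eq_zero, ← hr' j, fromFree_eq_zero p x j fun k hk => ?_, comp_zero]
  have h1 := hb (Finset.mem_image_of_mem p (Finset.mem_univ k))
  have h2 := ha (Finset.mem_image_of_mem p (Finset.mem_univ k))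
  omega

theorem pairing_main (M N : DRing.Cx A) [ExactPairing M N] :
    ((∀ j, Module.Finite A (M.X j) ∧ Module.Projective A (M.X j)) ∧
      ∃ a b : ℤ, ∀ j, (j < a ∨ b < j) → IsZero (M.X j)) ∧
    ((∀ j, Module.Finite A (N.X j) ∧ Module.Projective A (N.X j)) ∧
      ∃ a b : ℤ, ∀ j, (j < a ∨ b < j) → IsZero (N.X j)) := by
  classical
  let X := (fgt A).obj M
  let Y := (fgt A).obj N
  letI : ExactPairing X Y := mapPairing (fgt A) M N
  let z : (X ⊗ Y : GradedObject ℤ (ModuleCat.{u} A)) 0 :=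
    (GradedObject.Monoidal.tensorUnit₀.inv ≫ (η_ X Y) 0).hom (1 : A)
  obtain ⟨s, p, q, h, x, y, hz⟩ := exists_sum X Y 0 z
  let L : GradedObject ℤ (ModuleCat.{u} A) := fun _ => ModuleCat.of A (Fin s → A)
  refine ⟨retract_props p x _ (id_factor_left (L := L) (fromFree p x) (fromUnit (∑ k,
    (GradedObject.Monoidal.ιTensorObj L Y (p k) (q k) 0 (h k)).hom
      ((Pi.single k (1 : A) : Fin s → A) ⊗ₜ[A] y k))) (fromUnit_comp _ _ _ ?_)),
    retract_props q y _ (id_factor_right (L := L) (fromFree q y) (fromUnit (∑ k,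
    (GradedObject.Monoidal.ιTensorObj X L (p k) (q k) 0 (h k)).hom
      (x k ⊗ₜ[A] (Pi.single k (1 : A) : Fin s → A)))) (fromUnit_comp _ _ _ ?_))⟩
  · refine Eq.trans ?_ hz.symm
    rw [map_sum]
    refine Finset.sum_congr rfl fun k _ => ?_
    refine (LinearMap.congr_fun (congrArg ModuleCat.Hom.hom
      (GradedObject.Monoidal.ι_tensorHom (fromFree p x) (𝟙 Y) (p k) (q k) 0 (h k))) _).trans ?_
    show (GradedObject.Monoidal.ιTensorObj X Y (p k) (q k) 0 (h k)).hom
      ((fromFree p x (p k)).hom (Pi.single k (1 : A)) ⊗ₜ[A] y k) = _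
    rw [fromFree_single]
  · refine Eq.trans ?_ hz.symm
    rw [map_sum]
    refine Finset.sum_congr rfl fun k _ => ?_
    refine (LinearMap.congr_fun (congrArg ModuleCat.Hom.hom
      (GradedObject.Monoidal.ι_tensorHom (𝟙 X) (fromFree q y) (p k) (q k) 0 (h k))) _).trans ?_
    show (GradedObject.Monoidal.ιTensorObj X Y (p k) (q k) 0 (h k)).hom
      (x k ⊗ₜ[A] (fromFree q y (q k)).hom (Pi.single k (1 : A))) = _
    rw [fromFree_single]

end Graded

end Groth.Agent.DR39
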