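import Groth.Agent.DR39.Nilpotent
import Groth.Agent.DR39.Existence
import Groth.Agent.DR39.Perf

/-! Glueing along two surjections whose kernels have zero product. -/

set_option autoImplicit false
set_option linter.style.haveILetI false
set_option linter.unusedSectionVars false

universe u

open CategoryTheory CategoryTheory.Limits CategoryTheory.Pretriangulated
open scoped TensorProduct

attribute [local instance] HasDerivedCategory.standard

namespace Groth.Agent.DR39

variable {R B C : Type u} [CommRing R] [CommRing B] [CommRing C]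

/-- Tor vanishing passes to extensions. -/
theorem exT_of_submodule (P : DRing.Cx R) (hP : ∀ j, Module.Flat R (P.X j)) (i : ℤ)
    {M : Type u} [AddCommGroup M] [Module R M] (N : Submodule R M)
    (hN : ExT P (ModuleCat.of R N) i) (hQ : ExT P (ModuleCat.of R (M ⧸ N)) i) :
    ExT P (ModuleCat.of R M) i := by
  have hex : Function.Exact N.subtype N.mkQ := LinearMap.exact_subtype_mkQ N
  intro x hx
  change P.X i ⊗[R] M at x
  obtain ⟨y', hy'⟩ := hQ (N.mkQ.lTensor (P.X i) x) (by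
    show (P.d i (i + 1)).hom.rTensor (M ⧸ N) _ = 0
    rw [← LinearMap.comp_apply, LinearMap.rTensor_comp_lTensor, ← LinearMap.lTensor_comp_rTensor,
      LinearMap.comp_apply]
    erw [hx, map_zero])
  obtain ⟨y, rfl⟩ := LinearMap.lTensor_surjective (P.X (i - 1)) N.mkQ_surjective y'
  have h0 : N.mkQ.lTensor (P.X i) (x - (P.d (i - 1) i).hom.rTensor M y) = 0 := by
    rw [map_sub, sub_eq_zero, ← LinearMap.comp_apply (N.mkQ.lTensor (P.X i)),
      LinearMap.lTensor_comp_rTensor, ← LinearMap.rTensor_comp_lTensor, LinearMap.comp_apply]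
    exact hy'.symm
  obtain ⟨z, hz⟩ := (lTensor_exact (P.X i) hex N.mkQ_surjective _).1 h0
  haveI := hP (i + 1)
  have hdz : (P.d i (i + 1)).hom.rTensor N z = 0 := by
    apply Module.Flat.lTensor_preserves_injective_linearMap (M := P.X (i + 1)) N.subtype Subtype.val_injective
    rw [map_zero, ← LinearMap.comp_apply, LinearMap.lTensor_comp_rTensor,
      ← LinearMap.rTensor_comp_lTensor, LinearMap.comp_apply, hz, map_sub]
    erw [hx]
    rw [← LinearMap.comp_apply, ← LinearMap.rTensor_comp, ← ModuleCat.hom_comp, P.d_comp_d]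
    simp
  obtain ⟨w, hw⟩ := hN z hdz
  refine ⟨y + N.subtype.lTensor (P.X (i - 1)) w, ?_⟩
  have e1 : (P.d (i - 1) i).hom.rTensor M (N.subtype.lTensor (P.X (i - 1)) w) = N.subtype.lTensor (P.X i) z := by
    rw [← hw, ← LinearMap.comp_apply, LinearMap.rTensor_comp_lTensor, ← LinearMap.lTensor_comp_rTensor]
    rfl
  show (P.d (i - 1) i).hom.rTensor M _ = x
  rw [map_add, e1, hz]
  exact add_sub_cancel _ _

variable {φ : R →+* B} {ψ : R →+* C}

/-- Two-step filtration. -/
theorem exT_of_mul (hφ : Function.Surjective φ) (hψ : Function.Surjective ψ)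
    (h0 : RingHom.ker φ * RingHom.ker ψ = ⊥) (P : DRing.Cx R) (hP : ∀ j, Module.Flat R (P.X j)) (i : ℤ)
    (hB : ∀ N : ModuleCat.{u} B, ExT (extCx φ P) N i) (hC : ∀ N : ModuleCat.{u} C, ExT (extCx ψ P) N i)
    (M : ModuleCat.{u} R) : ExT P M i := by
  let N : Submodule R M := RingHom.ker ψ • ⊤
  refine exT_of_submodule P hP i N (exT_killed hφ P i hB N fun r hr x => Subtype.ext ?_)
    (exT_killed hψ P i hC (M ⧸ N) fun r hr q => ?_)
  · show r • (x : M) = 0
    refine Submodule.smul_induction_on x.2 (fun s hs m _ => ?_) fun a b ha hb => by rw [smul_add, ha, hb, add_zero]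
    have : r * s ∈ RingHom.ker φ * RingHom.ker ψ := Ideal.mul_mem_mul hr hs
    rw [h0, Ideal.mem_bot] at this
    rw [smul_smul, this, zero_smul]
  · obtain ⟨m, rfl⟩ := Submodule.mkQ_surjective N q
    rw [← map_smul]
    exact (Submodule.Quotient.mk_eq_zero N).2 (Submodule.smul_mem_smul hr Submodule.mem_top)

/-- Tor vanishing outside the amplitude. -/
theorem exT_out_of_TA (φ : R →+* B) [DRing.HasLBaseChange φ] (P : DRing.Cx R) (hP : DRing.IsKFlat R P)
    {a b : ℤ} (h : TA a b ((DRing.LBaseChange φ).obj ((QA R).obj P))) (N : ModuleCat.{u} B) (i : ℤ)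
    (hi : i < a ∨ b < i) : ExT (extCx φ P) N i := by
  obtain ⟨F, hFv, hF, ⟨f⟩⟩ := (ta_iff_rep a b _).1 h
  have hFk : DRing.IsKFlat B F := isKFlat_of_flat b
    (fun j hj => hFv j fun hm => absurd hm.2 (by omega)) hF
  obtain ⟨t⟩ := tensor_iso hFk (isKFlat_extendScalars φ P hP) (f ≪≫ LBaseChangeIso φ P hP) N i
  rw [← isZero_tensorCx_iff]
  refine IsZero.of_iso ?_ t.symm
  rw [isZero_tensorCx_iff]
  haveI := ModuleCat.subsingleton_of_isZero (hFv i fun hm => by obtain ⟨h1, h2⟩ := hm; omega)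
  intro x _
  exact ⟨0, Subsingleton.elim _ _⟩

/-- Tor amplitude glues. -/
theorem ta_of_mul (hφ : Function.Surjective φ) (hψ : Function.Surjective ψ)
    (h0 : RingHom.ker φ * RingHom.ker ψ = ⊥) [DRing.HasLBaseChange φ] [DRing.HasLBaseChange ψ]
    {K : Dual.D R} {a b : ℤ} (hB : TA a b ((DRing.LBaseChange φ).obj K))
    (hC : TA a b ((DRing.LBaseChange ψ).obj K)) : TA a b K := by
  have key : ∀ (P : DRing.Cx R), DRing.IsKFlat R P → (∀ j, Module.Flat R (P.X j)) →
      ((QA R).obj P ≅ K) → ∀ M i, (i < a ∨ b < i) → ExT P M i := fun P hPk hPf eP M i hi =>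
    exT_of_mul hφ hψ h0 P hPf i
      (fun N => exT_out_of_TA φ P hPk (hB.of_iso ((DRing.LBaseChange φ).mapIso eP).symm) N i hi)
      (fun N => exT_out_of_TA ψ P hPk (hC.of_iso ((DRing.LBaseChange ψ).mapIso eP).symm) N i hi) M
  obtain ⟨K0, ⟨e⟩⟩ := exists_complex_iso K
  haveI := SF.isKProjective_res K0
  haveI : IsIso ((QA R).map (SF.aug K0)) :=
    (DerivedCategory.isIso_Q_map_iff_quasiIso (ModuleCat.{u} R) _).2 inferInstance
  let eP : (QA R).obj (SF.res K0) ≅ K := asIso ((QA R).map (SF.aug K0)) ≪≫ e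
  have hb : Acyc (b + 1) K := fun i hi => IsZero.of_iso ((isZero_HF_Q_iff (SF.res K0) i).2
    ((exT_self_iff _ i).1 (key _ isKFlat_of_isKProjective
      (fun j => haveI := SF.free_res K0 j; Module.Flat.of_free) eP _ i (Or.inr (by omega)))))
    ((HF R i).mapIso eP).symm
  obtain ⟨F, hFv, hF, ⟨f⟩⟩ := rep_free_of_acyc hb
  have hFk : DRing.IsKFlat R F := isKFlat_of_rep (fun M => flat_of_FR) hFv hF
  exact (ta_iff a b F hFk f).2 ⟨hb, fun M i hi => (isZero_tensorCx_iff F M i).2
    (key F hFk (fun j => flat_of_FR (hF j)) f M i (Or.inl hi))⟩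

/-- Top cohomology after base change: generators modulo the kernel. -/
theorem exists_fg_sup (hφ : Function.Surjective φ) (F : DRing.Cx R) (n : ℤ)
    (hv : DRing.VanishesAbove F n) [Module.Finite B ((extCx φ F).homology n)] :
    ∃ T : Submodule R (F.X n), T.FG ∧
      T ⊔ LinearMap.range (F.d (n - 1) n).hom ⊔ RingHom.ker φ • ⊤ = ⊤ := by
  haveI := ModuleCat.subsingleton_of_isZero ((ModuleCat.extendScalars φ).map_isZero (hv (n + 1) (by omega)))
  have hz : ∀ x : F.X n, (show (extCx φ F).X n from (oneL φ (F.X n)).hom x) ∈ LinearMap.ker ((extCx φ F).d n (n + 1)).hom :=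
    fun x => LinearMap.mem_ker.2 (Subsingleton.elim (α := (ModuleCat.extendScalars φ).obj (F.X (n + 1))) _ _)
  let μ : (extCx φ F).X n ⟶ (extCx φ F).homology n := ModuleCat.ofHom (X := (extCx φ F).X n)
    (hcls (extCx φ F) n ∘ₗ LinearMap.codRestrict (LinearMap.ker ((extCx φ F).d n (n + 1)).hom)
      (LinearMap.id : (extCx φ F).X n →ₗ[B] (extCx φ F).X n)
      (fun y => LinearMap.mem_ker.2 (Subsingleton.elim (α := (ModuleCat.extendScalars φ).obj (F.X (n + 1))) _ _)))
  let ν : F.X n →ₗ[R] resM φ ((extCx φ F).homology n) :=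
    ((ModuleCat.restrictScalars φ).map μ).hom ∘ₗ (oneL φ (F.X n)).hom
  have hν : ∀ x, ν x = hcls (extCx φ F) n ⟨_, hz x⟩ := fun x => rfl
  haveI := finite_resM hφ ((extCx φ F).homology n)
  obtain ⟨k, g, hg⟩ := Module.Finite.exists_fin' R (resM φ ((extCx φ F).homology n))
  have hνs : Function.Surjective ν := fun c => by
    obtain ⟨⟨z, hz'⟩, rfl⟩ := hcls_surjective (extCx φ F) n c
    obtain ⟨x, rfl⟩ := oneL_surjective hφ (F.X n) z
    exact ⟨x, hν x⟩
  obtain ⟨h, hh⟩ := Module.projective_lifting_property ν g hνs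
  refine ⟨LinearMap.range h, by rw [LinearMap.range_eq_map]; exact Module.Finite.fg_top.map _,
    eq_top_iff.2 fun x _ => ?_⟩
  obtain ⟨v, hv'⟩ := hg (ν x)
  have h1 : ν (x - h v) = 0 := by
    rw [map_sub, show ν (h v) = g v from LinearMap.congr_fun hh v, hv', sub_self]
  rw [hν] at h1
  obtain ⟨y', hy'⟩ := (hcls_eq_zero_iff (extCx φ F) n ⟨_, hz (x - h v)⟩).1 h1
  obtain ⟨y, rfl⟩ := oneL_surjective hφ (F.X (n - 1)) y'
  have h2 : (oneL φ (F.X n)).hom (x - h v - (F.d (n - 1) n).hom y) = 0 := by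
    rw [map_sub, sub_eq_zero]
    exact hy'.symm
  have h3 : x = h v + (F.d (n - 1) n).hom y + (x - h v - (F.d (n - 1) n).hom y) := by abel
  rw [h3]
  exact Submodule.add_mem_sup (Submodule.add_mem_sup ⟨v, rfl⟩ ⟨y, rfl⟩)
    (((red_oneL hφ (F.X n)).mem _).1 h2)

/-- Finiteness of top cohomology glues. -/
theorem finite_homology_of_mul (hφ : Function.Surjective φ) (hψ : Function.Surjective ψ)
    (h0 : RingHom.ker φ * RingHom.ker ψ = ⊥) (F : DRing.Cx R) (n : ℤ) (hv : DRing.VanishesAbove F n)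
    [Module.Finite B ((extCx φ F).homology n)] [Module.Finite C ((extCx ψ F).homology n)] :
    Module.Finite R (F.homology n) := by
  obtain ⟨T, hT, hT'⟩ := exists_fg_sup hφ F n hv
  obtain ⟨U, hU, hU'⟩ := exists_fg_sup hψ F n hv
  let V : Submodule R (F.X n) := (T ⊔ U) ⊔ LinearMap.range (F.d (n - 1) n).hom
  have hV : V = ⊤ := by
    have h1 : ⊤ ≤ V ⊔ RingHom.ker φ • (⊤ : Submodule R (F.X n)) :=
      hT'.ge.trans (sup_le_sup_right (sup_le_sup_right le_sup_left _) _)
    have h2 : ⊤ ≤ V ⊔ RingHom.ker ψ • (⊤ : Submodule R (F.X n)) :=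
      hU'.ge.trans (sup_le_sup_right (sup_le_sup_right le_sup_right _) _)
    refine eq_top_iff.2 (h1.trans (sup_le le_rfl ?_))
    refine (Submodule.smul_mono le_rfl h2).trans ?_
    rw [Submodule.smul_sup, ← Submodule.mul_smul, h0, Submodule.bot_smul, sup_bot_eq]
    exact Submodule.smul_le_right
  haveI : Module.Finite R (T ⊔ U : Submodule R (F.X n)) := Module.Finite.iff_fg.2 (hT.sup hU)
  have hz : ∀ x : F.X n, x ∈ LinearMap.ker (F.d n (n + 1)).hom := fun x => by
    haveI := ModuleCat.subsingleton_of_isZero (hv (n + 1) (by omega))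
    exact LinearMap.mem_ker.2 (Subsingleton.elim _ _)
  refine Module.Finite.of_surjective
    (hcls F n ∘ₗ LinearMap.codRestrict _ (T ⊔ U : Submodule R (F.X n)).subtype fun x => hz _) fun c => ?_
  obtain ⟨⟨z, hz'⟩, rfl⟩ := hcls_surjective F n c
  have hzV : z ∈ V := hV ▸ Submodule.mem_top
  obtain ⟨t, ht, r, hr, rfl⟩ := Submodule.mem_sup.1 hzV
  refine ⟨⟨t, ht⟩, (hcls_eq_iff F n _ _).2 ?_⟩
  show t - (t + r) ∈ _
  rw [sub_add_cancel_left]
  exact neg_mem hr

/-- Base change of the cone of a free representative. -/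
theorem pc_LBC_cone (φ : R →+* B) [DRing.HasLBaseChange φ] {T : Triangle (Dual.D R)}
    (hT : T ∈ distinguishedTriangles) {n : ℤ} {E F : DRing.Cx R} {b c : ℤ}
    (hE : DRing.VanishesOutside E b c) (hE' : ∀ i, FFp (E.X i)) (eE : (QA R).obj E ≅ T.obj₁)
    {d : ℤ} (hF : DRing.VanishesAbove F d) (hF' : ∀ i, Module.Projective R (F.X i)) (eF : (QA R).obj F ≅ T.obj₂)
    (h : PC n ((DRing.LBaseChange φ).obj T.obj₂)) : PC n ((DRing.LBaseChange φ).obj T.obj₃) := by
  have hEa : DRing.VanishesAbove E c := fun i hi => hE i (Or.inr hi)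
  haveI := isKProjective_of_bddAbove E c hEa fun i => proj_of_FF (hE' i)
  obtain ⟨f, hf⟩ := Q_map_surjective E F (eE.hom ≫ T.mor₁ ≫ eF.inv)
  let iso₃ := Triangle.π₃.mapIso (isoTriangleOfIso₁₂ _ T
    (DerivedCategory.mappingCone_triangle_distinguished f) hT eE eF (by
      change (QA R).map f ≫ eF.hom = eE.hom ≫ T.mor₁
      erw [hf]
      simp))
  have hMv : ∀ i, max c d < i → IsZero ((CochainComplex.mappingCone f).X i) := fun i hi => by
    refine IsZero.of_iso ?_ (HomologicalComplex.homotopyCofiber.XIsoBiprod f i (i + 1) rfl)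
    exact (biprod_isZero_iff _ _).2 ⟨hEa _ (by omega), hF _ (by omega)⟩
  have hMp : ∀ i, Module.Projective R ((CochainComplex.mappingCone f).X i) := fun i =>
    isModClass_PR.of_iso ((ModuleCat.biprodIsoProd _ _).symm ≪≫
      (HomologicalComplex.homotopyCofiber.XIsoBiprod f i (i + 1) rfl).symm)
      (isModClass_PR.prod _ _ (proj_of_FF (hE' (i + 1))) (hF' i))
  have hMk : DRing.IsKFlat R (CochainComplex.mappingCone f) :=
    isKFlat_of_flat (max c d) hMv fun i => flat_of_PR (hMp i)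
  have hFk : DRing.IsKFlat R F := isKFlat_of_flat d hF fun i => flat_of_PR (hF' i)
  have hT' := DerivedCategory.mappingCone_triangle_distinguished
    (((ModuleCat.extendScalars.{u, u, u} φ).mapHomologicalComplex (ComplexShape.up ℤ)).map f)
  have h1 : PC (n + 1) ((QA B).obj (extCx φ E)) :=
    pc_of_bff ⟨b, c, extCx φ E, fun i hi => (ModuleCat.extendScalars φ).map_isZero
      ((vanishesOutside_iff E b c).1 hE i hi), fun i => by
        letI := φ.toAlgebra
        haveI := (hE' i).1; haveI := (hE' i).2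
        exact ⟨Module.Finite.base_change R B (E.X i), (inferInstance : Module.Free B (TensorProduct R B (E.X i)))⟩,
      ⟨Iso.refl _⟩⟩
  have h2 : PC n ((QA B).obj (extCx φ F)) :=
    h.of_iso ((DRing.LBaseChange φ).mapIso eF.symm ≪≫ LBaseChangeIso φ F hFk)
  exact (PC.obj₃ hT' h1 h2).of_iso ((QA B).mapIso
    (CochainComplex.mappingCone.mapHomologicalComplexIso f (ModuleCat.extendScalars.{u, u, u} φ)).symm ≪≫
      (LBaseChangeIso φ _ hMk).symm ≪≫ (DRing.LBaseChange φ).mapIso iso₃)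

/-- Perfectness glues. -/
theorem perfect_of_mul (hφ : Function.Surjective φ) (hψ : Function.Surjective ψ)
    (h0 : RingHom.ker φ * RingHom.ker ψ = ⊥) [DRing.HasLBaseChange φ] [DRing.HasLBaseChange ψ]
    {K : Dual.D R} (hB : DRing.IsPerfect B ((DRing.LBaseChange φ).obj K))
    (hC : DRing.IsPerfect C ((DRing.LBaseChange ψ).obj K)) : DRing.IsPerfect R K := by
  obtain ⟨hBpc, a, b, hBt⟩ := (perfect_iff _).1 hB
  obtain ⟨hCpc, a', b', hCt⟩ := (perfect_iff _).1 hC
  have ht : TA (min a a') (max b b') K := ta_of_mul hφ hψ h0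
    (TA.mono hBt (min_le_left _ _) (le_max_left _ _)) (TA.mono hCt (min_le_right _ _) (le_max_right _ _))
  refine (perfect_iff K).2 ⟨(pc'_iff_forall_pc K).2 fun m => ?_, _, _, ht⟩
  refine pc_reflect_of_rel (Φ := fun n Y => (∃ c, Acyc c Y) ∧ PC n ((DRing.LBaseChange φ).obj Y) ∧
    PC n ((DRing.LBaseChange ψ).obj Y)) ?_ (fun _ _ _ hn h => ⟨h.1, h.2.1.mono hn, h.2.2.mono hn⟩) ?_
    ht.acyc ⟨⟨_, ht.acyc⟩, pc_of_pc' hBpc m, pc_of_pc' hCpc m⟩
  · rintro n Y hY ⟨-, h1, h2⟩
    obtain ⟨F, hFv, hF, ⟨f⟩⟩ := rep_free_of_acyc hY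
    have hFv' := (vanishesAbove_iff F n).2 hFv
    have hFk : DRing.IsKFlat R F := isKFlat_of_rep (fun M => flat_of_FR) hFv hF
    haveI : Module.Finite B ((extCx φ F).homology n) := by
      haveI := finite_HF_top (h1.of_iso ((DRing.LBaseChange φ).mapIso f.symm ≪≫ LBaseChangeIso φ F hFk))
        ((show Rep (fun _ => True) (Set.Iic n) _ from
          ⟨extCx φ F, fun i hi => (ModuleCat.extendScalars φ).map_isZero (hFv i hi), fun _ => trivial,
            ⟨Iso.refl _⟩⟩).acyc (m := n + 1) fun j hj => by rw [Set.mem_Iic] at hj; omega)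
      exact Module.Finite.equiv (HQIso (extCx φ F) n).toLinearEquiv
    haveI : Module.Finite C ((extCx ψ F).homology n) := by
      haveI := finite_HF_top (h2.of_iso ((DRing.LBaseChange ψ).mapIso f.symm ≪≫ LBaseChangeIso ψ F hFk))
        ((show Rep (fun _ => True) (Set.Iic n) _ from
          ⟨extCx ψ F, fun i hi => (ModuleCat.extendScalars ψ).map_isZero (hFv i hi), fun _ => trivial,
            ⟨Iso.refl _⟩⟩).acyc (m := n + 1) fun j hj => by rw [Set.mem_Iic] at hj; omega)
      exact Module.Finite.equiv (HQIso (extCx ψ F) n).toLinearEquiv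
    haveI := finite_homology_of_mul hφ hψ h0 F n hFv'
    exact Module.Finite.equiv ((HQIso F n).symm ≪≫ (HF R n).mapIso f).toLinearEquiv
  · rintro T hT n ⟨p, q, E, hEv, hE, ⟨eE⟩⟩ ⟨⟨c, hc⟩, h1, h2⟩
    obtain ⟨F, hFv, hF, ⟨eF⟩⟩ := rep_free_of_acyc (hc.mono (show c ≤ c + 1 by omega))
    have hFv' := (vanishesAbove_iff F c).2 hFv
    have hEv' := (vanishesOutside_iff E p q).2 hEv
    refine ⟨?_, pc_LBC_cone φ hT hEv' hE eE hFv' (fun i => proj_of_FR (hF i)) eF h1,
      pc_LBC_cone ψ hT hEv' hE eE hFv' (fun i => proj_of_FR (hF i)) eF h2⟩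
    exact ⟨_, (Rep.cone isModClass_PR (Set.Icc_subset_Iic_self) hT
      ⟨E, hEv, fun i => proj_of_FF (hE i), ⟨eE⟩⟩ (fun _ h => h)
      ⟨F, hFv, fun i => proj_of_FR (hF i), ⟨eF⟩⟩ (U := Set.Iic (max q c)) (fun i hi => by
        simp only [Set.mem_Icc, Set.mem_Iic] at hi ⊢; omega)).acyc (m := max q c + 1)
          fun j hj => by rw [Set.mem_Iic] at hj; omega⟩

end Groth.Agent.DR39

namespace Groth.Agent.DR39

/-- Derived base change along a composition. -/
theorem LBC_comp {R B C : Type u} [CommRing R] [CommRing B] [CommRing C] (φ : R →+* B) (ψ : B →+* C)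
    (χ : R →+* C) (h : ψ.comp φ = χ)
    [DRing.HasLBaseChange φ] [DRing.HasLBaseChange ψ] [DRing.HasLBaseChange χ] (K : Dual.D R) :
    Nonempty ((DRing.LBaseChange ψ).obj ((DRing.LBaseChange φ).obj K) ≅ (DRing.LBaseChange χ).obj K) := by
  subst h
  obtain ⟨K0, ⟨e⟩⟩ := exists_complex_iso K
  haveI := SF.isKProjective_res K0
  haveI : IsIso ((QA R).map (SF.aug K0)) :=
    (DerivedCategory.isIso_Q_map_iff_quasiIso (ModuleCat.{u} R) _).2 inferInstance
  let eP : (QA R).obj (SF.res K0) ≅ K := asIso ((QA R).map (SF.aug K0)) ≪≫ e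
  have hP : DRing.IsKFlat R (SF.res K0) := isKFlat_of_isKProjective
  exact ⟨(DRing.LBaseChange ψ).mapIso ((DRing.LBaseChange φ).mapIso eP.symm ≪≫ LBaseChangeIso φ _ hP) ≪≫
    LBaseChangeIso ψ _ (isKFlat_extendScalars φ _ hP) ≪≫
    (QA C).mapIso (show extCx ψ (extCx φ (SF.res K0)) ≅ extCx (ψ.comp φ) (SF.res K0) from HomologicalComplex.Hom.isoOfComponents
      (fun i => (((ModuleCat.extendScalarsComp φ ψ).app ((SF.res K0).X i)).symm :
        (extCx ψ (extCx φ (SF.res K0))).X i ≅ (extCx (ψ.comp φ) (SF.res K0)).X i))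
      (fun i j _ => ((ModuleCat.extendScalarsComp φ ψ).inv.naturality ((SF.res K0).d i j)).symm)) ≪≫
    (LBaseChangeIso (ψ.comp φ) _ hP).symm ≪≫ (DRing.LBaseChange (ψ.comp φ)).mapIso eP⟩

theorem ker_factor' {R : Type u} [CommRing R] {S T : Ideal R} (H : S ≤ T) :
    RingHom.ker (Ideal.Quotient.factor H) = T.map (Ideal.Quotient.mk S) := by
  refine le_antisymm (fun x hx => ?_) ?_
  · obtain ⟨r, rfl⟩ := Ideal.Quotient.mk_surjective x
    rw [RingHom.mem_ker, Ideal.Quotient.factor_mk, Ideal.Quotient.eq_zero_iff_mem] at hx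
    exact Ideal.mem_map_of_mem _ hx
  · rw [Ideal.map_le_iff_le_comap]
    intro r hr
    show Ideal.Quotient.factor H (Ideal.Quotient.mk S r) = 0
    rw [Ideal.Quotient.factor_mk, Ideal.Quotient.eq_zero_iff_mem]
    exact hr

end Groth.Agent.DR39
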