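import Groth.Agent.DR39.KoszulDepth
import Groth.Agent.DR39.Crit
import Groth.Agent.DR39.Dualizing3
import Groth.Agent.EGA4Alg4.CMMod
import Groth.Agent.CAlg1.SerreNormal
import Groth.Agent.DR39.LocalDual3
import Groth.Agent.LC15.DepthSeq

/-! Pointwise finite injective dimension implies eventual vanishing of `Hom(M, R[i])`. -/

set_option autoImplicit false
set_option linter.style.haveILetI false
set_option linter.unusedSectionVars false

universe u

open CategoryTheory CategoryTheory.Limits CategoryTheory.Pretriangulated TensorProduct RingTheory.Sequence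
open scoped Pointwise

attribute [local instance] HasDerivedCategory.standard

namespace Groth.Agent.DR39

section Local

variable {A : Type u} [CommRing A] {R : Dual.D A}

theorem gAnn_quot_regular : ∀ (rs : List A) (M : Type u) [AddCommGroup M] [Module A M] (c : ℤ),
    IsWeaklyRegular M rs → (∀ i, c < i → LC17.gAnn R (ModuleCat.of A M) i = ⊤) →
    ∀ i, c + rs.length < i → LC17.gAnn R (ModuleCat.of A (M ⧸ (Ideal.ofList rs • (⊤ : Submodule A M)))) i = ⊤
  | [], M, _, _, c, _, h, i, hi => by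
    rw [LC17.gAnn_congr R (Submodule.quotEquivOfEqBot _
      (by rw [Ideal.ofList_nil, Submodule.bot_smul])).toModuleIso]
    exact h i (by simpa using hi)
  | x :: rs, M, _, _, c, hreg, h, i, hi => by
    rw [isWeaklyRegular_cons_iff] at hreg
    rw [LC17.gAnn_congr R (Submodule.quotOfListConsSMulTopEquivQuotSMulTopInner M x rs).toModuleIso]
    refine gAnn_quot_regular rs (QuotSMulTop x M) (c + 1) hreg.2 (fun j hj => ?_) i (by
      rw [List.length_cons] at hi; push_cast at hi; omega)
    have hses := LC17.regular_ses hreg.1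
    have := LC17.gAnn_right R (LC15.seqSC_shortExact hses.1 hses.2 (Submodule.mkQ_surjective _)) j (j - 1) (by omega)
    have h1 : LC17.gAnn R (ModuleCat.of A M) (j - 1) * LC17.gAnn R (ModuleCat.of A M) j ≤
        LC17.gAnn R (ModuleCat.of A (QuotSMulTop x M)) j := this
    rw [h (j - 1) (by omega), h j (by omega), Ideal.top_mul] at h1
    exact top_le_iff.1 h1

variable [IsNoetherianRing A] [IsLocalRing A] {a : ℤ}
  (hlow : ∀ i, i < a → IsZero ((HF A i).obj R))
  (hfin : ∀ i : ℤ, Module.Finite A (Dual.HD A R i))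

include hlow hfin

theorem residue_vanish_of_depth {b : ℤ} (hb : ∀ i, b < i → IsZero ((HF A i).obj R)) {T : ℤ}
    (hT : ∀ i, T < i → LC17.gAnn R (ModuleCat.of A (A ⧸ IsLocalRing.maximalIdeal A)) i = ⊤) {D : ℕ}
    (hD : LocCoh.depth A A = D) :
    ∀ i, b + D < i → LC17.gAnn R (ModuleCat.of A (A ⧸ IsLocalRing.maximalIdeal A)) i = ⊤ := by
  obtain ⟨rs, hlen, hmem, hreg⟩ := (EGA4Alg4.natCast_le_depth_iff (A := A) (M := A) D).1 hD.ge
  let W := A ⧸ (Ideal.ofList rs • (⊤ : Submodule A A))
  have hW : ∀ i, b + D < i → LC17.gAnn R (ModuleCat.of A W) i = ⊤ := by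
    refine fun i hi => gAnn_quot_regular rs A b hreg (fun j hj => ?_) i (by omega)
    rw [← subsingleton_gm_iff]
    haveI := ModuleCat.subsingleton_of_isZero (hb j hj)
    exact (gmSelfEquiv R j).toEquiv.subsingleton
  haveI : Nontrivial W := EGA4Alg4.nontrivial_quotient_ofList (A := A) (M := A) hmem
  have h0 : LocCoh.depth A W = 0 := by
    have h1 := EGA4Alg4.depth_quotient_add_length (A := A) (M := A) hreg hmem
    rw [hD, hlen] at h1
    obtain ⟨e, he⟩ := EGA4Alg4.exists_depth_eq (A := A) (M := W)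
    have h2 : LocCoh.depth A W + (D : ℕ∞) = (D : ℕ∞) := h1
    rw [he] at h2 ⊢
    have h3 : e + D = D := by exact_mod_cast h2
    rw [show e = 0 by omega]
    rfl
  rw [EGA4Alg4.depth_eq_zero_iff, EGA4Alg4.maximalIdeal_mem_assoc_iff_nontrivial_hom] at h0
  obtain ⟨φ, hφ⟩ := exists_ne (0 : IsLocalRing.ResidueField A →ₗ[A] W)
  have hinj : Function.Injective φ := by
    haveI : IsSimpleModule A (IsLocalRing.ResidueField A) :=
      show IsSimpleModule A (A ⧸ IsLocalRing.maximalIdeal A) from
      isSimpleModule_iff_isCoatom.2 (Ideal.isMaximal_def.1 inferInstance)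
    exact (LinearMap.injective_or_eq_zero φ).resolve_right hφ
  have hS := LC17.shortExact_of_exact (φ : (A ⧸ IsLocalRing.maximalIdeal A) →ₗ[A] W)
    (LinearMap.range φ).mkQ hinj (Submodule.mkQ_surjective _) (LinearMap.exact_map_mkQ_range φ)
  suffices ∀ (e : ℕ) (i : ℤ), b + D < i → T - e < i →
      LC17.gAnn R (ModuleCat.of A (A ⧸ IsLocalRing.maximalIdeal A)) i = ⊤ from
    fun i hi => this (T - i + 1).toNat i hi (by omega)
  intro e
  induction e with
  | zero => exact fun i _ hi => hT i (by omega)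
  | succ e ih =>
    intro i hi hi'
    have h3 : LC17.gAnn R (ModuleCat.of A (W ⧸ LinearMap.range φ)) (i + 1) = ⊤ := by
      refine gAnn_top_of_residue hlow hfin i (fun M hM k hk => ?_) _ (by omega)
      rw [IsLocalRing.eq_maximalIdeal hM]
      exact ih k (by omega) (by omega)
    refine (LC17.gAnn_eq_top_iff R).2 fun f => ?_
    obtain ⟨g, rfl⟩ := LC17.pre_surjective_of_gAnn_eq_top R hS i (i + 1) rfl h3 f
    exact (congrArg _ ((LC17.gAnn_eq_top_iff R).1 (hW i hi) g)).trans (map_zero _)

theorem gAnn_top_of_regular : ∀ (rs : List A) (W : Type u) [AddCommGroup W] [Module A W] [Module.Finite A W]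
    (t : ℤ), IsWeaklyRegular W rs → (∀ r ∈ rs, r ∈ IsLocalRing.maximalIdeal A) →
    (∀ (M : Type u) [AddCommGroup M] [Module A M] [Module.Finite A M] (i : ℤ), t < i →
      LC17.gAnn R (ModuleCat.of A M) i = ⊤) →
    ∀ i, t < i + rs.length → LC17.gAnn R (ModuleCat.of A W) i = ⊤
  | [], W, _, _, _, t, _, _, h, i, hi => h W i (by simpa using hi)
  | x :: rs, W, _, _, _, t, hreg, hmem, h, i, hi => by
    rw [isWeaklyRegular_cons_iff] at hreg
    have h3 : LC17.gAnn R (ModuleCat.of A (QuotSMulTop x W)) (i + 1) = ⊤ :=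
      gAnn_top_of_regular rs (QuotSMulTop x W) t hreg.2 (fun r hr => hmem r (List.mem_cons_of_mem _ hr)) h _
        (by rw [List.length_cons] at hi; push_cast at hi; omega)
    have hses := LC17.regular_ses hreg.1
    have hS := LC15.seqSC_shortExact hses.1 hses.2 (Submodule.mkQ_surjective _)
    haveI := finite_hom_inD hlow hfin i W
    have htop : (⊤ : Submodule A (LC17.GM R (ModuleCat.of A W) i)) ≤ IsLocalRing.maximalIdeal A • ⊤ := fun g _ => by
      obtain ⟨f, hf⟩ := LC17.pre_surjective_of_gAnn_eq_top R hS i (i + 1) rfl h3 g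
      have : x • f = g := by
        rw [← LC17.pre_smul_id R x i f, ← hf]
        rfl
      rw [← this]
      exact Submodule.smul_mem_smul (hmem x (List.mem_cons_self ..)) trivial
    have := Submodule.eq_bot_of_le_smul_of_le_jacobson_bot _ _ Module.Finite.fg_top htop
      (IsLocalRing.jacobson_eq_maximalIdeal ⊥ bot_ne_top).ge
    rw [LC17.gAnn_eq_top_iff]
    intro g
    exact (Submodule.mem_bot A).1 (this ▸ (trivial : g ∈ (⊤ : Submodule A _)))

end Local

section Global

variable {A : Type u} [CommRing A] [IsNoetherianRing A]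

theorem exists_vanish_of_pointwise (R : Dual.D A) (hfin : ∀ i : ℤ, Module.Finite A (Dual.HD A R i))
    (a b : ℤ) (hab : ∀ i : ℤ, (i < a ∨ b < i) → IsZero ((HF A i).obj R))
    (hpw : ∀ q : Ideal A, ∀ [q.IsPrime], ∃ T : ℤ, ∀ i, T < i →
      LC17.gAnn ((DF (extA A (Localization.AtPrime q))).obj R)
        (ModuleCat.of (Localization.AtPrime q) (Localization.AtPrime q ⧸ IsLocalRing.maximalIdeal (Localization.AtPrime q))) i = ⊤)
    (M : Type u) [AddCommGroup M] [Module A M] [Module.Finite A M] :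
    ∃ N : ℤ, ∀ i, N < i → LC17.gAnn R (ModuleCat.of A M) i = ⊤ := by
  classical
  have step : ∀ (M : Type u) [AddCommGroup M] [Module A M] [Module.Finite A M],
      (∀ q ∈ Module.support A M, ∃ N : ℤ, ∀ i, N < i → LC17.gAnn R (ModuleCat.of A (A ⧸ q.asIdeal)) i = ⊤) →
      ∃ N : ℤ, ∀ i, N < i → LC17.gAnn R (ModuleCat.of A M) i = ⊤ := by
    intro M _ _ _
    induction ‹Module.Finite A M› using IsNoetherianRing.induction_on_isQuotientEquivQuotientPrime A with
    | subsingleton N =>
      refine fun _ => ⟨0, fun i _ => (LC17.gAnn_eq_top_iff R).2 fun f => ?_⟩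
      exact ((DerivedCategory.singleFunctor _ 0).map_isZero (ModuleCat.isZero_of_subsingleton
        (ModuleCat.of A N))).eq_of_src f 0
    | quotient N p e =>
      intro h
      obtain ⟨B, hB⟩ := h p (by rw [e.support_eq, Module.mem_support_iff_of_finite, Ideal.annihilator_quotient])
      exact ⟨B, fun i hi => by rw [LC17.gAnn_congr R e.toModuleIso]; exact hB i hi⟩
    | exact N₁ N₂ N₃ f g hf hg hfg ih₁ ih₃ =>
      intro h
      rw [Module.support_of_exact hfg hf hg] at h
      obtain ⟨B₁, h₁⟩ := ih₁ fun q hq => h q (Or.inl hq)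
      obtain ⟨B₃, h₃⟩ := ih₃ fun q hq => h q (Or.inr hq)
      refine ⟨max B₁ B₃, fun i hi => ?_⟩
      have := LC17.gAnn_mid R (LC17.shortExact_of_exact f g hf hg hfg) i
      rw [h₁ i ((le_max_left _ _).trans_lt hi), h₃ i ((le_max_right _ _).trans_lt hi), Ideal.top_mul] at this
      exact top_le_iff.1 this
  suffices ∀ (p : Ideal A), p.IsPrime → ∃ N : ℤ, ∀ i, N < i → LC17.gAnn R (ModuleCat.of A (A ⧸ p)) i = ⊤ from
    step M fun q _ => this q.asIdeal q.2
  intro p
  induction p using IsWellFounded.induction (· > · : Ideal A → Ideal A → Prop) with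
  | ind p ih =>
    intro hp
    obtain ⟨c, hcp, m, hm⟩ := exists_depth_bound p
    let μ : (A ⧸ p) →ₗ[A] A ⧸ p := c • LinearMap.id
    have hinj : Function.Injective μ := by
      rw [injective_iff_map_eq_zero]
      intro y hy
      obtain ⟨y, rfl⟩ := Ideal.Quotient.mk_surjective y
      rw [LinearMap.smul_apply, LinearMap.id_apply, ← Ideal.Quotient.mkₐ_eq_mk A, ← map_smul,
        Ideal.Quotient.mkₐ_eq_mk, Ideal.Quotient.eq_zero_iff_mem] at hy
      exact Ideal.Quotient.eq_zero_iff_mem.2 ((hp.mem_or_mem hy).resolve_left hcp)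
    obtain ⟨B₀, hB₀⟩ := step ((A ⧸ p) ⧸ LinearMap.range μ) fun q hq => by
      have hann := Module.mem_support_iff_of_finite.1 hq
      refine ih q.asIdeal (lt_of_le_of_ne (le_trans (fun a ha => Module.mem_annihilator.2 fun y => ?_) hann)
        fun heq => hcp (heq ▸ hann (Module.mem_annihilator.2 fun y => ?_))) q.2
      · obtain ⟨y, rfl⟩ := Submodule.Quotient.mk_surjective _ y
        obtain ⟨y, rfl⟩ := Ideal.Quotient.mk_surjective y
        rw [← Submodule.Quotient.mk_smul, ← Ideal.Quotient.mkₐ_eq_mk A, ← map_smul,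
          Ideal.Quotient.mkₐ_eq_mk, smul_eq_mul,
          Ideal.Quotient.eq_zero_iff_mem.2 (Ideal.mul_mem_right _ _ ha), Submodule.Quotient.mk_zero]
      · obtain ⟨y, rfl⟩ := Submodule.Quotient.mk_surjective _ y
        exact (Submodule.Quotient.mk_eq_zero _).2 ⟨y, rfl⟩
    refine ⟨max B₀ (b + m), fun i hi => (LC17.gAnn_eq_top_iff R).2 fun f => ?_⟩
    have hloc : ∀ q : Ideal A, q.IsPrime → p ≤ q → c ∉ q → ∃ s ∉ q, s • f = 0 := by
      intro q hq hpq hcq
      let B := Localization.AtPrime q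
      haveI : IsNoetherianRing B := IsLocalization.isNoetherianRing q.primeCompl _ inferInstance
      have hzero : ∀ k, (k < a ∨ b < k) → IsZero ((HF B k).obj ((DF (extA A B)).obj R)) := fun k hk => by
        obtain ⟨e⟩ := HF_DF (extA A B) R k
        exact ((extA A B).map_isZero (hab k hk)).of_iso e
      have hfinB : ∀ k : ℤ, Module.Finite B (Dual.HD B ((DF (extA A B)).obj R) k) := fun k => by
        haveI := hfin k
        exact finite_HF_DF B
      obtain ⟨T, hT⟩ := hpw q
      haveI : Nontrivial (LocalizedModule q.primeCompl (A ⧸ p)) :=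
        Module.mem_support_iff.1 (show (⟨q, hq⟩ : PrimeSpectrum A) ∈ Module.support A (A ⧸ p) by
          rw [Module.mem_support_iff_of_finite, Ideal.annihilator_quotient]; exact hpq)
      haveI : Nontrivial (B ⊗[A] (A ⧸ p)) :=
        (LocalizedModule.equivTensorProduct q.primeCompl (A ⧸ p)).toEquiv.symm.nontrivial
      obtain ⟨d, hd⟩ := EGA4Alg4.exists_depth_eq (A := B) (M := B ⊗[A] (A ⧸ p))
      obtain ⟨D, hD⟩ := EGA4Alg4.exists_depth_eq (A := B) (M := B)
      have hDd : D ≤ d + m := hm q hpq hcq d D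
        ((EGA4Alg4.depth_eq_of_equiv (LocalizedModule.equivTensorProduct q.primeCompl (A ⧸ p))).trans hd)
        ((CAlg1.depth_locSelf q).trans hD)
      have hres := residue_vanish_of_depth (fun k hk => hzero k (Or.inl hk)) hfinB
        (fun k hk => hzero k (Or.inr hk)) hT hD
      obtain ⟨rs, hlen, hmem, hreg⟩ := (EGA4Alg4.natCast_le_depth_iff (A := B) (M := B ⊗[A] (A ⧸ p)) d).1 hd.ge
      have hvan : LC17.gAnn ((DF (extA A B)).obj R) (ModuleCat.of B (B ⊗[A] (A ⧸ p))) i = ⊤ :=
        gAnn_top_of_regular (fun k hk => hzero k (Or.inl hk)) hfinB rs (B ⊗[A] (A ⧸ p)) (b + D) hreg hmem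
          (fun M _ _ _ k hk => gAnn_top_of_residue (fun k hk => hzero k (Or.inl hk)) hfinB (b + D)
            (fun P hP l hl => by rw [IsLocalRing.eq_maximalIdeal hP]; exact hres l hl) M hk) i (by
              have := (le_max_right B₀ (b + (m : ℤ))).trans_lt hi
              omega)
      obtain ⟨e⟩ := rep_inD_baseChange (A := A) (B := B) (A ⧸ p)
      haveI hsub : Subsingleton ((DF (extA A B)).obj (Dual.inD A (A ⧸ p)) ⟶ (DF (extA A B)).obj (R⟦i⟧)) :=
        @Equiv.subsingleton _ _ (Iso.homCongr e (((DF (extA A B)).commShiftIso i).app R)) (subsingleton_gm_iff.2 hvan)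
      have h1 : (1 : B) ⊗ₜ[A] f = 0 :=
        (good_shift B (pc_inD (A ⧸ p)) (fun k hk => hab k (Or.inl hk)) i).1 (Subsingleton.elim _ _)
      haveI : IsLocalizedModule q.primeCompl (TensorProduct.mk A B (Dual.inD A (A ⧸ p) ⟶ R⟦i⟧) 1) :=
        (isLocalizedModule_iff_isBaseChange q.primeCompl B _).2 (TensorProduct.isBaseChange A _ B)
      obtain ⟨s, hs⟩ := (IsLocalizedModule.eq_zero_iff q.primeCompl (TensorProduct.mk A B _ 1)).1 h1
      exact ⟨s, s.2, hs⟩
    let I : Ideal A := Ideal.torsionOf A _ f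
    have hrad : c ∈ I.radical := by
      rw [← PrimeSpectrum.vanishingIdeal_zeroLocus_eq_radical, PrimeSpectrum.mem_vanishingIdeal]
      intro q hq
      rw [PrimeSpectrum.mem_zeroLocus, SetLike.coe_subset_coe] at hq
      by_contra hcq
      obtain ⟨s, hs, hsf⟩ := hloc q.asIdeal q.2 (le_trans (fun x hx => (Ideal.mem_torsionOf_iff f x).2
        ((LC17.mem_gAnn R).1 (le_gAnn_quotient p i hx) f)) hq) hcq
      exact hs (hq ((Ideal.mem_torsionOf_iff f s).2 hsf))
    obtain ⟨k, hk⟩ := hrad
    have hk' : c ^ k • f = 0 := (Ideal.mem_torsionOf_iff f _).1 hk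
    clear hk hloc
    have hS := LC17.shortExact_of_exact μ (LinearMap.range μ).mkQ hinj (Submodule.mkQ_surjective _)
      (LinearMap.exact_map_mkQ_range μ)
    induction k with
    | zero => rwa [pow_zero, one_smul] at hk'
    | succ k ihk =>
      apply ihk
      have h1 : LC17.pre R (ModuleCat.ofHom μ) i (c ^ k • f) = 0 := by
        rw [show ModuleCat.ofHom μ = c • 𝟙 (ModuleCat.of A (A ⧸ p)) from rfl, LC17.pre_smul_id, ← mul_smul,
          ← pow_succ']
        exact hk'
      obtain ⟨g, hg⟩ := LC17.exact₂ R hS i (c ^ k • f) h1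
      rw [← hg, (LC17.gAnn_eq_top_iff R).1 (hB₀ i ((le_max_left _ _).trans_lt hi)) g, map_zero]

theorem subsingleton_of_pointwise_finiteInjDim (R : Dual.D A) (hfin : ∀ i : ℤ, Module.Finite A (Dual.HD A R i))
    (hbdd : ∃ a b : ℤ, ∀ i : ℤ, (i < a ∨ b < i) → Subsingleton (Dual.HD A R i))
    [∀ p : PrimeSpectrum A, DRing.HasLBaseChange (algebraMap A (Localization.AtPrime p.asIdeal))]
    (hpw : ∀ p : PrimeSpectrum A, DRing.HasFiniteInjDim (Localization.AtPrime p.asIdeal)
      ((DRing.LBaseChange (algebraMap A (Localization.AtPrime p.asIdeal))).obj R))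
    (M : Type u) [AddCommGroup M] [Module A M] [Module.Finite A M] :
    ∃ N : ℤ, ∀ i : ℤ, N < i → Subsingleton (Dual.inD A M ⟶ R⟦i⟧) := by
  obtain ⟨a, b, hab⟩ := hbdd
  have hres : ∀ q : Ideal A, ∀ [q.IsPrime], ∃ T : ℤ, ∀ i, T < i →
      LC17.gAnn ((DF (extA A (Localization.AtPrime q))).obj R) (ModuleCat.of (Localization.AtPrime q)
        (Localization.AtPrime q ⧸ IsLocalRing.maximalIdeal (Localization.AtPrime q))) i = ⊤ := by
    intro q _
    obtain ⟨a', T, hT⟩ := hpw ⟨q, inferInstance⟩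
    haveI : DRing.HasLBaseChange (algebraMap A (Localization.AtPrime q)) :=
      (inferInstance : DRing.HasLBaseChange (algebraMap A (Localization.AtPrime (⟨q, inferInstance⟩ : PrimeSpectrum A).asIdeal)))
    obtain ⟨e⟩ := lbcIso (B := Localization.AtPrime q) R
    refine ⟨T, fun i hi => subsingleton_gm_iff.1 ?_⟩
    have h1 : Subsingleton (Dual.inD (Localization.AtPrime q)
        (Localization.AtPrime q ⧸ IsLocalRing.maximalIdeal (Localization.AtPrime q)) ⟶
          ((DRing.LBaseChange (algebraMap A (Localization.AtPrime q))).obj R)⟦i⟧) :=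
      subsingleton_hom_of_ia hT _ (Or.inr hi)
    exact @Equiv.subsingleton _ _ (Iso.homToEquiv ((shiftFunctor _ i).mapIso e)).symm h1
  obtain ⟨N, hN⟩ := exists_vanish_of_pointwise R hfin a b
    (fun i hi => haveI := hab i hi; ModuleCat.isZero_of_subsingleton _) (fun q _ => hres q) M
  exact ⟨N, fun i hi => subsingleton_gm_iff.2 (hN i hi)⟩

end Global

end Groth.Agent.DR39
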