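import Groth.Agent.DR39.LocalFibre

/-! Base change of a dualizing complex to a polynomial ring. -/

set_option autoImplicit false
set_option linter.style.haveILetI false
set_option linter.unusedSectionVars false

universe u

open CategoryTheory CategoryTheory.Limits TensorProduct Polynomial

attribute [local instance] HasDerivedCategory.standard

namespace Groth.Agent.DR39

variable {A : Type u} [CommRing A]

section Fibre

variable (p : Ideal A) [p.IsPrime]

/-- `A[X] → κ(p)[X]` -/
noncomputable def fibreMap : A[X] →+* p.ResidueField[X] := Polynomial.mapRingHom (algebraMap A p.ResidueField)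

theorem fibreMap_eq_zero {b : A[X]} (h : fibreMap p b = 0) : b ∈ p.map (Polynomial.C : A →+* A[X]) := by
  refine Ideal.mem_map_C_iff.2 fun n => ?_
  have := congrArg (fun q => q.coeff n) h
  simpa [fibreMap, Ideal.algebraMap_residueField_eq_zero] using this

theorem exists_num (z : p.ResidueField[X]) :
    ∃ s ∉ p, ∃ b : A[X], Polynomial.C (algebraMap A p.ResidueField s) * z = fibreMap p b := by
  induction z using Polynomial.induction_on' with
  | add q r hq hr =>
    obtain ⟨s, hs, b, hb⟩ := hq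
    obtain ⟨t, ht, c, hc⟩ := hr
    refine ⟨s * t, fun h => (Ideal.IsPrime.mem_or_mem ‹p.IsPrime› h).elim hs ht, Polynomial.C t * b + Polynomial.C s * c, ?_⟩
    rw [map_add, map_mul (fibreMap p), map_mul (fibreMap p), ← hb, ← hc, map_mul, map_mul]
    simp only [fibreMap, Polynomial.coe_mapRingHom, Polynomial.map_C]
    ring
  | monomial n a =>
    obtain ⟨⟨r', s'⟩, hrs⟩ := IsLocalization.surj (nonZeroDivisors (A ⧸ p)) a
    obtain ⟨r, hr⟩ := Ideal.Quotient.mk_surjective r'
    obtain ⟨s, hs⟩ := Ideal.Quotient.mk_surjective (s' : A ⧸ p)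
    refine ⟨s, fun h => nonZeroDivisors.coe_ne_zero s' ?_, Polynomial.monomial n r, ?_⟩
    · rw [← hs]; exact Ideal.Quotient.eq_zero_iff_mem.2 h
    · simp only [fibreMap, Polynomial.coe_mapRingHom, Polynomial.map_monomial, Polynomial.C_mul_monomial]
      rw [IsScalarTower.algebraMap_apply A (A ⧸ p) p.ResidueField s,
        IsScalarTower.algebraMap_apply A (A ⧸ p) p.ResidueField r, Ideal.Quotient.algebraMap_eq, hr, hs,
        mul_comm, hrs]

theorem exists_generator (P : Ideal A[X]) :
    ∃ f ∈ P, (fibreMap p f = 0 → ∀ x ∈ P, x ∈ p.map (Polynomial.C : A →+* A[X])) ∧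
      ∀ x ∈ P, ∃ s ∉ p, Polynomial.C s * x ∈ p.map (Polynomial.C : A →+* A[X]) ⊔ Ideal.span {f} := by
  obtain ⟨g, hg⟩ := IsPrincipalIdealRing.principal (P.map (fibreMap p))
  have hgmem : g ∈ P.map (fibreMap p) := by rw [hg]; exact Submodule.mem_span_singleton_self g
  have hrep : ∀ z ∈ P.map (fibreMap p), ∃ s ∉ p, ∃ x ∈ P,
      Polynomial.C (algebraMap A p.ResidueField s) * z = fibreMap p x := by
    intro z hz
    induction hz using Submodule.span_induction with
    | mem z hz =>
      obtain ⟨x, hx, rfl⟩ := hz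
      exact ⟨1, fun h => (‹p.IsPrime›).ne_top ((Ideal.eq_top_iff_one p).2 h), x, hx, by simp⟩
    | zero => exact ⟨1, fun h => (‹p.IsPrime›).ne_top ((Ideal.eq_top_iff_one p).2 h), 0, P.zero_mem, by simp⟩
    | add u v _ _ hu hv =>
      obtain ⟨s, hs, x, hx, hxu⟩ := hu
      obtain ⟨t, ht, y, hy, hyv⟩ := hv
      refine ⟨s * t, fun h => (Ideal.IsPrime.mem_or_mem ‹p.IsPrime› h).elim hs ht,
        Polynomial.C t * x + Polynomial.C s * y, P.add_mem (P.mul_mem_left _ hx) (P.mul_mem_left _ hy), ?_⟩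
      rw [map_add, map_mul (fibreMap p), map_mul (fibreMap p), ← hxu, ← hyv, map_mul, map_mul]
      simp only [fibreMap, Polynomial.coe_mapRingHom, Polynomial.map_C]
      ring
    | smul q u _ hu =>
      obtain ⟨s, hs, x, hx, hxu⟩ := hu
      obtain ⟨t, ht, b, hb⟩ := exists_num p q
      refine ⟨s * t, fun h => (Ideal.IsPrime.mem_or_mem ‹p.IsPrime› h).elim hs ht, b * x, P.mul_mem_left _ hx, ?_⟩
      rw [map_mul (fibreMap p), ← hxu, ← hb, map_mul, map_mul, smul_eq_mul]
      ring
  obtain ⟨s0, hs0, f, hf, hfg⟩ := hrep g hgmem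
  have hs0u : Polynomial.C (algebraMap A p.ResidueField s0) ≠ 0 := by
    rw [Polynomial.C_ne_zero, Ne, Ideal.algebraMap_residueField_eq_zero]
    exact hs0
  have hx : ∀ x ∈ P, ∃ q, fibreMap p x = q * g := fun x hx => by
    have h1 : fibreMap p x ∈ P.map (fibreMap p) := Ideal.mem_map_of_mem _ hx
    rw [hg] at h1
    obtain ⟨q, hq⟩ := Submodule.mem_span_singleton.1 h1
    exact ⟨q, hq.symm⟩
  refine ⟨f, hf, fun h0 x hxP => ?_, fun x hxP => ?_⟩
  · obtain ⟨q, hq⟩ := hx x hxP
    have hg0 : g = 0 := (mul_eq_zero.1 (hfg.trans h0)).resolve_left hs0u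
    exact fibreMap_eq_zero p (by rw [hq, hg0, mul_zero])
  · obtain ⟨q, hq⟩ := hx x hxP
    obtain ⟨t, ht, b, hb⟩ := exists_num p q
    refine ⟨s0 * t, fun h => (Ideal.IsPrime.mem_or_mem ‹p.IsPrime› h).elim hs0 ht, ?_⟩
    have h2 : Polynomial.C (s0 * t) * x - b * f ∈ p.map (Polynomial.C : A →+* A[X]) := by
      refine fibreMap_eq_zero p ?_
      have hC : fibreMap p (Polynomial.C (s0 * t)) = Polynomial.C (algebraMap A p.ResidueField (s0 * t)) := by
        simp [fibreMap]
      rw [map_sub, map_mul (fibreMap p), map_mul (fibreMap p), hC, hq, ← hb, ← hfg, map_mul, map_mul]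
      ring
    refine Submodule.mem_sup.2 ⟨_, h2, b * f, Ideal.mem_span_singleton'.2 ⟨b, rfl⟩, ?_⟩
    ring

end Fibre

theorem isDualizing_polynomial {ω : Dual.D A} (hω : Dual.IsDualizing A ω) :
    Dual.IsDualizing A[X] ((DF (extA A A[X])).obj ω) := by
  haveI := hω.isNoetherianRing
  obtain ⟨a, b, hab, hid⟩ := exists_bounds hω
  refine isDualizing_of_local_residues (fun i => ?_) (a := a) (b := b + 1) (fun i hi => ?_) fun P hP => ?_
  · haveI := hω.finite_cohomology i
    exact finite_HF_DF A[X]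
  · obtain ⟨e⟩ := HF_DF (extA A A[X]) ω i
    exact ((extA A A[X]).map_isZero (hab i (Or.inl hi))).of_iso e
  let L := Localization.AtPrime P
  set p := P.comap (Polynomial.C : A →+* A[X]) with hp
  haveI : Module.Flat A L := Module.Flat.trans A A[X] L
  have hu : ∀ s : A, s ∉ p → IsUnit (algebraMap A L s) := fun s hs => by
    rw [IsScalarTower.algebraMap_apply A A[X] L]
    exact IsLocalization.map_units L (⟨Polynomial.C s, hs⟩ : P.primeCompl)
  obtain ⟨d, hdp, hd⟩ := exists_resData_flat hω L p hu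
  have hdb : d ≤ b := by
    by_contra h
    rw [subsingleton_gm_iff.1 (hid (A ⧸ p) d (Or.inr (by omega)))] at hdp
    exact (inferInstance : p.IsPrime).ne_top (top_le_iff.1 hdp)
  obtain ⟨eD⟩ := DF_comp A[X] L ω
  have hd' : ∀ (J : Ideal L) (c : ℤ), ResData ((DF (extA A L)).obj ω) J c →
      ResData ((DF (extA A[X] L)).obj ((DF (extA A A[X])).obj ω)) J c := fun J c hJ => by
    obtain ⟨hv, ⟨e⟩⟩ := hJ
    let t : ∀ i : ℤ, (Dual.inD L (L ⧸ J) ⟶ ((DF (extA A[X] L)).obj ((DF (extA A A[X])).obj ω))⟦i⟧) ≃ₗ[L]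
        (Dual.inD L (L ⧸ J) ⟶ ((DF (extA A L)).obj ω)⟦i⟧) := fun i =>
      CategoryTheory.Linear.homCongr L (Iso.refl _) ((CategoryTheory.shiftFunctor (Dual.D L) i).mapIso eD)
    exact ⟨fun i hi => @Equiv.subsingleton _ _ (t i).toEquiv (hv i hi), ⟨(t c).trans e⟩⟩
  obtain ⟨f, hfP, hf0, hfgen⟩ := exists_generator p P
  have hpL : p.map (algebraMap A L) = (p.map (Polynomial.C : A →+* A[X])).map (algebraMap A[X] L) := by
    rw [Ideal.map_map]
    rfl
  have hCp : p.map (Polynomial.C : A →+* A[X]) ≤ P := Ideal.map_comap_le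
  have hmax : (IsLocalRing.maximalIdeal L) = P.map (algebraMap A[X] L) :=
    Localization.AtPrime.map_eq_maximalIdeal.symm
  by_cases h0 : fibreMap p f = 0
  · refine ⟨d, by omega, hd' _ _ (hd.congr ?_)⟩
    rw [hpL, hmax]
    exact le_antisymm (Ideal.map_mono hCp) (Ideal.map_mono (hf0 h0))
  · refine ⟨d + 1, by omega, hd' _ _ ((hd.step (x := algebraMap A[X] L f) fun y hy => ?_).congr ?_)⟩
    · obtain ⟨⟨z, t⟩, hzt⟩ := IsLocalization.surj P.primeCompl y
      have h1 : algebraMap A[X] L (f * z) ∈ (p.map (Polynomial.C : A →+* A[X])).map (algebraMap A[X] L) := by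
        rw [map_mul, ← hzt, ← mul_assoc, ← hpL]
        exact Ideal.mul_mem_right _ _ hy
      obtain ⟨⟨⟨j, hj⟩, u⟩, hju⟩ := (IsLocalization.mem_map_algebraMap_iff P.primeCompl L).1 h1
      rw [← map_mul] at hju
      obtain ⟨w, hw⟩ := (IsLocalization.eq_iff_exists P.primeCompl L).1 hju
      have hz : z ∈ p.map (Polynomial.C : A →+* A[X]) := by
        have hker : ∀ q ∈ p.map (Polynomial.C : A →+* A[X]), fibreMap p q = 0 := fun q hq => by
          refine Polynomial.ext fun n => ?_
          simp [fibreMap, Ideal.mem_map_C_iff.1 hq n]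
        have h2 : (fibreMap p (w : A[X])) * (fibreMap p f * fibreMap p z * fibreMap p (u : A[X])) = 0 := by
          rw [← map_mul, ← map_mul, ← map_mul, hw, map_mul, hker j hj, mul_zero]
        have hne : ∀ v : A[X], v ∉ P → fibreMap p v ≠ 0 := fun v hv h => hv (hCp (fibreMap_eq_zero p h))
        simp only [mul_eq_zero, hne _ w.2, hne _ u.2, h0, false_or, or_false] at h2
        exact fibreMap_eq_zero p h2
      rw [hpL]
      have hy' : y * algebraMap A[X] L (t : A[X]) ∈ (p.map (Polynomial.C : A →+* A[X])).map (algebraMap A[X] L) := by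
        rw [hzt]
        exact Ideal.mem_map_of_mem _ hz
      exact (Ideal.mul_unit_mem_iff_mem _ (IsLocalization.map_units L t)).1 hy'
    · refine le_antisymm (sup_le ?_ ((Ideal.span_singleton_le_iff_mem _).2 ?_)) ?_
      · rw [hpL, hmax]; exact Ideal.map_mono hCp
      · rw [hmax]; exact Ideal.mem_map_of_mem _ hfP
      · rw [hmax, Ideal.map_le_iff_le_comap]
        intro x hx
        obtain ⟨s, hs, hsx⟩ := hfgen x hx
        have h3 : algebraMap A[X] L (Polynomial.C s * x) ∈
            p.map (algebraMap A L) ⊔ Ideal.span {algebraMap A[X] L f} := by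
          have := Ideal.mem_map_of_mem (algebraMap A[X] L) hsx
          rwa [Ideal.map_sup, ← hpL, Ideal.map_span, Set.image_singleton] at this
        rw [map_mul] at h3
        exact (Ideal.unit_mul_mem_iff_mem _ (IsLocalization.map_units L (⟨Polynomial.C s, hs⟩ : P.primeCompl))).1 h3

end Groth.Agent.DR39
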