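import Groth.Agent.DR39.Fibre2
import Groth.Agent.DR39.Gldim
import Groth.Agent.DR39.Dualizing
import Groth.Agent.FlatMor67.SmoothIsRegular

/-! A flat finite type algebra is perfect over a polynomial algebra presenting it. -/

set_option autoImplicit false
set_option linter.style.haveILetI false
set_option linter.unusedSectionVars false

universe u

open CategoryTheory CategoryTheory.Limits TensorProduct

attribute [local instance] HasDerivedCategory.standard

namespace Groth.Agent.DR39

theorem gldim_mvPolynomial (k : Type u) [Field k] (n : ℕ) (M : Type u) [AddCommGroup M]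
    [Module (MvPolynomial (Fin n) k) M] :
    HasProjectiveDimensionLT (ModuleCat.of (MvPolynomial (Fin n) k) M) (n + 1) := by
  haveI : Algebra.Smooth k (MvPolynomial (Fin n) k) := ⟨inferInstance, inferInstance⟩
  haveI := FlatMor67.isRegularRing_of_smooth k (MvPolynomial (Fin n) k)
  refine gldim_of_regular (fun p => IsRegularRing.isRegularLocalRing_localization p.asIdeal) n ?_ M
  rw [MvPolynomial.ringKrullDim_of_isNoetherianRing, ringKrullDim_eq_zero_of_field]
  simp

/-- A flat finite type `R`-algebra is perfect, of tor amplitude `[-n, 0]`, over a polynomial algebra in `n`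
variables of which it is a quotient. -/
theorem perfect_presentation {R A : Type u} [CommRing R] [CommRing A] [IsNoetherianRing R] [Algebra R A]
    [Module.Flat R A] (n : ℕ) [Algebra (MvPolynomial (Fin n) R) A]
    [IsScalarTower R (MvPolynomial (Fin n) R) A]
    (hψ : Function.Surjective (algebraMap (MvPolynomial (Fin n) R) A)) :
    DRing.IsPerfect (MvPolynomial (Fin n) R) (Dual.inD (MvPolynomial (Fin n) R) A) ∧
      TA (-(n : ℤ)) 0 (Dual.inD (MvPolynomial (Fin n) R) A) := by
  let P := MvPolynomial (Fin n) R
  haveI : Module.Finite P A := Module.Finite.of_surjective (Algebra.linearMap P A) hψ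
  obtain ⟨E, hv, hE, ⟨e⟩⟩ := baff_of_forall_pc (b := 0) (acyc_single _ 0 1 one_pos) (fun m => pc_inD (A := P) A m)
  have hv' : DRing.VanishesAbove E 0 := (vanishesAbove_iff E 0).2 hv
  have hB : ∀ j, Module.Flat P (E.X j) := fun j => flat_of_PR (proj_of_FF (hE j))
  let RE := (DRing.restrictCx (algebraMap R P)).obj E
  have hRk : DRing.IsKFlat R RE := isKFlat_of_flat 0
    (fun j hj => (ModuleCat.restrictScalars _).map_isZero (hv' j hj)) fun j => flat_restrictCx E j (hB j)
  let el : ((ModuleCat.restrictScalars.{u} (algebraMap R P)).obj (ModuleCat.of P A) : ModuleCat.{u} R) ≅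
      ModuleCat.of R A := LinearEquiv.toModuleIso
    ({ toFun := fun x => (show A from x)
       invFun := fun x => (show A from x)
       map_add' := fun _ _ => rfl
       map_smul' := fun r x => algebraMap_smul P r (show A from x)
       left_inv := fun _ => rfl
       right_inv := fun _ => rfl } :
      ((ModuleCat.restrictScalars.{u} (algebraMap R P)).obj (ModuleCat.of P A) : ModuleCat.{u} R) ≃ₗ[R] A)
  let eR : DRing.toD RE ≅ Dual.inD R A :=
    (restrictDIso (algebraMap R P) E).symm ≪≫ (DRing.restrictD (algebraMap R P)).mapIso e ≪≫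
      ((ModuleCat.restrictScalars.{u} (algebraMap R P)).mapDerivedCategorySingleFunctor 0).app _ ≪≫
        (DerivedCategory.singleFunctor (ModuleCat.{u} R) 0).mapIso el
  obtain ⟨G, hGv, hG, ⟨gG⟩⟩ := (ta_iff_rep 0 0 _).1 (ta_inD_of_flat (A := R) A)
  have hmain := perfect_of_flat_fibres (A := R) E 0 hv' hE e 0 0 n fun m hm => ?_
  · simpa using hmain
  haveI := hm
  let p : Ideal R := m.comap (algebraMap R P)
  haveI : p.IsPrime := Ideal.IsPrime.comap _
  let f0 : R →+* P ⧸ m := (Ideal.Quotient.mk m).comp (algebraMap R P)
  letI := Ideal.Quotient.field m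
  have h1 : p ≤ RingHom.ker f0 := fun x hx => Ideal.Quotient.eq_zero_iff_mem.2 hx
  have h2 : p.primeCompl ≤ (IsUnit.submonoid (P ⧸ m)).comap f0 := fun x hx =>
    IsUnit.mk0 _ fun h0 => hx (Ideal.Quotient.eq_zero_iff_mem.1
      (show Ideal.Quotient.mk m (algebraMap R P x) = 0 from h0) : algebraMap R P x ∈ m)
  let g : p.ResidueField →+* P ⧸ m := Ideal.ResidueField.lift p f0 h1 h2
  let q' : MvPolynomial (Fin n) p.ResidueField →+* P ⧸ m :=
    MvPolynomial.eval₂Hom g fun i => Ideal.Quotient.mk m (MvPolynomial.X i)
  refine ⟨ModuleCat.of R p.ResidueField, MvPolynomial (Fin n) p.ResidueField, inferInstance,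
    MvPolynomial.map (algebraMap R p.ResidueField),
    { toFun := fun x => MvPolynomial.algebraTensorAlgEquiv R p.ResidueField (TensorProduct.comm R P p.ResidueField x)
      invFun := fun x => (TensorProduct.comm R P p.ResidueField).symm
        ((MvPolynomial.algebraTensorAlgEquiv R p.ResidueField).symm x)
      map_add' := fun x y => by simp only [map_add]; rfl
      map_smul' := fun r x => ?_
      left_inv := fun x => by simp
      right_inv := fun x => by simp },
    q', MvPolynomial.ringHom_ext (fun r => ?_) (fun i => ?_), fun i hi => ?_,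
    fun M _ _ => gldim_mvPolynomial _ n M⟩
  · show _ = MvPolynomial.map (algebraMap R p.ResidueField) r * _
    induction x using TensorProduct.induction_on with
    | zero => simp
    | add y z hy hz => simp only [smul_add, map_add, mul_add, hy, hz]
    | tmul y z =>
      simp only [TensorProduct.smul_tmul', TensorProduct.comm_tmul, smul_eq_mul]
      rw [MvPolynomial.algebraTensorAlgEquiv_tmul, MvPolynomial.algebraTensorAlgEquiv_tmul, map_mul]
      rw [mul_smul_comm]
  · simp [q', g, f0, Ideal.ResidueField.lift_algebraMap]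
    rfl
  · simp [q']
  · obtain ⟨t⟩ := tensor_iso (isKFlat_of_flat 0 (fun j hj => hGv j fun hm => absurd hm.2 (by omega)) hG)
      hRk (gG ≪≫ eR.symm) (ModuleCat.of R p.ResidueField) i
    rw [← isZero_tensorCx_iff]
    refine IsZero.of_iso ?_ t.symm
    haveI := ModuleCat.subsingleton_of_isZero (hGv i fun hm => by obtain ⟨h1, h2⟩ := hm; omega)
    exact (isZero_tensorCx_iff G _ i).2 fun x _ => ⟨0, Subsingleton.elim _ _⟩

end Groth.Agent.DR39
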