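import Groth.Agent.DR39.TensorDual
import Groth.Agent.DR39.TA
import Mathlib.LinearAlgebra.TensorProduct.Finiteness
import Mathlib.LinearAlgebra.Finsupp.Supported
import Mathlib.Algebra.Module.FinitePresentation

/-! Pure acyclic complexes are K-flat. -/

set_option autoImplicit false
set_option linter.style.haveILetI false
set_option linter.unusedSectionVars false

universe u

open CategoryTheory CategoryTheory.Limits
open scoped TensorProduct

namespace Groth.Agent.DR39

variable {A : Type u} [CommRing A]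

theorem exT_all_of_fp (P : DRing.Cx A) (i : ℤ)
    (h : ∀ (M : Type u) [AddCommGroup M] [Module A M], Module.FinitePresentation A M → ExT P (ModuleCat.of A M) i)
    (M : ModuleCat.{u} A) : ExT P M i := by
  classical
  intro x hx
  change P.X i ⊗[A] M at x
  let π : (M →₀ A) →ₗ[A] M := Finsupp.linearCombination A (id : M → M)
  have hπ : Function.Surjective π := Finsupp.linearCombination_surjective A Function.surjective_id
  obtain ⟨x', rfl⟩ := LinearMap.lTensor_surjective (P.X i) hπ x
  let N := LinearMap.ker π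
  have h1 : π.lTensor (P.X (i + 1)) ((P.d i (i + 1)).hom.rTensor _ x') = 0 := by
    rw [← LinearMap.comp_apply, LinearMap.lTensor_comp_rTensor, ← LinearMap.rTensor_comp_lTensor,
      LinearMap.comp_apply]
    exact hx
  have hex : Function.Exact (LinearMap.ker π).subtype π := LinearMap.exact_subtype_ker_map π
  have hexT := @lTensor_exact A (LinearMap.ker π) (M →₀ A) M _ _ _ _ _ _ _ (LinearMap.ker π).subtype π (P.X (i + 1)) _ _ hex hπ
  obtain ⟨z, hz⟩ := (hexT _).1 h1
  obtain ⟨N0, hN0, hzN0⟩ := TensorProduct.exists_finite_submodule_right_of_setFinite {z} (Set.finite_singleton z)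
  obtain ⟨z0, hz0⟩ := hzN0 (Set.mem_singleton z)
  obtain ⟨T, hT, hxT⟩ := TensorProduct.exists_finite_submodule_right_of_setFinite {x'} (Set.finite_singleton x')
  obtain ⟨x0, hx0⟩ := hxT (Set.mem_singleton x')
  haveI := hN0; haveI := hT
  let U : Submodule A (M →₀ A) := T ⊔ N0.map N.subtype
  obtain ⟨G, hG⟩ : U.FG := (Module.Finite.iff_fg.1 hT).sup ((Module.Finite.iff_fg.1 hN0).map _)
  let s : Finset M := G.biUnion Finsupp.support
  have hU : U ≤ Finsupp.supported A A (s : Set M) := by
    rw [← hG, Submodule.span_le]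
    intro g hg
    exact (Finsupp.mem_supported A g).2 fun m hm => Finset.mem_biUnion.2 ⟨g, hg, hm⟩
  let S := Finsupp.supported A A (s : Set M)
  haveI : Module.Finite A S := Module.Finite.equiv (Finsupp.supportedEquivFinsupp (s : Set M)).symm
  haveI : Module.Free A S := Module.Free.of_equiv (Finsupp.supportedEquivFinsupp (s : Set M)).symm
  letI : AddCommGroup S := Submodule.addCommGroup (module_M := (inferInstance : Module A (M →₀ A))) S
  let j0 : N0 →ₗ[A] S := LinearMap.codRestrict S (N.subtype ∘ₗ N0.subtype)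
    fun n => hU (Submodule.mem_sup_right ⟨n.1, n.2, rfl⟩)
  let jT : T →ₗ[A] S := Submodule.inclusion (le_sup_left.trans hU)
  let R0 : Submodule A S := LinearMap.range j0
  haveI : Module.FinitePresentation A (S ⧸ R0) :=
    Module.finitePresentation_of_free_of_surjective _ R0.mkQ_surjective
      (by rw [Submodule.ker_mkQ]; show (LinearMap.range j0).FG; rw [LinearMap.range_eq_map]; exact Module.Finite.fg_top.map _)
  let q : (S ⧸ R0) →ₗ[A] M := R0.liftQ (π ∘ₗ S.subtype) (by
    rintro _ ⟨n, rfl⟩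
    exact n.1.2)
  have hcyc : (P.d i (i + 1)).hom.rTensor (S ⧸ R0) (R0.mkQ.lTensor _ (jT.lTensor _ x0)) = 0 := by
    have e1 : (P.d i (i + 1)).hom.rTensor S (jT.lTensor _ x0) = j0.lTensor _ z0 := by
      have hinj : Function.Injective (S.subtype.lTensor (P.X (i + 1))) := by
        obtain ⟨r, hr⟩ : ∃ r : (M →₀ A) →ₗ[A] S, r ∘ₗ S.subtype = LinearMap.id :=
          ⟨Finsupp.restrictDom A A (s : Set M), Finsupp.restrictDom_comp_subtype _⟩
        refine Function.LeftInverse.injective (g := r.lTensor (P.X (i + 1))) fun w => ?_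
        rw [← LinearMap.comp_apply, ← LinearMap.lTensor_comp, hr, LinearMap.lTensor_id, LinearMap.id_apply]
      apply hinj
      rw [← LinearMap.comp_apply, LinearMap.lTensor_comp_rTensor, ← LinearMap.rTensor_comp_lTensor,
        LinearMap.comp_apply, ← LinearMap.comp_apply (S.subtype.lTensor _), ← LinearMap.lTensor_comp,
        ← LinearMap.comp_apply (S.subtype.lTensor _), ← LinearMap.lTensor_comp]
      have e2 : T.subtype.lTensor (P.X i) x0 = x' := hx0
      have e3 : N0.subtype.lTensor (P.X (i + 1)) z0 = z := hz0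
      rw [show S.subtype ∘ₗ jT = T.subtype from rfl, show S.subtype ∘ₗ j0 = N.subtype ∘ₗ N0.subtype from rfl,
        LinearMap.lTensor_comp, LinearMap.comp_apply, e2, e3]
      exact hz.symm
    rw [← LinearMap.comp_apply, LinearMap.rTensor_comp_lTensor, ← LinearMap.lTensor_comp_rTensor,
      LinearMap.comp_apply, e1, ← LinearMap.comp_apply, ← LinearMap.lTensor_comp,
      show R0.mkQ ∘ₗ j0 = 0 from LinearMap.ext fun n => (Submodule.Quotient.mk_eq_zero R0).2 ⟨n, rfl⟩]
    simp
  obtain ⟨y, hy⟩ := h (S ⧸ R0) inferInstance _ hcyc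
  refine ⟨q.lTensor _ y, ?_⟩
  show (P.d (i - 1) i).hom.rTensor M _ = π.lTensor (P.X i) x'
  have hy' : (P.d (i - 1) i).hom.rTensor (S ⧸ R0) y = R0.mkQ.lTensor _ (jT.lTensor _ x0) := hy
  rw [← LinearMap.comp_apply, LinearMap.rTensor_comp_lTensor, ← LinearMap.lTensor_comp_rTensor,
    LinearMap.comp_apply, hy', ← LinearMap.comp_apply, ← LinearMap.lTensor_comp, ← LinearMap.comp_apply,
    ← LinearMap.lTensor_comp, show (q ∘ₗ R0.mkQ) ∘ₗ jT = π ∘ₗ T.subtype from rfl, LinearMap.lTensor_comp,
    LinearMap.comp_apply]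
  exact congrArg (π.lTensor (P.X i)) hx0

variable {P : DRing.Cx A}

/-- The dual complex of a pure acyclic complex stays exact under `Hom(M, -)`. -/
theorem exists_lift_dual (h : ∀ (M : ModuleCat.{u} A) i, ExT P M i) (n p : ℤ) {M : Type u} [AddCommGroup M]
    [Module A M] (f : M →ₗ[A] (dualCx P n).X p) (hf : ((dualCx P n).d p (p + 1)).hom ∘ₗ f = 0) :
    ∃ g : M →ₗ[A] (dualCx P n).X (p - 1), ((dualCx P n).d (p - 1) p).hom ∘ₗ g = f := by
  let φ : P.X (n - p) ⊗[A] M →ₗ[A] CharacterModule A := TensorProduct.lift (toL P n p ∘ₗ f).flip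
  have hker : LinearMap.ker ((P.d (n - p) (n - (p - 1))).hom.rTensor M) ≤ LinearMap.ker φ := by
    intro w hw
    have key : ∀ j k, j + 1 = n - p → n - p + 1 = k → ∀ w : P.X (n - p) ⊗[A] M,
        (P.d (n - p) k).hom.rTensor M w = 0 → w ∈ LinearMap.range ((P.d j (n - p)).hom.rTensor M) := by
      intro j k hj hk w hw
      subst hk
      obtain rfl : j = n - p - 1 := by omega
      exact h (ModuleCat.of A M) (n - p) w hw
    obtain ⟨v, rfl⟩ := key (n - (p + 1)) (n - (p - 1)) (by omega) (by omega) w hw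
    show φ _ = 0
    induction v using TensorProduct.induction_on with
    | zero => simp
    | add a b ha hb =>
      have hm : ∀ v, (P.d (n - p) (n - (p - 1))).hom.rTensor M ((P.d (n - (p + 1)) (n - p)).hom.rTensor M v) = 0 := fun v => by
        rw [← LinearMap.comp_apply, ← LinearMap.rTensor_comp, ← ModuleCat.hom_comp, P.d_comp_d]
        simp
      rw [map_add, map_add, ha (hm a), hb (hm b), add_zero]
    | tmul a m =>
      have := LinearMap.congr_fun (congrArg (toL P n (p + 1)) (LinearMap.congr_fun hf m)) a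
      simp only [LinearMap.comp_apply, dualCx_d_apply, LinearMap.zero_apply, map_zero] at this
      simpa [φ, smul_eq_zero_iff_eq] using this
  obtain ⟨ψ, hψ⟩ := EA_extend ((LinearMap.ker ((P.d (n - p) (n - (p - 1))).hom.rTensor M)).liftQ
    ((P.d (n - p) (n - (p - 1))).hom.rTensor M) le_rfl)
    (LinearMap.ker_eq_bot.1 (Submodule.ker_liftQ_eq_bot _ _ _ le_rfl)) (Submodule.liftQ _ φ hker)
  let g : M →ₗ[A] (dualCx P n).X (p - 1) := p.negOnePow • (TensorProduct.curry ψ).flip
  refine ⟨g, LinearMap.ext fun m => toL_injective p (LinearMap.ext fun x => ?_)⟩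
  rw [LinearMap.comp_apply, dualCx_d_apply]
  show p.negOnePow • p.negOnePow • ψ ((P.d (n - p) (n - (p - 1))).hom x ⊗ₜ[A] m) = _
  rw [smul_smul, Int.units_mul_self, one_smul]
  exact LinearMap.congr_fun hψ (Submodule.Quotient.mk (x ⊗ₜ[A] m))

/-- A complex with split boundaries is contractible. -/
theorem contractible_of_split (D : DRing.Cx A)
    (hs : ∀ p q : ℤ, q + 1 = p → ∃ s : LinearMap.ker (D.d p (p + 1)).hom →ₗ[A] D.X q,
      (D.d q p).hom ∘ₗ s = (LinearMap.ker (D.d p (p + 1)).hom).subtype) :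
    Nonempty (Homotopy (𝟙 D) 0) := by
  choose s hs' using hs
  have hd : ∀ p (x : D.X p), (D.d p (p + 1)).hom x ∈ LinearMap.ker (D.d (p + 1) (p + 1 + 1)).hom :=
    fun p x => d_apply_d D _ _ _ x
  let dz : ∀ p, D.X p →ₗ[A] LinearMap.ker (D.d (p + 1) (p + 1 + 1)).hom := fun p =>
    LinearMap.codRestrict _ _ (hd p)
  have hsd : ∀ p q (hq : q + 1 = p) z, (D.d q p).hom (s p q hq z) = z.1 := fun p q hq => LinearMap.congr_fun (hs' p q hq)
  have hz : ∀ p (x : D.X p), x - s (p + 1) p rfl (dz p x) ∈ LinearMap.ker (D.d p (p + 1)).hom := fun p x => by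
    rw [LinearMap.mem_ker, map_sub, hsd]
    exact sub_self _
  let zp : ∀ p, D.X p →ₗ[A] LinearMap.ker (D.d p (p + 1)).hom := fun p =>
    LinearMap.codRestrict _ (LinearMap.id - s (p + 1) p rfl ∘ₗ dz p) (hz p)
  refine ⟨{ hom := fun i j => if hij : j + 1 = i then ModuleCat.ofHom (s i j hij ∘ₗ zp i) else 0
            zero := fun i j hij => dif_neg hij
            comm := fun i => ?_ }⟩
  rw [dNext_eq _ (show (ComplexShape.up ℤ).Rel i (i + 1) from rfl),
    prevD_eq _ (show (ComplexShape.up ℤ).Rel (i - 1) i from sub_add_cancel i 1),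
    dif_pos (rfl : i + 1 = i + 1), dif_pos (sub_add_cancel i 1)]
  refine ModuleCat.hom_ext (LinearMap.ext fun (x : D.X i) => ?_)
  show x = s (i + 1) i rfl (zp (i + 1) ((D.d i (i + 1)).hom x)) +
    (D.d (i - 1) i).hom (s i (i - 1) _ (zp i x)) + 0
  rw [hsd, add_zero]
  show x = s (i + 1) i rfl (zp (i + 1) ((D.d i (i + 1)).hom x)) + (x - s (i + 1) i rfl (dz i x))
  have : zp (i + 1) ((D.d i (i + 1)).hom x) = dz i x := Subtype.ext (by
    show (D.d i (i + 1)).hom x - s (i + 1 + 1) (i + 1) rfl (dz (i + 1) ((D.d i (i + 1)).hom x)) = _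
    rw [show dz (i + 1) ((D.d i (i + 1)).hom x) = 0 from Subtype.ext (d_apply_d D _ _ _ x), map_zero, sub_zero]
    rfl)
  rw [this]
  exact (add_sub_cancel _ _).symm

/-- The dual of a pure acyclic complex is contractible. -/
theorem dual_contractible (h : ∀ (M : ModuleCat.{u} A) i, ExT P M i) (n : ℤ) :
    Nonempty (Homotopy (𝟙 (dualCx P n)) 0) := by
  refine contractible_of_split _ fun p q hq => ?_
  obtain rfl : q = p - 1 := by omega
  exact exists_lift_dual h n p _ (LinearMap.ext fun z => z.2)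

theorem isKFlat_of_exT (h : ∀ (M : ModuleCat.{u} A) i, ExT P M i) : DRing.IsKFlat A P := by
  rw [isKFlat_iff_dual]
  intro n
  obtain ⟨H⟩ := dual_contractible h n
  exact ⟨fun {M} g _ => ⟨(Homotopy.ofEq (Category.comp_id g).symm).trans
    ((H.compLeft g).trans (Homotopy.ofEq comp_zero))⟩⟩

end Groth.Agent.DR39
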