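import Groth.Prelude.Def_QFDual
import Mathlib

/-! Associated primes of the dualizing module of a quasi-finite map. -/

set_option autoImplicit false
set_option linter.style.haveILetI false

universe u

open TensorProduct

namespace Groth.Agent.DR39

/-- a nonzero functional on a finite domain extension -/
theorem exists_functional {A0 C : Type u} [CommRing A0] [IsDomain A0] [CommRing C] [IsDomain C]
    [Algebra A0 C] [Module.Finite A0 C] (hinj : Function.Injective (algebraMap A0 C)) :
    ∃ lam : C →ₗ[A0] A0, lam ≠ 0 := by
  classical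
  let K := FractionRing A0
  let S := nonZeroDivisors A0
  let V := K ⊗[A0] C
  have hne : (1 : K) ⊗ₜ[A0] (1 : C) ≠ 0 := fun h => by
    obtain ⟨s, hs⟩ := (IsLocalizedModule.eq_zero_iff S (TensorProduct.mk A0 K C 1)).1 h
    rw [Submonoid.smul_def, Algebra.smul_def, mul_one, ← map_zero (algebraMap A0 C)] at hs
    exact nonZeroDivisors.ne_zero s.2 (hinj hs)
  obtain ⟨lK, hlK⟩ := (LinearMap.toSpanSingleton K V ((1 : K) ⊗ₜ (1 : C))).exists_leftInverse_of_injective
    (LinearMap.ker_toSpanSingleton K hne)
  let l0 : C →ₗ[A0] K := (lK.restrictScalars A0).comp (TensorProduct.mk A0 K C 1)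
  have h1 : l0 1 = 1 := by
    have := LinearMap.congr_fun hlK 1
    exact (congrArg lK (one_smul K _).symm).trans this
  obtain ⟨T, hT⟩ := (inferInstance : Module.Finite A0 C).fg_top
  obtain ⟨b, hb⟩ := IsLocalization.exist_integer_multiples S T l0
  have hrange : ∀ c, ((b : A0) • l0) c ∈ LinearMap.range (Algebra.linearMap A0 K) := fun c => by
    have hc : c ∈ Submodule.span A0 (T : Set C) := hT.symm ▸ Submodule.mem_top
    induction hc using Submodule.span_induction with
    | mem y hy => exact hb y hy
    | zero => rw [map_zero]; exact Submodule.zero_mem _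
    | add y z _ _ hy hz => rw [map_add]; exact Submodule.add_mem _ hy hz
    | smul r y _ hy => rw [map_smul]; exact Submodule.smul_mem _ r hy
  choose g hg using hrange
  have hK : Function.Injective (Algebra.linearMap A0 K) := IsFractionRing.injective A0 K
  refine ⟨{ toFun := g
            map_add' := fun x y => hK (by rw [map_add, hg, hg, hg, map_add])
            map_smul' := fun r x => hK (by rw [RingHom.id_apply, map_smul, hg, hg, map_smul]) }, fun h => ?_⟩
  have h2 := hg 1
  rw [show g 1 = 0 from LinearMap.congr_fun h 1, map_zero, LinearMap.smul_apply, h1, Algebra.smul_def, mul_one] at h2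
  exact nonZeroDivisors.ne_zero b.2 (hK (h2.symm.trans (map_zero _).symm))

theorem associatedPrimes_Omega {A B' : Type u} [CommRing A] [CommRing B'] [IsNoetherianRing A] [Algebra A B']
    [Module.Finite A B'] :
    associatedPrimes B' (Disc.Omega A B') = {q | q.IsPrime ∧ q.comap (algebraMap A B') ∈ associatedPrimes A A} := by
  haveI : IsNoetherianRing B' := IsNoetherianRing.of_finite A B'
  ext q
  constructor
  · intro hq
    obtain ⟨hqp, φ, hφ⟩ := isAssociatedPrime_iff.1 hq
    refine ⟨hqp, ?_⟩
    let N := LinearMap.range φ.toLinearMap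
    have hann : q.comap (algebraMap A B') = Module.annihilator A N := by
      ext a
      rw [Ideal.mem_comap, hφ, Submodule.mem_colon_singleton, Submodule.mem_bot, Module.mem_annihilator]
      constructor
      · rintro h ⟨_, x, rfl⟩
        refine Subtype.ext ?_
        show a • φ.toLinearMap x = 0
        rw [← map_smul, Algebra.smul_def]
        exact congrArg (fun w : Disc.Omega A B' => w.toLinearMap x) h
      · intro h
        refine Disc.Omega.ext (LinearMap.ext fun x => ?_)
        show φ.toLinearMap (algebraMap A B' a * x) = 0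
        rw [← Algebra.smul_def, map_smul]
        exact congrArg Subtype.val (h ⟨_, x, rfl⟩)
    haveI hp : (q.comap (algebraMap A B')).IsPrime := Ideal.IsPrime.comap _
    haveI : Module.Finite A N := Module.Finite.range _
    have hmin : q.comap (algebraMap A B') ∈ (Module.annihilator A N).minimalPrimes := by
      rw [← hann, Ideal.minimalPrimes_eq_subsingleton_self]
      exact Set.mem_singleton _
    exact associatedPrimes.subset_of_injective (f := N.subtype) Subtype.val_injective
      (Module.associatedPrimes.minimalPrimes_annihilator_subset_associatedPrimes A N hmin)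
  · rintro ⟨hqp, hp⟩
    haveI := hqp
    set p := q.comap (algebraMap A B') with hpdef
    obtain ⟨hpp, ι, hι⟩ := (isAssociatedPrime_iff_exists_injective_linearMap _ _).1 hp
    haveI := hpp
    letI : Algebra (A ⧸ p) (B' ⧸ q) := Ideal.Quotient.algebraQuotientOfLEComap le_rfl
    haveI : IsScalarTower A (A ⧸ p) (B' ⧸ q) := IsScalarTower.of_algebraMap_eq fun _ => rfl
    haveI : Module.Finite (A ⧸ p) (B' ⧸ q) := Module.Finite.of_restrictScalars_finite A _ _
    have hinj : Function.Injective (algebraMap (A ⧸ p) (B' ⧸ q)) :=
      Ideal.quotientMap_injective' (f := algebraMap A B') (H := le_rfl) le_rfl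
    obtain ⟨lam, hlam⟩ := exists_functional hinj
    let φ : Disc.Omega A B' :=
      ⟨ι.comp ((lam.restrictScalars A).comp (Ideal.Quotient.mkₐ A q).toLinearMap)⟩
    refine isAssociatedPrime_iff.2 ⟨hqp, φ, ?_⟩
    ext b
    rw [Submodule.mem_colon_singleton, Submodule.mem_bot]
    constructor
    · intro hb
      refine Disc.Omega.ext (LinearMap.ext fun x => ?_)
      show ι (lam (Ideal.Quotient.mk q (b * x))) = 0
      rw [Ideal.Quotient.eq_zero_iff_mem.2 (q.mul_mem_right x hb), map_zero, map_zero]
    · intro hb
      by_contra hbq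
      let J : Ideal (B' ⧸ q) :=
        { carrier := {c | ∀ y, lam (c * y) = 0}
          add_mem' := fun {c d} hc hd y => by rw [add_mul, map_add, hc y, hd y, add_zero]
          zero_mem' := fun y => by rw [zero_mul, map_zero]
          smul_mem' := fun r c hc y => by
            rw [smul_eq_mul, mul_comm r c, mul_assoc]
            exact hc _ }
      have hbJ : Ideal.Quotient.mk q b ∈ J := fun y => by
        obtain ⟨x, rfl⟩ := Ideal.Quotient.mk_surjective y
        apply hι
        rw [map_zero, ← map_mul]
        exact congrArg (fun w : Disc.Omega A B' => w.toLinearMap x) hb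
      have hJ0 : J.comap (algebraMap (A ⧸ p) (B' ⧸ q)) = ⊥ := by
        rw [eq_bot_iff]
        intro a ha
        by_contra ha0
        apply hlam
        refine LinearMap.ext fun y => ?_
        have h1 := ha y
        rw [← Algebra.smul_def, map_smul, smul_eq_mul, mul_eq_zero] at h1
        exact h1.resolve_left fun h => ha0 h
      haveI : Algebra.IsIntegral (A ⧸ p) (B' ⧸ q) := Algebra.IsIntegral.of_finite _ _
      have := Ideal.eq_bot_of_comap_eq_bot hJ0
      rw [this, Submodule.mem_bot, Ideal.Quotient.eq_zero_iff_mem] at hbJ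
      exact hbq hbJ

theorem associatedPrimes_tensor_openImmersion {B' B : Type u} [CommRing B'] [CommRing B] [IsNoetherianRing B']
    [IsNoetherianRing B] [Algebra B' B]
    (hopen : AlgebraicGeometry.IsOpenImmersion
      (AlgebraicGeometry.Spec.map (CommRingCat.ofHom (algebraMap B' B))))
    (M : Type u) [AddCommGroup M] [Module B' M] :
    associatedPrimes B (B ⊗[B'] M) = {q | q.IsPrime ∧ q.comap (algebraMap B' B) ∈ associatedPrimes B' M} := by
  ext Q
  by_cases hQ : Q.IsPrime
  swap
  · exact ⟨fun h => absurd h.1 hQ, fun h => absurd h.1 hQ⟩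
  haveI := hQ
  let P := Q.comap (algebraMap B' B)
  haveI : P.IsPrime := Ideal.IsPrime.comap _
  let LQ := Localization.AtPrime Q
  have hbij : Function.Bijective (Localization.localRingHom P Q (algebraMap B' B) rfl) := by
    have h1 : CategoryTheory.IsIso ((AlgebraicGeometry.Spec.map (CommRingCat.ofHom (algebraMap B' B))).stalkMap
        (⟨Q, hQ⟩ : PrimeSpectrum B)) := inferInstance
    have h2 := (CategoryTheory.MorphismProperty.isomorphisms CommRingCat).arrow_mk_iso_iff
      (AlgebraicGeometry.Scheme.arrowStalkMapSpecIso (CommRingCat.ofHom (algebraMap B' B)) ⟨Q, hQ⟩)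
    exact (CategoryTheory.ConcreteCategory.isIso_iff_bijective _).1 (h2.1 h1)
  let eP : Localization.AtPrime P ≃ₐ[B'] LQ :=
    { RingEquiv.ofBijective _ hbij with
      commutes' := fun r => (Localization.localRingHom_to_map P Q (algebraMap B' B) rfl r).trans
        (IsScalarTower.algebraMap_apply B' B LQ r).symm }
  haveI : IsLocalization P.primeCompl LQ :=
    IsLocalization.isLocalization_of_algEquiv P.primeCompl eP
  let f : M →ₗ[B'] LQ ⊗[B'] M := TensorProduct.mk B' LQ M 1
  let g : B ⊗[B'] M →ₗ[B] LQ ⊗[B'] M :=
    AlgebraTensorModule.map (Algebra.linearMap B LQ) LinearMap.id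
  haveI : IsLocalizedModule P.primeCompl f :=
    (isLocalizedModule_iff_isBaseChange P.primeCompl LQ f).2 (TensorProduct.isBaseChange B' M LQ)
  haveI : IsLocalizedModule Q.primeCompl g :=
    inferInstanceAs (IsLocalizedModule Q.primeCompl (AlgebraTensorModule.rTensor B' M (Algebra.linearMap B LQ)))
  have hQeq : (IsLocalRing.maximalIdeal LQ).comap (algebraMap B LQ) = Q :=
    IsLocalization.AtPrime.comap_maximalIdeal LQ Q
  have hPeq : (IsLocalRing.maximalIdeal LQ).comap (algebraMap B' LQ) = P := by
    rw [IsScalarTower.algebraMap_eq B' B LQ, ← Ideal.comap_comap, hQeq]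
  have e1 := Set.ext_iff.1 (Module.associatedPrimes.preimage_comap_associatedPrimes_eq_associatedPrimes_of_isLocalizedModule
    Q.primeCompl LQ g) (IsLocalRing.maximalIdeal LQ)
  have e2 := Set.ext_iff.1 (Module.associatedPrimes.preimage_comap_associatedPrimes_eq_associatedPrimes_of_isLocalizedModule
    P.primeCompl LQ f) (IsLocalRing.maximalIdeal LQ)
  rw [Set.mem_preimage, hQeq] at e1
  rw [Set.mem_preimage, hPeq] at e2
  exact e1.trans (e2.symm.trans (and_iff_right hQ).symm)

theorem associatedPrimes_omega {A B' B : Type u} [CommRing A] [CommRing B'] [CommRing B] [IsNoetherianRing A]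
    [IsNoetherianRing B] [Algebra A B'] [Algebra B' B] [Algebra A B] [IsScalarTower A B' B]
    (hf : QFDual.IsQFFactor A B' B) :
    associatedPrimes B (QFDual.omega A B' B) =
      {q | q.IsPrime ∧ q.comap (algebraMap A B) ∈ associatedPrimes A A} := by
  haveI := hf.finite
  haveI : IsNoetherianRing B' := IsNoetherianRing.of_finite A B'
  rw [associatedPrimes_tensor_openImmersion hf.isOpenImmersion, associatedPrimes_Omega,
    IsScalarTower.algebraMap_eq A B' B]
  ext q
  simp only [Set.mem_ofPred_eq, ← Ideal.comap_comap]
  exact ⟨fun h => ⟨h.1, h.2.2⟩, fun h => ⟨h.1, Ideal.IsPrime.comap (hK := h.1) _, h.2⟩⟩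

end Groth.Agent.DR39
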