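import Groth.Agent.DR39.OmegaBC
import Groth.Agent.DiscDual32.QFFlat
import Groth.Prelude.Def_QFDual

/-! The dualizing module of a flat quasi-finite map commutes with every base change. -/

set_option autoImplicit false
set_option linter.style.haveILetI false
set_option linter.unusedSectionVars false

universe u

open TensorProduct

namespace Groth.Agent.DR39

theorem localRingHom_bijective_of_openImmersion {B' B : Type u} [CommRing B'] [CommRing B] [Algebra B' B]
    (hopen : AlgebraicGeometry.IsOpenImmersion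
      (AlgebraicGeometry.Spec.map (CommRingCat.ofHom (algebraMap B' B)))) (Q : Ideal B) [hQ : Q.IsPrime] :
    Function.Bijective (Localization.localRingHom (Q.comap (algebraMap B' B)) Q (algebraMap B' B) rfl) := by
  have h1 : CategoryTheory.IsIso ((AlgebraicGeometry.Spec.map (CommRingCat.ofHom (algebraMap B' B))).stalkMap
      (⟨Q, hQ⟩ : PrimeSpectrum B)) := inferInstance
  have h2 := (CategoryTheory.MorphismProperty.isomorphisms CommRingCat).arrow_mk_iso_iff
    (AlgebraicGeometry.Scheme.arrowStalkMapSpecIso (CommRingCat.ofHom (algebraMap B' B)) ⟨Q, hQ⟩)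
  exact (CategoryTheory.ConcreteCategory.isIso_iff_bijective _).1 (h2.1 h1)

theorem flat_atPrime_comap {A B' B : Type u} [CommRing A] [CommRing B'] [CommRing B] [Algebra A B']
    [Algebra B' B] [Algebra A B] [IsScalarTower A B' B] [Module.Flat A B]
    (hopen : AlgebraicGeometry.IsOpenImmersion
      (AlgebraicGeometry.Spec.map (CommRingCat.ofHom (algebraMap B' B)))) (Q : Ideal B) [Q.IsPrime] :
    Module.Flat A (Localization.AtPrime (Q.comap (algebraMap B' B))) := by
  let ψ := Localization.localRingHom (Q.comap (algebraMap B' B)) Q (algebraMap B' B) rfl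
  haveI : Module.Flat A (Localization.AtPrime Q) := Module.Flat.trans A B (Localization.AtPrime Q)
  let e : Localization.AtPrime (Q.comap (algebraMap B' B)) ≃ₐ[A] Localization.AtPrime Q :=
    { RingEquiv.ofBijective ψ (localRingHom_bijective_of_openImmersion hopen Q) with
      commutes' := fun r => by
        show ψ (algebraMap A _ r) = _
        rw [IsScalarTower.algebraMap_apply A B' (Localization.AtPrime (Q.comap (algebraMap B' B))),
          Localization.localRingHom_to_map, ← IsScalarTower.algebraMap_apply A B' B,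
          ← IsScalarTower.algebraMap_apply A B (Localization.AtPrime Q)] }
  exact Module.Flat.of_linearEquiv e.toLinearEquiv

/-- `s` acts on `B'` through a finite free module -/
def FactorsFree (A : Type u) {B' : Type u} [CommRing A] [CommRing B'] [Algebra A B'] (s : B') : Prop :=
  ∃ (k : ℕ) (a : (Fin k → A) →ₗ[A] B') (b : B' →ₗ[A] (Fin k → A)), a ∘ₗ b = LinearMap.mulLeft A s

theorem span_factorsFree_eq_top {A B' B : Type u} [CommRing A] [IsNoetherianRing A] [CommRing B']
    [CommRing B] [Algebra A B'] [Module.Finite A B'] [Algebra B' B] [Algebra A B] [IsScalarTower A B' B]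
    [Module.Flat A B] (hopen : AlgebraicGeometry.IsOpenImmersion
      (AlgebraicGeometry.Spec.map (CommRingCat.ofHom (algebraMap B' B)))) :
    Ideal.span ((algebraMap B' B) '' {s | FactorsFree A s}) = ⊤ := by
  by_contra h
  obtain ⟨Q, hQ, hle⟩ := Ideal.exists_le_maximal _ h
  obtain ⟨s, hs, hf⟩ := DiscDual32.exists_factor (A := A) (Q.comap (algebraMap B' B))
    (flat_atPrime_comap (A := A) hopen Q)
  exact hs (Ideal.mem_comap.2 (hle (Ideal.subset_span ⟨s, hf, rfl⟩)))

section BC

variable {A B' A₁ B'₁ : Type u} [CommRing A] [CommRing B'] [CommRing A₁] [CommRing B'₁]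
  [Algebra A B'] [Algebra A A₁] [Algebra B' B'₁] [Algebra A₁ B'₁] [Algebra A B'₁]
  [IsScalarTower A A₁ B'₁] [IsScalarTower A B' B'₁]

theorem exists_left_inverse_smul (h : Algebra.IsPushout A A₁ B' B'₁) {s : B'} (hs : FactorsFree A s) :
    ∃ G : Disc.Omega A₁ B'₁ →ₗ[B'₁] B'₁ ⊗[B'] Disc.Omega A B',
      (∀ z, G (_root_.DR39.OmegaBC.liftBC h z) = (algebraMap B' B'₁ s) ^ 2 • z) ∧
      ∀ φ₁, _root_.DR39.OmegaBC.liftBC h (G φ₁) = (algebraMap B' B'₁ s) ^ 2 • φ₁ := by
  classical
  obtain ⟨k, a, b, hab⟩ := hs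
  let s₁ := algebraMap B' B'₁ s
  let γ : Fin k → Disc.Omega A B' := fun i => ⟨LinearMap.proj i ∘ₗ b⟩
  let v : Fin k → B'₁ := fun i => algebraMap B' B'₁ (a (Pi.single i 1))
  let Ψ : Disc.Omega A₁ B'₁ →+ B'₁ ⊗[B'] Disc.Omega A B' :=
    AddMonoidHom.mk' (fun φ => ∑ i, algebraMap A₁ B'₁ (φ.toLinearMap (v i)) ⊗ₜ[B'] γ i) fun x y => by
      rw [← Finset.sum_add_distrib]
      refine Finset.sum_congr rfl fun i _ => ?_
      rw [← TensorProduct.add_tmul, ← map_add]
      rfl
  have hsum : ∀ y : B', s * y = ∑ i, algebraMap A B' (b y i) * a (Pi.single i 1) := fun y => by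
    rw [show s * y = a (b y) from (LinearMap.congr_fun hab y).symm]
    conv_lhs => rw [pi_eq_sum_univ' (b y), map_sum]
    simp only [map_smul, ← Algebra.smul_def, Pi.single_apply]
  have hright : ∀ φ₁, _root_.DR39.OmegaBC.liftBC h (Ψ φ₁) = s₁ • φ₁ := fun φ₁ => by
    refine Disc.Omega.ext (h.out.algHom_ext _ _ fun y => ?_)
    rw [AlgHom.toLinearMap_apply, IsScalarTower.coe_toAlgHom']
    let ev : Disc.Omega A₁ B'₁ →+ A₁ :=
      AddMonoidHom.mk' (fun l => l.toLinearMap (algebraMap B' B'₁ y)) fun _ _ => rfl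
    show ev (_root_.DR39.OmegaBC.liftBC h (Ψ φ₁)) = φ₁.toLinearMap (s₁ * algebraMap B' B'₁ y)
    rw [← map_mul, hsum, map_sum, map_sum]
    simp only [Ψ, AddMonoidHom.mk'_apply, map_sum, _root_.DR39.OmegaBC.liftBC_tmul]
    refine Finset.sum_congr rfl fun i _ => ?_
    show (QFDual.bcFin h (γ i)).toLinearMap (algebraMap A₁ B'₁ (φ₁.toLinearMap (v i)) * algebraMap B' B'₁ y) = _
    rw [← Algebra.smul_def, map_smul, QFDual.bcFin_apply_algebraMap, smul_eq_mul, map_mul,
      ← IsScalarTower.algebraMap_apply A B' B'₁, IsScalarTower.algebraMap_apply A A₁ B'₁, ← Algebra.smul_def,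
      map_smul, smul_eq_mul, mul_comm]
    rfl
  have hΨ : ∀ (φ : Disc.Omega A B') (r : A₁),
      Ψ (algebraMap A₁ B'₁ r • QFDual.bcFin h φ) = algebraMap A₁ B'₁ r ⊗ₜ[B'] (s • φ) := fun φ r => by
    have hφ : s • φ = ∑ i, algebraMap A B' (φ.toLinearMap (a (Pi.single i 1))) • γ i := by
      refine Disc.Omega.ext (LinearMap.ext fun y => ?_)
      let ev : Disc.Omega A B' →+ A := AddMonoidHom.mk' (fun l => l.toLinearMap y) fun _ _ => rfl
      show φ.toLinearMap (s * y) = ev (∑ i, _)
      rw [hsum, map_sum, map_sum]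
      refine Finset.sum_congr rfl fun i _ => ?_
      show _ = (γ i).toLinearMap (algebraMap A B' _ * y)
      rw [← Algebra.smul_def, ← Algebra.smul_def, map_smul, map_smul, smul_eq_mul, smul_eq_mul, mul_comm]
      rfl
    simp only [Ψ, AddMonoidHom.mk'_apply, hφ, TensorProduct.tmul_sum]
    refine Finset.sum_congr rfl fun i _ => ?_
    rw [show (algebraMap A₁ B'₁ r • QFDual.bcFin h φ).toLinearMap (v i)
        = r * algebraMap A A₁ (φ.toLinearMap (a (Pi.single i 1))) by
      show (QFDual.bcFin h φ).toLinearMap (algebraMap A₁ B'₁ r * v i) = _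
      rw [← Algebra.smul_def, map_smul, QFDual.bcFin_apply_algebraMap, smul_eq_mul]]
    rw [← TensorProduct.smul_tmul, map_mul, Algebra.smul_def, ← IsScalarTower.algebraMap_apply A B' B'₁,
      IsScalarTower.algebraMap_apply A A₁ B'₁, mul_comm]
  have hleft : ∀ z, Ψ (_root_.DR39.OmegaBC.liftBC h z) = s₁ • z := by
    intro z
    induction z using TensorProduct.induction_on with
    | zero => simp
    | add x y hx hy => rw [map_add, map_add, hx, hy, smul_add]
    | tmul t φ =>
      obtain ⟨x, rfl⟩ := h.out.equiv.surjective t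
      induction x using TensorProduct.induction_on with
      | zero => simp
      | add x y hx hy => rw [map_add, TensorProduct.add_tmul, map_add, map_add, hx, hy, smul_add]
      | tmul r y =>
        rw [IsBaseChange.equiv_tmul, AlgHom.toLinearMap_apply, IsScalarTower.coe_toAlgHom',
          show (r • algebraMap B' B'₁ y) ⊗ₜ[B'] φ = algebraMap A₁ B'₁ r ⊗ₜ[B'] (y • φ) by
            rw [Algebra.smul_def, ← TensorProduct.smul_tmul, Algebra.smul_def, mul_comm],
          _root_.DR39.OmegaBC.liftBC_tmul, hΨ, TensorProduct.tmul_smul, algebraMap_smul]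
  refine ⟨{ toFun := fun φ => s₁ • Ψ φ
            map_add' := fun x y => by rw [map_add, smul_add]
            map_smul' := fun u φ => ?_ }, fun z => ?_, fun φ₁ => ?_⟩
  · rw [RingHom.id_apply, smul_comm u s₁, ← hleft, ← hleft, LinearMap.map_smul, hright, hright, smul_comm]
  · show s₁ • Ψ (_root_.DR39.OmegaBC.liftBC h z) = _
    rw [hleft, pow_two, smul_smul]
  · show _root_.DR39.OmegaBC.liftBC h (s₁ • Ψ φ₁) = _
    rw [LinearMap.map_smul, hright, pow_two, smul_smul]

variable {B B₁ : Type u} [CommRing B] [CommRing B₁] [Algebra B' B] [Algebra B B₁] [Algebra B'₁ B₁] [Algebra B' B₁]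
  [IsScalarTower B' B'₁ B₁] [IsScalarTower B' B B₁]

theorem omegaBC_bijective [IsNoetherianRing A] [Module.Finite A B'] [Algebra A B] [IsScalarTower A B' B]
    [Module.Flat A B] (hopen : AlgebraicGeometry.IsOpenImmersion
      (AlgebraicGeometry.Spec.map (CommRingCat.ofHom (algebraMap B' B))))
    (h : Algebra.IsPushout A A₁ B' B'₁) : Function.Bijective (QFDual.omegaBC (B₁ := B₁) h) := by
  classical
  have e2 : ∀ s : B', FactorsFree A s → ∃ G : QFDual.omega A₁ B'₁ B₁ →ₗ[B₁] QFDual.omega A B' B₁,
      (∀ z, G (QFDual.omegaBC h z) = (algebraMap B B₁ (algebraMap B' B s)) ^ 2 • z) ∧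
      ∀ w, QFDual.omegaBC h (G w) = (algebraMap B B₁ (algebraMap B' B s)) ^ 2 • w := by
    intro s hs
    obtain ⟨G, hG1, hG2⟩ := exists_left_inverse_smul h hs
    let c := AlgebraTensorModule.cancelBaseChange B' B'₁ B₁ B₁ (Disc.Omega A B')
    have hL : ∀ u, QFDual.omegaBC h (c u) =
        (_root_.DR39.OmegaBC.liftBC h).baseChange B₁ u := by
      intro u
      induction u using TensorProduct.induction_on with
      | zero => simp
      | add x y hx hy => rw [map_add, map_add, map_add, hx, hy]
      | tmul b t =>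
        induction t using TensorProduct.induction_on with
        | zero => simp
        | add x y hx hy => rw [TensorProduct.tmul_add, map_add, map_add, map_add, hx, hy]
        | tmul t φ =>
          rw [LinearMap.baseChange_tmul, _root_.DR39.OmegaBC.liftBC_tmul, AlgebraTensorModule.cancelBaseChange_tmul,
            QFDual.omegaBC_tmul, ← TensorProduct.smul_tmul]
    have hsq : ((algebraMap B' B'₁ s) ^ 2 : B'₁) • (1 : B₁) = (algebraMap B B₁ (algebraMap B' B s)) ^ 2 := by
      rw [Algebra.smul_def, mul_one, map_pow, ← IsScalarTower.algebraMap_apply, ← IsScalarTower.algebraMap_apply]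
    refine ⟨c.toLinearMap ∘ₗ G.baseChange B₁, fun z => ?_, fun w => ?_⟩
    · obtain ⟨u, rfl⟩ := c.surjective z
      rw [hL, LinearMap.comp_apply, LinearEquiv.coe_toLinearMap, ← map_smul]
      congr 1
      rw [← LinearMap.comp_apply, ← LinearMap.baseChange_comp,
        show G ∘ₗ _root_.DR39.OmegaBC.liftBC h = ((algebraMap B' B'₁ s) ^ 2) • LinearMap.id from LinearMap.ext hG1,
        LinearMap.baseChange_smul, LinearMap.baseChange_id, LinearMap.smul_apply, LinearMap.id_apply,
        ← hsq, smul_assoc, one_smul]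
    · rw [LinearMap.comp_apply, LinearEquiv.coe_toLinearMap, hL, ← LinearMap.comp_apply,
        ← LinearMap.baseChange_comp,
        show _root_.DR39.OmegaBC.liftBC h ∘ₗ G = ((algebraMap B' B'₁ s) ^ 2) • LinearMap.id from LinearMap.ext hG2,
        LinearMap.baseChange_smul, LinearMap.baseChange_id, LinearMap.smul_apply, LinearMap.id_apply,
        ← hsq, smul_assoc, one_smul]
  let f := QFDual.omegaBC (B₁ := B₁) h
  let J : Ideal B₁ :=
    { carrier := {c | (∀ z, f z = 0 → c • z = 0) ∧ ∀ w, c • w ∈ LinearMap.range f}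
      add_mem' := fun {c d} hc hd => ⟨fun z hz => by rw [add_smul, hc.1 z hz, hd.1 z hz, add_zero],
        fun w => by rw [add_smul]; exact add_mem (hc.2 w) (hd.2 w)⟩
      zero_mem' := ⟨fun z _ => zero_smul _ _, fun w => by rw [zero_smul]; exact zero_mem _⟩
      smul_mem' := fun r c hc => ⟨fun z hz => by rw [smul_eq_mul, mul_smul, hc.1 z hz, smul_zero],
        fun w => by rw [smul_eq_mul, mul_smul]; exact Submodule.smul_mem _ r (hc.2 w)⟩ }
  have hle : Ideal.span ((fun x => x ^ 2) '' ((algebraMap B' B) '' {s | FactorsFree A s})) ≤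
      J.comap (algebraMap B B₁) := by
    rw [Ideal.span_le]
    rintro _ ⟨_, ⟨s, hs, rfl⟩, rfl⟩
    obtain ⟨G, hG1, hG2⟩ := e2 s hs
    simp only [SetLike.mem_coe, Ideal.mem_comap, map_pow]
    exact ⟨fun z hz => by rw [← hG1, show QFDual.omegaBC h z = 0 from hz, map_zero],
      fun w => ⟨G w, hG2 w⟩⟩
  rw [Ideal.span_pow_eq_top _ (span_factorsFree_eq_top (A := A) hopen) 2, top_le_iff,
    Ideal.comap_eq_top_iff] at hle
  have h1 : (1 : B₁) ∈ J := hle ▸ Submodule.mem_top
  refine ⟨(injective_iff_map_eq_zero _).2 fun z hz => ?_, fun w => ?_⟩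
  · rw [← one_smul B₁ z]
    exact h1.1 z hz
  · have := h1.2 w
    rwa [one_smul] at this

end BC

end Groth.Agent.DR39
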