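import Groth.Agent.DR39.InvExist
import Groth.Agent.DR39.QFBaseChange
import Groth.Agent.DiscDual32.GorFibre
import Mathlib.RingTheory.PicardGroup
import Mathlib.RingTheory.LocalRing.ResidueField.Ideal
import Mathlib.RingTheory.Flat.EquationalCriterion
import Mathlib.RingTheory.Idempotents
import Mathlib.RingTheory.Ideal.IdempotentFG
import Mathlib.AlgebraicGeometry.Pullbacks
import Mathlib.Algebra.Category.Ring.Constructions
import Groth.Agent.DR39.GorDescend

/-! Invertibility of a flat module from its fibres; dualizing modules of quasi-finite maps. -/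

set_option autoImplicit false
set_option linter.style.haveILetI false
set_option linter.unusedSectionVars false

universe u

open TensorProduct

namespace Groth.Agent.DR39

attribute [local instance] Algebra.TensorProduct.rightAlgebra

theorem flat_localized {A B M N : Type u} [CommRing A] [CommRing B] [Algebra A B]
    [AddCommGroup M] [Module A M] [Module B M] [IsScalarTower A B M]
    [AddCommGroup N] [Module A N] [Module B N] [IsScalarTower A B N]
    (S : Submonoid B) (f : M →ₗ[B] N) [IsLocalizedModule S f] [Module.Flat A M] : Module.Flat A N := by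
  classical
  rw [Module.Flat.iff_forall_isTrivialRelation]
  intro l c x hx
  obtain ⟨s, hs⟩ := IsLocalizedModule.exist_integer_multiples S f Finset.univ x
  choose μ hμ using fun i => hs i (Finset.mem_univ i)
  have h0 : f (∑ i, c i • μ i) = 0 := by
    rw [map_sum]
    simp only [f.map_smul_of_tower, hμ]
    simp only [smul_comm (c _) (s : B)]
    rw [← Finset.smul_sum, hx, smul_zero]
  obtain ⟨t, ht⟩ := (IsLocalizedModule.eq_zero_iff S f).1 h0
  have h1 : ∑ i, c i • ((t : B) • μ i) = 0 := by
    simp only [smul_comm (c _) (t : B)]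
    rw [← Finset.smul_sum]
    exact ht
  obtain ⟨k, a, y, hy, ha⟩ := Module.Flat.isTrivialRelation_of_sum_smul_eq_zero h1
  have hu := (Module.End.isUnit_iff _).1 (IsLocalizedModule.map_units f (t * s))
  choose y' hy' using fun j => hu.2 (f (y j))
  refine ⟨k, a, y', fun i => hu.1 ?_, ha⟩
  simp only [Module.algebraMap_end_apply] at hy' ⊢
  rw [Finset.smul_sum]
  simp only [smul_comm ((↑(t * s) : B)) (a i _), hy']
  rw [Submonoid.coe_mul, mul_smul, ← hμ, ← map_smul, show (t : B) • μ i = _ from hy i, map_sum]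
  simp only [f.map_smul_of_tower]

/-- A flat module whose closed fibre is free of rank one is free of rank one. -/
theorem linearEquiv_self_of_fibre {A L M : Type u} [CommRing A] [IsNoetherianRing A] [CommRing L]
    [IsLocalRing L] [IsNoetherianRing L] [Algebra A L] [AddCommGroup M] [Module A M] [Module L M]
    [IsScalarTower A L M] [Module.Finite L M] [Module.Flat A M] (p : Ideal A)
    (hp : p.map (algebraMap A L) ≤ IsLocalRing.maximalIdeal L)
    (e : (L ⧸ p.map (algebraMap A L)) ⊗[L] M ≃ₗ[L] L ⧸ p.map (algebraMap A L)) :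
    Nonempty (L ≃ₗ[L] M) := by
  classical
  set I := p.map (algebraMap A L) with hI
  have hIj : I ≤ (⊥ : Ideal L).jacobson := hp.trans (IsLocalRing.maximalIdeal_le_jacobson ⊥)
  let e' : (M ⧸ (I • (⊤ : Submodule L M))) ≃ₗ[L] L ⧸ I := (quotTensorEquivQuotSMul M I).symm ≪≫ₗ e
  obtain ⟨m, hm⟩ := Submodule.Quotient.mk_surjective _ (e'.symm (Submodule.Quotient.mk 1))
  have hem : e' (Submodule.Quotient.mk m) = Submodule.Quotient.mk 1 := by
    rw [hm, LinearEquiv.apply_symm_apply]
  let f : L →ₗ[L] M := LinearMap.toSpanSingleton L M m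
  have hex : ∀ x : L, e' (Submodule.Quotient.mk (f x)) = Submodule.Quotient.mk x := fun x => by
    rw [LinearMap.toSpanSingleton_apply, Submodule.Quotient.mk_smul, map_smul, hem, ← Submodule.Quotient.mk_smul,
      smul_eq_mul, mul_one]
  have hsurj : Function.Surjective f := by
    rw [← LinearMap.range_eq_top, eq_top_iff]
    refine Submodule.le_of_le_smul_of_le_jacobson_bot Module.Finite.fg_top hIj fun x _ => ?_
    obtain ⟨r, hr⟩ := Submodule.Quotient.mk_surjective _ (e' (Submodule.Quotient.mk x))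
    have : (Submodule.Quotient.mk x : M ⧸ I • (⊤ : Submodule L M)) = Submodule.Quotient.mk (f r) :=
      e'.injective (by rw [hex]; exact hr.symm)
    rw [← add_sub_cancel (f r) x]
    exact Submodule.add_mem_sup ⟨r, rfl⟩ ((Submodule.Quotient.eq _).1 this)
  let K : Submodule L L := LinearMap.ker f
  have hK : K ≤ I • K := by
    intro x hx
    have hxI : x ∈ I := by
      rw [← Ideal.Quotient.eq_zero_iff_mem]
      show (Submodule.Quotient.mk x : L ⧸ I) = 0
      rw [← hex, LinearMap.mem_ker.1 hx, Submodule.Quotient.mk_zero, map_zero]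
    obtain ⟨n, c, hc⟩ := Submodule.fg_iff_exists_fin_generating_family.1 (IsNoetherian.noetherian p)
    have hcp : ∀ i, c i ∈ p := fun i => hc ▸ Submodule.subset_span ⟨i, rfl⟩
    have hcI : I = Ideal.span (Set.range fun i => algebraMap A L (c i)) := by
      rw [hI, ← hc, ← Ideal.span, Ideal.map_span, ← Set.range_comp]
      rfl
    rw [hcI, Ideal.span, Submodule.mem_span_range_iff_exists_fun] at hxI
    obtain ⟨l, hl⟩ := hxI
    have h0 : ∑ i, c i • f (l i) = 0 := by
      rw [← LinearMap.mem_ker.1 hx, ← hl, map_sum]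
      refine Finset.sum_congr rfl fun i _ => ?_
      rw [← f.map_smul_of_tower, Algebra.smul_def, smul_eq_mul, mul_comm]
    obtain ⟨k, a, y, hy, ha⟩ := Module.Flat.isTrivialRelation_of_sum_smul_eq_zero h0
    choose z hz using fun j => hsurj (y j)
    have hki : ∀ i, l i - ∑ j, a i j • z j ∈ K := fun i => by
      rw [LinearMap.mem_ker, map_sub, show f (l i) = _ from hy i, map_sum]
      simp [f.map_smul_of_tower, hz]
    have hzero : ∑ i, algebraMap A L (c i) * ∑ j, a i j • z j = 0 := by
      simp only [Finset.mul_sum, Algebra.smul_def, ← mul_assoc, ← map_mul]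
      rw [Finset.sum_comm]
      refine Finset.sum_eq_zero fun j _ => ?_
      rw [← Finset.sum_mul, ← map_sum, ha, map_zero, zero_mul]
    have : x = ∑ i, algebraMap A L (c i) • (l i - ∑ j, a i j • z j) := by
      simp only [smul_eq_mul, mul_sub, Finset.sum_sub_distrib, hzero, sub_zero]
      rw [← hl]
      simp [mul_comm]
    rw [this]
    exact sum_mem fun i _ => Submodule.smul_mem_smul (Ideal.mem_map_of_mem _ (hcp i)) (hki i)
  have hK0 : K = ⊥ := Submodule.eq_bot_of_le_smul_of_le_jacobson_bot I K (IsNoetherian.noetherian K) hK hIj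
  exact ⟨LinearEquiv.ofBijective f ⟨LinearMap.ker_eq_bot.1 hK0, hsurj⟩⟩

theorem invertible_of_fibres {A B M : Type u} [CommRing A] [IsNoetherianRing A] [CommRing B] [IsNoetherianRing B]
    [Algebra A B] [AddCommGroup M] [Module A M] [Module B M] [IsScalarTower A B M] [Module.Finite B M]
    [Module.Flat A M]
    (h : ∀ (p : Ideal A) [p.IsPrime], Module.Invertible (p.ResidueField ⊗[A] B) ((p.ResidueField ⊗[A] B) ⊗[B] M)) :
    Module.Invertible B M := by
  refine invertible_of_locally_one M fun P _ => ?_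
  let L := Localization.AtPrime P
  let p := P.comap (algebraMap A B)
  let B₁ := p.ResidueField ⊗[A] B
  let ι : M →ₗ[B] L ⊗[B] M := TensorProduct.mk B L M 1
  haveI : IsLocalizedModule P.primeCompl ι :=
    (isLocalizedModule_iff_isBaseChange P.primeCompl L ι).2 (TensorProduct.isBaseChange B M L)
  haveI : Module.Flat A (L ⊗[B] M) := flat_localized P.primeCompl ι
  let I := p.map (algebraMap A L)
  have hp : I ≤ IsLocalRing.maximalIdeal L := by
    rw [Ideal.map_le_iff_le_comap]
    intro a ha
    rw [Ideal.mem_comap, IsScalarTower.algebraMap_apply A B L, IsLocalization.AtPrime.to_map_mem_maximal_iff L P]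
    exact ha
  haveI : Nontrivial (L ⧸ I) := Ideal.Quotient.nontrivial_iff.2
    fun e => (IsLocalRing.maximalIdeal.isMaximal L).ne_top (top_le_iff.1 (e ▸ hp))
  haveI : IsLocalRing (L ⧸ I) := IsLocalRing.of_surjective' _ Ideal.Quotient.mk_surjective
  have h1 : p ≤ RingHom.ker (Algebra.ofId A (L ⧸ I)) := fun a ha =>
    Ideal.Quotient.eq_zero_iff_mem.2 (Ideal.mem_map_of_mem (algebraMap A L) ha)
  have h2 : p.primeCompl ≤ (IsUnit.submonoid (L ⧸ I)).comap (Algebra.ofId A (L ⧸ I)) := fun a ha => by
    show IsUnit (Ideal.Quotient.mk I (algebraMap A L a))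
    rw [IsScalarTower.algebraMap_apply A B L]
    exact (IsLocalization.map_units L (⟨algebraMap A B a, ha⟩ : P.primeCompl)).map _
  let θ : B₁ →ₐ[A] L ⧸ I := Algebra.TensorProduct.lift (Ideal.ResidueField.liftₐ p (Algebra.ofId A (L ⧸ I)) h1 h2)
    (IsScalarTower.toAlgHom A B (L ⧸ I)) fun _ _ => Commute.all _ _
  letI : Algebra B₁ (L ⧸ I) := θ.toRingHom.toAlgebra
  haveI : IsScalarTower B B₁ (L ⧸ I) := IsScalarTower.of_algebraMap_eq fun b => by
    show _ = θ (1 ⊗ₜ b)
    refine Eq.trans ?_ (Algebra.TensorProduct.lift_tmul _ _ _ _ _).symm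
    rw [map_one, one_mul]
    rfl
  haveI := h p
  haveI : Module.Invertible (L ⧸ I) ((L ⧸ I) ⊗[B₁] (B₁ ⊗[B] M)) := inferInstance
  let c : (L ⧸ I) ⊗[L] (L ⊗[B] M) ≃ₗ[L ⧸ I] L ⧸ I :=
    AlgebraTensorModule.cancelBaseChange B L (L ⧸ I) (L ⧸ I) M ≪≫ₗ
      (AlgebraTensorModule.cancelBaseChange B B₁ (L ⧸ I) (L ⧸ I) M).symm ≪≫ₗ
      (Module.Invertible.free_iff_linearEquiv.1 inferInstance).some
  obtain ⟨e⟩ := linearEquiv_self_of_fibre (A := A) (L := L) (M := L ⊗[B] M) p hp (c.restrictScalars L)
  obtain ⟨⟨g, s⟩, hgs⟩ := IsLocalizedModule.surj P.primeCompl ι (e 1)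
  have hg : ι g = e (algebraMap B L s) := by
    rw [← hgs, ← mul_one (algebraMap B L s), ← smul_eq_mul, map_smul, algebraMap_smul, Submonoid.smul_def]
  refine ⟨g, fun x => ?_, fun r hr => ?_⟩
  · obtain ⟨⟨r, t⟩, hrt⟩ := IsLocalization.surj P.primeCompl (e.symm (ι x))
    have key : ((t : B) * s) • ι x = r • ι g := by
      have he : ∀ l : L, e l = l • e 1 := fun l => by rw [← map_smul, smul_eq_mul, mul_one]
      have hx : ι x = e.symm (ι x) • e 1 := by rw [← he, LinearEquiv.apply_symm_apply]
      have hr' : r • ι g = algebraMap B L r • ι g := (algebraMap_smul L r (ι g)).symm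
      rw [← algebraMap_smul L ((t : B) * s) (ι x), hr', hx, hg, he (algebraMap B L s), smul_smul, smul_smul,
        map_mul, ← hrt]
      congr 1
      ring
    rw [← map_smul, ← map_smul] at key
    obtain ⟨u, hu⟩ := IsLocalizedModule.exists_of_eq (S := P.primeCompl) key
    refine ⟨(u : B) * ((t : B) * s), (u * (t * s)).2, (u : B) * r, ?_⟩
    rw [mul_smul, mul_smul (u : B) r]
    exact hu
  · have h0 : r • ι g = 0 := by rw [← map_smul, hr, map_zero]
    rw [hg, ← algebraMap_smul L r (e (algebraMap B L s)), ← map_smul, e.map_eq_zero_iff, smul_eq_mul, ← map_mul,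
      IsLocalization.map_eq_zero_iff P.primeCompl] at h0
    obtain ⟨u, hu⟩ := h0
    exact ⟨(u : B) * s, (u * s).2, by rw [mul_assoc, mul_comm (s : B)]; exact hu⟩

theorem surjective_of_openImmersion_artinian {B' B : Type u} [CommRing B'] [CommRing B] [IsArtinianRing B']
    [Algebra B' B] (hopen : AlgebraicGeometry.IsOpenImmersion
      (AlgebraicGeometry.Spec.map (CommRingCat.ofHom (algebraMap B' B)))) :
    Function.Surjective (algebraMap B' B) := by
  let J : Ideal B :=
    { carrier := {c | ∀ s, ∃ b, algebraMap B' B b = c * s}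
      add_mem' := fun {c d} hc hd s => by
        obtain ⟨b, hb⟩ := hc s; obtain ⟨b', hb'⟩ := hd s
        exact ⟨b + b', by rw [map_add, hb, hb', add_mul]⟩
      zero_mem' := fun s => ⟨0, by rw [map_zero, zero_mul]⟩
      smul_mem' := fun r c hc s => by
        obtain ⟨b, hb⟩ := hc (r * s)
        exact ⟨b, by rw [hb, smul_eq_mul]; ring⟩ }
  suffices hJ : J = ⊤ by
    intro s
    obtain ⟨b, hb⟩ := (show (1 : B) ∈ J from hJ ▸ Submodule.mem_top) s
    exact ⟨b, by rw [hb, one_mul]⟩
  by_contra hne
  obtain ⟨Q, hQ, hle⟩ := Ideal.exists_le_maximal J hne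
  obtain ⟨r, hr, hs⟩ := DiscDual32.exists_away_surjective (algebraMap B' B) hopen ⟨Q, hQ.isPrime⟩
  obtain ⟨n, y, hy⟩ : ∃ n y, r ^ n = r ^ (n + 1) * y := by
    obtain ⟨n, hn⟩ := IsArtinian.monotone_stabilizes (R := B') (M := B')
      ⟨fun n => OrderDual.toDual (Ideal.span {r ^ n}), fun a b hab => Ideal.span_singleton_le_span_singleton.2 (pow_dvd_pow r hab)⟩
    have h1 := hn (n + 1) (Nat.le_succ n)
    have h2 : r ^ n ∈ Ideal.span {r ^ (n + 1)} := by
      have h1' : Ideal.span {r ^ n} = Ideal.span {r ^ (n + 1)} := h1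
      rw [← h1']; exact Ideal.mem_span_singleton_self _
    obtain ⟨y, hy⟩ := Ideal.mem_span_singleton'.1 h2
    exact ⟨n, y, by rw [← hy, mul_comm]⟩
  have key : ∀ m, r ^ n = r ^ (n + m) * y ^ m := by
    intro m
    induction m with
    | zero => simp
    | succ m ih =>
      calc r ^ n = r ^ (n + m) * y ^ m := ih
        _ = r ^ m * (r ^ n) * y ^ m := by ring
        _ = r ^ m * (r ^ (n + 1) * y) * y ^ m := by rw [← hy]
        _ = _ := by ring
  refine hr ((hQ.isPrime).mem_of_pow_mem n (hle fun s => ?_))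
  obtain ⟨b, m, hb⟩ := hs s
  refine ⟨r ^ n * y ^ m * b, ?_⟩
  have h3 := congrArg (algebraMap B' B) (key m)
  simp only [map_mul, map_pow, pow_add] at h3 ⊢
  rw [hb]
  linear_combination (-s) * h3

theorem invertible_omega_field (k B' B : Type u) [Field k] [CommRing B'] [CommRing B] [Algebra k B']
    [Module.Finite k B'] [Algebra B' B] [Algebra k B] [IsScalarTower k B' B]
    (hopen : AlgebraicGeometry.IsOpenImmersion
      (AlgebraicGeometry.Spec.map (CommRingCat.ofHom (algebraMap B' B))))
    (hgor : LocCoh.IsGorensteinRing B) : Module.Invertible B (QFDual.omega k B' B) := by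
  haveI : IsArtinianRing B' := IsArtinianRing.of_finite k B'
  haveI : IsNoetherianRing B' := IsNoetherianRing.of_finite k B'
  let π : B' →ₐ[k] B := IsScalarTower.toAlgHom k B' B
  have hπ : Function.Surjective π := surjective_of_openImmersion_artinian hopen
  haveI : Module.Finite k B := Module.Finite.of_surjective π.toLinearMap hπ
  haveI : Module.Flat B' B := by
    have : AlgebraicGeometry.Flat
        (AlgebraicGeometry.Spec.map (CommRingCat.ofHom (algebraMap B' B))) := inferInstance
    exact RingHom.flat_algebraMap_iff.1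
      ((AlgebraicGeometry.HasRingHomProperty.Spec_iff (P := @AlgebraicGeometry.Flat)).1 this)
  let I : Ideal B' := RingHom.ker (algebraMap B' B)
  have hI : IsIdempotentElem I := by
    refine le_antisymm Ideal.mul_le_left fun x hx => ?_
    have h0 : ∑ _i : Fin 1, x • (1 : B) = 0 := by
      simp [Algebra.smul_def, RingHom.mem_ker.1 hx]
    obtain ⟨l, a, z, hz, ha⟩ := Module.Flat.isTrivialRelation_of_sum_smul_eq_zero (R := B') (M := B)
      (f := fun _ : Fin 1 => x) (x := fun _ : Fin 1 => (1 : B)) h0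
    choose c hc using fun j => hπ (z j)
    have hi : (1 : B') - ∑ j, a 0 j * c j ∈ I := by
      rw [RingHom.mem_ker, map_sub, map_one, map_sum, sub_eq_zero]
      refine (hz 0).trans (Finset.sum_congr rfl fun j _ => ?_)
      rw [map_mul, Algebra.smul_def]
      exact congrArg _ (hc j).symm
    have hx' : x = x * (1 - ∑ j, a 0 j * c j) := by
      rw [mul_sub, mul_one, Finset.mul_sum]
      simp only [← mul_assoc]
      rw [Finset.sum_eq_zero fun j _ => ?_, sub_zero]
      have := ha j
      simp only [Fin.sum_univ_one] at this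
      rw [this, zero_mul]
    rw [hx']
    exact Ideal.mul_mem_mul hx hi
  obtain ⟨e, he, hIe⟩ := (Ideal.isIdempotentElem_iff_of_fg I (IsNoetherian.noetherian I)).1 hI
  have heI : π e = 0 := RingHom.mem_ker.1 (hIe ▸ Submodule.mem_span_singleton_self e : e ∈ I)
  have hwd : ∀ c c' : B', π c = π c' → (1 - e) * c = (1 - e) * c' := fun c c' h => by
    have h0 : c - c' ∈ I := by
      rw [RingHom.mem_ker, map_sub, sub_eq_zero]; exact h
    rw [hIe] at h0
    obtain ⟨a, ha⟩ := Submodule.mem_span_singleton.1 h0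
    rw [smul_eq_mul] at ha
    rw [← sub_eq_zero, ← mul_sub, ← ha]
    linear_combination (-a) * he.eq
  choose σ hσ using hπ
  let σ' : B →ₗ[k] B' :=
    { toFun := fun b => (1 - e) * σ b
      map_add' := fun b c => by rw [← mul_add]; exact hwd _ _ (by rw [map_add, hσ, hσ, hσ])
      map_smul' := fun r b => by
        rw [RingHom.id_apply, ← mul_smul_comm]; exact hwd _ _ (by rw [map_smul, hσ, hσ]) }
  have hσ' : ∀ b, π (σ' b) = b := fun b => by
    show π ((1 - e) * σ b) = b
    rw [map_mul, map_sub, map_one, heI, sub_zero, one_mul, hσ]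
  have hσB : ∀ c b, σ' (π c * b) = c * σ' b := fun c b => by
    show (1 - e) * σ (π c * b) = c * ((1 - e) * σ b)
    rw [mul_left_comm]
    exact hwd _ _ (by rw [map_mul, hσ, hσ])
  have hσπ : ∀ c, σ' (π c) = (1 - e) * c := fun c => hwd _ _ (hσ _)
  let i : Disc.Omega k B →+ Disc.Omega k B' :=
    AddMonoidHom.mk' (fun ψ => ⟨ψ.toLinearMap ∘ₗ π.toLinearMap⟩) fun _ _ => rfl
  let F : Disc.Omega k B →ₗ[B] QFDual.omega k B' B :=
    { toFun := fun ψ => (1 : B) ⊗ₜ[B'] i ψ
      map_add' := fun x y => by rw [map_add, TensorProduct.tmul_add]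
      map_smul' := fun b ψ => by
        obtain ⟨c, rfl⟩ : ∃ c, π c = b := ⟨σ b, hσ b⟩
        rw [RingHom.id_apply, show i (π c • ψ) = c • i ψ from Disc.Omega.ext (LinearMap.ext fun x => by
          show ψ.toLinearMap (π c * π x) = ψ.toLinearMap (π (c * x))
          rw [map_mul π c x]), TensorProduct.tmul_smul, show π c = algebraMap B' B c from rfl, algebraMap_smul] }
  letI : Module B' (Disc.Omega k B) := Module.compHom _ (algebraMap B' B)
  haveI : IsScalarTower B' B (Disc.Omega k B) := IsScalarTower.of_algebraMap_smul fun _ _ => rfl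
  let G : QFDual.omega k B' B →ₗ[B] Disc.Omega k B :=
    TensorProduct.AlgebraTensorModule.lift
      { toFun := fun b =>
          { toFun := fun φ => b • (⟨φ.toLinearMap ∘ₗ σ'⟩ : Disc.Omega k B)
            map_add' := fun φ ψ => by rw [← smul_add]; rfl
            map_smul' := fun c φ => by
              refine Disc.Omega.ext (LinearMap.ext fun x => ?_)
              show φ.toLinearMap (c * σ' (b * x)) = φ.toLinearMap (σ' (b * (π c * x)))
              rw [← hσB, mul_left_comm] }
        map_add' := fun b c => LinearMap.ext fun φ => add_smul b c _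
        map_smul' := fun b c => LinearMap.ext fun φ => mul_smul b c _ }
  have hGF : ∀ ψ, G (F ψ) = ψ := fun ψ => Disc.Omega.ext (LinearMap.ext fun x => by
    show ψ.toLinearMap (π (σ' (1 * x))) = ψ.toLinearMap x
    rw [hσ', one_mul])
  have hFG : ∀ z, F (G z) = z := by
    intro z
    induction z using TensorProduct.induction_on with
    | zero => simp
    | add x y hx hy => rw [map_add, map_add, hx, hy]
    | tmul b φ =>
      obtain ⟨c, rfl⟩ : ∃ c, π c = b := ⟨σ b, hσ b⟩
      show (1 : B) ⊗ₜ[B'] i (π c • (⟨φ.toLinearMap ∘ₗ σ'⟩ : Disc.Omega k B)) = _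
      rw [show i (π c • (⟨φ.toLinearMap ∘ₗ σ'⟩ : Disc.Omega k B)) = ((1 - e) * c) • φ from
        Disc.Omega.ext (LinearMap.ext fun x => by
          show φ.toLinearMap (σ' (π c * π x)) = φ.toLinearMap ((1 - e) * c * x)
          rw [← map_mul, hσπ, mul_assoc]),
        ← TensorProduct.smul_tmul, Algebra.smul_def, mul_one, map_mul, map_sub, map_one]
      rw [show algebraMap B' B e = 0 from heI, sub_zero, one_mul]
      rfl
  have hfib : ∀ (p : Ideal k) [p.IsPrime], LocCoh.IsGorensteinRing (p.Fiber B) := by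
    intro p _
    have hp : p = ⊥ := (Ideal.eq_bot_or_top p).resolve_right (Ideal.IsPrime.ne_top ‹_›)
    haveI : p.IsMaximal := hp ▸ Ideal.bot_isMaximal
    have hb : Function.Bijective (algebraMap k p.ResidueField) := by
      rw [IsScalarTower.algebraMap_eq k (k ⧸ p) p.ResidueField]
      exact p.bijective_algebraMap_quotient_residueField.comp
        ⟨RingHom.injective _, Ideal.Quotient.mk_surjective⟩
    let ek : k ≃ₐ[k] p.ResidueField := AlgEquiv.ofBijective (Algebra.ofId k _) hb
    let e2 : p.Fiber B ≃ₐ[k] B :=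
      (Algebra.TensorProduct.congr ek.symm AlgEquiv.refl).trans (Algebra.TensorProduct.lid k B)
    exact gorRing_of_ringEquiv e2.symm.toRingEquiv hgor
  haveI : Module.Invertible B (Disc.Omega k B) := DiscDual32.gor_fibres_iff.1 hfib
  exact Module.Invertible.congr
    { F with invFun := G, left_inv := hGF, right_inv := hFG }

theorem finite_Omega (A B' : Type u) [CommRing A] [IsNoetherianRing A] [CommRing B'] [Algebra A B']
    [Module.Finite A B'] : Module.Finite B' (Disc.Omega A B') := by
  letI : Module A (Disc.Omega A B') := Module.compHom _ (algebraMap A B')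
  haveI : IsScalarTower A B' (Disc.Omega A B') := IsScalarTower.of_algebraMap_smul fun _ _ => rfl
  let e : (B' →ₗ[A] A) ≃ₗ[A] Disc.Omega A B' :=
    { toFun := Disc.Omega.mk
      invFun := Disc.Omega.toLinearMap
      left_inv := fun _ => rfl
      right_inv := fun _ => rfl
      map_add' := fun _ _ => rfl
      map_smul' := fun a φ => by
        ext x
        show a • φ x = φ (algebraMap A B' a * x)
        rw [← Algebra.smul_def, map_smul] }
  haveI : Module.Finite A (Disc.Omega A B') := Module.Finite.equiv e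
  exact Module.Finite.of_restrictScalars_finite A B' _

section Iff

variable {A B' B : Type u} [CommRing A] [CommRing B'] [CommRing B] [IsNoetherianRing A] [Algebra A B']
  [Module.Finite A B'] [Algebra B' B] [Algebra A B] [IsScalarTower A B' B] [Module.Flat A B]
  (hopen : AlgebraicGeometry.IsOpenImmersion
      (AlgebraicGeometry.Spec.map (CommRingCat.ofHom (algebraMap B' B))))
include hopen

/-- the base change map seen from `B` -/
theorem nonempty_omega_bcEquiv {A₁ B'₁ B₁ : Type u} [CommRing A₁] [CommRing B'₁] [CommRing B₁]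
    [Algebra A A₁] [Algebra B' B'₁] [Algebra A₁ B'₁] [Algebra A B'₁]
    [IsScalarTower A A₁ B'₁] [IsScalarTower A B' B'₁] [Algebra B B₁] [Algebra B'₁ B₁] [Algebra B' B₁]
    [IsScalarTower B' B'₁ B₁] [IsScalarTower B' B B₁] (h : Algebra.IsPushout A A₁ B' B'₁) :
    Nonempty (B₁ ⊗[B] QFDual.omega A B' B ≃ₗ[B₁] QFDual.omega A₁ B'₁ B₁) :=
  ⟨AlgebraTensorModule.cancelBaseChange B' B B₁ B₁ (Disc.Omega A B') ≪≫ₗ
    LinearEquiv.ofBijective _ (omegaBC_bijective (A := A) (B := B) hopen h)⟩

theorem invertible_omega_of_fibres [IsNoetherianRing B]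
    (h : ∀ (p : Ideal A) [p.IsPrime],
      letI : Algebra (p.ResidueField ⊗[A] B') (p.ResidueField ⊗[A] B) := (Algebra.TensorProduct.map
        (AlgHom.id p.ResidueField p.ResidueField) (IsScalarTower.toAlgHom A B' B)).toRingHom.toAlgebra
      Module.Invertible (p.ResidueField ⊗[A] B)
        (QFDual.omega p.ResidueField (p.ResidueField ⊗[A] B') (p.ResidueField ⊗[A] B))) :
    Module.Invertible B (QFDual.omega A B' B) := by
  haveI := finite_Omega A B'
  haveI : Module.Flat A (QFDual.omega A B' B) := DiscDual32.flat_omega_baseChange (A := A) (B := B) hopen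
  refine invertible_of_fibres (A := A) fun p _ => ?_
  letI a1 : Algebra (p.ResidueField ⊗[A] B') (p.ResidueField ⊗[A] B) := (Algebra.TensorProduct.map
        (AlgHom.id p.ResidueField p.ResidueField) (IsScalarTower.toAlgHom A B' B)).toRingHom.toAlgebra
  letI a2 : Algebra B' (p.ResidueField ⊗[A] B) := ((algebraMap B (p.ResidueField ⊗[A] B)).comp (algebraMap B' B)).toAlgebra
  haveI : IsScalarTower B' B (p.ResidueField ⊗[A] B) := IsScalarTower.of_algebraMap_eq' rfl
  haveI : IsScalarTower B' (p.ResidueField ⊗[A] B') (p.ResidueField ⊗[A] B) :=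
    IsScalarTower.of_algebraMap_eq fun b => by
      show (1 : p.ResidueField) ⊗ₜ[A] algebraMap B' B b =
        Algebra.TensorProduct.map (AlgHom.id p.ResidueField p.ResidueField) (IsScalarTower.toAlgHom A B' B) (1 ⊗ₜ b)
      rw [Algebra.TensorProduct.map_tmul]; rfl
  obtain ⟨e⟩ := nonempty_omega_bcEquiv (A₁ := p.ResidueField) (B'₁ := p.ResidueField ⊗[A] B')
    (B₁ := p.ResidueField ⊗[A] B) hopen (TensorProduct.isPushout (R := A) (S := p.ResidueField) (T := B'))
  haveI := h p
  exact Module.Invertible.congr e.symm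

theorem openImmersion_baseChange (κ : Type u) [CommRing κ] [Algebra A κ] :
    AlgebraicGeometry.IsOpenImmersion (AlgebraicGeometry.Spec.map (CommRingCat.ofHom
      (Algebra.TensorProduct.map (AlgHom.id κ κ) (IsScalarTower.toAlgHom A B' B)).toRingHom)) := by
  letI a1 : Algebra (κ ⊗[A] B') (κ ⊗[A] B) :=
    (Algebra.TensorProduct.map (AlgHom.id κ κ) (IsScalarTower.toAlgHom A B' B)).toRingHom.toAlgebra
  letI a2 : Algebra B' (κ ⊗[A] B) := ((algebraMap B (κ ⊗[A] B)).comp (algebraMap B' B)).toAlgebra
  haveI : IsScalarTower B' B (κ ⊗[A] B) := IsScalarTower.of_algebraMap_eq' rfl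
  haveI : IsScalarTower B' (κ ⊗[A] B') (κ ⊗[A] B) :=
    IsScalarTower.of_algebraMap_eq fun b => by
      show (1 : κ) ⊗ₜ[A] algebraMap B' B b =
        Algebra.TensorProduct.map (AlgHom.id κ κ) (IsScalarTower.toAlgHom A B' B) (1 ⊗ₜ b)
      rw [Algebra.TensorProduct.map_tmul]; rfl
  haveI : IsScalarTower κ (κ ⊗[A] B') (κ ⊗[A] B) := IsScalarTower.of_algebraMap_eq fun c => by
      show c ⊗ₜ[A] (1 : B) =
        Algebra.TensorProduct.map (AlgHom.id κ κ) (IsScalarTower.toAlgHom A B' B) (c ⊗ₜ 1)
      rw [Algebra.TensorProduct.map_tmul, map_one]; rfl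
  haveI : IsScalarTower A B' (κ ⊗[A] B) := IsScalarTower.of_algebraMap_eq fun a => by
    rw [IsScalarTower.algebraMap_apply B' B (κ ⊗[A] B), ← IsScalarTower.algebraMap_apply A B' B,
      ← IsScalarTower.algebraMap_apply A B (κ ⊗[A] B)]
  haveI : IsScalarTower A (κ ⊗[A] B') (κ ⊗[A] B) := IsScalarTower.of_algebraMap_eq fun a => by
    rw [IsScalarTower.algebraMap_apply A κ (κ ⊗[A] B'), ← IsScalarTower.algebraMap_apply κ (κ ⊗[A] B') (κ ⊗[A] B),
      ← IsScalarTower.algebraMap_apply A κ (κ ⊗[A] B)]
  haveI : Algebra.IsPushout A B' κ (κ ⊗[A] B') := (TensorProduct.isPushout (R := A) (S := κ) (T := B')).symm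
  haveI : Algebra.IsPushout A B κ (κ ⊗[A] B) := (TensorProduct.isPushout (R := A) (S := κ) (T := B)).symm
  have hp : Algebra.IsPushout B' B (κ ⊗[A] B') (κ ⊗[A] B) :=
    (Algebra.IsPushout.comp_iff (R := A) (S := B') (R' := κ) (S' := κ ⊗[A] B')).1 inferInstance
  exact CategoryTheory.MorphismProperty.of_isPullback (P := @AlgebraicGeometry.IsOpenImmersion)
    (AlgebraicGeometry.isPullback_SpecMap_of_isPushout _ _ _ _
      (@CommRingCat.isPushout_of_isPushout B' B (κ ⊗[A] B') (κ ⊗[A] B) _ _ _ _ _ _ _ _ _ _ _ hp)) hopen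

end Iff

end Groth.Agent.DR39
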