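import Groth.Agent.DR39.SkApps
import Groth.Agent.DR39.BottomS2
import Groth.Agent.DR39.GorLocus
import Groth.Agent.Depth99.Reflexive
import Groth.Agent.LC15.Equidim

/-!
Endomorphisms and self-extensions of the bottom cohomology of a dualizing complex.
-/

set_option autoImplicit false
set_option linter.style.haveILetI false
set_option linter.unusedSectionVars false
set_option maxHeartbeats 800000

noncomputable section

universe u

open CategoryTheory
open Groth.Agent.LC16.DualAnn (mu mu_spec mu_chain mu_mono exists_chain)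

attribute [local instance] HasDerivedCategory.standard

namespace Groth.Agent.DR39.QGorEnd

section Gen

variable {A : Type u} [CommRing A] {ω : Dual.D A} (hω : Dual.IsDualizing A ω)
include hω

/-- A ring with a dualizing complex is catenary. -/
theorem isCatenary : CAlg.IsCatenary A := by
  refine ⟨fun p q _ => ⟨(mu hω q - mu hω p).toNat, fun s hs ht => ?_⟩, fun s t h0 h1 hs ht => ?_⟩
  · have := mu_chain hω s
    rw [hs, ht] at this
    omega
  · have key : ∀ l : LTSeries (PrimeSpectrum A), (∀ i : Fin l.length, l (Fin.castSucc i) ⋖ l (Fin.succ i)) →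
        mu hω l.last = mu hω l.head + l.length := fun l hl => by
      suffices ∀ i : ℕ, (hi : i < l.length + 1) → mu hω (l ⟨i, hi⟩) = mu hω l.head + i from
        this l.length (by omega)
      intro i
      induction i with
      | zero => intro _; simp; rfl
      | succ i ih =>
        intro hi
        have h := DR39.mu_unique hω _ (mu_spec hω (l ⟨i + 1, hi⟩))
          (DR39.Mu.exists_succ hω (mu_spec hω _) (hl ⟨i, by omega⟩))
        rw [h]
        have := ih (by omega)
        show mu hω (l ⟨i, by omega⟩) + 1 = _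
        rw [this]
        push_cast
        ring
    have h2 := key s hs
    have h3 := key t ht
    rw [h0, h1] at h2
    omega

/-- A dualizing complex with a single cohomology module. -/
theorem end_of_single (c : ℤ) (hzero : ∀ i, i ≠ c → Subsingleton (Dual.HD A ω i)) :
    Function.Bijective (fun r : A => r • (LinearMap.id : Dual.HD A ω c →ₗ[A] Dual.HD A ω c)) ∧
      Subsingleton (Dual.inD A (Dual.HD A ω c) ⟶ (Dual.inD A (Dual.HD A ω c))⟦(1 : ℤ)⟧) := by
  obtain ⟨e1⟩ := exists_iso_single_homology ω c fun i hi =>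
    @ModuleCat.isZero_of_subsingleton _ _ ((HF A i).obj ω) (hzero i hi)
  let K : ModuleCat.{u} A := ModuleCat.of A (Dual.HD A ω c)
  let i2 : ω ≅ (Dual.inD A (Dual.HD A ω c))⟦-c⟧ := e1 ≪≫ (singleShiftIso K c (-c) (by omega)).symm
  have hK : Dual.IsDualizing A (Dual.inD A (Dual.HD A ω c)) :=
    isDualizing_of_iso (isDualizing_shift hω c) ((CategoryTheory.shiftFunctor (Dual.D A) c).mapIso i2 ≪≫
      (CategoryTheory.shiftFunctorCompIsoId (Dual.D A) (-c) c (by omega)).app _)
  refine ⟨?_, hK.ext_self_subsingleton 1 one_ne_zero⟩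
  let F := DerivedCategory.singleFunctor (ModuleCat.{u} A) 0
  have hF : ∀ r : A, F.map (ModuleCat.ofHom (r • (LinearMap.id : Dual.HD A ω c →ₗ[A] Dual.HD A ω c))) =
      r • 𝟙 (F.obj K) := fun r => by
    rw [show ModuleCat.ofHom (r • (LinearMap.id : Dual.HD A ω c →ₗ[A] Dual.HD A ω c)) = r • 𝟙 K from rfl,
      Functor.map_smul, F.map_id]
  refine ⟨fun r s hrs => hK.toEnd_bijective.1 ?_, fun f => ?_⟩
  · show r • 𝟙 (F.obj K) = s • 𝟙 (F.obj K)
    rw [← hF, ← hF]
    exact congrArg (fun g => F.map (ModuleCat.ofHom g)) hrs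
  · obtain ⟨r, hr⟩ := hK.toEnd_bijective.2 (F.map (ModuleCat.ofHom f))
    refine ⟨r, ?_⟩
    exact congrArg ModuleCat.Hom.hom (F.map_injective ((hF r).trans hr))

end Gen

section HomZero

variable (A : Type u) [CommRing A] (K : Type u) [AddCommGroup K] [Module A K]

/-- maps of modules as morphisms of degree zero -/
def homZeroEquiv {M : Type u} [AddCommGroup M] [Module A M] (g : M →ₗ[A] K) :
    LC17.GM (Dual.inD A K) (ModuleCat.of A M) 0 :=
  (DerivedCategory.singleFunctor (ModuleCat.{u} A) 0).map (ModuleCat.ofHom g) ≫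
    ((shiftFunctorZero (Dual.D A) ℤ).app (Dual.inD A K)).inv

theorem homZeroEquiv_bijective {M : Type u} [AddCommGroup M] [Module A M] :
    Function.Bijective (homZeroEquiv A K (M := M)) := by
  refine ⟨fun g g' h => ?_, fun f => ?_⟩
  · have h' := (cancel_mono ((shiftFunctorZero (Dual.D A) ℤ).app (Dual.inD A K)).inv).1 h
    exact congrArg ModuleCat.Hom.hom ((DerivedCategory.singleFunctor (ModuleCat.{u} A) 0).map_injective h')
  · obtain ⟨φ, hφ⟩ := (DerivedCategory.singleFunctor (ModuleCat.{u} A) 0).map_surjective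
      (X := ModuleCat.of A M) (Y := ModuleCat.of A K) (f ≫ ((shiftFunctorZero (Dual.D A) ℤ).app (Dual.inD A K)).hom)
    refine ⟨φ.hom, ?_⟩
    show (DerivedCategory.singleFunctor (ModuleCat.{u} A) 0).map (ModuleCat.ofHom φ.hom) ≫ _ = f
    rw [ModuleCat.ofHom_hom, hφ, Category.assoc, Iso.hom_inv_id, Category.comp_id]

theorem pre_homZeroEquiv {M N : Type u} [AddCommGroup M] [Module A M] [AddCommGroup N] [Module A N]
    (g : N →ₗ[A] K) (φ : M →ₗ[A] N) :
    LC17.pre (Dual.inD A K) (ModuleCat.ofHom φ) 0 (homZeroEquiv A K g) = homZeroEquiv A K (g ∘ₗ φ) := by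
  show (DerivedCategory.singleFunctor (ModuleCat.{u} A) 0).map (ModuleCat.ofHom φ) ≫ homZeroEquiv A K g = _
  unfold homZeroEquiv
  rw [← Category.assoc, ← Functor.map_comp, ← ModuleCat.ofHom_comp]

theorem conn_pre {S : ShortComplex (ModuleCat.{u} A)} (hS : S.ShortExact) {X : Dual.D A} {m n : ℤ} {h : m + 1 = n}
    (g : LC17.GM X S.X₂ m) : LC17.conn X hS m n h (LC17.pre X S.f m g) = 0 := by
  show hS.singleδ ≫ ((DerivedCategory.singleFunctor (ModuleCat.{u} A) 0).map S.f ≫ g)⟦(1 : ℤ)⟧' ≫ _ = 0
  rw [Functor.map_comp, Category.assoc, ← Category.assoc hS.singleδ]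
  have hz : hS.singleδ ≫ ((DerivedCategory.singleFunctor (ModuleCat.{u} A) 0).map S.f)⟦(1 : ℤ)⟧' = 0 :=
    Pretriangulated.comp_distTriang_mor_zero₃₁ _ hS.singleTriangle_distinguished
  rw [hz, Limits.zero_comp]

theorem subsingleton_gm_free (r : ℕ) :
    Subsingleton (LC17.GM (Dual.inD A K) (ModuleCat.of A (Fin r → A)) 1) := by
  haveI : Projective (ModuleCat.of A (Fin r → A)) := (IsProjective.iff_projective _).1 inferInstance
  have hz : Limits.IsZero ((DerivedCategory.homologyFunctor (ModuleCat.{u} A) 0).obj ((Dual.inD A K)⟦(1 : ℤ)⟧)) :=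
    Limits.IsZero.of_iso (DerivedCategory.isZero_of_isLE _ 0 1 (by norm_num)) (LC17.shiftH (Dual.inD A K) 1)
  exact subsingleton_of_forall_eq 0 fun f => (DR39.homToH0_bijective _ _).1 (hz.eq_of_tgt _ _)

/-- extension of maps when there are no self-extensions -/
theorem exists_extension {R F : Type u} [AddCommGroup R] [Module A R] [AddCommGroup F] [Module A F]
    (i : R →ₗ[A] F) (q : F →ₗ[A] K) (hi : Function.Injective i) (hq : Function.Surjective q)
    (h : Function.Exact i q) (hsub : Subsingleton (Dual.inD A K ⟶ (Dual.inD A K)⟦(1 : ℤ)⟧))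
    (g : R →ₗ[A] K) : ∃ G : F →ₗ[A] K, G ∘ₗ i = g := by
  have hS := LC17.shortExact_of_exact i q hi hq h
  obtain ⟨G, hG⟩ := LC17.exact₁ (Dual.inD A K) hS 0 1 (zero_add 1) (homZeroEquiv A K g)
    (@Subsingleton.elim _ hsub _ _)
  obtain ⟨G', rfl⟩ := (homZeroEquiv_bijective A K).2 G
  refine ⟨G', ?_⟩
  apply (homZeroEquiv_bijective A K (M := R)).1
  exact (pre_homZeroEquiv A K G' i).symm.trans hG

/-- no self-extensions when maps from the relations extend -/
theorem subsingleton_ext {R : Type u} [AddCommGroup R] [Module A R] (r : ℕ) (i : R →ₗ[A] (Fin r → A))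
    (q : (Fin r → A) →ₗ[A] K) (hi : Function.Injective i) (hq : Function.Surjective q)
    (h : Function.Exact i q) (hext : ∀ g : R →ₗ[A] K, ∃ G : (Fin r → A) →ₗ[A] K, G ∘ₗ i = g) :
    Subsingleton (Dual.inD A K ⟶ (Dual.inD A K)⟦(1 : ℤ)⟧) := by
  have hS := LC17.shortExact_of_exact i q hi hq h
  refine subsingleton_of_forall_eq 0 fun f => ?_
  obtain ⟨g, hg⟩ := LC17.exact₃ (Dual.inD A K) hS 0 1 (zero_add 1) f
    (@Subsingleton.elim _ (subsingleton_gm_free A K r) _ _)
  obtain ⟨g', rfl⟩ := (homZeroEquiv_bijective A K).2 g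
  obtain ⟨G, rfl⟩ := hext g'
  rw [← hg, ← pre_homZeroEquiv]
  exact conn_pre A hS _

end HomZero

section Local

variable {A : Type u} [CommRing A] [IsNoetherianRing A] [IsLocalRing A] {ω : Dual.D A} (hω : Dual.IsDualizing A ω)
  (hn : Dual.IsNormalized A ω) (n : ℕ) (hd : ringKrullDim A = n) (hS2 : LocCoh.HasSk 2 A A)
include hω hn hd hS2

theorem isEquidim : EGA4.IsEquidim A := by
  intro q hq
  refine LC15.Equidim.ringKrullDim_quotient_eq (isCatenary hω) (fun p hp => ?_) q hq
  have h := hS2 p.asIdeal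
  rw [Depth99.supportDim_self_loc,
    min_eq_left (show (((2 : ℕ) : WithBot ℕ∞)) ≤ (p.asIdeal.height : WithBot ℕ∞) from WithBot.coe_le_coe.mpr hp),
    EGA4Alg4.depth_eq_of_equiv (CAlg1.locSelfEquiv p.asIdeal)] at h
  exact WithBot.coe_le_coe.mp h

theorem support_bottom : Module.support A (Dual.HD A ω (-(n : ℤ))) = Set.univ := by
  obtain ⟨hsupp, -⟩ := HD_bottom_support_and_S2 hω hn n (by rw [hd]; rfl)
  rw [hsupp]
  refine Set.eq_univ_of_forall fun p => ?_
  obtain ⟨q, hq, hqp⟩ := Ideal.exists_minimalPrimes_le (I := (⊥ : Ideal A)) (J := p.asIdeal) bot_le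
  exact ⟨q, hq, hqp, (isEquidim hω hn n hd hS2 q hq).trans hd⟩

/-- At a Cohen-Macaulay prime only the bottom cohomology survives. -/
theorem degree_eq {p : PrimeSpectrum A}
    (hp : (p.asIdeal.height : WithBot ℕ∞) ≤ ((LocCoh.depth (Localization.AtPrime p.asIdeal)
      (LocalizedModule p.asIdeal.primeCompl A) : ℕ∞) : WithBot ℕ∞))
    {j : ℤ} (hj : LC17.gAnn ω (ModuleCat.of A A) j ≤ p.asIdeal) : j = -(n : ℤ) := by
  have hmax : ∀ m : PrimeSpectrum A, m.asIdeal.IsMaximal → mu hω m = 0 := by
    intro m hm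
    obtain rfl : m = ⟨IsLocalRing.maximalIdeal A, inferInstance⟩ :=
      PrimeSpectrum.ext (IsLocalRing.eq_maximalIdeal hm)
    exact Sk.mu_eq_zero_of_normalized hω hn
  have hmin : ∀ q : PrimeSpectrum A, q.asIdeal ∈ (Module.annihilator A A).minimalPrimes →
      mu hω q = -(n : ℤ) := fun q hq => by
    rw [CAlg1.annihilator_self] at hq
    obtain ⟨h1, h2⟩ := Sk.ringKrullDim_quotient_eq hω hmax q
    rw [isEquidim hω hn n hd hS2 _ hq, hd] at h2
    have : n = (-mu hω q).toNat := by exact_mod_cast h2
    omega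
  have hs := Sk.mem_support_of_gAnn_le hω A hj
  obtain ⟨dep, dm, hdep, hdm, -, -, hb⟩ := Sk.exists_dep_dim hω A hs
  obtain ⟨h6, h7⟩ := Sk.supportDim_eq_mu_sub hω A hmin hs
  rw [hdm] at h7
  have h8 : dm = (mu hω p - -(n : ℤ)).toNat := by exact_mod_cast h7
  rw [hdep, ← Depth99.supportDim_self_loc, hdm] at hp
  have h9 : dm ≤ dep := by exact_mod_cast hp
  obtain ⟨h10, h11⟩ := hb j hj
  omega

omit hn hd hS2 [IsLocalRing A] in
theorem locHD (p : PrimeSpectrum A) (i : ℤ) :
    Nonempty (LocalizedModule p.asIdeal.primeCompl (Dual.HD A ω i) ≃ₗ[Localization.AtPrime p.asIdeal]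
      Dual.HD (Localization.AtPrime p.asIdeal) ((DF (extA A (Localization.AtPrime p.asIdeal))).obj ω) i) := by
  obtain ⟨e1⟩ := HF_DF (extA A (Localization.AtPrime p.asIdeal)) ω i
  obtain ⟨e2⟩ := ext_tensorIso (Localization.AtPrime p.asIdeal) ((HF A i).obj ω)
  exact ⟨(LocalizedModule.equivTensorProduct p.asIdeal.primeCompl _).trans ((e1 ≪≫ e2).toLinearEquiv.symm)⟩

theorem cm_data {p : PrimeSpectrum A}
    (hp : (p.asIdeal.height : WithBot ℕ∞) ≤ ((LocCoh.depth (Localization.AtPrime p.asIdeal)
      (LocalizedModule p.asIdeal.primeCompl A) : ℕ∞) : WithBot ℕ∞)) :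
    Function.Bijective (fun r : Localization.AtPrime p.asIdeal =>
      r • (LinearMap.id : LocalizedModule p.asIdeal.primeCompl (Dual.HD A ω (-(n : ℤ))) →ₗ[Localization.AtPrime p.asIdeal]
        LocalizedModule p.asIdeal.primeCompl (Dual.HD A ω (-(n : ℤ))))) ∧
    Subsingleton (Dual.inD (Localization.AtPrime p.asIdeal) (LocalizedModule p.asIdeal.primeCompl (Dual.HD A ω (-(n : ℤ)))) ⟶
      (Dual.inD (Localization.AtPrime p.asIdeal) (LocalizedModule p.asIdeal.primeCompl (Dual.HD A ω (-(n : ℤ)))))⟦(1 : ℤ)⟧) := by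
  have hX := isDualizing_atPrime hω p.asIdeal
  have hz : ∀ i, i ≠ -(n : ℤ) →
      Subsingleton (Dual.HD (Localization.AtPrime p.asIdeal) ((DF (extA A (Localization.AtPrime p.asIdeal))).obj ω) i) := by
    intro i hi
    obtain ⟨e⟩ := locHD hω p i
    haveI : Subsingleton (LocalizedModule p.asIdeal.primeCompl (Dual.HD A ω i)) := by
      rw [← Module.notMem_support_iff (p := p), ← (gmSelfEquiv ω i).support_eq, mem_support_gm hω A]
      exact fun h => hi (degree_eq hω hn n hd hS2 hp h)
    exact e.symm.toEquiv.subsingleton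
  obtain ⟨e⟩ := locHD hω p (-(n : ℤ))
  obtain ⟨h1, h2⟩ := end_of_single hX (-(n : ℤ)) hz
  refine ⟨?_, ?_⟩
  · have he : (fun r : Localization.AtPrime p.asIdeal => r • (LinearMap.id :
        LocalizedModule p.asIdeal.primeCompl (Dual.HD A ω (-(n : ℤ))) →ₗ[Localization.AtPrime p.asIdeal]
          LocalizedModule p.asIdeal.primeCompl (Dual.HD A ω (-(n : ℤ))))) =
        e.conj.symm ∘ fun r => r • LinearMap.id := by
      funext r
      apply e.conj.injective
      simp [map_smul, LinearEquiv.conj_id]
    rw [he]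
    exact e.conj.symm.bijective.comp h1
  · let i : Dual.inD (Localization.AtPrime p.asIdeal) (LocalizedModule p.asIdeal.primeCompl (Dual.HD A ω (-(n : ℤ)))) ≅
        Dual.inD (Localization.AtPrime p.asIdeal) (Dual.HD (Localization.AtPrime p.asIdeal)
          ((DF (extA A (Localization.AtPrime p.asIdeal))).obj ω) (-(n : ℤ))) :=
      (DerivedCategory.singleFunctor _ 0).mapIso e.toModuleIso
    exact @Equiv.subsingleton _ _ (i.homCongr ((CategoryTheory.shiftFunctor _ (1 : ℤ)).mapIso i)) h2

theorem supportDim_bottom (p : Ideal A) [p.IsPrime] :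
    Module.supportDim (Localization.AtPrime p) (LocalizedModule p.primeCompl (Dual.HD A ω (-(n : ℤ)))) =
      (p.height : WithBot ℕ∞) := by
  haveI := hω.finite_cohomology (-(n : ℤ))
  rw [← Depth99.supportDim_self_loc p]
  refine le_antisymm (Depth99.supportDim_loc_le ?_ p)
    (Depth99.supportDim_loc_le (support_bottom hω hn n hd hS2 ▸ Set.subset_univ _) p)
  intro q _
  exact Module.mem_support_iff_of_finite.2 (by rw [CAlg1.annihilator_self]; exact bot_le)

theorem two_le_depth_bottom (p : Ideal A) [p.IsPrime] (h : 2 ≤ p.height) :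
    2 ≤ LocCoh.depth (Localization.AtPrime p) (LocalizedModule p.primeCompl (Dual.HD A ω (-(n : ℤ)))) := by
  have h2 := (HD_bottom_support_and_S2 hω hn n (by rw [hd]; rfl)).2 p
  rw [supportDim_bottom hω hn n hd hS2 p,
    min_eq_left (show (((2 : ℕ) : WithBot ℕ∞)) ≤ (p.height : WithBot ℕ∞) from WithBot.coe_le_coe.mpr h)] at h2
  exact WithBot.coe_le_coe.mp h2

theorem end_bijective :
    Function.Bijective (fun r : A => r • (LinearMap.id : Dual.HD A ω (-(n : ℤ)) →ₗ[A] Dual.HD A ω (-(n : ℤ)))) := by
  haveI := hω.finite_cohomology (-(n : ℤ))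
  let φ : A →ₗ[A] (Dual.HD A ω (-(n : ℤ)) →ₗ[A] Dual.HD A ω (-(n : ℤ))) :=
    LinearMap.toSpanSingleton A _ LinearMap.id
  show Function.Bijective φ
  refine CAlg1.bijective_of_depth_two φ fun p hp => ?_
  haveI : IsNoetherianRing (Localization.AtPrime p) := IsLocalization.isNoetherianRing p.primeCompl _ inferInstance
  have hS := hS2 p
  rw [Depth99.supportDim_self_loc] at hS
  rcases le_or_gt p.height 2 with hle | hlt
  · refine Or.inl ?_
    rw [min_eq_right (show (p.height : WithBot ℕ∞) ≤ ((2 : ℕ) : WithBot ℕ∞) from WithBot.coe_le_coe.mpr hle)] at hS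
    obtain ⟨hb, -⟩ := cm_data hω hn n hd hS2 (p := ⟨p, inferInstance⟩) hS
    haveI : Module.FinitePresentation A (Dual.HD A ω (-(n : ℤ))) := Module.finitePresentation_of_finite A _
    let L := LocalizedModule.map p.primeCompl (M := Dual.HD A ω (-(n : ℤ))) (N := Dual.HD A ω (-(n : ℤ)))
    let ψ := (TF3.homLocEquiv (M := Dual.HD A ω (-(n : ℤ))) (N := Dual.HD A ω (-(n : ℤ))) p).toLinearMap ∘ₗ
      LocalizedModule.map p.primeCompl φ
    let one : LocalizedModule p.primeCompl A := LocalizedModule.mk 1 1
    have hone : ψ one = LinearMap.id := by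
      show TF3.homLocEquiv p (LocalizedModule.map p.primeCompl φ (LocalizedModule.mk 1 1)) = _
      rw [LocalizedModule.map_mk, show φ 1 = LinearMap.id from one_smul A _]
      refine (IsLocalizedModule.linearEquiv_apply p.primeCompl
        (LocalizedModule.mkLinearMap p.primeCompl (Dual.HD A ω (-(n : ℤ)) →ₗ[A] Dual.HD A ω (-(n : ℤ))))
        (IsLocalizedModule.mapExtendScalars p.primeCompl (LocalizedModule.mkLinearMap p.primeCompl _)
          (LocalizedModule.mkLinearMap p.primeCompl _) (Localization.AtPrime p)) LinearMap.id).trans ?_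
      apply LinearMap.restrictScalars_injective A
      exact IsLocalizedModule.map_id p.primeCompl (LocalizedModule.mkLinearMap p.primeCompl _)
    let u := Depth99.selfLocEquiv p
    have hz : ∀ z, z = u z • one := fun z => by
      apply u.injective
      have hu : u one = 1 := by
        show IsLocalizedModule.iso p.primeCompl (Algebra.linearMap A (Localization.AtPrime p)) (LocalizedModule.mk 1 1) = 1
        rw [IsLocalizedModule.iso_mk_one]
        exact (Algebra.linearMap_apply A (Localization.AtPrime p) 1).trans (map_one _)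
      rw [map_smul, hu, smul_eq_mul, mul_one]
    have hψ : ψ.toFun = (fun r : Localization.AtPrime p => r • LinearMap.id) ∘ u := by
      funext z
      show ψ z = u z • LinearMap.id
      conv_lhs => rw [hz z]
      rw [map_smul, hone]
    have : Function.Bijective ψ := by
      show Function.Bijective ψ.toFun
      rw [hψ]
      exact hb.comp u.bijective
    exact (Function.Bijective.of_comp_iff'
      (TF3.homLocEquiv (M := Dual.HD A ω (-(n : ℤ))) (N := Dual.HD A ω (-(n : ℤ))) p).bijective _).1 this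
  · refine Or.inr ⟨?_, ?_⟩
    · rw [min_eq_left (show ((2 : ℕ) : WithBot ℕ∞) ≤ (p.height : WithBot ℕ∞) from WithBot.coe_le_coe.mpr hlt.le)] at hS
      exact WithBot.coe_le_coe.mp hS
    · intro hass
      have h := TF3.natCast_le_depth_hom (M := LocalizedModule p.primeCompl (Dual.HD A ω (-(n : ℤ)))) (k := 2) le_rfl
        (two_le_depth_bottom hω hn n hd hS2 p hlt.le)
      rw [← EGA4Alg4.depth_eq_of_equiv (TF3.homLocEquiv (M := Dual.HD A ω (-(n : ℤ))) (N := Dual.HD A ω (-(n : ℤ))) p),
        (CAlg1.depth_atPrime_eq_zero_iff p).mpr hass] at h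
      simp at h

theorem ext_one (hS3 : LocCoh.HasSk 3 A A) :
    Subsingleton (Dual.inD A (Dual.HD A ω (-(n : ℤ))) ⟶ (Dual.inD A (Dual.HD A ω (-(n : ℤ))))⟦(1 : ℤ)⟧) := by
  haveI := hω.finite_cohomology (-(n : ℤ))
  let K := Dual.HD A ω (-(n : ℤ))
  obtain ⟨r, q, hq⟩ := Module.Finite.exists_fin' A K
  let R := LinearMap.ker q
  let ρ : ((Fin r → A) →ₗ[A] K) →ₗ[A] (R →ₗ[A] K) := LinearMap.lcomp A K R.subtype
  let C := (R →ₗ[A] K) ⧸ LinearMap.range ρ
  have hC : Subsingleton C := by
    by_contra hne
    haveI := not_subsingleton_iff_nontrivial.1 hne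
    obtain ⟨p, hass⟩ := associatedPrimes.nonempty A C
    haveI := hass.isPrime
    haveI : IsNoetherianRing (Localization.AtPrime p) := IsLocalization.isNoetherianRing p.primeCompl _ inferInstance
    obtain ⟨-, ybar, hy⟩ := isAssociatedPrime_iff.mp hass
    obtain ⟨g₀, rfl⟩ := Submodule.Quotient.mk_surjective _ ybar
    have hmem : ∀ a : A, a ∈ p ↔ a • (Submodule.Quotient.mk g₀ : C) = 0 := fun a => by
      rw [hy, Submodule.mem_colon_singleton, Submodule.mem_bot]
    rcases le_or_gt p.height 3 with hle | hlt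
    · -- at a Cohen-Macaulay prime the restriction map is surjective
      have hS := hS3 p
      rw [Depth99.supportDim_self_loc,
        min_eq_right (show (p.height : WithBot ℕ∞) ≤ ((3 : ℕ) : WithBot ℕ∞) from WithBot.coe_le_coe.mpr hle)] at hS
      obtain ⟨-, hsub⟩ := cm_data hω hn n hd hS2 (p := ⟨p, inferInstance⟩) hS
      let Rp := LocalizedModule p.primeCompl R
      let Kp := LocalizedModule p.primeCompl K
      let ιp : Rp →ₗ[Localization.AtPrime p] LocalizedModule p.primeCompl (Fin r → A) :=
        LocalizedModule.map p.primeCompl R.subtype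
      let qp : LocalizedModule p.primeCompl (Fin r → A) →ₗ[Localization.AtPrime p] Kp :=
        LocalizedModule.map p.primeCompl q
      have hex : Function.Exact R.subtype q := LinearMap.exact_subtype_ker_map q
      haveI : Module.FinitePresentation A R := Module.finitePresentation_of_finite A R
      haveI : Module.FinitePresentation A (Fin r → A) := Module.finitePresentation_of_finite A _
      have hexp : Function.Exact ιp qp := LocalizedModule.map_exact _ _ _ hex
      have hinj : Function.Injective ιp := LocalizedModule.map_injective _ _ (Submodule.injective_subtype R)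
      have hsurj : Function.Surjective qp := LocalizedModule.map_surjective _ _ hq
      have hext := exists_extension (Localization.AtPrime p) Kp (R := Rp) (F := LocalizedModule p.primeCompl (Fin r → A)) ιp qp hinj hsurj hexp hsub
      obtain ⟨G, hG⟩ := hext (LocalizedModule.map p.primeCompl g₀)
      obtain ⟨⟨G₁, s⟩, hs⟩ := IsLocalizedModule.surj p.primeCompl
        (LocalizedModule.map p.primeCompl (M := Fin r → A) (N := K)) G
      have heq : LocalizedModule.map p.primeCompl (G₁ ∘ₗ R.subtype) =
          LocalizedModule.map p.primeCompl ((s : A) • g₀) := by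
        have hc : LocalizedModule.map p.primeCompl (G₁ ∘ₗ R.subtype) =
            LocalizedModule.map p.primeCompl G₁ ∘ₗ ιp := by
          apply LinearMap.ext
          intro z
          induction z using LocalizedModule.induction_on with | h a t => ?_
          simp [ιp, LocalizedModule.map_mk]
        rw [hc, map_smul, ← hG, ← hs]
        rfl
      obtain ⟨t, ht⟩ := IsLocalizedModule.exists_of_eq (S := p.primeCompl) heq
      refine (t * s : p.primeCompl).2 ((hmem _).2 ?_)
      rw [← Submodule.Quotient.mk_smul, Submodule.Quotient.mk_eq_zero]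
      refine ⟨(t : A) • G₁, ?_⟩
      rw [map_smul, Submonoid.coe_mul, mul_smul]
      exact ht
    · -- otherwise the cokernel has positive depth
      have hcod : ∀ (k : ℕ), k ≤ 4 → ∀ q' : PrimeSpectrum A, p ≤ q'.asIdeal →
          ((k : ℕ) : WithBot ℕ∞) ≤ (q'.asIdeal.height : WithBot ℕ∞) := fun k hk q' hq' => by
        refine WithBot.coe_le_coe.mpr (le_trans ?_ (Ideal.height_mono hq'))
        exact le_trans (by exact_mod_cast hk) (Order.add_one_le_of_lt hlt)
      have hA : ((3 : ℕ) : ℕ∞) ≤ LocCoh.idealDepth p A := Depth99.le_idealDepth_of_hasSk 3 A p hS3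
        fun q' hq' _ => by rw [Depth99.supportDim_self_loc]; exact hcod 3 (by omega) q' hq'
      have hK : ((2 : ℕ) : ℕ∞) ≤ LocCoh.idealDepth p K := Depth99.le_idealDepth_of_hasSk 2 K p
        (HD_bottom_support_and_S2 hω hn n (by rw [hd]; rfl)).2
        fun q' hq' _ => by rw [supportDim_bottom hω hn n hd hS2]; exact hcod 2 (by omega) q' hq'
      have hE : ((3 : ℕ) : ℕ∞) ≤ LocCoh.idealDepth p (K →ₗ[A] K) := by
        rw [← LC17.idealDepth_congr p (LinearEquiv.ofBijective
          (LinearMap.toSpanSingleton A (K →ₗ[A] K) LinearMap.id) (end_bijective hω hn n hd hS2))]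
        exact hA
      have hF := Depth99.idealDepth_hom p (Fin r → A) K le_rfl hK
      have hR := Depth99.idealDepth_hom p R K le_rfl hK
      have hqq : Function.Exact (LinearMap.lcomp A K q) ρ :=
        LinearMap.exact_lcomp_of_exact_of_surjective K (LinearMap.exact_subtype_ker_map q) hq
      have h1 := (LC15.idealDepth_shortExact (I := p) (f := LinearMap.lcomp A K q) (g := ρ.rangeRestrict)
        (LinearMap.lcomp_injective_of_surjective _ hq) ρ.surjective_rangeRestrict
        (LinearMap.exact_iff.2 (by rw [LinearMap.ker_rangeRestrict]; exact LinearMap.exact_iff.1 hqq))).2.1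
      have hI : ((2 : ℕ) : ℕ∞) ≤ LocCoh.idealDepth p (LinearMap.range ρ) := by
        refine le_trans (le_min hF ?_) h1
        generalize LocCoh.idealDepth p (K →ₗ[A] K) = d at hE ⊢
        induction d using ENat.recTopCoe with
        | top => simp
        | coe m => norm_cast at hE ⊢; omega
      have h2 := (LC15.idealDepth_shortExact (I := p) (f := (LinearMap.range ρ).subtype)
        (g := (LinearMap.range ρ).mkQ) (Submodule.subtype_injective _) (Submodule.mkQ_surjective _)
        (LinearMap.exact_subtype_mkQ _)).2.1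
      have hC1 : ((1 : ℕ) : ℕ∞) ≤ LocCoh.idealDepth p C := by
        refine le_trans (le_min (le_trans (by norm_num) hR) ?_) h2
        generalize LocCoh.idealDepth p (LinearMap.range ρ) = d at hI ⊢
        induction d using ENat.recTopCoe with
        | top => simp
        | coe m => norm_cast at hI ⊢; omega
      obtain ⟨x, hx, hreg⟩ := LC15.exists_regular_of_idealDepth_pos p hC1
      have h0 : (Submodule.Quotient.mk g₀ : C) = 0 :=
        hreg (((hmem x).1 hx).trans (smul_zero x).symm)
      exact hass.isPrime.ne_top (Ideal.eq_top_iff_one _ |>.2 ((hmem 1).2 (by rw [h0, smul_zero])))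
  refine subsingleton_ext A K r R.subtype q R.injective_subtype hq (LinearMap.exact_subtype_ker_map q) fun g' => ?_
  have : (Submodule.Quotient.mk g' : C) = 0 := Subsingleton.elim _ _
  exact (Submodule.Quotient.mk_eq_zero _).1 this

end Local

end Groth.Agent.DR39.QGorEnd
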