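import Groth.Agent.DR39.SkApps
import Groth.Agent.DR39.BottomS2
import Groth.Agent.Depth99.Reflexive

/-!
Local rings whose dualizing complex is concentrated in degree zero away from a small closed set.
-/

set_option autoImplicit false
set_option linter.style.haveILetI false
set_option linter.unusedSectionVars false

noncomputable section

universe u

open CategoryTheory
open Groth.Agent.LC16.DualAnn (mu mu_spec mu_chain mu_mono exists_chain)

attribute [local instance] HasDerivedCategory.standard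

namespace Groth.Agent.DR39.QGor

variable {A : Type u} [CommRing A] [IsNoetherianRing A] [IsLocalRing A] {ω : Dual.D A} (hω : Dual.IsDualizing A ω)
include hω

theorem isNormalized_shift_mu :
    Dual.IsNormalized A (ω⟦mu hω ⟨IsLocalRing.maximalIdeal A, inferInstance⟩⟧) := by
  intro i hi
  set m : PrimeSpectrum A := ⟨IsLocalRing.maximalIdeal A, inferInstance⟩
  refine @Equiv.subsingleton _ _ (Iso.homToEquiv ((shiftFunctorAdd' (Dual.D A)
    (mu hω m) i (mu hω m + i) rfl).app ω).symm) ?_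
  show Subsingleton (Dual.inD A (A ⧸ IsLocalRing.maximalIdeal A) ⟶ ω⟦mu hω m + i⟧)
  by_contra hne
  rw [DR39.subsingleton_gm_iff] at hne
  have := DR39.mu_unique hω m.asIdeal (show DR39.Mu ω m.asIdeal (mu hω m + i) from
    IsLocalRing.le_maximalIdeal hne) (mu_spec hω m)
  omega

theorem mem_support_HD_mu {q : PrimeSpectrum A} (hq : q.asIdeal ∈ minimalPrimes A) :
    q ∈ Module.support A (Dual.HD A ω (mu hω q)) := by
  have hqs : q ∈ Module.support A A := by
    rw [Module.mem_support_iff_of_finite]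
    intro a ha
    have h1 : a = 0 := by simpa using Module.mem_annihilator.1 ha 1
    rw [h1]
    exact zero_mem _
  obtain ⟨dep, dm, -, hdm, -, hlow, -⟩ := Sk.exists_dep_dim hω A hqs
  rw [Depth99.supportDim_self_loc, Ideal.height_eq_zero_iff.mpr hq] at hdm
  have hdm0 : dm = 0 := by
    have : ((0 : ℕ) : WithBot ℕ∞) = (dm : WithBot ℕ∞) := by simpa using hdm
    exact_mod_cast this.symm
  subst hdm0
  rw [← (DR39.gmSelfEquiv ω (mu hω q)).support_eq, DR39.mem_support_gm hω A]
  simpa using hlow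

variable (n : ℕ) (hd : ringKrullDim A = n) (J : Ideal A) (hJ : 1 ≤ J.height)
  (hoff : ∀ p : PrimeSpectrum A, ¬ J ≤ p.asIdeal → ∀ i : ℤ, i ≠ 0 → p ∉ Module.support A (Dual.HD A ω i))
include hd hJ hoff

theorem off_degree :
    EGA4.IsEquidim A ∧ Dual.IsNormalized A (ω⟦(n : ℤ)⟧) ∧ LocCoh.HasSk 2 A (Dual.HD A ω 0) ∧
      Module.support A (Dual.HD A ω 0) = Set.univ := by
  set m : PrimeSpectrum A := ⟨IsLocalRing.maximalIdeal A, inferInstance⟩ with hm
  have hle : ∀ p : PrimeSpectrum A, p ≤ m := fun p => IsLocalRing.le_maximalIdeal p.2.ne_top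
  have hmin : ∀ q : PrimeSpectrum A, q.asIdeal ∈ minimalPrimes A → mu hω q = 0 := fun q hq => by
    by_contra hne
    refine hoff q (fun hJq => ?_) _ hne (mem_support_HD_mu hω hq)
    have h1 := hJ.trans (Ideal.height_mono hJq)
    rw [Ideal.height_eq_zero_iff.mpr hq] at h1
    simp at h1
  have hpos : ∀ p : PrimeSpectrum A, 0 ≤ mu hω p := fun p => by
    obtain ⟨q, hq, hqp⟩ := Ideal.exists_minimalPrimes_le (I := (⊥ : Ideal A)) (J := p.asIdeal) bot_le
    haveI := hq.1.1
    rw [← hmin ⟨q, hq.1.1⟩ hq]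
    exact mu_mono hω hqp
  have hn' : n ≤ (mu hω m).toNat := by
    have h1 : ringKrullDim A ≤ ((mu hω m).toNat : WithBot ℕ∞) := iSup_le fun l => by
      have h2 := mu_chain hω l
      have h3 := hpos l.head
      have h4 := mu_mono hω (hle l.last)
      exact_mod_cast (show l.length ≤ (mu hω m).toNat by omega)
    rw [hd] at h1
    exact_mod_cast h1
  have hquot : ∀ q : PrimeSpectrum A, q.asIdeal ∈ minimalPrimes A →
      ((mu hω m).toNat : WithBot ℕ∞) ≤ ringKrullDim (A ⧸ q.asIdeal) := fun q hq => by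
    obtain ⟨l, hl0, -, hlen⟩ := exists_chain hω (hle q)
    rw [ringKrullDim_quotient]
    let l' : LTSeries (PrimeSpectrum.zeroLocus (q.asIdeal : Set A)) :=
      { length := l.length
        toFun := fun i => ⟨l i, (show q ≤ l i from hl0 ▸ LTSeries.head_le l i)⟩
        step := fun i => l.step i }
    refine le_trans ?_ (Order.LTSeries.length_le_krullDim l')
    rw [hmin q hq] at hlen
    exact_mod_cast (show (mu hω m).toNat ≤ l.length by omega)
  have hmu : mu hω m = n := by
    obtain ⟨q, hq, -⟩ := Ideal.exists_minimalPrimes_le (I := (⊥ : Ideal A)) (J := m.asIdeal) bot_le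
    have h1 := (hquot ⟨q, hq.1.1⟩ hq).trans (ringKrullDim_quotient_le q)
    rw [hd] at h1
    have h2 : (mu hω m).toNat ≤ n := by exact_mod_cast h1
    have := hpos m
    omega
  have hn : Dual.IsNormalized A (ω⟦(n : ℤ)⟧) := hmu ▸ isNormalized_shift_mu hω
  have heq : EGA4.IsEquidim A := fun q hq => by
    haveI := hq.1.1
    refine le_antisymm (ringKrullDim_quotient_le q) ?_
    refine le_trans ?_ (hquot ⟨q, hq.1.1⟩ hq)
    rw [hd]
    exact_mod_cast hn'
  let e : Dual.HD A (ω⟦(n : ℤ)⟧) (-(n : ℤ)) ≃ₗ[A] Dual.HD A ω 0 :=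
    (((DerivedCategory.homologyFunctor (ModuleCat.{u} A) 0).shiftIso (n : ℤ) (-(n : ℤ)) 0
      (by omega)).app ω).toLinearEquiv
  obtain ⟨hsupp, hS2⟩ := HD_bottom_support_and_S2 (isDualizing_shift hω (n : ℤ)) hn n (by rw [hd]; rfl)
  refine ⟨heq, hn, Depth99.hasSk_congr e hS2, ?_⟩
  rw [← e.support_eq, hsupp]
  refine Set.eq_univ_of_forall fun p => ?_
  obtain ⟨q, hq, hqp⟩ := Ideal.exists_minimalPrimes_le (I := (⊥ : Ideal A)) (J := p.asIdeal) bot_le
  exact ⟨q, hq, hqp, (heq q hq).trans hd⟩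

theorem two_le_idealDepth (hJ2 : 2 ≤ J.height) : 2 ≤ LocCoh.idealDepth J (Dual.HD A ω 0) := by
  haveI := hω.finite_cohomology 0
  obtain ⟨-, -, hS2, hsupp⟩ := off_degree hω n hd J hJ hoff
  have h := Depth99.le_idealDepth_of_hasSk 2 (Dual.HD A ω 0) J hS2 fun p hp _ => by
    refine le_trans ?_ (Depth99.supportDim_loc_le (K := A) (E := Dual.HD A ω 0)
      (hsupp ▸ Set.subset_univ _) p.asIdeal)
    rw [Depth99.supportDim_self_loc]
    exact WithBot.coe_le_coe.mpr (by exact_mod_cast hJ2.trans (Ideal.height_mono hp))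
  exact_mod_cast h

end Groth.Agent.DR39.QGor
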