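import Groth.Agent.DR39.RHomBridge
import Groth.Agent.DR39.TorBC
import Groth.Agent.DR39.LocalDuality
import Groth.Agent.DR39.RelPair
import Groth.Agent.DR39.RelHom

/-! Triangles attached to the upper shriek of a quotient map. -/

set_option autoImplicit false
set_option linter.style.haveILetI false
set_option linter.unusedSectionVars false

universe u

open CategoryTheory CategoryTheory.Limits CategoryTheory.Pretriangulated MonoidalCategory

attribute [local instance] HasDerivedCategory.standard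

namespace Groth.Agent.DR39

open Groth.Agent.DTen43 Groth.Agent.DR39.RelDual

variable {A : Type u} [CommRing A]

section Yoneda

variable {B : Type u} [CommRing B] [Algebra A B]

theorem nonempty_restrict_right {R : Dual.D A ⥤ Dual.D B} (adj : DRing.restrictD (algebraMap A B) ⊣ R)
    (I : DRing.Cx A) [I.IsKInjective] :
    Nonempty ((DRing.restrictD (algebraMap A B)).obj (R.obj ((QA A).obj I)) ≅
      (QA A).obj (DRing.homCx (sgl (ModuleCat.of A B)) I)) := by
  let φ := algebraMap A B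
  haveI := DTen43.hasLTen A
  haveI := DTen43.hasLTen B
  haveI := DTen43.hasLTen₃ A
  haveI := DTen43.hasLTen₃ B
  haveI := DTen43.isSymMonoidal A
  haveI := DTen43.isSymMonoidal B
  haveI := hasRHom (A := A)
  haveI := DTen43.hasLBase φ
  haveI := DTen43.hasResTen φ
  haveI := DTen43.resLegIso φ
  let U : Dual.D A := (DRing.restrictD φ).obj (𝟙_ (Dual.D B))
  have pn : ∀ {X X' : Dual.D A} (f : X ⟶ X'),
      U ◁ f ≫ projD φ (𝟙_ (Dual.D B)) X' = projD φ (𝟙_ (Dual.D B)) X ≫
        (DRing.restrictD φ).map (𝟙_ (Dual.D B) ◁ (DTen.LBase φ).map f) := fun {X X'} f => by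
    rw [projD, projD, projMap, projMap, ← Adjunction.homEquiv_naturality_left,
      ← Adjunction.homEquiv_naturality_right, ← id_tensorHom, reassoc_of% κ_natural]
    simp only [CategoryTheory.Functor.map_id, id_tensorHom, Category.assoc]
    exact congrArg (fun t => (DTen.baseAdj φ).homEquiv _ _ (κ φ U X ≫ t)) (whisker_exchange _ _)
  let i : DTen.LBase φ ⋙ DRing.restrictD φ ≅ DTen.tensorRightD A U :=
    NatIso.ofComponents (fun X => (DRing.restrictD φ).mapIso (λ_ ((DTen.LBase φ).obj X)).symm ≪≫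
      (@asIso _ _ _ _ (projD φ (𝟙_ (Dual.D B)) X) (isIso_projD φ _ X)).symm ≪≫ β_ U X) fun {X X'} f => by
      have h2 : inv (I := isIso_projD φ _ X) (projD φ (𝟙_ (Dual.D B)) X) ≫ U ◁ f =
          (DRing.restrictD φ).map (𝟙_ (Dual.D B) ◁ (DTen.LBase φ).map f) ≫
            inv (I := isIso_projD φ _ X') (projD φ (𝟙_ (Dual.D B)) X') := by
        haveI := isIso_projD φ (𝟙_ (Dual.D B)) X
        haveI := isIso_projD φ (𝟙_ (Dual.D B)) X'
        rw [IsIso.eq_comp_inv, Category.assoc, pn, IsIso.inv_hom_id_assoc]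
      simp only [Functor.comp_map, Iso.trans_hom, Functor.mapIso_hom, Iso.symm_hom, asIso_inv, Category.assoc]
      rw [show (DTen.tensorRightD A U).map f = f ▷ U from rfl, ← BraidedCategory.braiding_naturality_right,
        reassoc_of% h2, ← Functor.map_comp_assoc, ← Functor.map_comp_assoc, leftUnitor_inv_naturality]
  obtain ⟨q⟩ := nonempty_RHomR_Q_kinj (sgl (ModuleCat.of A B)) I
  exact ⟨((((DTen.baseAdj φ).comp adj).ofNatIsoLeft i).rightAdjointUniq (DTen.rhomAdj A U)).app _ ≪≫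
    ((DTen.RHom A).mapIso ((sglQIso (ModuleCat.of A B)) ≪≫ (restrictUnitIso A B).symm).op).app _ ≪≫ q⟩

end Yoneda

variable [IsNoetherianRing A] {ω : Dual.D A}

/-- Evaluation at `1` identifies `Hom•(A, I)` with `I`. -/
theorem nonempty_homCx_ring (D : DualModel A) :
    Nonempty ((QA A).obj (DRing.homCx (sgl (ModuleCat.of A A)) D.I) ≅ (QA A).obj D.I) := by
  haveI := D.isKInjective
  haveI := DTen43.hasLTen A
  haveI := DTen43.hasLTen₃ A
  haveI := DTen43.isSymMonoidal A
  haveI := hasRHom (A := A)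
  obtain ⟨q⟩ := nonempty_RHomR_Q_kinj (sgl (ModuleCat.of A A)) D.I
  obtain ⟨u⟩ := nonempty_rhom_unit ((QA A).obj D.I)
  exact ⟨q.symm ≪≫ ((DTen.RHom A).mapIso (sglQIso (ModuleCat.of A A) ≪≫ (unitIso A).symm).op.symm).app _ ≪≫ u⟩

theorem exists_triangle_nzd (hω : Dual.IsDualizing A ω) (f : A) (hf' : f ∈ nonZeroDivisors A)
    (R : Dual.D A ⥤ Dual.D (A ⧸ Ideal.span {f})) (adj : DRing.restrictD (Ideal.Quotient.mk (Ideal.span {f})) ⊣ R) :
    ∃ (u : (DRing.restrictD (Ideal.Quotient.mk (Ideal.span {f}))).obj (R.obj ω) ⟶ ω)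
      (w : ω ⟶ ((DRing.restrictD (Ideal.Quotient.mk (Ideal.span {f}))).obj (R.obj ω))⟦(1 : ℤ)⟧),
      Triangle.mk u (f • 𝟙 ω) w ∈ distinguishedTriangles := by
  obtain ⟨D, ⟨e⟩⟩ := exists_dualModel hω
  haveI := D.isKInjective
  let J := Ideal.span {f}
  let B := A ⧸ J
  let F := HomologicalComplex.single (ModuleCat.{u} A) (ComplexShape.up ℤ) 0
  let SM : ShortComplex (ModuleCat.{u} A) := ShortComplex.mk (f • 𝟙 (ModuleCat.of A A))
    (ModuleCat.ofHom (J.mkQ : A →ₗ[A] B)) (by
      ext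
      show Submodule.Quotient.mk (p := J) (f • (1 : A)) = 0
      rw [Submodule.Quotient.mk_eq_zero, smul_eq_mul, mul_one]
      exact Ideal.mem_span_singleton_self f)
  have hSM : SM.ShortExact := by
    refine { exact := ?_, mono_f := ?_, epi_g := ?_ }
    · rw [ShortComplex.moduleCat_exact_iff]
      intro (x : A) hx
      obtain ⟨c, rfl⟩ := Ideal.mem_span_singleton'.1 ((Submodule.Quotient.mk_eq_zero J).1 hx)
      exact ⟨c, by show f • c = c * f; rw [smul_eq_mul, mul_comm]⟩
    · rw [ModuleCat.mono_iff_injective]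
      intro (x : A) (y : A) h
      exact mul_cancel_left_mem_nonZeroDivisors hf' |>.1 (h : f • x = f • y)
    · rw [ModuleCat.epi_iff_surjective]
      exact Submodule.mkQ_surjective J
  have hS : (SM.map F).ShortExact := hSM.map_of_exact F
  have hS' := homCxOpp_shortExact (I := D.I) D.inj hS
  have hT := DerivedCategory.triangleOfSES_distinguished hS'
  obtain ⟨r⟩ := nonempty_restrict_right (B := B) adj D.I
  obtain ⟨a⟩ := nonempty_homCx_ring D
  let X := (DRing.restrictD (Ideal.Quotient.mk J)).obj (R.obj ω)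
  let e1 : X ≅ (QA A).obj (DRing.homCx (sgl (ModuleCat.of A B)) D.I) :=
    (DRing.restrictD (Ideal.Quotient.mk J)).mapIso (R.mapIso e.symm) ≪≫ r
  let e2 : ω ≅ (QA A).obj (DRing.homCx (sgl (ModuleCat.of A A)) D.I) := (a ≪≫ e).symm
  refine ⟨e1.hom ≫ (DerivedCategory.triangleOfSES hS').mor₁ ≫ e2.inv,
    e2.hom ≫ (DerivedCategory.triangleOfSES hS').mor₃ ≫ e1.inv⟦(1 : ℤ)⟧',
    isomorphic_distinguished _ hT _ (Triangle.isoMk _ _ e1 e2 e2 ?_ ?_ ?_)⟩
  · exact (Category.assoc _ _ _).trans (congrArg (e1.hom ≫ ·) ((Category.assoc _ _ _).trans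
      ((congrArg (_ ≫ ·) e2.inv_hom_id).trans (Category.comp_id _))))
  · have h1 : (homCxOpp D.I (SM.map F)).g = f • 𝟙 (DRing.homCx (sgl (ModuleCat.of A A)) D.I) := by
      refine HomologicalComplex.hom_ext _ _ fun i => ModuleCat.hom_ext (LinearMap.ext fun z => ?_)
      refine CochainComplex.HomComplex.Cochain.ext _ _ fun p r hr => ?_
      show ((CochainComplex.HomComplex.Cochain.ofHom (F.map (f • 𝟙 (ModuleCat.of A A)))).comp z (zero_add i)).v p r hr =
        f • z.v p r hr
      have hF : F.map (f • 𝟙 (ModuleCat.of A A)) = f • 𝟙 (F.obj (ModuleCat.of A A)) := by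
        refine HomologicalComplex.from_single_hom_ext ?_
        simp [F, HomologicalComplex.single_map_f_self]
      rw [hF, CochainComplex.HomComplex.Cochain.zero_cochain_comp_v, CochainComplex.HomComplex.Cochain.ofHom_v]
      exact (Linear.smul_comp _ _ _ _ _ _).trans (congrArg (f • ·) (Category.id_comp _))
    show (f • 𝟙 ω) ≫ e2.hom = e2.hom ≫ (QA A).map (homCxOpp D.I (SM.map F)).g
    rw [h1]
    refine Eq.trans ((Linear.smul_comp _ _ _ _ _ _).trans (congrArg (f • ·) (Category.id_comp _))) (Eq.symm ?_)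
    refine (congrArg (e2.hom ≫ ·) (((QA A).map_smul f _).trans (congrArg (f • ·) ((QA A).map_id _)))).trans ?_
    exact (Linear.comp_smul _ _ _ _ _ _).trans (congrArg (f • ·) (Category.comp_id _))
  · exact (Category.assoc _ _ _).trans (congrArg (e2.hom ≫ ·) ((Category.assoc _ _ _).trans
      ((congrArg (_ ≫ ·) (((CategoryTheory.shiftFunctor (Dual.D A) (1 : ℤ)).mapIso e1).inv_hom_id)).trans
        (Category.comp_id _))))

theorem exists_triangle_finLen [IsLocalRing A] (hω : Dual.IsDualizing A ω) (hn : Dual.IsNormalized A ω)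
    (I : Ideal A) (hIl : IsFiniteLength A I) (E : Type u) [AddCommGroup E] [Module A E]
    (f : IsLocalRing.ResidueField A →ₗ[A] E) (hf : InjHull.IsInjectiveHull f)
    (R : Dual.D A ⥤ Dual.D (A ⧸ I)) (adj : DRing.restrictD (Ideal.Quotient.mk I) ⊣ R) :
    ∃ (u : (DRing.restrictD (Ideal.Quotient.mk I)).obj (R.obj ω) ⟶ ω) (v : ω ⟶ Dual.inD A (I →ₗ[A] E))
      (w : Dual.inD A (I →ₗ[A] E) ⟶ ((DRing.restrictD (Ideal.Quotient.mk I)).obj (R.obj ω))⟦(1 : ℤ)⟧),
      Triangle.mk u v w ∈ distinguishedTriangles := by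
  obtain ⟨D, ⟨e⟩⟩ := exists_dualModel hω
  haveI := D.isKInjective
  let B := A ⧸ I
  let F := HomologicalComplex.single (ModuleCat.{u} A) (ComplexShape.up ℤ) 0
  let SM : ShortComplex (ModuleCat.{u} A) := ShortComplex.mk (ModuleCat.ofHom (I.subtype : I →ₗ[A] A))
    (ModuleCat.ofHom (I.mkQ : A →ₗ[A] B)) (by
      ext x
      exact (Submodule.Quotient.mk_eq_zero I).2 x.2)
  have hSM : SM.ShortExact := by
    refine { exact := ?_, mono_f := ?_, epi_g := ?_ }
    · rw [ShortComplex.moduleCat_exact_iff]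
      intro (x : A) hx
      exact ⟨⟨x, (Submodule.Quotient.mk_eq_zero I).1 hx⟩, rfl⟩
    · rw [ModuleCat.mono_iff_injective]
      exact Subtype.val_injective
    · rw [ModuleCat.epi_iff_surjective]
      exact Submodule.mkQ_surjective I
  have hS : (SM.map F).ShortExact := hSM.map_of_exact F
  have hS' := homCxOpp_shortExact (I := D.I) D.inj hS
  have hT := DerivedCategory.triangleOfSES_distinguished hS'
  obtain ⟨r⟩ := nonempty_restrict_right (B := B) adj D.I
  obtain ⟨a⟩ := nonempty_homCx_ring D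
  let X := (DRing.restrictD (Ideal.Quotient.mk I)).obj (R.obj ω)
  let e1 : X ≅ (QA A).obj (DRing.homCx (sgl (ModuleCat.of A B)) D.I) :=
    (DRing.restrictD (Ideal.Quotient.mk I)).mapIso (R.mapIso e.symm) ≪≫ r
  let e2 : ω ≅ (QA A).obj (DRing.homCx (sgl (ModuleCat.of A A)) D.I) := (a ≪≫ e).symm
  let K := sgl (ModuleCat.of A I)
  let Z := (QA A).obj (DRing.homCx K D.I)
  haveI := finite_of_finLen hω hn hIl
  let hom' : ∀ i : ℤ, (DRing.homCx K D.I).homology i ≃ₗ[A] LC17.GM ω (ModuleCat.of A I) i := fun i =>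
    (homologyHomCxEquiv K D.I i).trans (CategoryTheory.Linear.homCongr A (sglQIso (ModuleCat.of A I))
      (((QA A).commShiftIso i).app D.I ≪≫ (CategoryTheory.shiftFunctor (Dual.D A) i).mapIso e))
  have hz : ∀ i : ℤ, i ≠ 0 → IsZero ((DRing.homCx K D.I).homology i) := fun i hi => by
    haveI : Subsingleton (LC17.GM ω (ModuleCat.of A I) i) :=
      subsingleton_gm_iff.2 (LC17.gAnn_finLen hω hn _ hIl hi)
    haveI := (hom' i).toEquiv.subsingleton
    exact ModuleCat.isZero_of_subsingleton _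
  obtain ⟨eZ⟩ := exists_iso_single_homology Z 0 fun i hi => (isZero_HF_Q_iff _ i).2 (hz i hi)
  obtain ⟨d⟩ := finLen_duality hω hn E f hf I hIl
  let e3 : Dual.inD A (I →ₗ[A] E) ≅ Z :=
    (DerivedCategory.singleFunctor (ModuleCat.{u} A) 0).mapIso
      (((hom' 0).trans d).symm.toModuleIso ≪≫ (HQIso (DRing.homCx K D.I) 0).symm) ≪≫ eZ.symm
  refine ⟨e1.hom ≫ (DerivedCategory.triangleOfSES hS').mor₁ ≫ e2.inv,
    e2.hom ≫ (DerivedCategory.triangleOfSES hS').mor₂ ≫ e3.inv,
    e3.hom ≫ (DerivedCategory.triangleOfSES hS').mor₃ ≫ e1.inv⟦(1 : ℤ)⟧',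
    isomorphic_distinguished _ hT _ (Triangle.isoMk _ _ e1 e2 e3 ?_ ?_ ?_)⟩
  · exact (Category.assoc _ _ _).trans (congrArg (e1.hom ≫ ·) ((Category.assoc _ _ _).trans
      ((congrArg (_ ≫ ·) e2.inv_hom_id).trans (Category.comp_id _))))
  · exact (Category.assoc _ _ _).trans (congrArg (e2.hom ≫ ·) ((Category.assoc _ _ _).trans
      ((congrArg (_ ≫ ·) e3.inv_hom_id).trans (Category.comp_id _))))
  · exact (Category.assoc _ _ _).trans (congrArg (e3.hom ≫ ·) ((Category.assoc _ _ _).trans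
      ((congrArg (_ ≫ ·) (((CategoryTheory.shiftFunctor (Dual.D A) (1 : ℤ)).mapIso e1).inv_hom_id)).trans
        (Category.comp_id _))))

end Groth.Agent.DR39
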