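import Groth.Agent.DR39.BC
import Groth.Agent.DR39.Balance
import Groth.Agent.EGA4H10.Serre

/-! Finite modules over regular rings are perfect. -/

set_option autoImplicit false
set_option linter.style.haveILetI false
set_option linter.unusedSectionVars false

universe u

open CategoryTheory CategoryTheory.Limits CategoryTheory.Pretriangulated
open scoped TensorProduct

attribute [local instance] HasDerivedCategory.standard

namespace Groth.Agent.DR39

variable {A : Type u} [CommRing A]

theorem extA_coker {B : Type u} [CommRing B] [Algebra A B] (E : DRing.Cx A) (j : ℤ) :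
    Nonempty (ModuleCat.of B (B ⊗[A] (E.X j ⧸ LinearMap.range (E.d (j - 1) j).hom)) ≅
      ModuleCat.of B ((((extA A B).mapHomologicalComplex (ComplexShape.up ℤ)).obj E).X j ⧸
        LinearMap.range ((((extA A B).mapHomologicalComplex (ComplexShape.up ℤ)).obj E).d (j - 1) j).hom)) := by
  obtain ⟨e⟩ := ext_tensorIso B (ModuleCat.of A (E.X j ⧸ LinearMap.range (E.d (j - 1) j).hom))
  exact ⟨e.symm ≪≫ (extA A B).mapIso (ModuleCat.cokernelIsoRangeQuotient (E.d (j - 1) j)).symm ≪≫
    PreservesCokernel.iso (extA A B) (E.d (j - 1) j) ≪≫ ModuleCat.cokernelIsoRangeQuotient _⟩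

theorem finiteTorDim_of_regular [IsNoetherianRing A]
    (hreg : ∀ p : PrimeSpectrum A, IsRegularLocalRing (Localization.AtPrime p.asIdeal))
    (M : Type u) [AddCommGroup M] [Module A M] [Module.Finite A M] :
    ∃ n : ℕ, TA (-(n : ℤ)) 0 (Dual.inD A M) := by
  haveI := Module.finitePresentation_of_finite A M
  have hpc : PC 1 (Dual.inD A M) := pc_of_acyc (acyc_inD M one_pos)
  have hpc' : ∀ n, PC n (Dual.inD A M) := fun n =>
    pc_inD_of_fp_of_coherent (fun I hI => haveI := Module.Finite.iff_fg.2 hI
      Module.finitePresentation_of_finite A I) M inferInstance n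
  obtain ⟨E, hEv, hE, ⟨e⟩⟩ := baff_of_forall_pc (b := 0) ((acyc_inD M one_pos).mono (by omega)) hpc'
  have hEb := (vanishesAbove_iff E 0).2 hEv
  let C : ℤ → Type u := fun j => E.X j ⧸ LinearMap.range (E.d (j - 1) j).hom
  haveI hfp : ∀ j, Module.FinitePresentation A (C j) := fun j => by
    haveI := (hE j).1; haveI := (hE (j - 1)).1; haveI := (hE j).2
    exact Module.finitePresentation_of_free_of_surjective (LinearMap.range (E.d (j - 1) j).hom).mkQ
      (Submodule.mkQ_surjective _)
      (by rw [Submodule.ker_mkQ, LinearMap.range_eq_map]; exact Module.Finite.fg_top.map _)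
  let U : ℕ → Set (PrimeSpectrum A) := fun n => Module.freeLocus A (C (-(n : ℤ)))
  haveI hflat : ∀ p : PrimeSpectrum A, Module.Flat A (Localization.AtPrime p.asIdeal) := fun p =>
    IsLocalization.flat _ p.asIdeal.primeCompl
  have hmem : ∀ (n : ℕ) (p : PrimeSpectrum A), p ∈ U n ↔
      TA (-(n : ℤ)) 0 ((DF (extA A (Localization.AtPrime p.asIdeal))).obj (Dual.inD A M)) := by
    intro n p
    let Bp := Localization.AtPrime p.asIdeal
    let E' : DRing.Cx Bp := ((extA A Bp).mapHomologicalComplex (ComplexShape.up ℤ)).obj E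
    let eE : (QA Bp).obj E' ≅ (DF (extA A Bp)).obj (Dual.inD A M) :=
      (DFQ (extA A Bp) E).symm ≪≫ (DF (extA A Bp)).mapIso e
    have hb' : DRing.VanishesAbove E' 0 := fun i hi => (extA A Bp).map_isZero (hEb i hi)
    have hff : ∀ i, FFp (E'.X i) → Module.Flat Bp (E'.X i) := fun i h => flat_of_FP (FP_of_FF h)
    have hfl : ∀ i, Module.Flat Bp (E'.X i) := fun i => flat_extendScalars _ (flat_of_FP (FP_of_FF (hE i)))
    obtain ⟨ec⟩ := extA_coker (B := Bp) E (-(n : ℤ))
    show p ∈ Module.freeLocus A (C (-(n : ℤ))) ↔ _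
    rw [Module.mem_freeLocus_iff_tensor p Bp]
    constructor
    · intro hfree
      have hZ : Acyc (0 + 1) ((DF (extA A Bp)).obj (Dual.inD A M)) :=
        ((acyc_inD M one_pos).mono (by omega)).map _
      haveI : E'.IsGE (-(n : ℤ)) := by
        rw [CochainComplex.isGE_iff]
        intro i hi
        rw [HomologicalComplex.exactAt_iff_isZero_homology]
        obtain ⟨f⟩ := HF_DF (extA A Bp) (Dual.inD A M) i
        refine (isZero_HF_Q_iff E' i).1 (IsZero.of_iso ?_ ((HF Bp i).mapIso eE ≪≫ f))
        exact (extA A Bp).map_isZero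
          (DerivedCategory.isZero_of_isGE (Dual.inD A M) 0 i (by omega))
      refine ⟨E'.truncGE (-(n : ℤ)), vanishesOutside_truncGE E' _ 0 hb',
        cls_truncGE isModClass_FL E' _ (fun i _ => hfl i) ?_,
        ⟨(asIso ((QA Bp).map (E'.πTruncGE (-(n : ℤ))))).symm ≪≫ eE⟩⟩
      haveI : Module.Free Bp (Bp ⊗[A] C (-(n : ℤ))) := hfree
      exact isModClass_FL.of_iso ec (inferInstance : Module.Flat Bp (Bp ⊗[A] C (-(n : ℤ))))
    · intro h
      have hlow := h.lowEx (isKFlat_of_flat 0 hb' hfl) eE
      haveI := hfl (-(n : ℤ))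
      haveI := flat_coker E' (-(n : ℤ)) fun N => exT_of_lowEx hlow N (by omega)
      haveI : Module.Flat Bp (Bp ⊗[A] C (-(n : ℤ))) := Module.Flat.of_linearEquiv ec.toLinearEquiv
      exact Module.free_of_flat_of_isLocalRing
  have hmono : ∀ n n' : ℕ, n ≤ n' → U n ⊆ U n' := fun n n' hn p hp =>
    (hmem n' p).2 (((hmem n p).1 hp).mono (by omega) le_rfl)
  have hcov : ∀ p : PrimeSpectrum A, ∃ n, p ∈ U n := by
    intro p
    haveI := hreg p
    obtain ⟨d, hd⟩ := Groth.Agent.EGA4H10.exists_bound (Localization.AtPrime p.asIdeal)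
    refine ⟨d, (hmem d p).2 ?_⟩
    exact TA.of_iso (ta_inD_of_projDim (A := Localization.AtPrime p.asIdeal) d _
      (hd ((extA A (Localization.AtPrime p.asIdeal)).obj (ModuleCat.of A M))))
      (DFinD (extA A (Localization.AtPrime p.asIdeal)) (ModuleCat.of A M)).symm
  obtain ⟨t, ht⟩ := isCompact_univ.elim_finite_subcover U (fun n => Module.isOpen_freeLocus)
    fun p _ => Set.mem_iUnion.2 (hcov p)
  refine ⟨t.sup id, ta_descent (B := fun p : PrimeSpectrum A => Localization.AtPrime p.asIdeal)
    (fun N hN => ?_) fun p => ?_⟩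
  · suffices h : Subsingleton N from ModuleCat.isZero_of_subsingleton N
    rw [← Module.support_eq_empty_iff (R := A), Set.eq_empty_iff_forall_notMem]
    intro p hp
    haveI := subsingleton_tensor_of_isZero_extA (Localization.AtPrime p.asIdeal) N (hN p)
    exact Module.mem_support_iff.1 hp |> fun h => not_subsingleton_iff_nontrivial.2 h
      ((IsLocalizedModule.iso p.asIdeal.primeCompl
        (TensorProduct.mk A (Localization.AtPrime p.asIdeal) N 1)).toEquiv.subsingleton)
  · obtain ⟨k, hk, hpk⟩ := Set.mem_iUnion₂.1 (ht (Set.mem_univ p))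
    exact (hmem _ p).1 (hmono k _ (Finset.le_sup (f := id) hk) hpk)

theorem perfect_inD_of_regular [IsNoetherianRing A]
    (hreg : ∀ p : PrimeSpectrum A, IsRegularLocalRing (Localization.AtPrime p.asIdeal))
    (M : Type u) [AddCommGroup M] [Module A M] [Module.Finite A M] :
    DRing.IsPerfect A (Dual.inD A M) := by
  obtain ⟨n, hn⟩ := finiteTorDim_of_regular hreg M
  exact (perfect_iff _).2 ⟨(pc'_iff_forall_pc _).2 fun m =>
    pc_inD_of_fp_of_coherent (fun I hI => haveI := Module.Finite.iff_fg.2 hI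
      Module.finitePresentation_of_finite A I) M (Module.finitePresentation_of_finite A M) m, _, _, hn⟩

end Groth.Agent.DR39
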