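import Groth.Agent.DR39.PresPerfect
import Groth.Agent.DR39.Restrict
import Groth.Agent.DR39.Perf
import Groth.Agent.FlatMor67.PCHom
import Groth.Agent.Shriek42.Adj
import Groth.Prelude.Def_DualSh

/-! Relatively perfect complexes through a presentation, over an arbitrary base. -/

set_option autoImplicit false
set_option linter.style.haveILetI false
set_option linter.unusedSectionVars false

universe u

open CategoryTheory CategoryTheory.Limits TensorProduct

attribute [local instance] HasDerivedCategory.standard

namespace Groth.Agent.DR39.RelDual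

/-- A pseudo-coherent complex over a polynomial ring of finite tor amplitude over the base is perfect. -/
theorem perfect_of_pc_of_ta {R : Type u} [CommRing R] (n : ℕ) (K : Dual.D (MvPolynomial (Fin n) R))
    (hpc : DRing.IsPseudoCoherent' (MvPolynomial (Fin n) R) K) (a b : ℤ)
    (hta : TA a b ((DRing.restrictD (algebraMap R (MvPolynomial (Fin n) R))).obj K)) :
    DRing.IsPerfect (MvPolynomial (Fin n) R) K ∧ TA (a - n) b K := by
  let P := MvPolynomial (Fin n) R
  obtain ⟨E, e0, hv', hE, ⟨e⟩⟩ := hpc
  have hB : ∀ j, Module.Flat P (E.X j) := fun j => flat_of_PR (proj_of_FF (hE j))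
  let RE := (DRing.restrictCx (algebraMap R P)).obj E
  have hRk : DRing.IsKFlat R RE := isKFlat_of_flat e0
    (fun j hj => (ModuleCat.restrictScalars _).map_isZero (hv' j hj)) fun j => flat_restrictCx E j (hB j)
  let eR : DRing.toD RE ≅ (DRing.restrictD (algebraMap R P)).obj K :=
    (restrictDIso (algebraMap R P) E).symm ≪≫ (DRing.restrictD (algebraMap R P)).mapIso e
  obtain ⟨G, hGv, hG, ⟨gG⟩⟩ := (ta_iff_rep a b _).1 hta
  refine perfect_of_flat_fibres (A := R) E e0 hv' hE e a b n fun m hm => ?_
  haveI := hm
  let p : Ideal R := m.comap (algebraMap R P)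
  haveI : p.IsPrime := Ideal.IsPrime.comap _
  let f0 : R →+* P ⧸ m := (Ideal.Quotient.mk m).comp (algebraMap R P)
  letI := Ideal.Quotient.field m
  have h1 : p ≤ RingHom.ker f0 := fun x hx => Ideal.Quotient.eq_zero_iff_mem.2 hx
  have h2 : p.primeCompl ≤ (IsUnit.submonoid (P ⧸ m)).comap f0 := fun x hx =>
    IsUnit.mk0 _ fun h0 => hx (Ideal.Quotient.eq_zero_iff_mem.1
      (show Ideal.Quotient.mk m (algebraMap R P x) = 0 from h0) : algebraMap R P x ∈ m)
  let g : p.ResidueField →+* P ⧸ m := Ideal.ResidueField.lift p f0 h1 h2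
  let q' : MvPolynomial (Fin n) p.ResidueField →+* P ⧸ m :=
    MvPolynomial.eval₂Hom g fun i => Ideal.Quotient.mk m (MvPolynomial.X i)
  refine ⟨ModuleCat.of R p.ResidueField, MvPolynomial (Fin n) p.ResidueField, inferInstance,
    MvPolynomial.map (algebraMap R p.ResidueField),
    { toFun := fun x => MvPolynomial.algebraTensorAlgEquiv R p.ResidueField (TensorProduct.comm R P p.ResidueField x)
      invFun := fun x => (TensorProduct.comm R P p.ResidueField).symm
        ((MvPolynomial.algebraTensorAlgEquiv R p.ResidueField).symm x)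
      map_add' := fun x y => by simp only [map_add]; rfl
      map_smul' := fun r x => ?_
      left_inv := fun x => by simp
      right_inv := fun x => by simp },
    q', MvPolynomial.ringHom_ext (fun r => ?_) (fun i => ?_), fun i hi => ?_,
    fun M _ _ => gldim_mvPolynomial _ n M⟩
  · show _ = MvPolynomial.map (algebraMap R p.ResidueField) r * _
    induction x using TensorProduct.induction_on with
    | zero => simp
    | add y z hy hz => simp only [smul_add, map_add, mul_add, hy, hz]
    | tmul y z =>
      simp only [TensorProduct.smul_tmul', TensorProduct.comm_tmul, smul_eq_mul]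
      rw [MvPolynomial.algebraTensorAlgEquiv_tmul, MvPolynomial.algebraTensorAlgEquiv_tmul, map_mul]
      rw [mul_smul_comm]
  · simp [q', g, f0, Ideal.ResidueField.lift_algebraMap]
    rfl
  · simp [q']
  · obtain ⟨t⟩ := tensor_iso (isKFlat_of_flat b (fun j hj => hGv j fun hm => absurd hm.2 (by omega)) hG)
      hRk (gG ≪≫ eR.symm) (ModuleCat.of R p.ResidueField) i
    rw [← isZero_tensorCx_iff]
    refine IsZero.of_iso ?_ t.symm
    haveI := ModuleCat.subsingleton_of_isZero (hGv i fun hm => by obtain ⟨h1, h2⟩ := hm; omega)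
    exact (isZero_tensorCx_iff G _ i).2 fun x _ => ⟨0, Subsingleton.elim _ _⟩

variable {R A : Type u} [CommRing R] [CommRing A] [Algebra R A] [Module.Flat R A]
  [Algebra.FinitePresentation R A] {n : ℕ} (ψ : MvPolynomial (Fin n) R →ₐ[R] A)

/-- A flat finitely presented algebra is pseudo-coherent over a polynomial algebra presenting it. -/
theorem pc_presentation (hψ : Function.Surjective ψ) (m : ℤ) :
    PC m (Dual.inD (MvPolynomial (Fin n) R)
      ((ModuleCat.restrictScalars ψ.toRingHom).obj (ModuleCat.of A A))) := by
  letI := ψ.toRingHom.toAlgebra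
  haveI : IsScalarTower R (MvPolynomial (Fin n) R) A :=
    IsScalarTower.of_algebraMap_eq fun r => (ψ.commutes r).symm
  let P := MvPolynomial (Fin n) R
  have h : DRing.IsPseudoCoherent' P (Dual.inD P A) := FlatMor67.PCH.pc'_quotient R P A hψ
  let el : ((ModuleCat.restrictScalars.{u} ψ.toRingHom).obj (ModuleCat.of A A) : ModuleCat.{u} P) ≅
      ModuleCat.of P A := LinearEquiv.toModuleIso
    ({ toFun := fun x => (show A from x)
       invFun := fun x => (show A from x)
       map_add' := fun _ _ => rfl
       map_smul' := fun p x => (Algebra.smul_def p (show A from x)).symm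
       left_inv := fun _ => rfl
       right_inv := fun _ => rfl } :
      ((ModuleCat.restrictScalars.{u} ψ.toRingHom).obj (ModuleCat.of A A) : ModuleCat.{u} P) ≃ₗ[P] A)
  exact (pc_of_pc' h m).of_iso ((DerivedCategory.singleFunctor (ModuleCat.{u} P) 0).mapIso el.symm)

/-- A relatively perfect complex is perfect over a presenting polynomial algebra. -/
theorem isPerfect_restrict (hψ : Function.Surjective ψ) {K : Dual.D A} (hK : Dual2.IsRelPerfect R A K) :
    DRing.IsPerfect (MvPolynomial (Fin n) R) ((DRing.restrictD ψ.toRingHom).obj K) := by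
  obtain ⟨hpc, a, b, hta⟩ := hK
  have h1 : DRing.IsPseudoCoherent' (MvPolynomial (Fin n) R) ((DRing.restrictD ψ.toRingHom).obj K) :=
    (pc'_iff_forall_pc _).2 fun m =>
      (pc_restrict_iff ψ.toRingHom (pc_presentation ψ hψ) K m).1 (pc_of_pc' hpc m)
  exact (perfect_of_pc_of_ta n _ h1 a b (TA.of_iso hta
    ((Shriek42.restrictCompIso (φ := algebraMap R _) (ψ := ψ.toRingHom)
      (RingHom.ext fun r => (ψ.commutes r).symm)).app K))).1

/-- A complex which is perfect over a presenting polynomial algebra is relatively perfect. -/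
theorem isRelPerfect_of_restrict (hψ : Function.Surjective ψ) {K : Dual.D A}
    (hK : DRing.IsPerfect (MvPolynomial (Fin n) R) ((DRing.restrictD ψ.toRingHom).obj K)) :
    Dual2.IsRelPerfect R A K := by
  refine ⟨(pc'_iff_forall_pc _).2 fun m =>
    (pc_restrict_iff ψ.toRingHom (pc_presentation ψ hψ) K m).2 (pc_of_pc' ((perfect_iff _).1 hK).1 m), ?_⟩
  obtain ⟨E, a, b, hv, hE, ⟨e⟩⟩ := hK
  refine ⟨a, b, TA.of_iso ?_ ((Shriek42.restrictCompIso (φ := algebraMap R _) (ψ := ψ.toRingHom)
      (RingHom.ext fun r => (ψ.commutes r).symm)).app K).symm⟩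
  refine ⟨(DRing.restrictCx (algebraMap R (MvPolynomial (Fin n) R))).obj E,
    fun i hi => (ModuleCat.restrictScalars _).map_isZero (hv i hi),
    fun i => flat_restrictCx E i (flat_of_FP (hE i)),
    ⟨(restrictDIso (algebraMap R (MvPolynomial (Fin n) R)) E).symm ≪≫
      (DRing.restrictD (algebraMap R (MvPolynomial (Fin n) R))).mapIso e⟩⟩

/-- The algebra itself is perfect over a presenting polynomial algebra. -/
theorem isRelPerfect_self (hψ : Function.Surjective ψ) :
    DRing.IsPerfect (MvPolynomial (Fin n) R) (Dual.inD (MvPolynomial (Fin n) R)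
      ((ModuleCat.restrictScalars ψ.toRingHom).obj (ModuleCat.of A A))) := by
  let P := MvPolynomial (Fin n) R
  refine (perfect_of_pc_of_ta n _ ((pc'_iff_forall_pc _).2 (pc_presentation ψ hψ)) 0 0 ?_).1
  let el : ((ModuleCat.restrictScalars.{u} (algebraMap R P)).obj
      ((ModuleCat.restrictScalars.{u} ψ.toRingHom).obj (ModuleCat.of A A)) : ModuleCat.{u} R) ≅
      ModuleCat.of R A := LinearEquiv.toModuleIso
    ({ toFun := fun x => (show A from x)
       invFun := fun x => (show A from x)
       map_add' := fun _ _ => rfl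
       map_smul' := fun r x => by
         show ψ (algebraMap R P r) * (show A from x) = r • (show A from x)
         rw [ψ.commutes, ← Algebra.smul_def]
       left_inv := fun _ => rfl
       right_inv := fun _ => rfl } :
      ((ModuleCat.restrictScalars.{u} (algebraMap R P)).obj
        ((ModuleCat.restrictScalars.{u} ψ.toRingHom).obj (ModuleCat.of A A)) : ModuleCat.{u} R) ≃ₗ[R] A)
  exact TA.of_iso (ta_inD_of_flat (A := R) A)
    (((ModuleCat.restrictScalars.{u} (algebraMap R P)).mapDerivedCategorySingleFunctor 0).app _ ≪≫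
      (DerivedCategory.singleFunctor (ModuleCat.{u} R) 0).mapIso el).symm

theorem perfect_presentation' [Algebra (MvPolynomial (Fin n) R) A] [IsScalarTower R (MvPolynomial (Fin n) R) A]
    (hs : Function.Surjective (algebraMap (MvPolynomial (Fin n) R) A)) :
    DRing.IsPerfect (MvPolynomial (Fin n) R) (Dual.inD (MvPolynomial (Fin n) R) A) := by
  let P := MvPolynomial (Fin n) R
  let χ := IsScalarTower.toAlgHom R P A
  let el : ((ModuleCat.restrictScalars.{u} χ.toRingHom).obj (ModuleCat.of A A) : ModuleCat.{u} P) ≅
      ModuleCat.of P A := LinearEquiv.toModuleIso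
    ({ toFun := fun x => (show A from x)
       invFun := fun x => (show A from x)
       map_add' := fun _ _ => rfl
       map_smul' := fun p x => (Algebra.smul_def p (show A from x)).symm
       left_inv := fun _ => rfl
       right_inv := fun _ => rfl } :
      ((ModuleCat.restrictScalars.{u} χ.toRingHom).obj (ModuleCat.of A A) : ModuleCat.{u} P) ≃ₗ[P] A)
  exact perfect_of_iso (isRelPerfect_self χ hs) ((DerivedCategory.singleFunctor (ModuleCat.{u} P) 0).mapIso el)

end Groth.Agent.DR39.RelDual
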