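import Groth.Agent.DR39.RelDualizing
import Groth.Agent.Shriek42.CompBC

/-! Composition of upper shrieks over an arbitrary base. -/

set_option autoImplicit false
set_option linter.style.haveILetI false
set_option linter.unusedSectionVars false
set_option backward.isDefEq.respectTransparency false

universe u

open CategoryTheory CategoryTheory.Limits
open scoped TensorProduct

attribute [local instance] HasDerivedCategory.standard MvPolynomial.algebraMvPolynomial Groth.Agent.Shriek42.hasLB

namespace Groth.Agent.DR39.RelDual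

open Groth.Agent.Shriek42

theorem pc_restrictD_self {A B : Type u} [CommRing A] [CommRing B] [Algebra A B] [Module.Flat A B]
    [Algebra.FinitePresentation A B] {n : ℕ} (ψ : MvPolynomial (Fin n) A →ₐ[A] B)
    (hψ : Function.Surjective ψ) (m : ℤ) :
    PC m ((DRing.restrictD ψ.toRingHom).obj (Dual.inD B B)) :=
  (pc_presentation ψ hψ m).of_iso
    (((ModuleCat.restrictScalars.{u} ψ.toRingHom).mapDerivedCategorySingleFunctor 0).app (ModuleCat.of B B)).symm

variable {A B C : Type u} [CommRing A] [CommRing B] [CommRing C]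
  [Algebra A B] [Algebra B C] [Algebra A C] [IsScalarTower A B C]
  [Module.Flat A B] [Algebra.FinitePresentation A B]

/-- Composition of upper shrieks on bounded below objects. -/
theorem shriekVia_comp (n : ℕ) (ψ : MvPolynomial (Fin n) A →ₐ[A] B) (hψ : Function.Surjective ψ)
    (Rψ : Dual.D (MvPolynomial (Fin n) A) ⥤ Dual.D B) (adj : DRing.restrictD ψ.toRingHom ⊣ Rψ)
    (m : ℕ) (χ : MvPolynomial (Fin m) B →ₐ[B] C) (hχ : Function.Surjective χ)
    (Rχ : Dual.D (MvPolynomial (Fin m) B) ⥤ Dual.D C) (adjχ : DRing.restrictD χ.toRingHom ⊣ Rχ)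
    (k : ℕ) (θ : MvPolynomial (Fin k) A →ₐ[A] C) (hθ : Function.Surjective θ)
    (Rθ : Dual.D (MvPolynomial (Fin k) A) ⥤ Dual.D C) (adjθ : DRing.restrictD θ.toRingHom ⊣ Rθ)
    (K : Dual.D A) (c : ℤ) (hK : ∀ i : ℤ, i < c → Subsingleton (Dual.HD A K i)) :
    Nonempty (Dual2.shriekVia k Rθ K ≅ Dual2.shriekVia m Rχ (Dual2.shriekVia n Rψ K)) := by
  let P := MvPolynomial (Fin n) A
  let P' := MvPolynomial (Fin m) P
  let B' := MvPolynomial (Fin m) B
  letI algPB : Algebra P B := ψ.toRingHom.toAlgebra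
  haveI : IsScalarTower A P B := IsScalarTower.of_algebraMap_eq fun a => (ψ.commutes a).symm
  letI algP'B' : Algebra P' B' := MvPolynomial.algebraMvPolynomial
  have hp : (algebraMap P' B' : P' →+* B') = MvPolynomial.map ψ.toRingHom := MvPolynomial.algebraMap_def
  have hmap : Function.Surjective (algebraMap P' B') := by
    rw [hp]; exact MvPolynomial.map_surjective _ hψ
  haveI hpush : Algebra.IsPushout P P' B B' := inferInstance
  haveI : Module.Flat B B' := inferInstance
  let σ : MvPolynomial (Fin (m + n)) A ≃ₐ[A] P' :=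
    (MvPolynomial.renameEquiv A finSumFinEquiv.symm).trans (MvPolynomial.sumAlgEquiv A (Fin m) (Fin n))
  let θ' : MvPolynomial (Fin (m + n)) A →ₐ[A] C :=
    { toRingHom := (χ.toRingHom.comp (algebraMap P' B')).comp σ.toAlgHom.toRingHom
      commutes' := fun a => by
        change χ (algebraMap P' B' (σ (algebraMap A _ a))) = algebraMap A C a
        rw [σ.commutes, hp, IsScalarTower.algebraMap_apply A P P', MvPolynomial.algebraMap_eq,
          MvPolynomial.map_C, ← MvPolynomial.algebraMap_eq, χ.commutes]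
        exact (congrArg (algebraMap B C) (ψ.commutes a)).trans (IsScalarTower.algebraMap_apply A B C a).symm }
  have hθ' : Function.Surjective θ' := (hχ.comp hmap).comp σ.surjective
  let M := (DRing.LBaseChange (algebraMap A P)).obj K
  have hM : ∀ i, i < c → IsZero ((DR39.HF P i).obj M) := fun i hi =>
    isZero_HF_lb K i ((DR39.isZero_HF_iff K i).2 (hK i hi))
  let χ' : P' →+* C := χ.toRingHom.comp (algebraMap P' B')
  obtain ⟨e₁⟩ := shriekVia_independent k θ hθ Rθ adjθ (m + n) θ' hθ' (rightD θ'.toRingHom)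
    (rightDAdj θ'.toRingHom) K
  obtain ⟨e₂⟩ := shriek_iso σ.toRingEquiv (iT := algebraMap A (MvPolynomial (Fin (m + n)) A))
    (iT' := (algebraMap P P').comp (algebraMap A P))
    (RingHom.ext fun a => ((σ.commutes a).trans (IsScalarTower.algebraMap_apply A P P' a)).symm)
    (χ := θ'.toRingHom) (χ' := χ') rfl (rightDAdj θ'.toRingHom) (rightDAdj χ') K
  obtain ⟨e₃⟩ := flat_baseChange (P := P) (P' := P') (B := B) (B' := B') hmap
    (pc_restrictD_self ψ hψ) adj (rightDAdj (algebraMap P' B')) M c hM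
  obtain ⟨e₄⟩ := nonempty_lb_shift (algebraMap B B') (Rψ.obj M) (n : ℤ)
  obtain ⟨e₅⟩ := nonempty_shift_iso adjχ ((DRing.LBaseChange (algebraMap B B')).obj (Rψ.obj M)) (n : ℤ)
  exact ⟨e₁ ≪≫ (shiftFunctor (Dual.D C) ((m + n : ℕ) : ℤ)).mapIso (e₂ ≪≫
      (rightComp (R' := rightD χ') rfl (rightDAdj (algebraMap P' B')) adjχ (rightDAdj χ')).app _ ≪≫
      Rχ.mapIso ((rightD (algebraMap P' B')).mapIso
        ((lbComp (φ := algebraMap A P) (ψ := algebraMap P P') rfl).app K) ≪≫ e₃.symm)) ≪≫
    (shiftFunctorAdd' (Dual.D C) (n : ℤ) (m : ℤ) _ (by push_cast; ring)).app _ ≪≫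
    (shiftFunctor (Dual.D C) (m : ℤ)).mapIso (e₅.symm ≪≫ Rχ.mapIso e₄.symm)⟩


end Groth.Agent.DR39.RelDual
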