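import Groth.Agent.DR39.RelShriek

/-! Existence and uniqueness of relative dualizing complexes. -/

set_option autoImplicit false
set_option linter.style.haveILetI false
set_option linter.unusedSectionVars false
set_option backward.isDefEq.respectTransparency false

universe u

open CategoryTheory CategoryTheory.Limits MonoidalCategory
open scoped TensorProduct

attribute [local instance] HasDerivedCategory.standard Groth.Agent.Shriek42.hasLB
  Groth.Agent.DTen43.hasLTen Groth.Agent.DTen43.hasLBase Groth.Agent.DTen43.hasResTen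
  Groth.Agent.DTen43.resLegIso Groth.Agent.DTen43.hasLTen₃ Groth.Agent.DTen43.isSymMonoidal
  Groth.Agent.DR39.hasRHom

namespace Groth.Agent.DR39.RelDual

open Groth.Agent.DTen43

variable {R A : Type u} [CommRing R] [CommRing A] [Algebra R A] [Algebra.FinitePresentation R A] [Module.Flat R A]

theorem isRelPerfect_of_iso {K L : Dual.D A} (h : Dual2.IsRelPerfect R A K) (e : K ≅ L) :
    Dual2.IsRelPerfect R A L :=
  ⟨(pc'_iff_forall_pc L).2 fun m => (pc_of_pc' h.1 m).of_iso e,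
    finiteTorDim_of_iso h.2 ((DRing.restrictD (algebraMap R A)).mapIso e)⟩

theorem isRelDualizing_of_iso
    [DRing.HasLBaseChange (Algebra.TensorProduct.includeLeftRingHom : A →+* TensorProduct R A A)]
    {Rμ : Dual.D (TensorProduct R A A) ⥤ Dual.D A} {K L : Dual.D A}
    (h : Dual2.IsRelDualizing R A Rμ K) (e : K ≅ L) : Dual2.IsRelDualizing R A Rμ L :=
  ⟨isRelPerfect_of_iso h.1 e,
    ⟨Rμ.mapIso ((DRing.LBaseChange _).mapIso e.symm) ≪≫ h.2.some⟩⟩

/-- A relative dualizing complex is the upper shriek of the base. -/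
theorem nonempty_iso_shriek
    [DRing.HasLBaseChange (Algebra.TensorProduct.includeLeftRingHom : A →+* TensorProduct R A A)]
    (Rμ : Dual.D (TensorProduct R A A) ⥤ Dual.D A)
    (adjμ : DRing.restrictD (Algebra.TensorProduct.lmul' R (S := A)).toRingHom ⊣ Rμ)
    (n : ℕ) (ψ : MvPolynomial (Fin n) R →ₐ[R] A) (hψ : Function.Surjective ψ)
    [DRing.HasLBaseChange (algebraMap R (MvPolynomial (Fin n) R))]
    (Rψ : Dual.D (MvPolynomial (Fin n) R) ⥤ Dual.D A) (adj : DRing.restrictD ψ.toRingHom ⊣ Rψ)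
    {K : Dual.D A} (hK : Dual2.IsRelDualizing R A Rμ K) :
    Nonempty (K ≅ Dual2.shriekVia n Rψ (Dual.inD R R)) := by
  let ω := Dual2.shriekVia n Rψ (Dual.inD R R)
  let ω₀ := Rψ.obj (𝟙_ (Dual.D (MvPolynomial (Fin n) R)))
  let G := DRing.restrictD ψ.toRingHom
  obtain ⟨e0⟩ := ShriekFlat.nonempty_self (A := A) n Rψ
  let eω : ω₀⟦(n : ℤ)⟧ ≅ ω := (shiftFunctor (Dual.D A) (n : ℤ)).mapIso (Rψ.mapIso (unitIso _)) ≪≫ e0.symm
  have hK0 : DRing.IsPerfect (MvPolynomial (Fin n) R) (G.obj (K⟦-(n : ℤ)⟧)) :=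
    perfect_of_iso (perfect_shift (isPerfect_restrict ψ hψ hK.1) (-(n : ℤ))) ((G.commShiftIso (-(n : ℤ))).symm.app K)
  obtain ⟨X, hX, ⟨a⟩⟩ := exists_rhom_iso ψ.toRingHom adj _ hK0
  have hXpc := (isRelPerfect_of_restrict ψ hψ hX).1
  obtain ⟨s⟩ := nonempty_rhom_shift X ω₀ (n : ℤ)
  let eK : K ≅ (DTen.RHomR A X).obj ω :=
    ((shiftFunctorCompIsoId (Dual.D A) (-(n : ℤ)) (n : ℤ) (by omega)).app K).symm ≪≫
      (shiftFunctor (Dual.D A) (n : ℤ)).mapIso a ≪≫ s ≪≫ (DTen.RHomR A X).mapIso eω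
  have hω : Dual2.IsRelDualizing R A Rμ ω := isRelDualizing n ψ hψ Rψ adj Rμ adjμ
  obtain ⟨⟨g, hg⟩, -⟩ := bounded_of_restrict ψ.toRingHom ω (isPerfect_restrict ψ hψ hω.1)
  obtain ⟨m⟩ := nonempty_rightAdjoint_rhom (A := A) (S := TensorProduct R A A)
    (Algebra.TensorProduct.includeLeftRingHom : A →+* TensorProduct R A A) rfl
    (Algebra.TensorProduct.lmul' R (S := A)).toRingHom (RingHom.ext fun a => by simp) adjμ X ω hXpc g hg
  let θ : 𝟙_ (Dual.D A) ≅ (DTen.RHomR A X).obj (𝟙_ (Dual.D A)) :=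
    unitIso A ≪≫ hK.2.some.symm ≪≫ Rμ.mapIso ((DRing.LBaseChange _).mapIso eK) ≪≫ m ≪≫
      (DTen.RHomR A X).mapIso (hω.2.some ≪≫ (unitIso A).symm)
  obtain ⟨x⟩ := nonempty_iso_unit_of_rhom hXpc θ
  obtain ⟨c⟩ := nonempty_rhom_congr x.symm ω
  obtain ⟨u⟩ := nonempty_rhom_unit ω
  exact ⟨eK ≪≫ c ≪≫ u⟩

end Groth.Agent.DR39.RelDual
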