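import Groth.Agent.DR39.Perf
import Groth.Agent.DR39.Restrict
import Groth.Prelude.Def_DualSh

/-! Relatively perfect objects. -/

set_option autoImplicit false
set_option linter.style.haveILetI false
set_option linter.unusedSectionVars false
set_option backward.isDefEq.respectTransparency false

universe u

open CategoryTheory CategoryTheory.Limits CategoryTheory.Pretriangulated

attribute [local instance] HasDerivedCategory.standard

namespace Groth.Agent.DR39

variable (R A : Type u) [CommRing R] [CommRing A] [Algebra R A]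

theorem relPerfect_iff (K : Dual.D A) :
    Dual2.IsRelPerfect R A K ↔ BAFF K ∧ ∃ a b : ℤ, TA a b ((DRing.restrictD (algebraMap R A)).obj K) :=
  and_congr (pc'_iff K) Iff.rfl

theorem ta_self_of_flat [Module.Flat R A] :
    TA 0 0 (Dual.inD R ((ModuleCat.restrictScalars (algebraMap R A)).obj (ModuleCat.of A A))) := by
  obtain ⟨e⟩ := rest_self_iso (A := R) A
  exact (ta_inD_of_flat A).of_iso (inDIso e.toLinearEquiv.symm)

theorem relPerfect_of_iso {K L : Dual.D A} (h : Dual2.IsRelPerfect R A K) (e : K ≅ L) :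
    Dual2.IsRelPerfect R A L := by
  obtain ⟨h1, a, b, h2⟩ := (relPerfect_iff R A K).1 h
  exact (relPerfect_iff R A L).2 ⟨h1.of_iso e, a, b, h2.of_iso ((DRing.restrictD _).mapIso e)⟩

theorem relPerfect_of_isPerfect [Module.Flat R A] {K : Dual.D A} (hK : DRing.IsPerfect A K) :
    Dual2.IsRelPerfect R A K := by
  obtain ⟨hpc, a, b, hta⟩ := (perfect_iff K).1 hK
  exact ⟨hpc, _, _, ta_restrict (algebraMap R A) (ta_self_of_flat R A) hta⟩

theorem relPerfect_shift {K : Dual.D A} (h : Dual2.IsRelPerfect R A K) (n : ℤ) :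
    Dual2.IsRelPerfect R A (K⟦n⟧) := by
  obtain ⟨h1, a, b, h2⟩ := (relPerfect_iff R A K).1 h
  exact (relPerfect_iff R A _).2 ⟨h1.shift n, a - n, b - n,
    (h2.shift n (a - n) (b - n) (by omega) (by omega)).of_iso
      (((DRing.restrictD (algebraMap R A)).commShiftIso n).app K).symm⟩

theorem relPerfect_obj₃ {T : Triangle (Dual.D A)} (hT : T ∈ distinguishedTriangles)
    (h₁ : Dual2.IsRelPerfect R A T.obj₁) (h₂ : Dual2.IsRelPerfect R A T.obj₂) :
    Dual2.IsRelPerfect R A T.obj₃ := by
  obtain ⟨p1, a, b, t1⟩ := (relPerfect_iff R A _).1 h₁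
  obtain ⟨p2, a', b', t2⟩ := (relPerfect_iff R A _).1 h₂
  exact (relPerfect_iff R A _).2 ⟨BAFF.obj₃ hT p1 p2, min (a - 1) a', max (b - 1) b',
    TA.obj₃ ((DRing.restrictD (algebraMap R A)).map_distinguished T hT)
      (t1.mono (by omega) (by omega)) (t2.mono (by omega) (by omega))⟩

theorem relPerfect_obj₂ {T : Triangle (Dual.D A)} (hT : T ∈ distinguishedTriangles)
    (h₁ : Dual2.IsRelPerfect R A T.obj₁) (h₃ : Dual2.IsRelPerfect R A T.obj₃) :
    Dual2.IsRelPerfect R A T.obj₂ :=
  relPerfect_obj₃ R A (inv_rot_of_distTriang T hT) (relPerfect_shift R A h₃ (-1)) h₁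

theorem relPerfect_of_retract {X Y : Dual.D A} [HasBinaryBiproduct X Y]
    (h : Dual2.IsRelPerfect R A (X ⊞ Y)) : Dual2.IsRelPerfect R A X := by
  obtain ⟨h1, a, b, h2⟩ := h
  refine ⟨(pc'_iff_forall_pc X).2 fun m => PC.of_biprod (pc_of_pc' h1 m), a, b,
    TA.of_retract h2 ((DRing.restrictD _).map biprod.inl) ((DRing.restrictD _).map biprod.fst) ?_⟩
  rw [← Functor.map_comp, biprod.inl_fst, CategoryTheory.Functor.map_id]

end Groth.Agent.DR39
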