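import Groth.Agent.DR39.RelPerfectRep
import Groth.Agent.DR39.Derived
import Groth.Agent.DR39.BC
import Mathlib.RingTheory.IsTensorProduct

/-! Base change of relatively perfect objects. -/

set_option autoImplicit false
set_option linter.style.haveILetI false
set_option linter.unusedSectionVars false
set_option backward.isDefEq.respectTransparency false

universe u

open CategoryTheory CategoryTheory.Limits CategoryTheory.Pretriangulated
open scoped TensorProduct

attribute [local instance] HasDerivedCategory.standard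

namespace Groth.Agent.DR39

variable (R A R' : Type u) [CommRing R] [CommRing A] [Algebra R A] [CommRing R'] [Algebra R R']

attribute [local instance] Algebra.TensorProduct.rightAlgebra

/-- `M ⊗_R R' = (R' ⊗_R A) ⊗_A M` -/
noncomputable def bcE (M : Type u) [AddCommGroup M] [Module R M] [Module A M] [IsScalarTower R A M] :
    M ⊗[R] R' ≃+ (R' ⊗[R] A) ⊗[A] M :=
  (TensorProduct.comm R M R').toAddEquiv.trans
    (Algebra.IsPushout.cancelBaseChange R R' A (R' ⊗[R] A) M).symm.toAddEquiv

theorem bcE_natural {M N : Type u} [AddCommGroup M] [Module R M] [Module A M] [IsScalarTower R A M]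
    [AddCommGroup N] [Module R N] [Module A N] [IsScalarTower R A N] (f : M →ₗ[A] N) (z : M ⊗[R] R') :
    f.baseChange (R' ⊗[R] A) (bcE R A R' M z) = bcE R A R' N ((f.restrictScalars R).rTensor R' z) := by
  induction z using TensorProduct.induction_on with
  | zero => simp
  | add x y hx hy => simp only [map_add, hx, hy]
  | tmul m s => simp [bcE]

theorem exact_baseChange {M N P : Type u} [AddCommGroup M] [Module R M] [Module A M] [IsScalarTower R A M]
    [AddCommGroup N] [Module R N] [Module A N] [IsScalarTower R A N]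
    [AddCommGroup P] [Module R P] [Module A P] [IsScalarTower R A P] (f : M →ₗ[A] N) (g : N →ₗ[A] P)
    (h : Function.Exact ((f.restrictScalars R).rTensor R') ((g.restrictScalars R).rTensor R')) :
    Function.Exact (f.baseChange (R' ⊗[R] A)) (g.baseChange (R' ⊗[R] A)) :=
  (Function.Exact.iff_of_ladder_addEquiv (e₁ := bcE R A R' M) (e₂ := bcE R A R' N) (e₃ := bcE R A R' P)
    (f₁₂ := ((f.restrictScalars R).rTensor R').toAddMonoidHom)
    (f₂₃ := ((g.restrictScalars R).rTensor R').toAddMonoidHom)
    (g₁₂ := (f.baseChange (R' ⊗[R] A)).toAddMonoidHom) (g₂₃ := (g.baseChange (R' ⊗[R] A)).toAddMonoidHom)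
    (AddMonoidHom.ext fun z => bcE_natural R A R' f z)
    (AddMonoidHom.ext fun z => bcE_natural R A R' g z)).2 h

theorem isZero_homology_ext (C : DRing.Cx A) (b : ℤ) (hb : DRing.VanishesAbove C b)
    (hflat : ∀ i, Module.Flat R ((ModuleCat.restrictScalars (algebraMap R A)).obj (C.X i)))
    (hac : ∀ i, IsZero (C.homology i)) (i : ℤ) :
    IsZero ((((extA A (R' ⊗[R] A)).mapHomologicalComplex (ComplexShape.up ℤ)).obj C).homology i) := by
  let C' := (DRing.restrictCx (algebraMap R A)).obj C
  have hk : DRing.IsKFlat R C' :=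
    isKFlat_of_flat b (fun i hi => (ModuleCat.restrictScalars (algebraMap R A)).map_isZero (hb i hi)) hflat
  have hz : IsZero ((QA R).obj C') := isZero_of_forall fun j => (isZero_HF_Q_iff C' j).2
    ((isZero_homology_iff C' j).2 fun x hx => (isZero_homology_iff C j).1 (hac j) x hx)
  have hex : ExT C' (ModuleCat.of R R') i :=
    exT_of_lowEx ((ta_of_isZero (i + 1) (i + 1) hz).lowEx hk (Iso.refl _)) _ (by omega)
  letI : ∀ k, Module R (C.X k) := fun k => Module.compHom (C.X k) (algebraMap R A)
  haveI : ∀ k, IsScalarTower R A (C.X k) := fun k => ⟨fun r a m => by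
    show (r • a) • m = algebraMap R A r • a • m
    rw [Algebra.smul_def, mul_smul]⟩
  have he := exact_baseChange R A R' (C.d (i - 1) i).hom (C.d i (i + 1)).hom
    ((exT_iff_exact C' (ModuleCat.of R R') i).1 hex)
  exact (isZero_homology_iff _ i).2 fun x hx => (he x).1 hx

theorem rf_ext [Module.Flat R A] (M : ModuleCat.{u} A) (hM : RFp R A M) :
    RFp R' (R' ⊗[R] A) ((extA A (R' ⊗[R] A)).obj M) := by
  letI : Module R M := Module.compHom M (algebraMap R A)
  haveI : IsScalarTower R A M := ⟨fun r a m => by
    show (r • a) • m = algebraMap R A r • a • m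
    rw [Algebra.smul_def, mul_smul]⟩
  haveI := hM.1
  haveI : Module.Flat R M := hM.2
  refine ⟨inferInstanceAs (Module.FinitePresentation (R' ⊗[R] A) ((R' ⊗[R] A) ⊗[A] M)), ?_⟩
  refine Module.Flat.of_linearEquiv (M := R' ⊗[R] M) (N := ((ModuleCat.restrictScalars
    (algebraMap R' (R' ⊗[R] A))).obj ((extA A (R' ⊗[R] A)).obj M))) ?_
  let c := Algebra.IsPushout.cancelBaseChange R R' A (R' ⊗[R] A) M
  exact
    { toFun := fun z => c z
      map_add' := fun x y => c.map_add x y
      map_smul' := fun s x => by
        have h := c.map_smul s (show (R' ⊗[R] A) ⊗[A] M from x)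
        rw [← IsScalarTower.algebraMap_smul (R' ⊗[R] A)] at h
        exact h
      invFun := fun z => c.symm z
      left_inv := fun z => c.symm_apply_apply z
      right_inv := fun z => c.apply_symm_apply z }

theorem relPerfect_baseChange [Module.Flat R A] [Algebra.FinitePresentation R A]
    [DRing.HasLBaseChange (algebraMap A (R' ⊗[R] A))] {K : Dual.D A} (hK : Dual2.IsRelPerfect R A K) :
    Dual2.IsRelPerfect R' (R' ⊗[R] A) ((DRing.LBaseChange (algebraMap A (R' ⊗[R] A))).obj K) := by
  obtain ⟨⟨c, F, hFv, hF, ⟨e⟩⟩, -⟩ := (relPerfect_iff R A K).1 hK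
  obtain ⟨E, a, b, hEv, hE, ⟨eE⟩⟩ := exists_rep_of_relPerfect R A hK
  have hv : DRing.VanishesAbove F c := (vanishesAbove_iff F c).2 hFv
  haveI hFK := isKProjective_of_bddAbove F c hv fun i => proj_of_FF (hF i)
  obtain ⟨f, hf⟩ := Q_map_surjective F E (e ≪≫ eE.symm).hom
  haveI : IsIso ((QA A).map f) := by rw [hf]; infer_instance
  let C := CochainComplex.mappingCone f
  have hT := DerivedCategory.mappingCone_triangle_distinguished f
  have hzC : IsZero ((QA A).obj C) :=
    (Triangle.isZero₃_iff_isIso₁ _ hT).2 (inferInstanceAs (IsIso ((QA A).map f)))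
  have hC : ∀ i, IsZero (C.homology i) := fun i => (isZero_HF_Q_iff C i).1 (Functor.map_isZero _ hzC)
  have hRF : ∀ i, Module.Flat R ((ModuleCat.restrictScalars (algebraMap R A)).obj (C.X i)) := fun i => by
    haveI := (hF (i + 1)).2
    haveI h1 := flat_restrict_of_flat R A (F.X (i + 1))
    haveI h2 := (hE i).2
    haveI := flat_prod (A := R) ((ModuleCat.restrictScalars (algebraMap R A)).obj (F.X (i + 1)))
      ((ModuleCat.restrictScalars (algebraMap R A)).obj (E.X i))
    let e' := ((ModuleCat.biprodIsoProd _ _).symm ≪≫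
      (HomologicalComplex.homotopyCofiber.XIsoBiprod f i (i + 1) rfl).symm)
    exact Module.Flat.of_linearEquiv (M := ((ModuleCat.restrictScalars (algebraMap R A)).obj (F.X (i + 1))) ×
      ((ModuleCat.restrictScalars (algebraMap R A)).obj (E.X i)))
      { toFun := fun z => e'.inv.hom z
        map_add' := fun x y => map_add _ x y
        map_smul' := fun r x => map_smul e'.inv.hom (algebraMap R A r) x
        invFun := fun z => e'.hom.hom z
        left_inv := fun z => congrArg (fun φ : C.X i ⟶ C.X i => φ.hom z) e'.inv_hom_id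
        right_inv := fun z => congrArg (fun φ : ModuleCat.of A (F.X (i + 1) × E.X i) ⟶ _ => φ.hom z) e'.hom_inv_id }
  have hCb : DRing.VanishesAbove C (max c b) := fun i hi => IsZero.of_iso
    ((biprod_isZero_iff _ _).2 ⟨hv _ (by omega), hEv _ (Or.inr (by omega))⟩)
    (HomologicalComplex.homotopyCofiber.XIsoBiprod f i (i + 1) rfl)
  set Φ := extA A (R' ⊗[R] A)
  let G := Φ.mapHomologicalComplex (ComplexShape.up ℤ)
  have hT' := DerivedCategory.mappingCone_triangle_distinguished (G.map f)
  haveI : IsIso ((QA (R' ⊗[R] A)).map (G.map f)) :=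
    (Triangle.isZero₃_iff_isIso₁ _ hT').1 (isZero_of_forall fun i => (isZero_HF_Q_iff _ i).2
      ((isZero_homology_ext R A R' C _ hCb hRF hC i).of_iso
        ((HomologicalComplex.homologyFunctor _ _ i).mapIso
          (CochainComplex.mappingCone.mapHomologicalComplexIso f Φ).symm)))
  refine relPerfect_of_iso R' (R' ⊗[R] A) (relPerfect_of_rep R' (R' ⊗[R] A) (G.obj E) a b
    (fun i hi => Φ.map_isZero (hEv i hi)) fun i => rf_ext R A R' _ (hE i)) ?_
  exact (asIso ((QA (R' ⊗[R] A)).map (G.map f))).symm ≪≫
    (LBaseChangeIso (algebraMap A (R' ⊗[R] A)) F (isKFlat_of_flat c hv fun i => flat_of_PR (proj_of_FF (hF i)))).symm ≪≫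
    (DRing.LBaseChange (algebraMap A (R' ⊗[R] A))).mapIso e

end Groth.Agent.DR39
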