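import Groth.Agent.DR39.RelPerfectBC
import Groth.Agent.DR39.Nilpotent

/-! Relatively perfect objects along nilpotent thickenings of the base. -/

set_option autoImplicit false
set_option linter.style.haveILetI false
set_option linter.unusedSectionVars false
set_option backward.isDefEq.respectTransparency false

universe u

open CategoryTheory CategoryTheory.Limits
open scoped TensorProduct

attribute [local instance] HasDerivedCategory.standard

namespace Groth.Agent.DR39

variable (R A R' : Type u) [CommRing R] [CommRing A] [Algebra R A] [CommRing R'] [alg : Algebra R R']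

attribute [local instance] Algebra.TensorProduct.rightAlgebra

theorem extCx_restrict_iso (F : DRing.Cx A) :
    Nonempty ((DRing.restrictCx (algebraMap R' (R' ⊗[R] A))).obj (extCx (algebraMap A (R' ⊗[R] A)) F) ≅
      extCx (algebraMap R R') ((DRing.restrictCx (algebraMap R A)).obj F)) := by
  obtain ⟨φ, rfl⟩ : ∃ φ : R →+* R', alg = φ.toAlgebra :=
    ⟨algebraMap R R', Algebra.algebra_ext _ _ fun _ => rfl⟩
  letI : Algebra R R' := φ.toAlgebra
  let c : ∀ M : ModuleCat.{u} A,
      (ModuleCat.restrictScalars (algebraMap R' (R' ⊗[R] A))).obj ((extA A (R' ⊗[R] A)).obj M) ≅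
        (extA R R').obj ((ModuleCat.restrictScalars (algebraMap R A)).obj M) := fun M =>
    letI : Module R M := Module.compHom M (algebraMap R A)
    haveI : IsScalarTower R A M := ⟨fun r a m => by
      show (r • a) • m = algebraMap R A r • a • m
      rw [Algebra.smul_def, mul_smul]⟩
    let c0 := Algebra.IsPushout.cancelBaseChange R R' A (R' ⊗[R] A) M
    LinearEquiv.toModuleIso
      (X₁ := ((ModuleCat.restrictScalars (algebraMap R' (R' ⊗[R] A))).obj ((extA A (R' ⊗[R] A)).obj M)))
      (X₂ := ((extA R R').obj ((ModuleCat.restrictScalars (algebraMap R A)).obj M)))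
      { toFun := fun z => c0 z
        map_add' := fun x y => c0.map_add x y
        map_smul' := fun s x => by
          have h := c0.map_smul s (show (R' ⊗[R] A) ⊗[A] M from x)
          rw [← IsScalarTower.algebraMap_smul (R' ⊗[R] A)] at h
          exact h
        invFun := fun z => c0.symm z
        left_inv := fun z => c0.symm_apply_apply z
        right_inv := fun z => c0.apply_symm_apply z }
  refine ⟨(HomologicalComplex.Hom.isoOfComponents (fun i => (c (F.X i)).symm) fun i j _ => ?_).symm⟩
  letI : ∀ k, Module R (F.X k) := fun k => Module.compHom (F.X k) (algebraMap R A)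
  haveI : ∀ k, IsScalarTower R A (F.X k) := fun k => ⟨fun r a m => by
    show (r • a) • m = algebraMap R A r • a • m
    rw [Algebra.smul_def, mul_smul]⟩
  refine ModuleCat.hom_ext (LinearMap.ext fun z => ?_)
  show (F.d i j).hom.baseChange (R' ⊗[R] A)
      ((Algebra.IsPushout.cancelBaseChange R R' A (R' ⊗[R] A) (F.X i)).symm z) =
    (Algebra.IsPushout.cancelBaseChange R R' A (R' ⊗[R] A) (F.X j)).symm
      (((F.d i j).hom.restrictScalars R).baseChange R' z)
  induction (show R' ⊗[R] (F.X i) from z) using TensorProduct.induction_on with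
  | zero => simp
  | add x y hx hy => simp only [map_add, hx, hy]
  | tmul s m => simp

theorem ker_includeRight_le (hs : Function.Surjective (algebraMap R R')) :
    RingHom.ker (algebraMap A (R' ⊗[R] A)) ≤ (RingHom.ker (algebraMap R R')).map (algebraMap R A) := by
  intro a ha
  set J := (RingHom.ker (algebraMap R R')).map (algebraMap R A)
  let f0 : R' →+* A ⧸ J := RingHom.liftOfSurjective (algebraMap R R') hs
    ⟨(Ideal.Quotient.mk J).comp (algebraMap R A), fun x hx =>
      Ideal.Quotient.eq_zero_iff_mem.2 (Ideal.mem_map_of_mem _ hx)⟩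
  let f : R' →ₐ[R] A ⧸ J :=
    { f0 with commutes' := fun r => RingHom.liftOfRightInverse_comp_apply _ _ _ _ r }
  let ψ := Algebra.TensorProduct.lift f (Ideal.Quotient.mkₐ R J) fun _ _ => Commute.all _ _
  have h1 : ψ ((1 : R') ⊗ₜ[R] a) = Ideal.Quotient.mk J a := by simp [ψ]
  rw [show ((1 : R') ⊗ₜ[R] a) = 0 from ha, map_zero] at h1
  exact Ideal.Quotient.eq_zero_iff_mem.1 h1.symm

theorem relPerfect_of_thickening [Module.Flat R A] [Algebra.FinitePresentation R A]
    (hs : Function.Surjective (algebraMap R R')) (hn : IsNilpotent (RingHom.ker (algebraMap R R')))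
    [DRing.HasLBaseChange (algebraMap A (R' ⊗[R] A))] {K : Dual.D A}
    (hK : Dual2.IsRelPerfect R' (R' ⊗[R] A) ((DRing.LBaseChange (algebraMap A (R' ⊗[R] A))).obj K)) :
    Dual2.IsRelPerfect R A K := by
  obtain ⟨⟨c, E, hEv, hE, ⟨e⟩⟩, a, b, hta⟩ := (relPerfect_iff R' _ _).1 hK
  have hφ : Function.Surjective (algebraMap A (R' ⊗[R] A)) := fun z => by
    induction z using TensorProduct.induction_on with
    | zero => exact ⟨0, map_zero _⟩
    | add x y hx hy =>
      obtain ⟨x', rfl⟩ := hx
      obtain ⟨y', rfl⟩ := hy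
      exact ⟨x' + y', map_add _ _ _⟩
    | tmul s m =>
      obtain ⟨r, rfl⟩ := hs s
      exact ⟨r • m, by
        show (1 : R') ⊗ₜ[R] (r • m) = _
        rw [← TensorProduct.smul_tmul, Algebra.smul_def, mul_one]⟩
  obtain ⟨n, hn⟩ := hn
  have hnil : IsNilpotent (RingHom.ker (algebraMap A (R' ⊗[R] A))) := ⟨n, by
    rw [Ideal.zero_eq_bot, eq_bot_iff]
    refine (Ideal.pow_right_mono (ker_includeRight_le R A R' hs) n).trans ?_
    rw [← Ideal.map_pow, hn, Ideal.zero_eq_bot, Ideal.map_bot]⟩
  have hv : DRing.VanishesAbove E c := (vanishesAbove_iff E c).2 hEv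
  obtain ⟨P, hPz, hP, ⟨eP⟩⟩ := rep_FP_of_LBaseChange hφ hnil (b := c) E hv
    (fun i => ⟨(hE i).1, proj_of_FF (hE i)⟩) e
  have hPv : DRing.VanishesAbove P c := fun i hi => hPz i (hv i hi)
  have hpc : DRing.IsPseudoCoherent' A K := pc'_of_rep_FP
    (b := c) ⟨P, (vanishesAbove_iff P c).1 hPv, hP, ⟨eP⟩⟩
  have hPk : DRing.IsKFlat A P := isKFlat_of_flat c hPv fun i => flat_of_FP (hP i)
  let φA := algebraMap R A
  let P' := (DRing.restrictCx φA).obj P
  have hP'f : ∀ i, Module.Flat R (P'.X i) := fun i => by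
    haveI : Module.Flat A (P.X i) := flat_of_FP (hP i)
    exact flat_restrict_of_flat R A (P.X i)
  have hP'v : DRing.VanishesAbove P' c := fun i hi => (ModuleCat.restrictScalars φA).map_isZero (hPv i hi)
  have hP'k : DRing.IsKFlat R P' := isKFlat_of_flat c hP'v hP'f
  obtain ⟨eX⟩ := extCx_restrict_iso R A R' P
  have hlow := hta.lowEx (isKFlat_extendScalars (algebraMap R R') P' hP'k)
    ((QA R').mapIso eX.symm ≪≫ (restrictDIso _ _).symm ≪≫ (DRing.restrictD _).mapIso
      ((LBaseChangeIso (algebraMap A (R' ⊗[R] A)) P hPk).symm ≪≫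
        (DRing.LBaseChange (algebraMap A (R' ⊗[R] A))).mapIso eP))
  refine ⟨hpc, a, c, ta_of_lowEx P' a c hP'v hP'f
    ((restrictDIso φA P).symm ≪≫ (DRing.restrictD φA).mapIso eP) fun M i hi => ?_⟩
  exact (isZero_tensorCx_iff P' M i).2
    (exT_of_nilpotent hs ⟨n, hn⟩ P' hP'f i (fun N => exT_of_lowEx hlow N hi) M)

end Groth.Agent.DR39
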