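import Groth.Agent.DR39.RelPerfectRep

/-! Relatively perfect objects tensored with perfect ones. -/

set_option autoImplicit false
set_option linter.style.haveILetI false
set_option linter.unusedSectionVars false
set_option backward.isDefEq.respectTransparency false

universe u

open CategoryTheory CategoryTheory.Limits CategoryTheory.MonoidalCategory HomologicalComplex

attribute [local instance] HasDerivedCategory.standard

namespace Groth.Agent.DR39

variable (R A : Type u) [CommRing R] [CommRing A] [Algebra R A]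

theorem rf_of_retract {M N : ModuleCat.{u} A} (hN : RFp R A N) (i : M ⟶ N) (p : N ⟶ M) (hip : i ≫ p = 𝟙 M) :
    RFp R A M := by
  haveI := hN.1; haveI := hN.2
  have h : ∀ x, p.hom (i.hom x) = x := fun x => congrArg (fun f : M ⟶ M => f.hom x) hip
  refine ⟨Module.finitePresentation_of_surjective p.hom (fun x => ⟨i.hom x, h x⟩) ?_,
    Module.Flat.of_retract ((ModuleCat.restrictScalars (algebraMap R A)).map i).hom
      ((ModuleCat.restrictScalars (algebraMap R A)).map p).hom (LinearMap.ext h)⟩
  have hk : LinearMap.ker p.hom = LinearMap.range (LinearMap.id - i.hom.comp p.hom) := by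
    ext x
    refine ⟨fun hx => ⟨x, ?_⟩, ?_⟩
    · show x - i.hom (p.hom x) = x
      rw [show p.hom x = 0 from hx, map_zero, sub_zero]
    · rintro ⟨y, rfl⟩
      show p.hom (y - i.hom (p.hom y)) = 0
      rw [map_sub, h, sub_self]
  rw [hk, LinearMap.range_eq_map]
  exact Submodule.FG.map _ (Module.Finite.fg_top (R := A) (M := N))

theorem rf_pi {ι : Type u} [Fintype ι] (M : ι → ModuleCat.{u} A) (h : ∀ i, RFp R A (M i)) :
    RFp R A (ModuleCat.of A (∀ i, M i)) := by
  haveI := fun i => (h i).1
  haveI := fun i => (h i).2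
  refine ⟨inferInstance, Module.Flat.of_linearEquiv (M := DirectSum ι fun i =>
    ((ModuleCat.restrictScalars (algebraMap R A)).obj (M i))) ?_⟩
  exact
    { (DirectSum.linearEquivFunOnFintype R ι fun i =>
        ((ModuleCat.restrictScalars (algebraMap R A)).obj (M i))).symm with
      map_smul' := fun c x => (DirectSum.linearEquivFunOnFintype R ι fun i =>
        ((ModuleCat.restrictScalars (algebraMap R A)).obj (M i))).symm.map_smul c x }

theorem rf_tensor {M P : ModuleCat.{u} A} (hM : RFp R A M) (hP : FPp P) : RFp R A (M ⊗ P) := by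
  haveI := hP.1; haveI := hP.2
  obtain ⟨n, g, s, -, -, hgs⟩ := Module.Finite.exists_comp_eq_id_of_projective A P
  let u : ULift.{u} (Fin n) → ModuleCat.{u} A := fun _ => M
  refine rf_of_retract R A (rf_pi R A u fun _ => hM) ?_ ?_ ?_
  · exact ModuleCat.ofHom ((((LinearEquiv.funCongrLeft A M Equiv.ulift.{u, 0}).toLinearMap).comp
      (TensorProduct.piScalarRight A A M (Fin n)).toLinearMap).comp (s.lTensor M))
  · exact ModuleCat.ofHom (((g.lTensor M).comp (TensorProduct.piScalarRight A A M (Fin n)).symm.toLinearMap).comp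
      (LinearEquiv.funCongrLeft A M Equiv.ulift.{u, 0}).symm.toLinearMap)
  · refine ModuleCat.hom_ext (LinearMap.ext fun x => ?_)
    show g.lTensor M ((TensorProduct.piScalarRight A A M (Fin n)).symm ((LinearEquiv.funCongrLeft A M Equiv.ulift.{u, 0}).symm
      ((LinearEquiv.funCongrLeft A M Equiv.ulift.{u, 0}) (TensorProduct.piScalarRight A A M (Fin n) (s.lTensor M x))))) = x
    rw [LinearEquiv.symm_apply_apply, LinearEquiv.symm_apply_apply, ← LinearMap.comp_apply,
      ← LinearMap.lTensor_comp, hgs, LinearMap.lTensor_id]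
    rfl

theorem rf_tensor_X (E F : DRing.Cx A) (a b : ℤ) (hv : DRing.VanishesOutside E a b)
    (hE : ∀ i, RFp R A (E.X i)) (hF : ∀ i, FPp (F.X i)) (n : ℤ) : RFp R A ((E ⊗ F).X n) := by
  classical
  let u : ULift.{u} (Finset.Icc a b) → ModuleCat.{u} A := fun p => E.X p.down.1 ⊗ F.X (n - p.down.1)
  let s : (∀ p, u p) →ₗ[A] (E ⊗ F).X n :=
    ∑ p : ULift.{u} (Finset.Icc a b), (ιTensorObj E F p.down.1 (n - p.down.1) n (by omega)).hom ∘ₗ LinearMap.proj p
  let i : (E ⊗ F).X n ⟶ ModuleCat.of A (∀ p, u p) :=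
    mapBifunctorDesc fun p q h => if hp : p ∈ Finset.Icc a b then
      (E.X p ◁ (F.XIsoOfEq (show q = n - p by
        change p + q = n at h; omega)).hom) ≫
        ModuleCat.ofHom (LinearMap.single A (fun p => ↑(u p)) (ULift.up ⟨p, hp⟩)) else 0
  have hsi : i ≫ ModuleCat.ofHom s = 𝟙 _ := by
    apply mapBifunctor.hom_ext
    intro p q h
    change p + q = n at h
    obtain rfl : q = n - p := by omega
    refine Eq.trans ?_ (Category.comp_id _).symm
    rw [← Category.assoc]
    erw [ι_mapBifunctorDesc]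
    by_cases hp : p ∈ Finset.Icc a b
    · rw [dif_pos hp, XIsoOfEq_rfl]
      refine ModuleCat.hom_ext (LinearMap.ext fun x => ?_)
      simp only [Iso.refl_hom, MonoidalCategory.whiskerLeft_id, Category.id_comp, ModuleCat.hom_comp,
        ModuleCat.hom_ofHom, LinearMap.comp_apply, s, LinearMap.sum_apply, LinearMap.proj_apply]
      rw [Finset.sum_eq_single (ULift.up ⟨p, hp⟩) (fun r _ hr => ?_) (fun hh => absurd (Finset.mem_univ _) hh)]
      · exact congrArg _ (Pi.single_eq_same _ _)
      · exact (congrArg _ (Pi.single_eq_of_ne hr _)).trans (map_zero _)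
    · rw [dif_neg hp, zero_comp]
      rw [Finset.mem_Icc] at hp
      exact (IsZero.eq_of_src (Functor.map_isZero (tensorRight (F.X (n - p))) (hv p (by omega))) _ _)
  exact rf_of_retract R A (rf_pi R A u fun p => rf_tensor R A (hE _) (hF _)) i (ModuleCat.ofHom s) hsi

theorem relPerfect_tensor [Module.Flat R A] [Algebra.FinitePresentation R A] (L : DRing.Cx A) (a b : ℤ)
    (hLb : DRing.VanishesOutside L a b) (hL : DRing.TermwiseFiniteProjective L) [DRing.HasLTensorCx A L]
    {K : Dual.D A} (hK : Dual2.IsRelPerfect R A K) :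
    Dual2.IsRelPerfect R A ((DRing.LTensorCx A L).obj K) := by
  obtain ⟨⟨c, F, hFv, hF, ⟨e⟩⟩, -⟩ := (relPerfect_iff R A K).1 hK
  obtain ⟨E, a', b', hEv, hE, ⟨eE⟩⟩ := exists_rep_of_relPerfect R A hK
  have hv : DRing.VanishesAbove F c := (vanishesAbove_iff F c).2 hFv
  have hFP : ∀ i, FPp (F.X i) := fun i => ⟨(hF i).1, proj_of_FF (hF i)⟩
  haveI := isKProjective_of_bddAbove F c hv fun i => (hFP i).2
  obtain ⟨t⟩ := exists_tensor_rep (L := L) hv (fun i hi => hLb i (Or.inr hi)) hFP hL e (Iso.refl _)
  obtain ⟨f, hf⟩ := Q_map_surjective F E (e ≪≫ eE.symm).hom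
  haveI : QuasiIso f := (DerivedCategory.isIso_Q_map_iff_quasiIso (ModuleCat.{u} A) f).1 (by
    rw [hf]; infer_instance)
  have hkL : DRing.IsKFlat A L := isKFlat_of_flat b (fun i hi => hLb i (Or.inr hi)) fun i => flat_of_FP (hL i)
  haveI := quasiIso_whiskerRight hkL f
  refine relPerfect_of_iso R A (relPerfect_of_rep R A (E ⊗ L) (a' + a) (b' + b) ?_
    (rf_tensor_X R A E L a' b' hEv hE hL)) ((@asIso _ _ _ _ ((QA A).map (f ▷ L))
      ((DerivedCategory.isIso_Q_map_iff_quasiIso (ModuleCat.{u} A) _).2 inferInstance)).symm ≪≫ t)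
  intro i hi
  refine isZero_tensor_X E L i fun p => ?_
  by_cases hp : p < a' ∨ b' < p
  · exact Or.inl (hEv p hp)
  · exact Or.inr (hLb _ (by omega))

end Groth.Agent.DR39
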