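import Groth.Agent.DR39.TorBC
import Groth.Agent.DR39.FiniteRight
import Groth.Agent.DR39.LocalDual3

/-! Endomorphisms of `RHom_P(A, P)` for `A` perfect over `P`. -/

set_option autoImplicit false
set_option linter.style.haveILetI false
set_option linter.unusedSectionVars false
set_option backward.isDefEq.respectTransparency false

universe u v₁ v₂ u₁ u₂

open CategoryTheory CategoryTheory.Limits MonoidalCategory

attribute [local instance] HasDerivedCategory.standard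

namespace Groth.Agent.DR39.TorBC

open Groth.Agent.DTen43

/-- The restriction of the right adjoint at the unit is the dual of the restricted unit. -/
theorem nonempty_restrict_dual {C : Type u₁} [Category.{v₁} C] [MonoidalCategory C] [SymmetricCategory C] {D : Type u₂}
    [Category.{v₂} D] [MonoidalCategory D] (F : C ⥤ D) {G : D ⥤ C} (adj : F ⊣ G)
    (δ : ∀ X Y : C, F.obj (X ⊗ Y) ⟶ F.obj X ⊗ F.obj Y)
    (hδ : ∀ {X X' Y Y' : C} (f : X ⟶ X') (g : Y ⟶ Y'),
      F.map (f ⊗ₘ g) ≫ δ X' Y' = δ X Y ≫ (F.map f ⊗ₘ F.map g))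
    {RR : C ⥤ D} (adj₂ : G ⊣ RR) [∀ E X, IsIso (projMap F adj δ E X)]
    {A' : C} [ExactPairing (G.obj (𝟙_ D)) A'] : Nonempty (G.obj (RR.obj (𝟙_ C)) ≅ A') := by
  let A := G.obj (𝟙_ D)
  let w : G.obj (RR.obj (𝟙_ C)) ⊗ A ⟶ 𝟙_ C :=
    (β_ _ _).hom ≫ act F adj δ (RR.obj (𝟙_ C)) ≫ adj₂.counit.app (𝟙_ C)
  have hw : IsIHom w := fun X => by
    let E : (X ⟶ G.obj (RR.obj (𝟙_ C))) ≃ (X ⊗ A ⟶ 𝟙_ C) :=
      ((adj.homEquiv _ _).symm.trans (adj₂.homEquiv _ _).symm).trans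
        (((β_ X A) ≪≫ asIso (projMap F adj δ (𝟙_ D) X) ≪≫ G.mapIso (λ_ (F.obj X))).symm.homFromEquiv)
    have : (fun g : X ⟶ G.obj (RR.obj (𝟙_ C)) => g ▷ A ≫ w) = E := by
      funext g
      show g ▷ A ≫ (β_ _ _).hom ≫ act F adj δ (RR.obj (𝟙_ C)) ≫ adj₂.counit.app (𝟙_ C) =
        ((β_ X A).hom ≫ projMap F adj δ (𝟙_ D) X ≫ G.map (λ_ _).hom) ≫
          (adj₂.homEquiv _ _).symm ((adj.homEquiv _ _).symm g)
      rw [BraidedCategory.braiding_naturality_left_assoc, reassoc_of% (whiskerLeft_act F adj δ hδ g),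
        adj₂.homEquiv_counit]
      simp
    rw [this]
    exact E.bijective
  have hd := isIHom_dual (M := A) (M' := A') (𝟙_ C)
  obtain ⟨t, ht⟩ := (hd _).2 w
  haveI := hd.isIso hw t ht
  exact ⟨asIso t ≪≫ λ_ A'⟩

section Linear

variable {A : Type u} [CommRing A] [DTen.HasLTen A] [DTen.HasLTen₃ A] [DTen.IsSymMonoidal A]

theorem whiskerLeft_smul_id (K L : Dual.D A) (p : A) :
    K ◁ (p • 𝟙 L) = p • 𝟙 (K ⊗ L) := by
  obtain ⟨P, -, hP, ⟨e₁⟩⟩ := exists_kproj K
  obtain ⟨S, -, -, ⟨e₂⟩⟩ := exists_kproj L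
  have hcx : (𝟙 P ⊗ₘ (p • 𝟙 S)) = p • 𝟙 (P ⊗ S) := by
    refine HomologicalComplex.hom_ext _ _ fun n => ModuleCat.hom_ext (LinearMap.ext fun x => ?_)
    refine DTen43.mem_of_incl_mem (LinearMap.eqLocus _ _) (fun i j hij s y => ?_) x
    show ((𝟙 P ⊗ₘ (p • 𝟙 S)).f n).hom (DTen43.incl P S s j n hij y) = p • DTen43.incl P S s j n hij y
    rw [DTen43.incl_map, ← LinearMap.map_smul]
    rfl
  haveI := isIso_μ P S (Or.inl hP)
  have h0 : (𝟙 (DerivedCategory.Q.obj P) ⊗ₘ (p • 𝟙 (DerivedCategory.Q.obj S))) =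
      p • 𝟙 (DerivedCategory.Q.obj P ⊗ DerivedCategory.Q.obj S) := by
    have hq : (p • 𝟙 (DerivedCategory.Q.obj S)) = DerivedCategory.Q.map (p • 𝟙 S) := by
      rw [Functor.map_smul, CategoryTheory.Functor.map_id]
    rw [← cancel_mono (μ P S), Linear.smul_comp, Category.id_comp, hq,
      ← CategoryTheory.Functor.map_id DerivedCategory.Q P, μ_natural, hcx, Functor.map_smul,
      CategoryTheory.Functor.map_id, Linear.comp_smul, Category.comp_id]
  haveI := DTen43.isIso_tensorHom e₁.hom e₂.hom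
  rw [← cancel_epi (e₁.hom ⊗ₘ e₂.hom), ← id_tensorHom, tensorHom_comp_tensorHom, Category.comp_id,
    Linear.comp_smul, Category.comp_id,
    show e₁.hom = 𝟙 _ ≫ e₁.hom from (Category.id_comp _).symm, Linear.comp_smul, Category.comp_id,
    show p • e₂.hom = (p • 𝟙 _) ≫ e₂.hom from by rw [Linear.smul_comp, Category.id_comp],
    ← tensorHom_comp_tensorHom, h0, Linear.smul_comp, Category.id_comp, Category.id_comp]

theorem whiskerLeft_smul (K : Dual.D A) {L L' : Dual.D A} (f : L ⟶ L') (p : A) :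
    K ◁ (p • f) = p • (K ◁ f) := by
  rw [show p • f = f ≫ (p • 𝟙 L') from by rw [Linear.comp_smul, Category.comp_id],
    MonoidalCategory.whiskerLeft_comp, whiskerLeft_smul_id, Linear.comp_smul, Category.comp_id]

theorem whiskerLeft_add_D (Y Y' : Dual.D A) [ExactPairing Y Y'] {L L' : Dual.D A} (f g : L ⟶ L') :
    Y ◁ (f + g) = Y ◁ f + Y ◁ g := by
  haveI : PreservesLimitsOfSize.{0, 0} (tensorLeft Y) := (tensorLeftAdjunction Y Y').rightAdjoint_preservesLimits
  haveI : PreservesBinaryBiproducts (tensorLeft Y) := preservesBinaryBiproducts_of_preservesBinaryProducts _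
  haveI : (tensorLeft Y).Additive := Functor.additive_of_preservesBinaryBiproducts _
  exact (tensorLeft Y).map_add

theorem tensorLeftHomEquiv_smul (X Y Y' Z : Dual.D A) [ExactPairing Y Y'] (f : Y' ⊗ X ⟶ Z) (p : A) :
    tensorLeftHomEquiv X Y Y' Z (p • f) = p • tensorLeftHomEquiv X Y Y' Z f := by
  show _ ≫ _ ≫ _ ≫ Y ◁ (p • f) = p • (_ ≫ _ ≫ _ ≫ Y ◁ f)
  rw [whiskerLeft_smul]
  simp only [Linear.comp_smul]

end Linear

theorem bijective_toEnd_of_cyclic {A M : Type*} [CommRing A] [AddCommGroup M] [Module A M]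
    (mul : M →ₗ[A] M →ₗ[A] M) (one : M) (hone : ∀ x, mul one x = x) (e : M ≃ₗ[A] A) :
    Function.Bijective fun a : A => a • one := by
  let g := e.symm 1
  have hg : ∀ x, x = e x • g := fun x => e.injective (by simp [g])
  have h : e one * e (mul g g) = 1 := by
    have h1 := hone g
    rw [hg one, map_smul, LinearMap.smul_apply] at h1
    have h2 := congrArg e h1
    rw [map_smul, smul_eq_mul] at h2
    exact h2.trans (by simp [g])
  refine ⟨fun a b hab => ?_, fun x => ⟨e x * e (mul g g), e.injective ?_⟩⟩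
  · have := congrArg e hab
    simp only [map_smul, smul_eq_mul] at this
    calc a = a * (e one * e (mul g g)) := by rw [h, mul_one]
      _ = b * (e one * e (mul g g)) := by rw [← mul_assoc, this, mul_assoc]
      _ = b := by rw [h, mul_one]
  · rw [map_smul, smul_eq_mul, mul_assoc, mul_comm (e (mul g g)), h, mul_one]

variable {P A : Type u} [CommRing P] [CommRing A] [Algebra P A]

/-- `RHom_A(ω, ω) = A` for `ω = RHom_P(A, P)`. -/
theorem toEnd_right (hψ : Function.Surjective (algebraMap P A)) (hA : DRing.IsPerfect P (Dual.inD P A))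
    {Rψ : Dual.D P ⥤ Dual.D A} (adj : DRing.restrictD (algebraMap P A) ⊣ Rψ) :
    Function.Bijective (fun a : A => a • 𝟙 (Rψ.obj (Dual.inD P P))) ∧
      ∀ i : ℤ, i ≠ 0 → Subsingleton (Rψ.obj (Dual.inD P P) ⟶ (Rψ.obj (Dual.inD P P))⟦i⟧) := by
  let φ := algebraMap P A
  haveI := hasLTen P
  haveI := hasLTen A
  haveI := hasLBase φ
  haveI := hasResTen φ
  haveI := resLegIso φ
  haveI := hasLTen₃ P
  haveI := hasLTen₃ A
  haveI := isSymMonoidal P
  haveI := isSymMonoidal A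
  let e1 : DTen.unit P ≅ Dual.inD P P :=
    ((DerivedCategory.singleFunctorIsoCompQ (ModuleCat.{u} P) 0).app (ModuleCat.of P P)).symm
  let rA := (DRing.restrictD φ).obj (𝟙_ (Dual.D A))
  obtain ⟨A', ⟨hp⟩⟩ := exists_exactPairing _ (perfect_of_iso hA (restrictUnitIso P A).symm)
  letI : ExactPairing rA A' := hp
  haveI : ∀ E X, IsIso (projMap (DTen.LBase φ) (DTen.baseAdj φ) (κ φ) E X) := isIso_projD φ
  obtain ⟨d⟩ := @nonempty_restrict_dual (Dual.D P) _ _ _ (Dual.D A) _ _ (DTen.LBase φ) (DRing.restrictD φ)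
    (DTen.baseAdj φ) (κ φ) (κ_natural φ) Rψ adj _ A' _
  let ω := Rψ.obj (Dual.inD P P)
  let d' : (DRing.restrictD φ).obj ω ≅ A' ⊗ 𝟙_ (Dual.D P) :=
    (DRing.restrictD φ).mapIso (Rψ.mapIso e1.symm) ≪≫ d ≪≫ (ρ_ A').symm
  have hgm : ∀ i : ℤ, Nonempty (((DRing.restrictD φ).obj ω ⟶ (Dual.inD P P)⟦i⟧) ≃ₗ[P]
      Dual.HD P (Dual.inD P A) i) := by
    intro i
    let t : ((DRing.restrictD φ).obj ω ⟶ (Dual.inD P P)⟦i⟧) ≃ₗ[P]
        (𝟙_ (Dual.D P) ⟶ rA ⊗ ((DTen.unit P)⟦i⟧ : Dual.D P)) :=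
      (CategoryTheory.Linear.homCongr P d' ((shiftFunctor (Dual.D P) i).mapIso e1.symm)).trans
        { tensorLeftHomEquiv (𝟙_ (Dual.D P)) rA A' ((DTen.unit P)⟦i⟧) with
          map_add' := fun f f' => by
            show _ ≫ _ ≫ _ ≫ rA ◁ (f + f') = (_ ≫ _ ≫ _ ≫ rA ◁ f) + (_ ≫ _ ≫ _ ≫ rA ◁ f')
            rw [whiskerLeft_add_D rA A']
            simp only [Preadditive.comp_add]
          map_smul' := fun p f => tensorLeftHomEquiv_smul _ _ _ _ f p }
    obtain ⟨s⟩ := exists_shift_tensor (DTen.unit P) rA i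
    let u : rA ⊗ ((DTen.unit P)⟦i⟧ : Dual.D P) ≅ (Dual.inD P A)⟦i⟧ :=
      braid rA ((DTen.unit P)⟦i⟧) ≪≫ s.symm ≪≫ (shiftFunctor (Dual.D P) i).mapIso
        (λ_ rA ≪≫ restrictUnitIso P A)
    exact ⟨t.trans ((CategoryTheory.Linear.homCongr P e1 u).trans (gmSelfEquiv (Dual.inD P A) i))⟩
  have hiso : ∀ i : ℤ, ∃ e : ((DRing.restrictD φ).obj ω ⟶ (Dual.inD P P)⟦i⟧) ≃+ (ω ⟶ ω⟦i⟧),
      ∀ (p : P) g, e (p • g) = algebraMap P A p • e g := fun i => exists_homRight adj ω (Dual.inD P P) i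
  refine ⟨?_, fun i hi => ?_⟩
  · obtain ⟨g0⟩ := hgm 0
    obtain ⟨e, he⟩ := hiso 0
    let h0 : Dual.HD P (Dual.inD P A) 0 ≃ₗ[P] A :=
      ((DerivedCategory.singleFunctorCompHomologyFunctorIso (ModuleCat.{u} P) 0).app (ModuleCat.of P A)).toLinearEquiv
    let z := (shiftFunctorZero (Dual.D A) ℤ).app ω
    let E : (ω ⟶ ω) ≃+ A :=
      ((CategoryTheory.Linear.homCongr A (Iso.refl ω) z.symm).toAddEquiv.trans e.symm).trans (g0.trans h0).toAddEquiv
    have hE : ∀ (a : A) (f : ω ⟶ ω), E (a • f) = a • E f := fun a f => by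
      obtain ⟨p, rfl⟩ := hψ a
      show h0 (g0 (e.symm (CategoryTheory.Linear.homCongr A (Iso.refl ω) z.symm (algebraMap P A p • f)))) = _
      rw [map_smul]
      have : ∀ y, e.symm (algebraMap P A p • y) = p • e.symm y := fun y => e.injective (by
        rw [he, AddEquiv.apply_symm_apply, AddEquiv.apply_symm_apply])
      rw [this, map_smul, map_smul, algebraMap_smul]
      rfl
    exact bijective_toEnd_of_cyclic
      (LinearMap.mk₂ A (fun f g : ω ⟶ ω => f ≫ g) (fun _ _ _ => Preadditive.add_comp _ _ _ _ _ _)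
        (fun _ _ _ => Linear.smul_comp _ _ _ _ _ _) (fun _ _ _ => Preadditive.comp_add _ _ _ _ _ _)
        (fun _ _ _ => Linear.comp_smul _ _ _ _ _ _))
      (𝟙 ω) (fun f => Category.id_comp f) { E with map_smul' := hE }
  · obtain ⟨g⟩ := hgm i
    obtain ⟨e, -⟩ := hiso i
    haveI : Subsingleton (Dual.HD P (Dual.inD P A) i) := by
      refine ModuleCat.subsingleton_of_isZero ?_
      rcases lt_or_gt_of_ne hi with h | h
      · exact DerivedCategory.isZero_of_isGE _ 0 i h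
      · exact DerivedCategory.isZero_of_isLE _ 0 i h
    exact (e.toEquiv.symm.trans g.toEquiv).subsingleton

end Groth.Agent.DR39.TorBC
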