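import Groth.Agent.DR39.FibreGrade
import Groth.Agent.DR39.BC
import Groth.Agent.DR39.LocalDual3
import Groth.Agent.DR39.LciShriek
import Groth.Agent.LC15.DepthSeq
import Groth.Agent.Gor18.Dualizing

/-! Lower bound for the cohomology of the relative dualizing complex. -/

set_option autoImplicit false
set_option linter.style.haveILetI false
set_option linter.unusedSectionVars false

universe u

open CategoryTheory CategoryTheory.Limits RingTheory.Sequence TensorProduct

attribute [local instance] HasDerivedCategory.standard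

namespace Groth.Agent.DR39

theorem subsingleton_hom_of_regular {S : Type u} [CommRing S] (N : Type u) [AddCommGroup N] [Module S N]
    (ys : List S) (hys : ∀ y ∈ ys, ∀ x : N, y • x = 0) (hreg : IsWeaklyRegular S ys) (j : ℤ)
    (hj : j < (ys.length : ℤ)) : Subsingleton (Dual.inD S N ⟶ (Dual.inD S S)⟦j⟧) := by
  rcases lt_or_ge j 0 with hj0 | hj0
  · refine subsingleton_of_forall_eq 0 fun f => ?_
    haveI : ((Dual.inD S S)⟦j⟧).IsGE (-j) :=
      DerivedCategory.TStructure.t.isGE_shift _ 0 j (-j) (by omega)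
    exact DerivedCategory.TStructure.t.zero f 0 (-j) (by omega)
  · obtain ⟨m, rfl⟩ : ∃ m : ℕ, j = (m : ℤ) := ⟨j.toNat, by omega⟩
    refine (Gor18.subsingleton_ext_iff_hom N S m).1
      (LC15.subsingleton_ext_of_weaklyRegular (I := Ideal.ofList ys) (k := 1) ?_ ys S hreg
        (fun r hr => Ideal.subset_span hr) m (by omega))
    rw [pow_one, eq_bot_iff, Submodule.smul_le]
    intro a ha x _
    rw [Submodule.mem_bot]
    induction ha using Submodule.span_induction with
    | mem y hy => exact hys y hy x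
    | zero => exact zero_smul _ _
    | add a b _ _ h1 h2 => rw [add_smul, h1, h2, add_zero]
    | smul c a _ h1 => rw [smul_eq_mul, mul_smul, h1, smul_zero]

theorem killed_of_regular_away {P A : Type u} [CommRing P] [IsNoetherianRing P] [CommRing A] [Algebra P A]
    (hψ : Function.Surjective (algebraMap P A)) (g : P) (ys : List P) (hys : ∀ y ∈ ys, algebraMap P A y = 0)
    (hreg : IsWeaklyRegular (Localization.Away g) (ys.map (algebraMap P (Localization.Away g))))
    (j : ℤ) (hj : j < (ys.length : ℤ))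
    (f : (DRing.restrictD (algebraMap P A)).obj (Dual.inD A A) ⟶ (Dual.inD P P)⟦j⟧) :
    ∃ N : ℕ, g ^ N • f = 0 := by
  let B := Localization.Away g
  haveI : Module.Flat P B := IsLocalization.flat B (Submonoid.powers g)
  have hgood : Good B ((DRing.restrictD (algebraMap P A)).obj (Dual.inD A A)) ((Dual.inD P P)⟦j⟧) := by
    refine good_of_pc B (c := -j) (Shriek42.pc_restrictD_inD hψ _) fun i hi => ?_
    haveI : ((Dual.inD P P)⟦j⟧).IsGE (-j) :=
      DerivedCategory.TStructure.t.isGE_shift _ 0 j (-j) (by omega)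
    exact DerivedCategory.isZero_of_isGE _ (-j) i hi
  have hzero : Subsingleton ((DF (extA P B)).obj ((DRing.restrictD (algebraMap P A)).obj (Dual.inD A A)) ⟶
      (DF (extA P B)).obj ((Dual.inD P P)⟦j⟧)) := by
    obtain ⟨er⟩ := rest_self_iso (A := P) A
    let e₀ : (DRing.restrictD (algebraMap P A)).obj (Dual.inD A A) ≅ Dual.inD P A :=
      ((ModuleCat.restrictScalars.{u} (algebraMap P A)).mapDerivedCategorySingleFunctor 0).app (ModuleCat.of A A) ≪≫
        (DerivedCategory.singleFunctor (ModuleCat.{u} P) 0).mapIso er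
    obtain ⟨e₁⟩ := rep_inD_baseChange (A := P) (B := B) A
    obtain ⟨e₂⟩ := rep_inD_baseChange (A := P) (B := B) P
    let e₃ : Dual.inD B (B ⊗[P] P) ≅ Dual.inD B B :=
      (DerivedCategory.singleFunctor (ModuleCat.{u} B) 0).mapIso (AlgebraTensorModule.rid P B B).toModuleIso
    haveI := subsingleton_hom_of_regular (B ⊗[P] A) (ys.map (algebraMap P B)) (fun y hy x => by
      obtain ⟨y, hy', rfl⟩ := List.mem_map.1 hy
      rw [algebraMap_smul]
      induction x using TensorProduct.induction_on with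
      | zero => rw [smul_zero]
      | add a b ha hb => rw [smul_add, ha, hb, add_zero]
      | tmul b a => rw [← TensorProduct.tmul_smul, Algebra.smul_def, hys y hy', zero_mul, TensorProduct.tmul_zero])
      hreg j (by rwa [List.length_map])
    exact (Iso.homCongr ((DF (extA P B)).mapIso e₀ ≪≫ e₁)
      (((DF (extA P B)).commShiftIso j).app _ ≪≫ (shiftFunctor _ j).mapIso (e₂ ≪≫ e₃))).subsingleton
  have h1 : (1 : B) ⊗ₜ[P] f = 0 := hgood.1 (Subsingleton.elim _ _)
  haveI : IsLocalizedModule (Submonoid.powers g)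
      (TensorProduct.mk P B ((DRing.restrictD (algebraMap P A)).obj (Dual.inD A A) ⟶ (Dual.inD P P)⟦j⟧) 1) :=
    (isLocalizedModule_iff_isBaseChange (Submonoid.powers g) B _).2 (TensorProduct.isBaseChange P _ B)
  obtain ⟨⟨_, N, rfl⟩, hN⟩ := (IsLocalizedModule.eq_zero_iff (Submonoid.powers g) (TensorProduct.mk P B _ 1)).1 h1
  exact ⟨N, hN⟩

theorem shriekVia_self_lower {R A : Type u} [CommRing R] [CommRing A] [IsNoetherianRing R] [Algebra R A]
    (n : ℕ) (ψ : MvPolynomial (Fin n) R →ₐ[R] A) (hψ : Function.Surjective ψ)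
    (Rψ : Dual.D (MvPolynomial (Fin n) R) ⥤ Dual.D A) (adj : DRing.restrictD ψ.toRingHom ⊣ Rψ)
    [DRing.HasLBaseChange (algebraMap R (MvPolynomial (Fin n) R))]
    (q : PrimeSpectrum A) (d : ℕ)
    (hd : FlatMor.fibreDimAt (AlgebraicGeometry.Spec.map (CommRingCat.ofHom (algebraMap R A))) q = d) (i : ℤ)
    (h : Nontrivial (LocalizedModule q.asIdeal.primeCompl (Dual.HD A (Dual2.shriekVia n Rψ (Dual.inD R R)) i))) :
    -(d : ℤ) ≤ i := by
  by_contra hne
  rw [not_le] at hne
  let P := MvPolynomial (Fin n) R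
  letI : Algebra P A := ψ.toRingHom.toAlgebra
  obtain ⟨y, hy, g, hg, hreg⟩ := exists_regular_kernel ψ hψ q d hd
  obtain ⟨eP⟩ := nonempty_lb_inD_self (algebraMap R P)
  obtain ⟨x, hx⟩ := exists_ne (0 : LocalizedModule q.asIdeal.primeCompl
    (Dual.HD A (Dual2.shriekVia n Rψ (Dual.inD R R)) i))
  obtain ⟨⟨m, s⟩, rfl⟩ := IsLocalizedModule.mk'_surjective q.asIdeal.primeCompl
    (LocalizedModule.mkLinearMap q.asIdeal.primeCompl _) x
  apply hx
  suffices ∃ a : A, a ∉ q.asIdeal ∧ a • m = 0 by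
    obtain ⟨a, ha, ha0⟩ := this
    exact (IsLocalizedModule.mk'_eq_zero' _ s).2 ⟨⟨a, ha⟩, ha0⟩
  obtain ⟨es⟩ := Shriek42.nonempty_shift_iso adj (Dual.inD P P) ((n : ℤ) + i)
  let e : (Dual.inD A A ⟶ (Dual2.shriekVia n Rψ (Dual.inD R R))⟦i⟧) ≃ₗ[A] (Dual.inD A A ⟶ Rψ.obj ((Dual.inD P P)⟦(n : ℤ) + i⟧)) :=
    CategoryTheory.Linear.homCongr A (Iso.refl _)
      (((shiftFunctorAdd' (Dual.D A) (n : ℤ) i _ rfl).app _).symm ≪≫
        (shiftFunctor (Dual.D A) ((n : ℤ) + i)).mapIso (Rψ.mapIso eP) ≪≫ es.symm)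
  obtain ⟨v, rfl⟩ := ((gmSelfEquiv (Dual2.shriekVia n Rψ (Dual.inD R R)) i).symm.trans e).symm.surjective m
  let F := (adj.homEquiv _ _).symm v
  obtain ⟨N, hN⟩ := killed_of_regular_away (A := A) hψ g (List.ofFn y) (fun z hz => by
      obtain ⟨k, rfl⟩ := (List.mem_ofFn' _ _).1 hz
      exact RingHom.mem_ker.1 (hy k))
    (by rwa [List.map_ofFn]) ((n : ℤ) + i) (by rw [List.length_ofFn]; omega) F
  refine ⟨ψ (g ^ N), fun hm => hg (Ideal.IsPrime.mem_of_pow_mem (Ideal.IsPrime.comap _) N (Ideal.mem_comap.2 hm)), ?_⟩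
  rw [← map_smul, LinearEquiv.map_eq_zero_iff]
  apply (adj.homEquiv _ _).symm.injective
  have hv : ψ.toRingHom (g ^ N) • v = (ψ.toRingHom (g ^ N) • 𝟙 (Dual.inD A A)) ≫ v := by
    rw [Linear.smul_comp, Category.id_comp]
  show (adj.homEquiv _ _).symm (ψ.toRingHom (g ^ N) • v) = (adj.homEquiv _ _).symm 0
  rw [hv, Adjunction.homEquiv_naturality_left_symm, Shriek42.restrictD_map_smul, CategoryTheory.Functor.map_id,
    Linear.smul_comp, Category.id_comp, show (adj.homEquiv _ _).symm v = F from rfl]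
  simp only [Adjunction.homEquiv_counit, Functor.map_zero, zero_comp]
  exact hN

end Groth.Agent.DR39
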