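import Groth.Agent.DR39.ShriekEnd
import Groth.Agent.DR39.PresPerfect
import Groth.Agent.DR39.ShriekLower
import Groth.Agent.Shriek42.Presentation
import Groth.Agent.Shriek42.Coherent
import Groth.Agent.Shriek42.CompBC
import Mathlib.RingTheory.TensorProduct.MvPolynomial

/-! The relative dualizing complex of a flat algebra of finite type. -/

set_option autoImplicit false
set_option linter.style.haveILetI false
set_option linter.unusedSectionVars false
set_option backward.isDefEq.respectTransparency false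

universe u

open CategoryTheory CategoryTheory.Limits TensorProduct

attribute [local instance] HasDerivedCategory.standard

namespace Groth.Agent.DR39.ShriekFlat

section Pres

variable {R A : Type u} [CommRing R] [CommRing A] [IsNoetherianRing R] [Algebra R A] [Module.Flat R A] {n : ℕ}
  [Algebra (MvPolynomial (Fin n) R) A] [IsScalarTower R (MvPolynomial (Fin n) R) A]
  {Rψ : Dual.D (MvPolynomial (Fin n) R) ⥤ Dual.D A}

theorem subsingleton_right_high (hψ : Function.Surjective (algebraMap (MvPolynomial (Fin n) R) A))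
    (adj : DRing.restrictD (algebraMap (MvPolynomial (Fin n) R) A) ⊣ Rψ) (j : ℤ) (hj : (n : ℤ) < j) :
    Subsingleton (Dual.HD A (Rψ.obj (Dual.inD (MvPolynomial (Fin n) R) (MvPolynomial (Fin n) R))) j) := by
  let P := MvPolynomial (Fin n) R
  haveI : Module.Finite P A := Module.Finite.of_surjective (Algebra.linearMap P A) hψ
  have hT := (perfect_presentation n hψ).2
  obtain ⟨E, hv, hE, he⟩ := rep_FP_of_pc_of_ta (pc_inD (A := P) A _) hT
  have hPR : Rep PRp (Set.Icc (-(n : ℤ)) 0) (Dual.inD P A) := ⟨E, hv, fun i => (hE i).2, he⟩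
  have h1 := (extVanish_iff (Dual.inD P A) (-j) j (by omega)).1
    (extVanish_of_rep_PR hPR (Or.inl (by omega))) P
  haveI := subsingleton_gm_right adj A (Dual.inD P P) j h1
  exact (gmSelfEquiv (Rψ.obj (Dual.inD P P)) j).symm.toEquiv.subsingleton

theorem acyc_right (hψ : Function.Surjective (algebraMap (MvPolynomial (Fin n) R) A))
    (adj : DRing.restrictD (algebraMap (MvPolynomial (Fin n) R) A) ⊣ Rψ) :
    Acyc ((n : ℤ) + 1) (Rψ.obj (Dual.inD (MvPolynomial (Fin n) R) (MvPolynomial (Fin n) R))) := fun i hi =>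
  (isZero_HF_iff _ i).2 (subsingleton_right_high hψ adj i (by omega))

end Pres

section Shriek

variable {R A : Type u} [CommRing R] [CommRing A] [Algebra R A]

theorem tower (n : ℕ) (ψ : MvPolynomial (Fin n) R →ₐ[R] A) :
    letI := ψ.toRingHom.toAlgebra
    IsScalarTower R (MvPolynomial (Fin n) R) A :=
  letI := ψ.toRingHom.toAlgebra
  IsScalarTower.of_algebraMap_eq fun r => (ψ.commutes r).symm

/-- The relative dualizing complex as a shift of `RHom_P(A, P)`. -/
theorem nonempty_self (n : ℕ) [DRing.HasLBaseChange (algebraMap R (MvPolynomial (Fin n) R))]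
    (Rψ : Dual.D (MvPolynomial (Fin n) R) ⥤ Dual.D A) :
    Nonempty (Dual2.shriekVia n Rψ (Dual.inD R R) ≅
      (Rψ.obj (Dual.inD (MvPolynomial (Fin n) R) (MvPolynomial (Fin n) R)))⟦(n : ℤ)⟧) := by
  obtain ⟨eP⟩ := nonempty_lb_inD_self (algebraMap R (MvPolynomial (Fin n) R))
  exact ⟨(shiftFunctor (Dual.D A) (n : ℤ)).mapIso (Rψ.mapIso eP)⟩

variable [IsNoetherianRing R] [Module.Flat R A]

/-- The relative dualizing complex lives in non-positive degrees. -/
theorem subsingleton_HD_pos (n : ℕ) (ψ : MvPolynomial (Fin n) R →ₐ[R] A) (hψ : Function.Surjective ψ)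
    [DRing.HasLBaseChange (algebraMap R (MvPolynomial (Fin n) R))]
    (Rψ : Dual.D (MvPolynomial (Fin n) R) ⥤ Dual.D A) (adj : DRing.restrictD ψ.toRingHom ⊣ Rψ)
    (i : ℤ) (hi : 0 < i) : Subsingleton (Dual.HD A (Dual2.shriekVia n Rψ (Dual.inD R R)) i) := by
  letI := ψ.toRingHom.toAlgebra
  haveI := tower n ψ
  obtain ⟨e⟩ := nonempty_self (A := A) n Rψ
  refine (isZero_HF_iff _ i).1 (IsZero.of_iso ?_ ((HF A i).mapIso e ≪≫
    ((DerivedCategory.homologyFunctor (ModuleCat.{u} A) 0).shiftIso (n : ℤ) i (n + i) rfl).app _))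
  exact acyc_right hψ adj _ (by omega)

theorem finite_HD (n : ℕ) (ψ : MvPolynomial (Fin n) R →ₐ[R] A) (hψ : Function.Surjective ψ)
    [DRing.HasLBaseChange (algebraMap R (MvPolynomial (Fin n) R))]
    (Rψ : Dual.D (MvPolynomial (Fin n) R) ⥤ Dual.D A) (adj : DRing.restrictD ψ.toRingHom ⊣ Rψ) :
    (∃ b : ℤ, ∀ i : ℤ, i < b → Subsingleton (Dual.HD A (Dual2.shriekVia n Rψ (Dual.inD R R)) i)) ∧
      ∀ i : ℤ, Module.Finite A (Dual.HD A (Dual2.shriekVia n Rψ (Dual.inD R R)) i) := by
  have h0 : ∀ i : ℤ, i ≠ 0 → IsZero ((HF R i).obj (Dual.inD R R)) := fun i hi => by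
    rcases lt_or_gt_of_ne hi with h | h
    · exact DerivedCategory.isZero_of_isGE _ 0 i h
    · exact DerivedCategory.isZero_of_isLE _ 0 i h
  obtain ⟨h1, h2⟩ := Shriek42.shriekVia_bounded_below_and_coherent n ψ hψ Rψ adj (Dual.inD R R) 0
    fun i hi => (isZero_HF_iff _ i).1 (h0 i (by omega))
  refine ⟨h1, h2 fun i => ?_⟩
  by_cases hi : i = 0
  · subst hi
    exact @Module.Finite.equiv _ _ _ _ _ _ _ _ (inferInstanceAs (Module.Finite R R)) ((DerivedCategory.singleFunctorCompHomologyFunctorIso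
      (ModuleCat.{u} R) 0).app (ModuleCat.of R R)).symm.toLinearEquiv
  · haveI := (isZero_HF_iff _ i).1 (h0 i hi)
    exact inferInstance

end Shriek

section BaseChange

attribute [local instance] Algebra.TensorProduct.rightAlgebra Shriek42.hasLB

/-- Base change of the relative dualizing complex. -/
theorem shriek_baseChange {R A : Type u} [CommRing R] [CommRing A] [Algebra R A] [IsNoetherianRing R]
    [Module.Flat R A] (R' : Type u) [CommRing R'] [Algebra R R'] (n : ℕ) (ψ : MvPolynomial (Fin n) R →ₐ[R] A)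
    (hψ : Function.Surjective ψ) [DRing.HasLBaseChange (algebraMap R (MvPolynomial (Fin n) R))]
    (Rψ : Dual.D (MvPolynomial (Fin n) R) ⥤ Dual.D A) (adj : DRing.restrictD ψ.toRingHom ⊣ Rψ)
    (m : ℕ) (ψ' : MvPolynomial (Fin m) R' →ₐ[R'] (R' ⊗[R] A)) (hψ' : Function.Surjective ψ')
    [DRing.HasLBaseChange (algebraMap R' (MvPolynomial (Fin m) R'))]
    (Rψ' : Dual.D (MvPolynomial (Fin m) R') ⥤ Dual.D (R' ⊗[R] A)) (adj' : DRing.restrictD ψ'.toRingHom ⊣ Rψ')
    [DRing.HasLBaseChange (Algebra.TensorProduct.includeRight : A →ₐ[R] R' ⊗[R] A).toRingHom] :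
    Nonempty ((DRing.LBaseChange (Algebra.TensorProduct.includeRight : A →ₐ[R] R' ⊗[R] A).toRingHom).obj
      (Dual2.shriekVia n Rψ (Dual.inD R R)) ≅ Dual2.shriekVia m Rψ' (Dual.inD R' R')) := by
  let P := MvPolynomial (Fin n) R
  let P' := MvPolynomial (Fin n) R'
  letI : Algebra P P' := MvPolynomial.algebraMvPolynomial
  let ψ0 : P' →ₐ[R'] (R' ⊗[R] A) := MvPolynomial.aeval fun i => (1 : R') ⊗ₜ[R] ψ (MvPolynomial.X i)
  letI : Algebra P A := ψ.toRingHom.toAlgebra
  letI : Algebra P' (R' ⊗[R] A) := ψ0.toRingHom.toAlgebra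
  letI : Algebra P (R' ⊗[R] A) := ((algebraMap A (R' ⊗[R] A)).comp (algebraMap P A)).toAlgebra
  haveI : IsScalarTower R P A := tower n ψ
  haveI : IsScalarTower R' P' (R' ⊗[R] A) := tower n ψ0
  haveI : IsScalarTower P A (R' ⊗[R] A) := IsScalarTower.of_algebraMap_eq fun _ => rfl
  haveI : IsScalarTower R R' P' := IsScalarTower.of_algebraMap_eq fun r => by
    simp [P', MvPolynomial.algebraMap_eq]
  haveI : IsScalarTower R P P' := IsScalarTower.of_algebraMap_eq fun r => by
    show MvPolynomial.C (algebraMap R R' r) = MvPolynomial.map (algebraMap R R') (MvPolynomial.C r)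
    rw [MvPolynomial.map_C]
  haveI : IsScalarTower R R' (R' ⊗[R] A) := inferInstance
  haveI : IsScalarTower P P' (R' ⊗[R] A) := IsScalarTower.of_algebraMap_eq' (MvPolynomial.ringHom_ext
    (fun r => by
      show algebraMap A (R' ⊗[R] A) (ψ (MvPolynomial.C r)) = ψ0 (MvPolynomial.map (algebraMap R R') (MvPolynomial.C r))
      rw [MvPolynomial.map_C, MvPolynomial.aeval_C, ← MvPolynomial.algebraMap_eq, ψ.commutes,
        ← IsScalarTower.algebraMap_apply R A (R' ⊗[R] A), ← IsScalarTower.algebraMap_apply R R' (R' ⊗[R] A)])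
    (fun i => by
      show algebraMap A (R' ⊗[R] A) (ψ (MvPolynomial.X i)) = ψ0 (MvPolynomial.map (algebraMap R R') (MvPolynomial.X i))
      rw [MvPolynomial.map_X, MvPolynomial.aeval_X]
      rfl))
  haveI : IsScalarTower R P' (R' ⊗[R] A) := IsScalarTower.of_algebraMap_eq fun r => by
    rw [IsScalarTower.algebraMap_apply R R' P', ← IsScalarTower.algebraMap_apply R' P' (R' ⊗[R] A),
      ← IsScalarTower.algebraMap_apply R R' (R' ⊗[R] A)]
  haveI : Algebra.IsPushout R P R' P' := inferInstance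
  haveI : Algebra.IsPushout R R' P P' := inferInstance
  haveI h1 : Algebra.IsPushout P A P' (R' ⊗[R] A) :=
    (Algebra.IsPushout.comp_iff (R := R) (S := P) (R' := R') (S' := P') (T := A) (T' := R' ⊗[R] A)).1 inferInstance
  haveI : Algebra.IsPushout P P' A (R' ⊗[R] A) := h1.symm
  haveI : DRing.HasLBaseChange (algebraMap A (R' ⊗[R] A)) := ‹_›
  haveI : Module.Flat R P := inferInstance
  have hs0 : Function.Surjective ψ0 := by
    intro x
    induction x using TensorProduct.induction_on with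
    | zero => exact ⟨0, map_zero _⟩
    | add a b ha hb => obtain ⟨a, rfl⟩ := ha; obtain ⟨b, rfl⟩ := hb; exact ⟨a + b, map_add _ _ _⟩
    | tmul r a =>
      obtain ⟨p, rfl⟩ := hψ a
      refine ⟨r • algebraMap P P' p, ?_⟩
      rw [map_smul, show ψ0 (algebraMap P P' p) = algebraMap A (R' ⊗[R] A) (ψ p) from
        (IsScalarTower.algebraMap_apply P P' (R' ⊗[R] A) p).symm.trans
          (IsScalarTower.algebraMap_apply P A (R' ⊗[R] A) p)]
      show r • ((1 : R') ⊗ₜ[R] ψ p) = _
      rw [TensorProduct.smul_tmul', smul_eq_mul, mul_one]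
  let adj0 := Shriek42.rightDAdj ψ0.toRingHom
  obtain ⟨e⟩ := TorBC.nonempty_baseChange (R := R) (R' := R') (P := P) (P' := P') (A := A) (A' := R' ⊗[R] A)
    (perfect_presentation n hψ).1 adj adj0 ⟨(n : ℤ), acyc_right hψ adj⟩
  haveI : DRing.HasLBaseChange (algebraMap R' (MvPolynomial (Fin n) R')) := inferInstance
  obtain ⟨s⟩ := nonempty_self (A := A) n Rψ
  obtain ⟨s'⟩ := nonempty_self (R := R') (A := R' ⊗[R] A) n (Shriek42.rightD ψ0.toRingHom)
  obtain ⟨t⟩ := Shriek42.nonempty_lb_shift (algebraMap A (R' ⊗[R] A)) (Rψ.obj (Dual.inD P P)) (n : ℤ)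
  obtain ⟨c⟩ := Shriek42.shriekVia_independent n ψ0 hs0 _ adj0 m ψ' hψ' Rψ' adj' (Dual.inD R' R')
  exact ⟨(DRing.LBaseChange (algebraMap A (R' ⊗[R] A))).mapIso s ≪≫ t ≪≫
    (shiftFunctor _ (n : ℤ)).mapIso e ≪≫ s'.symm ≪≫ c⟩

end BaseChange

end Groth.Agent.DR39.ShriekFlat
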