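import Groth.Agent.DR39.ShriekFlat2

/-! Base change of the upper shriek of a flat algebra. -/

set_option autoImplicit false
set_option linter.style.haveILetI false
set_option linter.unusedSectionVars false
set_option backward.isDefEq.respectTransparency false

universe u

open CategoryTheory CategoryTheory.Limits TensorProduct

attribute [local instance] HasDerivedCategory.standard Algebra.TensorProduct.rightAlgebra
  Groth.Agent.Shriek42.hasLB Groth.Agent.DTen43.hasLTen Groth.Agent.DTen43.hasLBase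

namespace Groth.Agent.DR39.ShriekFlat

variable {R A : Type u} [CommRing R] [CommRing A] [Algebra R A] [IsNoetherianRing R] [Module.Flat R A]

/-- The upper shriek is the tensor product with the relative dualizing complex. -/
theorem shriek_iso_ten (n : ℕ) (ψ : MvPolynomial (Fin n) R →ₐ[R] A) (hψ : Function.Surjective ψ)
    [DRing.HasLBaseChange (algebraMap R (MvPolynomial (Fin n) R))]
    (Rψ : Dual.D (MvPolynomial (Fin n) R) ⥤ Dual.D A) (adj : DRing.restrictD ψ.toRingHom ⊣ Rψ)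
    [DRing.HasLBaseChange (algebraMap R A)] (K : Dual.D R) :
    Nonempty (Dual2.shriekVia n Rψ K ≅ (DTen.LTen₂ A).obj
      (Dual2.shriekVia n Rψ (Dual.inD R R), (DRing.LBaseChange (algebraMap R A)).obj K)) := by
  let P := MvPolynomial (Fin n) R
  letI : Algebra P A := ψ.toRingHom.toAlgebra
  haveI := tower n ψ
  obtain ⟨e⟩ := rightAdjoint_iso_tensor (perfect_presentation n hψ).1 adj
    ((DRing.LBaseChange (algebraMap R P)).obj K)
  obtain ⟨c⟩ := nonempty_lbase_comp (algebraMap R P) (algebraMap P A) (algebraMap R A)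
    (IsScalarTower.algebraMap_eq R P A)
  let X := (DRing.LBaseChange (algebraMap R A)).obj K
  obtain ⟨e2⟩ := nonempty_self (A := A) n Rψ
  obtain ⟨s⟩ := exists_shift_tensor (Rψ.obj (Dual.inD P P)) X (n : ℤ)
  exact ⟨(shiftFunctor (Dual.D A) (n : ℤ)).mapIso (e ≪≫ (DTen.LTen₂ A).mapIso (Iso.prod (Iso.refl _) (c.app K))) ≪≫
    s ≪≫ (DTen.LTen₂ A).mapIso (Iso.prod e2.symm (Iso.refl _))⟩

/-- Derived base change commutes with derived tensor products. -/
theorem nonempty_lb_tensor {S T : Type u} [CommRing S] [CommRing T] (φ : S →+* T) [DRing.HasLBaseChange φ]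
    (X Y : Dual.D S) : Nonempty ((DRing.LBaseChange φ).obj ((DTen.LTen₂ S).obj (X, Y)) ≅
      (DTen.LTen₂ T).obj ((DRing.LBaseChange φ).obj X, (DRing.LBaseChange φ).obj Y)) := by
  haveI := DTen43.hasResTen φ
  haveI := DTen43.resLegIso φ
  haveI := DTen43.isIso_kappa φ
  let e := (DTen.baseAdj φ).leftAdjointUniq (Shriek42.lbAdj φ)
  exact ⟨e.symm.app _ ≪≫ (asIso (DTen43.kappa φ)).app (X, Y) ≪≫
    (DTen.LTen₂ T).mapIso (Iso.prod (e.app X) (e.app Y))⟩

/-- Transitivity of derived base change. -/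
theorem nonempty_lb_comp {S T U : Type u} [CommRing S] [CommRing T] [CommRing U] (g : S →+* T) (f : T →+* U)
    (χ : S →+* U) (h : χ = f.comp g) [DRing.HasLBaseChange g] [DRing.HasLBaseChange f] [DRing.HasLBaseChange χ] :
    Nonempty (DRing.LBaseChange g ⋙ DRing.LBaseChange f ≅ DRing.LBaseChange χ) :=
  ⟨(((Shriek42.lbAdj g).comp (Shriek42.lbAdj f)).ofNatIsoRight (Shriek42.restrictCompIso h).symm).leftAdjointUniq
    (Shriek42.lbAdj χ)⟩

/-- Base change of the upper shriek. -/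
theorem shriek_baseChange' (R' : Type u) [CommRing R'] [IsNoetherianRing R'] [Algebra R R'] (n : ℕ)
    (ψ : MvPolynomial (Fin n) R →ₐ[R] A) (hψ : Function.Surjective ψ)
    [DRing.HasLBaseChange (algebraMap R (MvPolynomial (Fin n) R))]
    (Rψ : Dual.D (MvPolynomial (Fin n) R) ⥤ Dual.D A) (adj : DRing.restrictD ψ.toRingHom ⊣ Rψ)
    (m : ℕ) (ψ' : MvPolynomial (Fin m) R' →ₐ[R'] (R' ⊗[R] A)) (hψ' : Function.Surjective ψ')
    [DRing.HasLBaseChange (algebraMap R' (MvPolynomial (Fin m) R'))]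
    (Rψ' : Dual.D (MvPolynomial (Fin m) R') ⥤ Dual.D (R' ⊗[R] A)) (adj' : DRing.restrictD ψ'.toRingHom ⊣ Rψ')
    [DRing.HasLBaseChange (Algebra.TensorProduct.includeRight : A →ₐ[R] R' ⊗[R] A).toRingHom]
    [DRing.HasLBaseChange (algebraMap R R')] (K : Dual.D R) :
    Nonempty ((DRing.LBaseChange (Algebra.TensorProduct.includeRight : A →ₐ[R] R' ⊗[R] A).toRingHom).obj
      (Dual2.shriekVia n Rψ K) ≅ Dual2.shriekVia m Rψ' ((DRing.LBaseChange (algebraMap R R')).obj K)) := by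
  let h := (Algebra.TensorProduct.includeRight : A →ₐ[R] R' ⊗[R] A).toRingHom
  obtain ⟨e1⟩ := shriek_iso_ten n ψ hψ Rψ adj K
  obtain ⟨e2⟩ := nonempty_lb_tensor h (Dual2.shriekVia n Rψ (Dual.inD R R))
    ((DRing.LBaseChange (algebraMap R A)).obj K)
  obtain ⟨e3⟩ := shriek_baseChange R' n ψ hψ Rψ adj m ψ' hψ' Rψ' adj'
  obtain ⟨c1⟩ := nonempty_lb_comp (algebraMap R A) h (algebraMap R (R' ⊗[R] A))
    (IsScalarTower.algebraMap_eq R A (R' ⊗[R] A))
  obtain ⟨c2⟩ := nonempty_lb_comp (algebraMap R R') (algebraMap R' (R' ⊗[R] A)) (algebraMap R (R' ⊗[R] A))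
    (IsScalarTower.algebraMap_eq R R' (R' ⊗[R] A))
  haveI : Module.Flat R' (R' ⊗[R] A) := inferInstance
  obtain ⟨e4⟩ := shriek_iso_ten m ψ' hψ' Rψ' adj' ((DRing.LBaseChange (algebraMap R R')).obj K)
  exact ⟨(DRing.LBaseChange h).mapIso e1 ≪≫ e2 ≪≫
    (DTen.LTen₂ (R' ⊗[R] A)).mapIso (Iso.prod e3 (c1.app K ≪≫ c2.symm.app K)) ≪≫ e4.symm⟩

end Groth.Agent.DR39.ShriekFlat
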