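import Groth.Agent.DR39.ShriekFlat
import Groth.Agent.DR39.TorSquare
import Groth.Agent.DR39.Fibre2
import Groth.Agent.DR39.ResTensor
import Mathlib.RingTheory.Ideal.AssociatedPrime.Finiteness

/-! The tor amplitude over the base of the relative dualizing complex. -/

set_option autoImplicit false
set_option linter.style.haveILetI false
set_option linter.unusedSectionVars false
set_option backward.isDefEq.respectTransparency false

universe u

open CategoryTheory CategoryTheory.Limits TensorProduct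

attribute [local instance] HasDerivedCategory.standard Algebra.TensorProduct.rightAlgebra
  Groth.Agent.Shriek42.hasLB

namespace Groth.Agent.DR39.ShriekFlat

section Devissage

variable {R : Type u} [CommRing R]

theorem exT_of_exact (E : DRing.Cx R) (hfl : ∀ j, Module.Flat R (E.X j)) (i : ℤ) {N₁ N₂ N₃ : Type u}
    [AddCommGroup N₁] [Module R N₁] [AddCommGroup N₂] [Module R N₂] [AddCommGroup N₃] [Module R N₃]
    (f : N₁ →ₗ[R] N₂) (g : N₂ →ₗ[R] N₃) (hf : Function.Injective f) (hg : Function.Surjective g)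
    (hfg : Function.Exact f g) (h1 : ExT E (ModuleCat.of R N₁) i) (h3 : ExT E (ModuleCat.of R N₃) i) :
    ExT E (ModuleCat.of R N₂) i := by
  intro x hx
  change E.X i ⊗[R] N₂ at x
  change (E.d i (i + 1)).hom.rTensor N₂ x = 0 at hx
  have comm : ∀ {A B : Type u} [AddCommGroup A] [Module R A] [AddCommGroup B] [Module R B] (φ : A →ₗ[R] B)
      (j k : ℤ) (z : E.X j ⊗[R] A),
      φ.lTensor (E.X k) ((E.d j k).hom.rTensor A z) = (E.d j k).hom.rTensor B (φ.lTensor (E.X j) z) :=
    fun φ j k z => by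
      rw [← LinearMap.comp_apply, ← LinearMap.comp_apply, LinearMap.lTensor_comp_rTensor,
        LinearMap.rTensor_comp_lTensor]
  obtain ⟨y3, hy3⟩ := h3 (g.lTensor (E.X i) x) (by
    show (E.d i (i + 1)).hom.rTensor N₃ (g.lTensor (E.X i) x) = 0
    rw [← comm, hx, map_zero])
  obtain ⟨y, rfl⟩ := LinearMap.lTensor_surjective (E.X (i - 1)) hg y3
  obtain ⟨z, hz⟩ := ((lTensor_exact (E.X i) hfg hg) (x - (E.d (i - 1) i).hom.rTensor N₂ y)).1 (by
    rw [map_sub, comm]
    exact sub_eq_zero.2 hy3.symm)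
  obtain ⟨w, hw⟩ := h1 z (by
    haveI := hfl (i + 1)
    refine Module.Flat.lTensor_preserves_injective_linearMap (M := E.X (i + 1)) f hf ?_
    show f.lTensor (E.X (i + 1)) ((E.d i (i + 1)).hom.rTensor N₁ z) = f.lTensor (E.X (i + 1)) 0
    rw [comm, hz, map_sub, hx, map_zero, ← LinearMap.comp_apply, ← LinearMap.rTensor_comp, ← ModuleCat.hom_comp,
      E.d_comp_d]
    simp)
  refine ⟨f.lTensor (E.X (i - 1)) w + y, ?_⟩
  show (E.d (i - 1) i).hom.rTensor N₂ _ = x
  rw [map_add, ← comm]
  rw [show (E.d (i - 1) i).hom.rTensor N₁ w = z from hw, hz, sub_add_cancel]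

theorem exT_all_of_quotients [IsNoetherianRing R] (E : DRing.Cx R) (hfl : ∀ j, Module.Flat R (E.X j)) (i : ℤ)
    (h : ∀ I : Ideal R, ExT E (ModuleCat.of R (R ⧸ I)) i) (M : ModuleCat.{u} R) : ExT E M i := by
  have hfin : ∀ (N : Type u) [AddCommGroup N] [Module R N] (_ : Module.Finite R N), ExT E (ModuleCat.of R N) i := by
    intro N _ _ hN
    refine IsNoetherianRing.induction_on_isQuotientEquivQuotientPrime R (motive := fun N _ _ _ =>
      ExT E (ModuleCat.of R N) i) hN ?_ ?_ ?_
    · intro N _ _ _ _ x _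
      have hx0 : ∀ z : E.X i ⊗[R] N, z = 0 := fun z => by
        induction z using TensorProduct.induction_on with
        | zero => rfl
        | tmul e n => rw [Subsingleton.elim n 0, TensorProduct.tmul_zero]
        | add p q hp hq => rw [hp, hq, add_zero]
      exact ⟨0, (map_zero _).trans (hx0 x).symm⟩
    · intro N _ _ _ p e
      exact exT_of_equiv E i (M := ModuleCat.of R (R ⧸ p.asIdeal)) (N := ModuleCat.of R N) e.symm (h p.asIdeal)
    · intro N₁ _ _ _ N₂ _ _ _ N₃ _ _ _ f g hf hg hfg h1 h3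
      exact exT_of_exact E hfl i f g hf hg hfg h1 h3
  intro x hx
  obtain ⟨N', hN', hs⟩ := TensorProduct.exists_finite_submodule_right_of_setFinite {x} (Set.finite_singleton x)
  obtain ⟨z, rfl⟩ := hs (Set.mem_singleton x)
  obtain ⟨w, hw⟩ := hfin N' hN' z (by
    haveI := hfl (i + 1)
    refine Module.Flat.lTensor_preserves_injective_linearMap (M := E.X (i + 1)) N'.subtype
      N'.subtype_injective ?_
    show N'.subtype.lTensor (E.X (i + 1)) ((E.d i (i + 1)).hom.rTensor N' z) = N'.subtype.lTensor (E.X (i + 1)) 0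
    rw [← LinearMap.comp_apply, LinearMap.lTensor_comp_rTensor, ← LinearMap.rTensor_comp_lTensor, map_zero]
    exact hx)
  refine ⟨N'.subtype.lTensor (E.X (i - 1)) w, ?_⟩
  rw [← hw, ← LinearMap.comp_apply, LinearMap.rTensor_comp_lTensor, ← LinearMap.lTensor_comp_rTensor]
  rfl

end Devissage

variable {R A : Type u} [CommRing R] [CommRing A] [Algebra R A]

/-- The base changed presentation. -/
theorem exists_presentation_bc (R' : Type u) [CommRing R'] [Algebra R R'] (n : ℕ)
    (ψ : MvPolynomial (Fin n) R →ₐ[R] A) (hψ : Function.Surjective ψ) :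
    ∃ ψ' : MvPolynomial (Fin n) R' →ₐ[R'] (R' ⊗[R] A), Function.Surjective ψ' := by
  let f := MvPolynomial.aeval (R := R') fun i => (1 : R') ⊗ₜ[R] ψ (MvPolynomial.X i)
  refine ⟨f, fun x => ?_⟩
  induction x using TensorProduct.induction_on with
  | zero => exact ⟨0, map_zero _⟩
  | add a b ha hb => obtain ⟨a, rfl⟩ := ha; obtain ⟨b, rfl⟩ := hb; exact ⟨a + b, map_add _ _ _⟩
  | tmul r a =>
    obtain ⟨p, rfl⟩ := hψ a
    refine ⟨r • MvPolynomial.map (algebraMap R R') p, ?_⟩
    have key : f.toRingHom.comp (MvPolynomial.map (algebraMap R R')) =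
        (Algebra.TensorProduct.includeRight : A →ₐ[R] R' ⊗[R] A).toRingHom.comp ψ.toRingHom := by
      refine MvPolynomial.ringHom_ext (fun s => ?_) fun i => ?_
      · show f (MvPolynomial.map _ (MvPolynomial.C s)) = (1 : R') ⊗ₜ[R] ψ (MvPolynomial.C s)
        rw [MvPolynomial.map_C, MvPolynomial.aeval_C, ← MvPolynomial.algebraMap_eq, ψ.commutes,
          Algebra.TensorProduct.algebraMap_apply]
        show (algebraMap R R' s) ⊗ₜ[R] (1 : A) = _
        rw [Algebra.algebraMap_eq_smul_one, Algebra.algebraMap_eq_smul_one, TensorProduct.smul_tmul]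
      · show f (MvPolynomial.map _ (MvPolynomial.X i)) = (1 : R') ⊗ₜ[R] ψ (MvPolynomial.X i)
        rw [MvPolynomial.map_X, MvPolynomial.aeval_X]
    rw [map_smul]
    refine (congrArg (r • ·) (RingHom.congr_fun key p)).trans ?_
    show r • ((1 : R') ⊗ₜ[R] ψ p) = _
    rw [TensorProduct.smul_tmul', smul_eq_mul, mul_one]

variable [IsNoetherianRing R] [Module.Flat R A]

/-- Tor amplitude over the base, given a bound on the relative dualizing complexes over quotients of the base. -/
theorem ta_restrict (n : ℕ) (ψ : MvPolynomial (Fin n) R →ₐ[R] A) (hψ : Function.Surjective ψ)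
    [DRing.HasLBaseChange (algebraMap R (MvPolynomial (Fin n) R))]
    (Rψ : Dual.D (MvPolynomial (Fin n) R) ⥤ Dual.D A) (adj : DRing.restrictD ψ.toRingHom ⊣ Rψ) (a : ℤ)
    (hvan : ∀ (I : Ideal R) (ψ' : MvPolynomial (Fin n) (R ⧸ I) →ₐ[R ⧸ I] ((R ⧸ I) ⊗[R] A)),
      Function.Surjective ψ' → ∀ i : ℤ, i < a → Subsingleton (Dual.HD ((R ⧸ I) ⊗[R] A)
        (Dual2.shriekVia n (Shriek42.rightD ψ'.toRingHom) (Dual.inD (R ⧸ I) (R ⧸ I))) i)) :
    DRing.HasTorAmplitudeIn R a 0 ((DRing.restrictD (algebraMap R A)).obj (Dual2.shriekVia n Rψ (Dual.inD R R))) := by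
  have hac : Acyc (0 + 1) (Dual2.shriekVia n Rψ (Dual.inD R R)) := fun i hi =>
    (isZero_HF_iff _ i).2 (subsingleton_HD_pos n ψ hψ Rψ adj i (by omega))
  obtain ⟨Y, hYv, hY, ⟨eY⟩⟩ := rep_free_of_acyc hac
  have hYv' : DRing.VanishesAbove Y 0 := (vanishesAbove_iff Y 0).2 hYv
  have hYk : DRing.IsKFlat A Y := isKFlat_of_flat 0 hYv' fun j => flat_of_PR (proj_of_FR (hY j))
  let E := (DRing.restrictCx (algebraMap R A)).obj Y
  have hEfl : ∀ j, Module.Flat R (E.X j) := fun j => flat_restrictCx Y j (flat_of_PR (proj_of_FR (hY j)))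
  have hEk : DRing.IsKFlat R E := isKFlat_of_flat 0
    (fun j hj => (ModuleCat.restrictScalars _).map_isZero (hYv' j hj)) hEfl
  let eE : (QA R).obj E ≅ (DRing.restrictD (algebraMap R A)).obj (Dual2.shriekVia n Rψ (Dual.inD R R)) :=
    (restrictDIso (algebraMap R A) Y).symm ≪≫ (DRing.restrictD (algebraMap R A)).mapIso eY
  refine (ta_iff a 0 E hEk eE).2 ⟨fun i hi => ?_, fun M i hi => ?_⟩
  · refine IsZero.of_iso ((isZero_HF_Q_iff E i).2 ?_) ((HF R i).mapIso eE).symm
    exact (isZero_res_homology_iff (algebraMap R A) Y i).2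
      ((isZero_HF_Q_iff Y i).1 (IsZero.of_iso (hac i hi) ((HF A i).mapIso eY)))
  · refine (isZero_tensorCx_iff E M i).2 (exT_all_of_quotients E hEfl i (fun I => ?_) M)
    let R' := R ⧸ I
    obtain ⟨ψ', hψ'⟩ := exists_presentation_bc R' n ψ hψ
    obtain ⟨eb⟩ := shriek_baseChange R' n ψ hψ Rψ adj n ψ' hψ' _ (Shriek42.rightDAdj ψ'.toRingHom)
    let h := algebraMap A (R' ⊗[R] A)
    have h1 : IsZero ((extCx h Y).homology i) :=
      (isZero_HF_Q_iff _ i).1 (IsZero.of_iso ((isZero_HF_iff _ i).2 (hvan I ψ' hψ' i hi))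
        ((HF _ i).mapIso ((LBaseChangeIso h Y hYk).symm ≪≫ (DRing.LBaseChange h).mapIso eY ≪≫ eb)))
    haveI : Algebra.IsPushout R A R' (R' ⊗[R] A) := inferInstance
    haveI : Algebra.IsPushout R R' A (R' ⊗[R] A) := inferInstance
    let π := TorBC.piMap (TorBC.sq_of_tower (P := R) (P' := R') (A := A) (A' := R' ⊗[R] A)) Y
    haveI : ∀ j, IsIso (π.f j) := fun j => (isIso_iff_bijective _).2 (TorBC.piMap_bijective Y j)
    haveI : IsIso π := HomologicalComplex.Hom.isIso_of_components π
    have h2 : IsZero ((extCx (algebraMap R R') E).homology i) :=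
      IsZero.of_iso ((isZero_res_homology_iff (algebraMap R' (R' ⊗[R] A)) (extCx h Y) i).2 h1)
        (HomologicalComplex.homologyMapIso (asIso π) i)
    exact exT_of_equiv E i
      ({ toFun := fun x => (show R' from x)
         invFun := fun x => (show R' from x)
         map_add' := fun _ _ => rfl
         map_smul' := fun r x => (Algebra.smul_def r (show R' from x)).symm
         left_inv := fun _ => rfl
         right_inv := fun _ => rfl } :
        resM (algebraMap R R') (ModuleCat.of R' R') ≃ₗ[R] ModuleCat.of R (R ⧸ I))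
      (exT_of_ext (algebraMap R R') E i _ ((exT_self_iff _ i).2 h2))

end Groth.Agent.DR39.ShriekFlat
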