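import Groth.Agent.DR39.ShriekRelDual
import Mathlib.AlgebraicGeometry.Morphisms.Flat

/-! The upper shriek of an open immersion. -/

set_option autoImplicit false
set_option linter.style.haveILetI false
set_option linter.unusedSectionVars false
set_option backward.isDefEq.respectTransparency false

universe u

open CategoryTheory CategoryTheory.Limits MonoidalCategory AlgebraicGeometry
open scoped TensorProduct

attribute [local instance] HasDerivedCategory.standard Groth.Agent.Shriek42.hasLB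
  Groth.Agent.DTen43.hasLTen Groth.Agent.DTen43.hasLTen₃ Groth.Agent.DTen43.isSymMonoidal

namespace Groth.Agent.DR39.ShriekFlat

theorem flat_of_openImmersion {R R' : Type u} [CommRing R] [CommRing R'] [Algebra R R']
    (hopen : IsOpenImmersion (Spec.map (CommRingCat.ofHom (algebraMap R R')))) : Module.Flat R R' := by
  haveI : AlgebraicGeometry.Flat (Spec.map (CommRingCat.ofHom (algebraMap R R'))) := inferInstance
  exact RingHom.flat_algebraMap_iff.1 ((HasRingHomProperty.Spec_iff (P := @AlgebraicGeometry.Flat)).1 this)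

theorem bijective_lmul'_of_mono {R R' : Type u} [CommRing R] [CommRing R'] [Algebra R R']
    [Mono (Spec.map (CommRingCat.ofHom (algebraMap R R')))] :
    Function.Bijective (Algebra.TensorProduct.lmul' R (S := R')) := by
  let l : R' →+* R' ⊗[R] R' := Algebra.TensorProduct.includeLeftRingHom
  let r : R' →+* R' ⊗[R] R' := (Algebra.TensorProduct.includeRight : R' →ₐ[R] R' ⊗[R] R').toRingHom
  have hlr : CommRingCat.ofHom l = CommRingCat.ofHom r := by
    refine Spec.map_injective ((cancel_mono (Spec.map (CommRingCat.ofHom (algebraMap R R')))).1 ?_)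
    rw [← Spec.map_comp, ← Spec.map_comp]
    refine congrArg Spec.map (CommRingCat.hom_ext (RingHom.ext fun a => ?_))
    show algebraMap R R' a ⊗ₜ[R] (1 : R') = (1 : R') ⊗ₜ[R] algebraMap R R' a
    rw [Algebra.algebraMap_eq_smul_one, TensorProduct.smul_tmul]
  have hlr' : ∀ y : R', y ⊗ₜ[R] (1 : R') = (1 : R') ⊗ₜ[R] y := fun y =>
    RingHom.congr_fun (congrArg CommRingCat.Hom.hom hlr) y
  have key : ∀ z : R' ⊗[R] R', z = Algebra.TensorProduct.lmul' R (S := R') z ⊗ₜ[R] (1 : R') := fun z => by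
    induction z using TensorProduct.induction_on with
    | zero => simp
    | add a b ha hb => rw [map_add, TensorProduct.add_tmul, ← ha, ← hb]
    | tmul a b =>
      rw [Algebra.TensorProduct.lmul'_apply_tmul]
      calc a ⊗ₜ[R] b = (a ⊗ₜ[R] (1 : R')) * ((1 : R') ⊗ₜ[R] b) := by simp
        _ = (a ⊗ₜ[R] (1 : R')) * (b ⊗ₜ[R] (1 : R')) := by rw [hlr' b]
        _ = (a * b) ⊗ₜ[R] (1 : R') := by simp
  exact ⟨fun z w h => by rw [key z, key w, h], fun x => ⟨x ⊗ₜ[R] 1, by simp⟩⟩

theorem shriek_openImmersion {R R' : Type u} [CommRing R] [CommRing R'] [IsNoetherianRing R] [IsNoetherianRing R']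
    [Algebra R R'] (hopen : IsOpenImmersion (Spec.map (CommRingCat.ofHom (algebraMap R R')))) (n : ℕ)
    (ψ : MvPolynomial (Fin n) R →ₐ[R] R') (hψ : Function.Surjective ψ)
    [DRing.HasLBaseChange (algebraMap R (MvPolynomial (Fin n) R))]
    (Rψ : Dual.D (MvPolynomial (Fin n) R) ⥤ Dual.D R') (adj : DRing.restrictD ψ.toRingHom ⊣ Rψ)
    [DRing.HasLBaseChange (algebraMap R R')] (K : Dual.D R) :
    Nonempty (Dual2.shriekVia n Rψ K ≅ (DRing.LBaseChange (algebraMap R R')).obj K) := by
  haveI := flat_of_openImmersion hopen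
  haveI : Mono (Spec.map (CommRingCat.ofHom (algebraMap R R'))) := inferInstance
  let μ := (Algebra.TensorProduct.lmul' R (S := R')).toRingHom
  let σ : R' ⊗[R] R' ≃+* R' := RingEquiv.ofBijective μ bijective_lmul'_of_mono
  obtain ⟨-, ⟨eω⟩⟩ := isRelDualizing n ψ hψ Rψ adj (Shriek42.rightD μ) (Shriek42.rightDAdj μ)
  let adjI : DRing.restrictD (RingHom.id R') ⊣ 𝟭 (Dual.D R') :=
    (Adjunction.id).ofNatIsoLeft (Shriek42.restrictIdIso rfl).symm
  let adjJ : 𝟭 (Dual.D R') ⊣ DRing.restrictD (RingHom.id R') :=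
    (Adjunction.id).ofNatIsoRight (Shriek42.restrictIdIso rfl).symm
  let ω := Dual2.shriekVia n Rψ (Dual.inD R R)
  obtain ⟨e⟩ := Shriek42.shriek_iso σ (iT := (Algebra.TensorProduct.includeLeftRingHom : R' →+* R' ⊗[R] R'))
    (iT' := RingHom.id R') (RingHom.ext fun a => by simp [σ, μ, RingEquiv.ofBijective])
    (χ := μ) (χ' := RingHom.id R') (RingHom.ext fun a => rfl) (Shriek42.rightDAdj μ) adjI ω
  let eJ := (Shriek42.lbAdj (RingHom.id R')).leftAdjointUniq adjJ
  obtain ⟨t⟩ := shriek_iso_ten n ψ hψ Rψ adj K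
  let X := (DRing.LBaseChange (algebraMap R R')).obj K
  exact ⟨t ≪≫ (DTen.LTen₂ R').mapIso (Iso.prod ((eJ.app ω).symm ≪≫ e.symm ≪≫ eω) (Iso.refl X)) ≪≫ λ_ X⟩

end Groth.Agent.DR39.ShriekFlat
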