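import Groth.Agent.DR39.SkBasic
import Groth.Agent.EGA4H10.RkLocus
import Groth.Prelude.Def_EGA4b

/-!
Openness of the `(S_k)` locus; criteria for equidimensional supports.
-/

set_option autoImplicit false
set_option linter.style.haveILetI false
set_option linter.unusedSectionVars false
set_option maxHeartbeats 800000

noncomputable section

universe u

open CategoryTheory IsLocalRing
open Groth.Agent.LC16.DualAnn (mu mu_chain mu_mono exists_chain mu_spec mu_bound)

attribute [local instance] HasDerivedCategory.standard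

namespace Groth.Agent.DR39.Sk

variable {A : Type u} [CommRing A] {ω : Dual.D A} (hω : Dual.IsDualizing A ω)
variable (M : Type u) [AddCommGroup M] [Module A M] [Module.Finite A M]

include hω

theorem isOpen_hasSkAt (k : ℕ) : IsOpen {p : PrimeSpectrum A | EGA4.HasSkAt k A M p.asIdeal} := by
  classical
  haveI := hω.isNoetherianRing
  obtain ⟨lo, hi, hbd⟩ := mu_bound hω
  obtain ⟨N, hN⟩ := DR39.exists_dim_le hω
  let G : ℤ → Ideal A := fun j => LC17.gAnn ω (ModuleCat.of A M) j
  let W : Set ℤ := Set.Icc (lo - N) hi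
  let S : Set (PrimeSpectrum A) := ⋃ i ∈ W, ⋃ j ∈ W,
    {g | j < i ∧ g.asIdeal ∈ (G i ⊔ G j).minimalPrimes ∧
      ¬ (((k : ℤ) + i - j).toNat : WithBot ℕ∞) ≤
        Module.supportDim (Localization.AtPrime g.asIdeal) (LocalizedModule g.asIdeal.primeCompl M)}
  have hS : S.Finite := (Set.finite_Icc _ _).biUnion fun i _ => (Set.finite_Icc _ _).biUnion fun j _ => by
    refine Set.Finite.subset ?_ (fun g (hg : _ ∧ _ ∧ _) => hg.2.1)
    exact ((G i ⊔ G j).finite_minimalPrimes_of_isNoetherianRing).preimage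
      (fun a _ b _ h => PrimeSpectrum.ext h)
  -- the range of degrees
  have hW : ∀ (p : PrimeSpectrum A) (j : ℤ), G j ≤ p.asIdeal → j ∈ W := fun p j hj => by
    have hp := mem_support_of_gAnn_le hω M hj
    obtain ⟨dep, dm, -, hdm, -, -, hb⟩ := exists_dep_dim hω M hp
    have h1 := hb j hj
    have h2 := hbd p
    have hdN : dm ≤ N := by
      have h3 : Module.supportDim (Localization.AtPrime p.asIdeal) (LocalizedModule p.asIdeal.primeCompl M) ≤
          (N : WithBot ℕ∞) :=
        ((Module.supportDim_le_ringKrullDim _ _).trans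
          ((IsLocalization.AtPrime.ringKrullDim_eq_height p.asIdeal _).le.trans
            (Ideal.height_le_ringKrullDim_of_ne_top p.2.ne_top))).trans hN
      rw [hdm] at h3
      exact_mod_cast h3
    show lo - N ≤ j ∧ j ≤ hi
    omega
  convert EGA4H10.isOpen_of_upward S hS using 1
  ext p
  rw [Set.mem_setOf_eq, Set.mem_setOf_eq, EGA4H10.hasSkAt_iff]
  constructor
  · intro h g hg hgp
    simp only [S, Set.mem_iUnion, Set.mem_setOf_eq] at hg
    obtain ⟨i, -, j, -, hji, hmin, hfail⟩ := hg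
    exact hfail ((min_le_depth_iff hω M k g).1 (h g hgp) i j hji (le_sup_left.trans hmin.1.2)
      (le_sup_right.trans hmin.1.2))
  · intro h r hr
    rw [min_le_depth_iff hω M k r]
    intro i j hji hi' hj'
    obtain ⟨g, hg, hgr⟩ := Ideal.exists_minimalPrimes_le (I := G i ⊔ G j) (J := r.asIdeal) (sup_le hi' hj')
    haveI := hg.isPrime
    have hnotS : (⟨g, hg.isPrime⟩ : PrimeSpectrum A) ∉ S := fun hmem => h _ hmem (hgr.trans hr)
    have hgood : (((k : ℤ) + i - j).toNat : WithBot ℕ∞) ≤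
        Module.supportDim (Localization.AtPrime g) (LocalizedModule g.primeCompl M) := by
      by_contra hfail
      refine hnotS (Set.mem_iUnion₂.2 ⟨i, hW r i hi', Set.mem_iUnion₂.2 ⟨j, hW r j hj', hji, hg, hfail⟩⟩)
    -- dimensions grow along specialisation
    obtain ⟨dep₀, dm₀, -, hdm₀, -, hl₀, hb₀⟩ := exists_dep_dim hω M (p := ⟨g, hg.isPrime⟩)
      (mem_support_of_gAnn_le hω M (le_sup_left.trans hg.1.2))
    obtain ⟨dep₁, dm₁, -, hdm₁, -, -, hb₁⟩ := exists_dep_dim hω M (p := r)
      (mem_support_of_gAnn_le hω M hi')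
    refine hgood.trans ?_
    rw [hdm₀, hdm₁]
    have h1 := (hb₁ _ (hl₀.trans hgr)).1
    have h2 := mu_mono hω (show (⟨g, hg.isPrime⟩ : PrimeSpectrum A) ≤ r from hgr)
    exact_mod_cast (show dm₀ ≤ dm₁ by omega)

/-- The dimension function when all closed points have degree zero. -/
theorem ringKrullDim_quotient_eq (h : ∀ m : PrimeSpectrum A, m.asIdeal.IsMaximal → mu hω m = 0)
    (p : PrimeSpectrum A) :
    mu hω p ≤ 0 ∧ ringKrullDim (A ⧸ p.asIdeal) = ((-mu hω p).toNat : WithBot ℕ∞) := by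
  haveI := hω.isNoetherianRing
  obtain ⟨m, hm, hpm⟩ := Ideal.exists_le_maximal _ p.2.ne_top
  let m' : PrimeSpectrum A := ⟨m, hm.isPrime⟩
  have hpm' : p ≤ m' := hpm
  have hm0 := h m' hm
  refine ⟨hm0 ▸ mu_mono hω hpm', le_antisymm ?_ ?_⟩
  · rw [ringKrullDim_quotient]
    refine iSup_le fun l => ?_
    let f : PrimeSpectrum.zeroLocus (p.asIdeal : Set A) → PrimeSpectrum A := Subtype.val
    have hch := mu_chain hω (l.map f fun a b hab => hab)
    rw [LTSeries.head_map, LTSeries.last_map] at hch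
    simp only [LTSeries.map_length] at hch
    obtain ⟨n, hn, hln⟩ := Ideal.exists_le_maximal _ (f (RelSeries.last l)).2.ne_top
    have h1 := mu_mono hω (show f (RelSeries.last l) ≤ ⟨n, hn.isPrime⟩ from hln)
    rw [h ⟨n, hn.isPrime⟩ hn] at h1
    have h2 := mu_mono hω (show p ≤ f (RelSeries.head l) from (RelSeries.head l).2)
    exact_mod_cast (show l.length ≤ (-mu hω p).toNat by omega)
  · obtain ⟨l, hl0, hl1, hlen⟩ := exists_chain hω hpm'
    rw [ringKrullDim_quotient]
    let l' : LTSeries (PrimeSpectrum.zeroLocus (p.asIdeal : Set A)) :=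
      { length := l.length
        toFun := fun i => ⟨l i, (show p ≤ l i from hl0 ▸ LTSeries.head_le l i)⟩
        step := fun i => l.step i }
    refine le_trans ?_ (Order.LTSeries.length_le_krullDim l')
    exact_mod_cast (show (-mu hω p).toNat ≤ l.length by omega)

theorem mu_eq_zero_of_normalized {m : PrimeSpectrum A} [m.asIdeal.IsMaximal]
    (hn : ∀ i : ℤ, i ≠ 0 → Subsingleton (Dual.inD A (A ⧸ m.asIdeal) ⟶ ω⟦i⟧)) : mu hω m = 0 := by
  by_contra hne
  have := hn _ hne
  rw [DR39.subsingleton_gm_iff] at this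
  exact m.2.ne_top (top_le_iff.1 (this ▸ mu_spec hω m))

/-- `(S_k)` when all components have the same dimension. -/
theorem hasSk_iff_dim (h : ∀ m : PrimeSpectrum A, m.asIdeal.IsMaximal → mu hω m = 0) (δ : ℕ)
    (hmin : ∀ q : PrimeSpectrum A, q.asIdeal ∈ (Module.annihilator A M).minimalPrimes →
      ringKrullDim (A ⧸ q.asIdeal) = (δ : WithBot ℕ∞)) (k : ℕ) :
    (∀ j : ℤ, ∀ p : PrimeSpectrum A, LC17.gAnn ω (ModuleCat.of A M) j ≤ p.asIdeal → -(δ : ℤ) ≤ j) ∧
    (LocCoh.HasSk k A M ↔ ∀ j : ℤ, j ≠ -(δ : ℤ) → ∀ p : PrimeSpectrum A,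
      LC17.gAnn ω (ModuleCat.of A M) j ≤ p.asIdeal →
        (0 ≤ -j - (k : ℤ) ∧ ringKrullDim (A ⧸ p.asIdeal) ≤ ((-j - (k : ℤ)).toNat : WithBot ℕ∞))) := by
  haveI := hω.isNoetherianRing
  have hmin' : ∀ q : PrimeSpectrum A, q.asIdeal ∈ (Module.annihilator A M).minimalPrimes →
      mu hω q = -(δ : ℤ) := fun q hq => by
    obtain ⟨h1, h2⟩ := ringKrullDim_quotient_eq hω h q
    rw [hmin q hq] at h2
    have : δ = (-mu hω q).toNat := by exact_mod_cast h2
    omega
  have hdims : ∀ p : PrimeSpectrum A, p ∈ Module.support A M → ∃ dep dm : ℕ,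
      LocCoh.depth (Localization.AtPrime p.asIdeal) (LocalizedModule p.asIdeal.primeCompl M) = dep ∧
      Module.supportDim (Localization.AtPrime p.asIdeal) (LocalizedModule p.asIdeal.primeCompl M) = dm ∧
      LC17.gAnn ω (ModuleCat.of A M) (mu hω p - dep) ≤ p.asIdeal ∧
      mu hω p - dm = -(δ : ℤ) ∧
      ∀ j : ℤ, LC17.gAnn ω (ModuleCat.of A M) j ≤ p.asIdeal → -(δ : ℤ) ≤ j ∧ j ≤ mu hω p - dep := fun p hp => by
    obtain ⟨dep, dm, h1, h2, h3, -, h5⟩ := exists_dep_dim hω M hp
    obtain ⟨h6, h7⟩ := supportDim_eq_mu_sub hω M hmin' hp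
    rw [h2] at h7
    have h8 : dm = (mu hω p - -(δ : ℤ)).toNat := by exact_mod_cast h7
    have h9 : mu hω p - dm = -(δ : ℤ) := by omega
    exact ⟨dep, dm, h1, h2, h3, h9, fun j hj => h9 ▸ h5 j hj⟩
  refine ⟨fun j p hj => ?_, ?_⟩
  · obtain ⟨dep, dm, -, -, -, -, h5⟩ := hdims p (mem_support_of_gAnn_le hω M hj)
    exact (h5 j hj).1
  constructor
  · intro hS j hj p hjp
    have hp := mem_support_of_gAnn_le hω M hjp
    obtain ⟨dep, dm, h1, h2, -, h4, h5⟩ := hdims p hp
    have hSp := (EGA4H10.hasSk_iff_forall_at M k).1 hS p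
    rw [h1, h2] at hSp
    have hSp' : min k dm ≤ dep := by
      rw [← (Nat.mono_cast (α := WithBot ℕ∞)).map_min] at hSp
      exact_mod_cast hSp
    have := h5 j hjp
    obtain ⟨h6, h7⟩ := ringKrullDim_quotient_eq hω h p
    refine ⟨by omega, ?_⟩
    rw [h7]
    exact_mod_cast (show (-mu hω p).toNat ≤ (-j - (k : ℤ)).toNat by omega)
  · intro hE
    rw [EGA4H10.hasSk_iff_forall_at]
    intro p
    by_cases hp : p ∈ Module.support A M
    · obtain ⟨dep, dm, h1, h2, h3, h4, h5⟩ := hdims p hp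
      rw [h1, h2, ← (Nat.mono_cast (α := WithBot ℕ∞)).map_min]
      refine le_of_le_of_eq ?_ rfl
      exact_mod_cast (show min k dm ≤ dep by
        by_cases hlt : dep < dm
        · obtain ⟨h6, h7⟩ := hE (mu hω p - dep) (by omega) p h3
          obtain ⟨h8, h9⟩ := ringKrullDim_quotient_eq hω h p
          rw [h9] at h7
          have : (-mu hω p).toNat ≤ (-(mu hω p - dep) - (k : ℤ)).toNat := by exact_mod_cast h7
          omega
        · omega)
    · haveI : Subsingleton (LocalizedModule p.asIdeal.primeCompl M) := not_nontrivial_iff_subsingleton.1 hp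
      rw [(Module.supportDim_eq_bot_iff_subsingleton (R := Localization.AtPrime p.asIdeal)
        (M := LocalizedModule p.asIdeal.primeCompl M)).2 inferInstance]
      exact (min_le_right _ _).trans bot_le

omit hω in
/-- A bound on the dimension of a support. -/
theorem supportDim_le_iff' {A : Type u} [CommRing A] {H : Type*} [AddCommGroup H] [Module A H] (m : WithBot ℕ∞) :
    Module.supportDim A H ≤ m ↔ ∀ q ∈ Module.support A H, ringKrullDim (A ⧸ q.asIdeal) ≤ m := by
  refine ⟨fun h q hq => le_trans ?_ h, DR39.le_supportDim_quotient⟩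
  rw [ringKrullDim_quotient]
  refine Order.krullDim_le_of_strictMono (Set.inclusion ?_) fun a b hab => hab
  intro r hr
  exact Module.mem_support_mono (show q ≤ r from hr) hq

omit hω in
/-- The same for all exponents at once. -/
theorem cond_iff {A : Type u} [CommRing A] {H : Type*} [AddCommGroup H] [Module A H] (e : ℤ) :
    (∀ p ∈ Module.support A H, 0 ≤ e ∧ ringKrullDim (A ⧸ p.asIdeal) ≤ (e.toNat : WithBot ℕ∞)) ↔
      (e < 0 → Subsingleton H) ∧ (0 ≤ e → Module.supportDim A H ≤ (e.toNat : WithBot ℕ∞)) := by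
  rw [supportDim_le_iff', ← Module.support_eq_empty_iff (R := A)]
  refine ⟨fun h => ⟨fun he => Set.eq_empty_iff_forall_notMem.2 fun p hp => absurd (h p hp).1 (by omega),
    fun _ p hp => (h p hp).2⟩, fun h p hp => ?_⟩
  by_cases he : 0 ≤ e
  · exact ⟨he, h.2 he p hp⟩
  · exact absurd hp (by rw [h.1 (by omega)]; exact Set.notMem_empty p)

end Groth.Agent.DR39.Sk
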