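import Groth.Agent.LC16.DualAnn
import Groth.Agent.DR39.LocalDual3
import Groth.Agent.EGA4H10.SkLocus

/-!
Depth and dimension of localisations from the supports of `Ext^j(M, ω)`; the condition `(S_k)`.
-/

set_option autoImplicit false
set_option linter.style.haveILetI false
set_option linter.unusedSectionVars false
set_option maxHeartbeats 800000

noncomputable section

universe u

open CategoryTheory TensorProduct IsLocalRing
open Groth.Agent.LC16.DualAnn (mu mu_chain mu_mono exists_chain omegaAt locM locIso)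

attribute [local instance] HasDerivedCategory.standard

namespace Groth.Agent.DR39.Sk

variable {A : Type u} [CommRing A] {ω : Dual.D A} (hω : Dual.IsDualizing A ω)
variable (M : Type u) [AddCommGroup M] [Module A M] [Module.Finite A M]

include hω

theorem gAnn_le_iff (p : PrimeSpectrum A) (j : ℤ) :
    LC17.gAnn ω (ModuleCat.of A M) j ≤ p.asIdeal ↔
      Nontrivial (Dual.inD (Localization.AtPrime p.asIdeal) (LocalizedModule p.asIdeal.primeCompl M) ⟶
        (omegaAt hω p)⟦j - mu hω p⟧) := by
  haveI := hω.isNoetherianRing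
  rw [DR39.gAnn_le_iff_atPrime hω M j p.asIdeal, Ne, ← DR39.subsingleton_gm_iff,
    not_subsingleton_iff_nontrivial]
  let e₂ := (shiftFunctorAdd' (Dual.D (Localization.AtPrime p.asIdeal)) (mu hω p) (j - mu hω p) j
    (by omega)).app ((DR39.DF (DR39.extA A (Localization.AtPrime p.asIdeal))).obj ω)
  exact ((Iso.homToEquiv e₂).trans (Iso.homFromEquiv ((DerivedCategory.singleFunctor
    (ModuleCat.{u} (Localization.AtPrime p.asIdeal)) 0).mapIso (locIso p M)))).nontrivial_congr

/-- Depth and dimension at a prime of the support. -/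
theorem exists_dep_dim {p : PrimeSpectrum A} (hp : p ∈ Module.support A M) :
    ∃ dep dm : ℕ, LocCoh.depth (Localization.AtPrime p.asIdeal) (LocalizedModule p.asIdeal.primeCompl M) = dep ∧
      Module.supportDim (Localization.AtPrime p.asIdeal) (LocalizedModule p.asIdeal.primeCompl M) = dm ∧
      LC17.gAnn ω (ModuleCat.of A M) (mu hω p - dep) ≤ p.asIdeal ∧
      LC17.gAnn ω (ModuleCat.of A M) (mu hω p - dm) ≤ p.asIdeal ∧
      ∀ j : ℤ, LC17.gAnn ω (ModuleCat.of A M) j ≤ p.asIdeal → mu hω p - dm ≤ j ∧ j ≤ mu hω p - dep := by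
  haveI := hω.isNoetherianRing
  let B := Localization.AtPrime p.asIdeal
  let N := LocalizedModule p.asIdeal.primeCompl M
  haveI : IsNoetherianRing B := IsLocalization.isNoetherianRing p.asIdeal.primeCompl _ inferInstance
  haveI : Module.Finite B N :=
    Module.Finite.of_isLocalizedModule p.asIdeal.primeCompl (LocalizedModule.mkLinearMap p.asIdeal.primeCompl M)
  haveI : Nontrivial N := hp
  have hd := LC16.DualAnn.isDualizing_omegaAt hω p
  have hn := LC16.DualAnn.isNormalized_omegaAt hω p
  obtain ⟨dep, hdep⟩ := EGA4Alg4.exists_depth_eq (A := B) (M := N)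
  obtain ⟨dm, hdm⟩ := EGA4Alg4.exists_supportDim_eq (A := B) (M := N)
  obtain ⟨h1, h2⟩ := (DR39.depth_eq_iff hd hn N dep).1 hdep
  refine ⟨dep, dm, hdep, hdm, ?_, ?_, fun j hj => ?_⟩
  · rw [gAnn_le_iff hω M p, show mu hω p - (dep : ℤ) - mu hω p = -(dep : ℤ) by omega]
    exact h2
  · rw [gAnn_le_iff hω M p, show mu hω p - (dm : ℤ) - mu hω p = -(dm : ℤ) by omega]
    exact DR39.nontrivial_top hd hn N hdm
  · rw [gAnn_le_iff hω M p] at hj
    obtain ⟨h3, h4⟩ := DR39.bounds_of_nontrivial hd hn N hdm hj
    refine ⟨by omega, ?_⟩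
    by_contra hlt
    obtain ⟨δ, hδ⟩ : ∃ δ : ℕ, -(δ : ℤ) = j - mu hω p := ⟨(mu hω p - j).toNat, by omega⟩
    have := h1 δ (by omega)
    rw [hδ] at this
    exact (not_subsingleton_iff_nontrivial.2 hj) this

theorem mem_support_of_gAnn_le {p : PrimeSpectrum A} {j : ℤ}
    (h : LC17.gAnn ω (ModuleCat.of A M) j ≤ p.asIdeal) : p ∈ Module.support A M :=
  haveI := hω.isNoetherianRing
  DR39.mem_support_gm_subset hω M j h

/-- `(S_k)` at a single prime. -/
theorem min_le_depth_iff (k : ℕ) (p : PrimeSpectrum A) :
    min (k : WithBot ℕ∞) (Module.supportDim (Localization.AtPrime p.asIdeal) (LocalizedModule p.asIdeal.primeCompl M)) ≤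
        ((LocCoh.depth (Localization.AtPrime p.asIdeal) (LocalizedModule p.asIdeal.primeCompl M) : ℕ∞) : WithBot ℕ∞) ↔
      ∀ i j : ℤ, j < i → LC17.gAnn ω (ModuleCat.of A M) i ≤ p.asIdeal →
        LC17.gAnn ω (ModuleCat.of A M) j ≤ p.asIdeal →
        (((k : ℤ) + i - j).toNat : WithBot ℕ∞) ≤
          Module.supportDim (Localization.AtPrime p.asIdeal) (LocalizedModule p.asIdeal.primeCompl M) := by
  haveI := hω.isNoetherianRing
  by_cases hp : p ∈ Module.support A M
  · obtain ⟨dep, dm, hdep, hdm, h1, h2, h3⟩ := exists_dep_dim hω M hp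
    have hcast : min (k : WithBot ℕ∞) (dm : WithBot ℕ∞) = ((min k dm : ℕ) : WithBot ℕ∞) :=
      ((Nat.mono_cast (α := WithBot ℕ∞)).map_min).symm
    rw [hdep, hdm, hcast]
    constructor
    · intro h i j hji hi hj
      have hi' := h3 i hi
      have hj' := h3 j hj
      have h' : min k dm ≤ dep := by exact_mod_cast h
      exact_mod_cast (show ((k : ℤ) + i - j).toNat ≤ dm by omega)
    · intro h
      exact_mod_cast (show min k dm ≤ dep by
        by_cases hlt : dep < dm
        · have := h (mu hω p - dep) (mu hω p - dm) (by omega) h1 h2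
          have : ((k : ℤ) + (mu hω p - dep) - (mu hω p - dm)).toNat ≤ dm := by exact_mod_cast this
          omega
        · omega)
  · refine ⟨fun _ i j _ hi _ => absurd (mem_support_of_gAnn_le hω M hi) hp, fun _ => ?_⟩
    haveI : Subsingleton (LocalizedModule p.asIdeal.primeCompl M) :=
      not_nontrivial_iff_subsingleton.1 hp
    rw [(Module.supportDim_eq_bot_iff_subsingleton (R := Localization.AtPrime p.asIdeal)
      (M := LocalizedModule p.asIdeal.primeCompl M)).2 inferInstance]
    exact (min_le_right _ _).trans bot_le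

theorem hasSk_iff_gAnn (k : ℕ) :
    LocCoh.HasSk k A M ↔ ∀ (i j : ℤ), j < i → ∀ p : PrimeSpectrum A,
      LC17.gAnn ω (ModuleCat.of A M) i ≤ p.asIdeal → LC17.gAnn ω (ModuleCat.of A M) j ≤ p.asIdeal →
        (((k : ℤ) + i - j).toNat : WithBot ℕ∞) ≤
          Module.supportDim (Localization.AtPrime p.asIdeal) (LocalizedModule p.asIdeal.primeCompl M) := by
  haveI := hω.isNoetherianRing
  rw [EGA4H10.hasSk_iff_forall_at]
  exact ⟨fun h i j hji p => (min_le_depth_iff hω M k p).1 (h p) i j hji,
    fun h p => (min_le_depth_iff hω M k p).2 fun i j hji => h i j hji p⟩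

/-- Dimension and dimension function. -/
theorem supportDim_eq_mu_sub {c : ℤ}
    (hmin : ∀ q : PrimeSpectrum A, q.asIdeal ∈ (Module.annihilator A M).minimalPrimes → mu hω q = c)
    {p : PrimeSpectrum A} (hp : p ∈ Module.support A M) :
    c ≤ mu hω p ∧ Module.supportDim (Localization.AtPrime p.asIdeal) (LocalizedModule p.asIdeal.primeCompl M) =
      ((mu hω p - c).toNat : WithBot ℕ∞) := by
  haveI := hω.isNoetherianRing
  obtain ⟨dep, dm, -, hdm, -, hlow, hb⟩ := exists_dep_dim hω M hp
  -- upper bound by chains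
  have hup : ∀ r : PrimeSpectrum A, r ∈ Module.support A M → c ≤ mu hω r := fun r hr => by
    obtain ⟨Q, hQ, hQr⟩ := Ideal.exists_minimalPrimes_le (Module.mem_support_iff_of_finite.1 hr)
    rw [← hmin ⟨Q, hQ.isPrime⟩ hQ]
    exact mu_mono hω hQr
  have hdm_le : (dm : ℤ) ≤ mu hω p - c := by
    haveI : Nontrivial (LocalizedModule p.asIdeal.primeCompl M) := hp
    haveI : Nonempty (Module.support (Localization.AtPrime p.asIdeal) (LocalizedModule p.asIdeal.primeCompl M)) :=
      Set.nonempty_coe_sort.2 Module.nonempty_support_of_nontrivial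
    obtain ⟨l, hl⟩ := Order.le_krullDim_iff.1 (show ((dm : ℕ∞) : WithBot ℕ∞) ≤
      Order.krullDim (Module.support (Localization.AtPrime p.asIdeal) (LocalizedModule p.asIdeal.primeCompl M)) from hdm.ge)
    let f : Module.support (Localization.AtPrime p.asIdeal) (LocalizedModule p.asIdeal.primeCompl M) → PrimeSpectrum A :=
      fun P => PrimeSpectrum.comap (algebraMap A (Localization.AtPrime p.asIdeal)) P.1
    have hf : StrictMono f := fun P Q hPQ => by
      refine lt_of_le_not_ge (Ideal.comap_mono hPQ.le) fun h => hPQ.not_ge ?_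
      have := Ideal.map_mono (f := algebraMap A (Localization.AtPrime p.asIdeal))
        (show (f Q).asIdeal ≤ (f P).asIdeal from h)
      show Q.1.asIdeal ≤ P.1.asIdeal
      rwa [show (f Q).asIdeal.map (algebraMap A (Localization.AtPrime p.asIdeal)) = Q.1.asIdeal from
        IsLocalization.map_under p.asIdeal.primeCompl _ _,
        show (f P).asIdeal.map (algebraMap A (Localization.AtPrime p.asIdeal)) = P.1.asIdeal from
        IsLocalization.map_under p.asIdeal.primeCompl _ _] at this
    have hch := mu_chain hω (l.map f hf)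
    rw [LTSeries.head_map, LTSeries.last_map] at hch
    simp only [LTSeries.map_length] at hch
    have hhead : f (RelSeries.head l) ∈ Module.support A M := by
      refine Module.mem_support_iff_of_finite.2 fun a ha => ?_
      haveI : Module.Finite (Localization.AtPrime p.asIdeal) (LocalizedModule p.asIdeal.primeCompl M) :=
        Module.Finite.of_isLocalizedModule p.asIdeal.primeCompl (LocalizedModule.mkLinearMap p.asIdeal.primeCompl M)
      refine (Module.mem_support_iff_of_finite.1 (RelSeries.head l).2 :) ?_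
      rw [Module.mem_annihilator]
      intro z
      induction z using LocalizedModule.induction_on with | h y t => ?_
      rw [algebraMap_smul, LocalizedModule.smul'_mk, Module.mem_annihilator.1 ha y, LocalizedModule.zero_mk]
    have hlast : f (RelSeries.last l) ≤ p :=
      (Ideal.comap_mono (IsLocalRing.le_maximalIdeal (RelSeries.last l).1.2.ne_top)).trans
        (IsLocalization.AtPrime.under_maximalIdeal (Localization.AtPrime p.asIdeal) p.asIdeal).le
    have h1 := hup _ hhead
    have h2 := mu_mono hω hlast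
    omega
  refine ⟨hup p hp, ?_⟩
  -- lower bound at a minimal prime
  obtain ⟨Q, hQ, hQp⟩ := Ideal.exists_minimalPrimes_le (Module.mem_support_iff_of_finite.1 hp)
  let q : PrimeSpectrum A := ⟨Q, hQ.isPrime⟩
  obtain ⟨dep', dm', -, -, -, h2', -⟩ := exists_dep_dim hω M (p := q)
    (Module.mem_support_iff_of_finite.2 hQ.1.2)
  have hc := hmin q hQ
  have h5 := (hb _ (h2'.trans hQp)).1
  rw [hdm]
  exact_mod_cast congrArg (fun n : ℕ => n) (show dm = (mu hω p - c).toNat by omega)

omit [Module.Finite A M] in
/-- A bound on the dimension of a support. -/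
theorem supportDim_le_iff [Module.Finite A M] (m : WithBot ℕ∞) :
    Module.supportDim A M ≤ m ↔ ∀ q ∈ Module.support A M, ringKrullDim (A ⧸ q.asIdeal) ≤ m := by
  refine ⟨fun h q hq => le_trans ?_ h, DR39.le_supportDim_quotient⟩
  rw [ringKrullDim_quotient]
  refine Order.krullDim_le_of_strictMono (Set.inclusion ?_) fun a b hab => hab
  intro r hr
  exact Module.mem_support_mono (show q ≤ r from hr) hq

end Groth.Agent.DR39.Sk
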