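import Groth.Agent.DR39.LocalFibre2
import Groth.Agent.CAlg1.Regular
import Groth.Agent.CAlg1.FlatFibre
import Groth.Agent.FlatMor67.SmoothIsRegular

/-! Dualizing complexes along maps with regular fibres. -/

set_option autoImplicit false
set_option linter.style.haveILetI false
set_option linter.unusedSectionVars false
set_option backward.isDefEq.respectTransparency false

universe u

open CategoryTheory CategoryTheory.Limits CategoryTheory.Pretriangulated TensorProduct IsLocalRing

attribute [local instance] HasDerivedCategory.standard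

namespace Groth.Agent.DR39

variable {C : Type u} [CommRing C] [IsLocalRing C] [IsNoetherianRing C] {Y : Dual.D C}

/-- climb from an ideal with regular quotient to the maximal ideal -/
theorem resData_maximal (n : ℕ) : ∀ (J : Ideal C) (c : ℤ), IsRegularLocalRing (C ⧸ J) →
    ringKrullDim (C ⧸ J) = (n : ℕ∞) → ResData Y J c → ResData Y (maximalIdeal C) (c + n) := by
  induction n with
  | zero =>
    intro J c hreg hd h
    have hJ : J ≠ ⊤ := fun hJ => not_subsingleton (C ⧸ J) (Ideal.Quotient.subsingleton_iff.2 hJ)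
    have h0 := IsRegularLocalRing.spanFinrank_maximalIdeal (R := C ⧸ J)
    rw [hd] at h0
    have hm : maximalIdeal (C ⧸ J) = ⊥ :=
      (Submodule.spanFinrank_eq_zero_iff_eq_bot (maximalIdeal (C ⧸ J)).fg_of_isNoetherianRing).1 (by exact_mod_cast h0)
    have heq : J = maximalIdeal C := by
      refine le_antisymm (le_maximalIdeal hJ) fun x hx => Ideal.Quotient.eq_zero_iff_mem.1 ?_
      rw [← Ideal.mem_bot, ← hm, CAlg1.maximalIdeal_quotient]
      exact Ideal.mem_map_of_mem _ hx
    simpa using h.congr heq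
  | succ n ih =>
    intro J c hreg hd h
    have hne : ¬ maximalIdeal (C ⧸ J) ≤ maximalIdeal (C ⧸ J) ^ 2 := by
      intro hle
      have hm : maximalIdeal (C ⧸ J) = ⊥ := Submodule.eq_bot_of_le_smul_of_le_jacobson_bot _ _
        (maximalIdeal (C ⧸ J)).fg_of_isNoetherianRing (by simpa [pow_two] using hle) (maximalIdeal_le_jacobson _)
      have h0 := IsRegularLocalRing.spanFinrank_maximalIdeal (R := C ⧸ J)
      rw [hm, Submodule.spanFinrank_bot, hd] at h0
      exact absurd (show (0 : ℕ) = n + 1 by exact_mod_cast h0) (by omega)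
    obtain ⟨x, hx, hx2⟩ := SetLike.not_le_iff_exists.1 hne
    obtain ⟨x, rfl⟩ := Ideal.Quotient.mk_surjective x
    obtain ⟨hreg', hdim⟩ := CAlg1.regular_quotient_singleton hx hx2
    haveI := CAlg1.isDomain_regular (C ⧸ J)
    have hx0 : Ideal.Quotient.mk J x ≠ 0 := fun h0 => hx2 (h0 ▸ zero_mem _)
    have hstep := h.step (x := x) fun y hy => Ideal.Quotient.eq_zero_iff_mem.1
      ((mul_eq_zero.1 (((map_mul _ x y).symm).trans (Ideal.Quotient.eq_zero_iff_mem.2 hy))).resolve_left hx0)
    let e : ((C ⧸ J) ⧸ Ideal.span {Ideal.Quotient.mk J x}) ≃+* C ⧸ (J ⊔ Ideal.span {x}) :=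
      (Ideal.quotEquivOfEq (by rw [Ideal.map_span, Set.image_singleton])).trans (DoubleQuot.quotQuotEquivQuotSup J (Ideal.span {x}))
    have hd' : ringKrullDim (C ⧸ (J ⊔ Ideal.span {x})) = (n : ℕ∞) := by
      rw [← ringKrullDim_eq_of_ringEquiv e]
      have hs := IsRegularLocalRing.spanFinrank_maximalIdeal
        (R := (C ⧸ J) ⧸ Ideal.span {Ideal.Quotient.mk J x})
      rw [hd, ← hs] at hdim
      rw [← hs]
      norm_cast at hdim ⊢
      omega
    have := ih _ _ (IsRegularLocalRing.of_ringEquiv e) hd' hstep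
    rwa [show c + 1 + (n : ℤ) = c + (n + 1 : ℕ) by omega] at this

section Regular

theorem regular_fibre_local {A B : Type u} [CommRing A] [CommRing B] [Algebra A B]
    (hfib : ∀ (p : Ideal A) [p.IsPrime], IsRegularRing (p.Fiber B)) (p : Ideal A) [p.IsPrime]
    (Q : Ideal (p.Fiber B)) [Q.IsPrime] (P : Ideal B) [P.IsPrime]
    (hQP : Q.comap (Algebra.TensorProduct.includeRight : B →ₐ[A] p.Fiber B) = P) (hp : p = P.under A) :
    IsRegularLocalRing (Localization.AtPrime P ⧸ p.map (algebraMap A (Localization.AtPrime P))) := by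
  subst hQP
  set P := Q.comap (Algebra.TensorProduct.includeRight : B →ₐ[A] p.Fiber B)
  haveI : P.LiesOver p := ⟨hp⟩
  let := Localization.AtPrime.algebraOfLiesOver p P
  haveI := hfib p
  haveI : IsRegularLocalRing (Localization.AtPrime Q) := IsRegularRing.isRegularLocalRing_localization Q
  exact IsRegularLocalRing.of_ringEquiv (R := Localization.AtPrime Q)
    (Ideal.Fiber.localizationAlgEquivQuotient p Q).toRingEquiv

variable {A : Type u} [CommRing A] {ω : Dual.D A} (hω : Dual.IsDualizing A ω)
  (B : Type u) [CommRing B] [Algebra A B] [Module.Flat A B] [IsNoetherianRing B]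
include hω

theorem isDualizing_of_regular_fibres {N : ℕ} (hdimB : ringKrullDim B ≤ (N : ℕ∞))
    (hfib : ∀ (p : Ideal A) [p.IsPrime], IsRegularRing (p.Fiber B)) :
    Dual.IsDualizing B ((DF (extA A B)).obj ω) := by
  haveI := hω.isNoetherianRing
  obtain ⟨a, ha⟩ := exists_low_DF hω B
  obtain ⟨a', b, hab, hid⟩ := exists_bounds hω
  refine isDualizing_of_local_residues (finite_DF hω B) (b := b + N) ha fun P hP => ?_
  obtain ⟨Q, hQ, hQP⟩ := CAlg1.exists_fibre_prime (R := A) P
  set p := P.under A with hp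
  let C := Localization.AtPrime P
  haveI : IsNoetherianRing C := IsLocalization.isNoetherianRing P.primeCompl _ inferInstance
  haveI : Module.Flat B C := IsLocalization.flat C P.primeCompl
  haveI : Module.Flat A C := Module.Flat.trans A B C
  obtain ⟨d, hd, hR⟩ := exists_resData_flat hω C p fun s hsp => by
    rw [IsScalarTower.algebraMap_apply A B C]
    exact IsLocalization.map_units C (⟨algebraMap A B s, hsp⟩ : P.primeCompl)
  have hdb : d ≤ b := by
    by_contra h
    have h0 := subsingleton_gm_iff.1 (hid (A ⧸ p) d (Or.inr (by omega)))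
    exact (inferInstance : p.IsPrime).ne_top (top_le_iff.1 (h0 ▸ hd))
  haveI hreg : IsRegularLocalRing (C ⧸ p.map (algebraMap A C)) := regular_fibre_local hfib p Q P hQP hp
  have hle : ringKrullDim (C ⧸ p.map (algebraMap A C)) ≤ (N : ℕ∞) := by
    refine ((ringKrullDim_quotient_le _).trans ?_).trans hdimB
    rw [IsLocalization.AtPrime.ringKrullDim_eq_height P C]
    exact Ideal.height_le_ringKrullDim_of_ne_top hP.ne_top
  obtain ⟨n, hn⟩ : ∃ n : ℕ, ringKrullDim (C ⧸ p.map (algebraMap A C)) = (n : ℕ∞) :=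
    ⟨_, (IsRegularLocalRing.spanFinrank_maximalIdeal (R := C ⧸ p.map (algebraMap A C))).symm⟩
  have hnN : n ≤ N := by rw [hn] at hle; exact_mod_cast hle
  obtain ⟨hv, ⟨he⟩⟩ := resData_maximal n _ d hreg hn hR
  obtain ⟨e⟩ := DF_comp B C ω
  refine ⟨d + n, by omega, fun i hi => @Equiv.subsingleton _ _
    (Iso.homToEquiv ((CategoryTheory.shiftFunctor (Dual.D C) i).mapIso e)) (hv i hi),
    ⟨(CategoryTheory.Linear.homCongr C (Iso.refl _)
      ((CategoryTheory.shiftFunctor (Dual.D C) (d + n)).mapIso e)).trans he⟩⟩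

theorem isDualizing_smooth [Algebra.Smooth A B] : Dual.IsDualizing B ((DF (extA A B)).obj ω) := by
  haveI := hω.isNoetherianRing
  obtain ⟨m, f, hf⟩ := Algebra.FiniteType.iff_quotient_mvPolynomial''.1 (inferInstance : Algebra.FiniteType A B)
  obtain ⟨k, hk⟩ := exists_dim_le hω
  refine isDualizing_of_regular_fibres hω B (N := k + m) ?_ fun p _ => FlatMor67.isRegularRing_of_smooth p.ResidueField _
  refine (ringKrullDim_le_of_surjective f.toRingHom hf).trans ?_
  rw [MvPolynomial.ringKrullDim_of_isNoetherianRing]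
  simp only [Nat.card_eq_fintype_card, Fintype.card_fin]
  push_cast
  exact add_le_add_left hk _

end Regular

end Groth.Agent.DR39
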