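import Groth.Agent.DR39.SmoothBC
import Groth.Agent.DR39.PointwiseInj
import Groth.Agent.CAlgH2.LocalDimField
import Groth.Agent.CAlg1.SmoothKaehlerDim
import Groth.Agent.CAlg7.EtaleOfRank
import Groth.Agent.Var76.KaehlerFibre
import Groth.Prelude.Def_FlatCA

/-! The codimension function of a dualizing complex along smooth maps. -/

set_option autoImplicit false
set_option linter.style.haveILetI false
set_option linter.unusedSectionVars false
set_option backward.isDefEq.respectTransparency false

universe u

open CategoryTheory CategoryTheory.Limits CategoryTheory.Pretriangulated TensorProduct IsLocalRing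

attribute [local instance] HasDerivedCategory.standard

namespace Groth.Agent.DR39

section Fibre

variable {A B : Type u} [CommRing A] [CommRing B] [Algebra A B]

theorem residueField_fibre_bijective (p : Ideal A) [p.IsPrime] (q : Ideal B) [q.IsPrime]
    (Q : Ideal (p.Fiber B)) [Q.IsPrime]
    (h : q = Q.comap (Algebra.TensorProduct.includeRight : B →ₐ[A] p.Fiber B).toRingHom) :
    Function.Bijective (Ideal.ResidueField.map q Q
      (Algebra.TensorProduct.includeRight : B →ₐ[A] p.Fiber B).toRingHom h) := by
  set f := Ideal.ResidueField.map q Q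
    (Algebra.TensorProduct.includeRight : B →ₐ[A] p.Fiber B).toRingHom h
  refine ⟨f.injective, ?_⟩
  have hmem : ∀ x : p.Fiber B, algebraMap (p.Fiber B) Q.ResidueField x ∈ f.fieldRange := fun x => by
    obtain ⟨r, hr, s, e⟩ := Ideal.Fiber.exists_smul_eq_one_tmul p x
    have h1 : algebraMap (p.Fiber B) Q.ResidueField (1 ⊗ₜ[A] s) ∈ f.fieldRange :=
      ⟨algebraMap B q.ResidueField s, Ideal.ResidueField.map_algebraMap _ _ _ _ s⟩
    have h2 : algebraMap (p.Fiber B) Q.ResidueField (algebraMap A (p.Fiber B) r) ∈ f.fieldRange := by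
      refine ⟨algebraMap B q.ResidueField (algebraMap A B r), ?_⟩
      rw [Ideal.ResidueField.map_algebraMap, AlgHom.toRingHom_eq_coe]
      congr 1
      exact AlgHom.commutes (Algebra.TensorProduct.includeRight : B →ₐ[A] p.Fiber B) r
    have h3 : algebraMap (p.Fiber B) Q.ResidueField (algebraMap A (p.Fiber B) r) ≠ 0 := by
      rw [Ne, Ideal.algebraMap_residueField_eq_zero]
      intro hQ
      apply hr
      rw [Ideal.over_def Q p]
      exact hQ
    rw [← e, Algebra.smul_def, map_mul] at h1
    have := f.fieldRange.mul_mem (f.fieldRange.inv_mem h2) h1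
    rwa [← mul_assoc, inv_mul_cancel₀ h3, one_mul] at this
  intro y
  obtain ⟨a, b, -, rfl⟩ := IsFractionRing.div_surjective (A := p.Fiber B ⧸ Q) y
  obtain ⟨a, rfl⟩ := Ideal.Quotient.mk_surjective a
  obtain ⟨b, rfl⟩ := Ideal.Quotient.mk_surjective b
  rw [Ideal.algebraMap_quotient_residueField_mk, Ideal.algebraMap_quotient_residueField_mk]
  exact f.fieldRange.div_mem (hmem a) (hmem b)

theorem trdeg_fibre_residueField (p : Ideal A) [p.IsPrime] (q : Ideal B) [q.IsPrime]
    (Q : Ideal (p.Fiber B)) [Q.IsPrime]
    (h : q = Q.comap (Algebra.TensorProduct.includeRight : B →ₐ[A] p.Fiber B).toRingHom)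
    (hp : p = q.comap (algebraMap A B)) :
    @Algebra.trdeg p.ResidueField q.ResidueField _ _
      (Ideal.ResidueField.mapₐ p q (Algebra.ofId A B) hp).toRingHom.toAlgebra =
        @Algebra.trdeg p.ResidueField Q.ResidueField _ _
          (IsLocalRing.ResidueField.algebra (R := Localization.AtPrime Q) (R₀ := p.ResidueField)) := by
  letI : Algebra p.ResidueField Q.ResidueField :=
    IsLocalRing.ResidueField.algebra (R := Localization.AtPrime Q) (R₀ := p.ResidueField)
  letI := (Ideal.ResidueField.mapₐ p q (Algebra.ofId A B) hp).toRingHom.toAlgebra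
  let f := Ideal.ResidueField.map q Q
    (Algebra.TensorProduct.includeRight : B →ₐ[A] p.Fiber B).toRingHom h
  let fa : q.ResidueField →ₐ[p.ResidueField] Q.ResidueField :=
    { __ := f
      commutes' := fun x => by
        refine RingHom.congr_fun
          (Ideal.ResidueField.ringHom_ext (f := f.comp (algebraMap p.ResidueField q.ResidueField))
            (g := algebraMap p.ResidueField Q.ResidueField) ?_) x
        ext a
        show f (Ideal.ResidueField.map p q _ hp (algebraMap A p.ResidueField a)) =
          algebraMap p.ResidueField Q.ResidueField (algebraMap A p.ResidueField a)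
        rw [Ideal.ResidueField.map_algebraMap]
        show f (algebraMap B q.ResidueField (algebraMap A B a)) = _
        rw [Ideal.ResidueField.map_algebraMap]
        show _ = algebraMap (p.Fiber B) Q.ResidueField (algebraMap p.ResidueField (p.Fiber B) (algebraMap A p.ResidueField a))
        congr 1
        exact (AlgHom.commutes (Algebra.TensorProduct.includeRight : B →ₐ[A] p.Fiber B) a).trans
          (IsScalarTower.algebraMap_apply A p.ResidueField (p.Fiber B) a) }
  exact (AlgEquiv.ofBijective fa (residueField_fibre_bijective p q Q h)).trdeg_eq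

attribute [local instance] Algebra.TensorProduct.rightAlgebra in
theorem dimAt_fibre_smooth [Algebra.Smooth A B] {n : ℕ}
    (h : RingHom.Locally (RingHom.IsStandardSmoothOfRelativeDimension n) (algebraMap A B))
    (p : Ideal A) [p.IsPrime] (Q : Ideal (p.Fiber B)) [Q.IsPrime] :
    CAlgH2.dimAt p.ResidueField Q = n := by
  let k := p.ResidueField
  let F := p.Fiber B
  haveI : Algebra.EssFiniteType A B := inferInstance
  have hΩ : ∀ P : PrimeSpectrum F, Module.rankAtStalk (Ω[F⁄k]) P = n := fun P => by
    rw [← Module.rankAtStalk_eq_of_equiv (KaehlerDifferential.tensorKaehlerEquiv A k B F),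
      Module.rankAtStalk_baseChange, CAlg7.rankAtStalk_kaehler_of_locally h]
  have hfr : ∀ (P : Ideal F) [P.IsPrime],
      Module.finrank P.ResidueField (P.ResidueField ⊗[F] Ω[F⁄k]) = n := fun P hP => by
    have := Module.rankAtStalk_eq (M := Ω[F⁄k]) ⟨P, hP⟩
    rw [hΩ] at this
    exact this.symm
  haveI : Algebra.Smooth k F := inferInstance
  haveI : Algebra.IsSmoothAt k Q := Algebra.FormallySmooth.comp k F _
  refine le_antisymm ?_ ((hfr Q).ge.trans (CAlg1.le_dimAt_of_isSmoothAt (k := k) Q))
  refine CAlgH2.dimAt_le k fun P hP hPQ => ?_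
  haveI := hP.1.1
  haveI : Algebra.FiniteType k (F ⧸ P) :=
    Algebra.FiniteType.of_surjective (Ideal.Quotient.mkₐ k P) Ideal.Quotient.mk_surjective
  have hle := Var76.KaehlerFibre.ringKrullDim_quotient_le_finrank k F P P le_rfl
  rw [hfr P, E4O.ringKrullDim_eq_trdeg k] at hle
  exact Nat.cast_le.1 hle

theorem ringKrullDim_fibre_local (p : Ideal A) [p.IsPrime] (Q : Ideal (p.Fiber B)) [Q.IsPrime]
    (P : Ideal B) [P.IsPrime]
    (hQP : Q.comap (Algebra.TensorProduct.includeRight : B →ₐ[A] p.Fiber B) = P) (hp : p = P.under A) :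
    ringKrullDim (Localization.AtPrime P ⧸ p.map (algebraMap A (Localization.AtPrime P))) = Q.height := by
  subst hQP
  set P := Q.comap (Algebra.TensorProduct.includeRight : B →ₐ[A] p.Fiber B)
  haveI : P.LiesOver p := ⟨hp⟩
  let := Localization.AtPrime.algebraOfLiesOver p P
  rw [← ringKrullDim_eq_of_ringEquiv (Ideal.Fiber.localizationAlgEquivQuotient p Q).toRingEquiv,
    IsLocalization.AtPrime.ringKrullDim_eq_height Q (Localization.AtPrime Q)]

end Fibre

theorem nontrivial_smooth_codim {A B : Type u} [CommRing A] [CommRing B] [Algebra A B] {n : ℕ}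
    (hs : FlatCA.SmoothRelDim n A B) {ω : Dual.D A} (hω : Dual.IsDualizing A ω) (p : Ideal A)
    [p.IsPrime] (q : Ideal B) [q.IsPrime] [Module.Flat A (Localization.AtPrime q)]
    (hp : p = q.comap (algebraMap A B)) {d : ℤ}
    (hd : Nontrivial (Dual.inD (Localization.AtPrime p) p.ResidueField ⟶
      ((DF (extA A (Localization.AtPrime p))).obj ω)⟦d⟧)) {t : ℕ}
    (ht : @Algebra.trdeg p.ResidueField q.ResidueField _ _
      (Ideal.ResidueField.mapₐ p q (Algebra.ofId A B) hp).toRingHom.toAlgebra = (t : Cardinal.{u})) :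
    Nontrivial (Dual.inD (Localization.AtPrime q) q.ResidueField ⟶
      ((DF (extA A (Localization.AtPrime q))).obj ω)⟦(d - (t : ℤ) + (n : ℤ))⟧) := by
  haveI := hω.isNoetherianRing
  have hloc : RingHom.Locally (RingHom.IsStandardSmoothOfRelativeDimension n) (algebraMap A B) :=
    (AlgebraicGeometry.HasRingHomProperty.Spec_iff
      (P := @AlgebraicGeometry.SmoothOfRelativeDimension n)).1 hs
  haveI : Algebra.Smooth A B := by
    have h := (AlgebraicGeometry.HasRingHomProperty.Spec_iff (P := @AlgebraicGeometry.Smooth)).1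
      (@AlgebraicGeometry.SmoothOfRelativeDimension.smooth n _ _ _ hs)
    exact RingHom.smooth_algebraMap.1 h
  haveI : IsNoetherianRing B := Algebra.FiniteType.isNoetherianRing A B
  obtain ⟨Q, hQ, hQP⟩ : ∃ (Q : Ideal (p.Fiber B)) (_ : Q.IsPrime),
      Q.comap (Algebra.TensorProduct.includeRight : B →ₐ[A] p.Fiber B) = q := by
    subst hp
    exact CAlg1.exists_fibre_prime (R := A) q
  let C := Localization.AtPrime q
  haveI : IsNoetherianRing C := IsLocalization.isNoetherianRing q.primeCompl _ inferInstance
  haveI : Module.Flat B C := IsLocalization.flat C q.primeCompl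
  obtain ⟨d₀, hd₀, hR⟩ := exists_resData_flat hω C p fun s hsp => by
    rw [IsScalarTower.algebraMap_apply A B C]
    exact IsLocalization.map_units C
      (⟨algebraMap A B s, fun h => hsp (hp ▸ h)⟩ : q.primeCompl)
  haveI : IsNoetherianRing (Localization.AtPrime p) :=
    IsLocalization.isNoetherianRing p.primeCompl _ inferInstance
  obtain rfl : d = d₀ := by
    refine mu_unique hω p ((mu_iff_atPrime hω p d).2 ?_) hd₀
    refine le_maximalIdeal fun htop => ?_
    exact not_subsingleton_iff_nontrivial.2 hd (subsingleton_gm_iff.2 htop)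
  -- the fibre
  have hn := dimAt_fibre_smooth hloc p Q
  have hq : q = Q.comap (Algebra.TensorProduct.includeRight : B →ₐ[A] p.Fiber B).toRingHom := hQP.symm
  rw [trdeg_fibre_residueField p q Q hq hp] at ht
  replace ht := (CAlgH2.trdeg_residueField p.ResidueField Q).symm.trans ht
  have hht := CAlgH2.height_add_trdegQuot_eq_dimAt p.ResidueField Q
  rw [hn, CAlgH2.trdegQuot, ht, Cardinal.toNat_natCast] at hht
  have hh : Q.height = ((n - t : ℕ) : ℕ∞) ∧ t ≤ n := by
    generalize Q.height = h at hht
    cases h with
    | top => simp at hht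
    | coe h =>
      have : h + t = n := by exact_mod_cast hht
      exact ⟨by exact_mod_cast (by omega : h = n - t), by omega⟩
  have hdim : ringKrullDim (C ⧸ p.map (algebraMap A C)) = ((n - t : ℕ) : ℕ∞) := by
    rw [ringKrullDim_fibre_local p Q q hQP hp, hh.1]
  have hreg : IsRegularLocalRing (C ⧸ p.map (algebraMap A C)) :=
    regular_fibre_local (fun p _ => FlatMor67.isRegularRing_of_smooth p.ResidueField _) p Q q hQP hp
  obtain ⟨-, ⟨e⟩⟩ := resData_maximal (n - t) _ d hreg hdim hR
  rw [show d - (t : ℤ) + (n : ℤ) = d + ((n - t : ℕ) : ℤ) by omega]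
  exact (e.toEquiv.nontrivial_congr).2
    (Ideal.Quotient.nontrivial_iff.2 (maximalIdeal.isMaximal C).ne_top)

end Groth.Agent.DR39
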