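import Groth.Agent.DR39.Amp
import Mathlib.Algebra.Category.ModuleCat.EnoughInjectives

/-! Splitting off the part above a degree. -/

set_option autoImplicit false
set_option linter.style.haveILetI false
set_option linter.unusedSectionVars false

universe u

open CategoryTheory CategoryTheory.Limits CategoryTheory.Pretriangulated

attribute [local instance] HasDerivedCategory.standard

namespace Groth.Agent.DR39

variable {A : Type u} [CommRing A]

/-- The canonical t-structure. -/
noncomputable abbrev tA (A : Type u) [CommRing A] : Triangulated.TStructure (Dual.D A) :=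
  DerivedCategory.TStructure.t

theorem isZero_HF_truncGE_low (K : Dual.D A) (n i : ℤ) (hi : i < n) :
    IsZero ((HF A i).obj (((tA A).truncGE n).obj K)) :=
  DerivedCategory.isZero_of_isGE _ n i hi

theorem isIso_HF_truncGEπ (K : Dual.D A) (n i : ℤ) (hi : n ≤ i) :
    IsIso ((HF A i).map (((tA A).truncGEπ n).app K)) := by
  let T := ((tA A).triangleLTGE n).obj K
  have hT : T ∈ distinguishedTriangles := (tA A).triangleLTGE_distinguished n K
  haveI hLE : T.obj₁.IsLE (n - 1) := inferInstanceAs ((tA A).IsLE _ (n - 1))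
  change IsIso ((HF A i).map T.mor₂)
  haveI : Mono ((HF A i).map T.mor₂) := (DerivedCategory.HomologySequence.mono_homologyMap_mor₂_iff T hT i).2
    ((T.obj₁.isZero_of_isLE (n - 1) i (by omega)).eq_of_src _ _)
  haveI : Epi ((HF A i).map T.mor₂) :=
    (DerivedCategory.HomologySequence.epi_homologyMap_mor₂_iff T hT i (i + 1) rfl).2
      ((T.obj₁.isZero_of_isLE (n - 1) (i + 1) (by omega)).eq_of_tgt _ _)
  exact isIso_of_mono_of_epi _

theorem acyc_truncGE {K : Dual.D A} {b : ℤ} (h : Acyc (b + 1) K) (n : ℤ) :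
    Acyc (b + 1) (((tA A).truncGE n).obj K) := fun i hi => by
  by_cases hn : n ≤ i
  · haveI := isIso_HF_truncGEπ K n i hn
    exact (h i hi).of_iso (asIso ((HF A i).map (((tA A).truncGEπ n).app K))).symm
  · exact isZero_HF_truncGE_low K n i (by omega)

theorem isLE_truncLT (K : Dual.D A) (n : ℤ) : (tA A).IsLE (((tA A).truncLT n).obj K) (n - 1) :=
  inferInstance

theorem eq_zero_of_truncGEπ_comp (K : Dual.D A) (a : ℤ) (N : ModuleCat.{u} A)
    (f : ((tA A).truncGE (a + 1)).obj K ⟶ sngl a N)
    (hf : ((tA A).truncGEπ (a + 1)).app K ≫ f = 0) : f = 0 := by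
  let T := ((tA A).triangleLTGE (a + 1)).obj K
  have hT : T ∈ distinguishedTriangles := (tA A).triangleLTGE_distinguished (a + 1) K
  obtain ⟨g, hg⟩ := Triangle.yoneda_exact₃ T hT f hf
  haveI h1 : (tA A).IsLE T.obj₁ a := by
    have := isLE_truncLT K (a + 1)
    rwa [show a + 1 - 1 = a by omega] at this
  have hle : (tA A).IsLE (T.obj₁⟦(1 : ℤ)⟧) (a - 1) := (tA A).isLE_shift _ a 1 (a - 1) (by omega)
  have hg0 : g = 0 := (tA A).zero_of_isLE_of_isGE g (a - 1) a (by omega) hle
    (inferInstanceAs ((sngl a N).IsGE a))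
  exact hg.trans (by rw [hg0]; exact comp_zero)

theorem rep_PR_truncGE {K : Dual.D A} {a b : ℤ} (hb : Acyc (b + 1) K)
    (h : ExtVanish (((tA A).truncGE (a + 1)).obj K) a) :
    Rep PRp (Set.Icc (a + 1) (max b a)) (((tA A).truncGE (a + 1)).obj K) := by
  refine rep_PR_of_extVanish ((acyc_truncGE hb _).mono (by omega))
    (fun i hi => isZero_HF_truncGE_low K _ i (by omega)) ?_
  rwa [show a + 1 - 1 = a by omega]

/-- The naturality of the shift identification. -/
theorem singleShiftIso_naturality {M N : ModuleCat.{u} A} (g : M ⟶ N) (n k : ℤ) (h : n + k = 0) :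
    ((DerivedCategory.singleFunctor (ModuleCat.{u} A) 0).map g)⟦k⟧' ≫ (singleShiftIso N n k h).hom =
      (singleShiftIso M n k h).hom ≫ (DerivedCategory.singleFunctor (ModuleCat.{u} A) n).map g :=
  ((DerivedCategory.singleFunctors (ModuleCat.{u} A)).shiftIso k n 0 (by omega)).hom.naturality g

theorem extVanish_truncGE_of_mono {K : Dual.D A} {a : ℤ}
    (h : ∀ (M M' : ModuleCat.{u} A) (g : M ⟶ M'), Mono g → ∀ x : K ⟶ sngl a M,
      x ≫ (DerivedCategory.singleFunctor (ModuleCat.{u} A) a).map g = 0 → x = 0) :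
    ExtVanish (((tA A).truncGE (a + 1)).obj K) a := by
  intro N f
  refine eq_zero_of_truncGEπ_comp K a N f ?_
  refine h N (Injective.under N) (Injective.ι N) inferInstance _ ?_
  rw [Category.assoc, hom_single_injective_eq_zero (isZero_HF_truncGE_low K (a + 1) a (by omega)) _
    (f ≫ (DerivedCategory.singleFunctor (ModuleCat.{u} A) a).map (Injective.ι N)), comp_zero]

theorem extVanish_truncGE {K : Dual.D A} {a : ℤ} (h : ExtVanish K a) :
    ExtVanish (((tA A).truncGE (a + 1)).obj K) a :=
  fun N f => eq_zero_of_truncGEπ_comp K a N f (h N _)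

/-- A distinguished triangle with third term of high projective amplitude splits. -/
theorem split_of_rep_PR {T : Triangle (Dual.D A)} (hT : T ∈ distinguishedTriangles) {a b : ℤ}
    (h : Rep PRp (Set.Icc (a + 1) b) T.obj₃) (h1 : Acyc (a + 2) T.obj₁)
    [HasBinaryBiproduct T.obj₁ T.obj₃] :
    ∃ e : T.obj₂ ≅ T.obj₁ ⊞ T.obj₃, T.mor₁ ≫ e.hom = biprod.inl ∧ e.hom ≫ biprod.snd = T.mor₂ := by
  obtain ⟨P, hP, hp, ⟨e⟩⟩ := h
  have hz : T.mor₃ = 0 := by
    rw [← cancel_epi e.hom, comp_zero]
    exact hom_eq_zero_of_projective P (a + 1) b ((vanishesOutside_iff P _ _).2 hP) hp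
      (acyc_shift _ 1 (a + 1) (h1.mono (by omega))) _
  obtain ⟨f, h1, h2⟩ := exists_iso_binaryBiproduct_of_distTriang T hT hz
  exact ⟨f, h1, h2.symm⟩

/-- If `H^a = 0` the truncations at `a` and `a + 1` fit in a triangle. -/
theorem exists_triangle_gap (K : Dual.D A) (a : ℤ) (h : IsZero ((HF A a).obj K)) :
    ∃ w, Triangle.mk (((tA A).truncLTι a).app K) (((tA A).truncGEπ (a + 1)).app K) w ∈
      distinguishedTriangles := by
  let ν := ((tA A).natTransTruncGEOfLE a (a + 1) (by omega)).app K
  haveI : IsIso ν := by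
    rw [DerivedCategory.isIso_iff]
    intro i
    by_cases hi : a + 1 ≤ i
    · haveI := isIso_HF_truncGEπ K a i (by omega)
      haveI := isIso_HF_truncGEπ K (a + 1) i hi
      have hcomp : (HF A i).map (((tA A).truncGEπ a).app K) ≫ (HF A i).map ν =
          (HF A i).map (((tA A).truncGEπ (a + 1)).app K) := by
        rw [← Functor.map_comp]
        congr 1
        exact (tA A).π_natTransTruncGEOfLE_app a (a + 1) (by omega) K
      haveI : IsIso ((HF A i).map (((tA A).truncGEπ a).app K) ≫ (HF A i).map ν) := by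
        rw [hcomp]; infer_instance
      exact IsIso.of_isIso_comp_left ((HF A i).map (((tA A).truncGEπ a).app K)) _
    · have h2 := isZero_HF_truncGE_low K (a + 1) i (by omega)
      have h1 : IsZero ((HF A i).obj (((tA A).truncGE a).obj K)) := by
        rcases lt_or_eq_of_le (show i ≤ a by omega) with hlt | rfl
        · exact isZero_HF_truncGE_low K a i hlt
        · haveI := isIso_HF_truncGEπ K i i le_rfl
          exact h.of_iso (asIso ((HF A i).map (((tA A).truncGEπ i).app K))).symm
      exact ⟨0, h1.eq_of_src _ _, h2.eq_of_src _ _⟩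
  refine ⟨inv ν ≫ ((tA A).truncGEδLT a).app K,
    isomorphic_distinguished _ ((tA A).triangleLTGE_distinguished a K) _ ?_⟩
  exact Triangle.isoMk _ _ (Iso.refl _) (Iso.refl _) (asIso ν).symm
    ((Category.comp_id _).trans (Category.id_comp _).symm) (by
      show ((tA A).truncGEπ (a + 1)).app K ≫ inv ν = 𝟙 _ ≫ ((tA A).truncGEπ a).app K
      rw [Category.id_comp, IsIso.comp_inv_eq]
      exact ((tA A).π_natTransTruncGEOfLE_app a (a + 1) (by omega) K).symm) (by
      show (inv ν ≫ ((tA A).truncGEδLT a).app K) ≫ (𝟙 (((tA A).truncLT a).obj K))⟦(1 : ℤ)⟧' = inv ν ≫ ((tA A).truncGEδLT a).app K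
      exact (congrArg ((inv ν ≫ ((tA A).truncGEδLT a).app K) ≫ ·) ((shiftFunctor (Dual.D A) (1 : ℤ)).map_id (((tA A).truncLT a).obj K))).trans (Category.comp_id _))

end Groth.Agent.DR39
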