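import Groth.Agent.DR39.Compact

/-! Mapping telescopes and objects whose `Hom` commutes with countable sums. -/

set_option autoImplicit false
set_option linter.style.haveILetI false
set_option linter.unusedSectionVars false

universe u w v₁ u₁

open CategoryTheory CategoryTheory.Limits CategoryTheory.Pretriangulated

attribute [local instance] HasDerivedCategory.standard

namespace Groth.Agent.DR39

variable {A : Type u} [CommRing A]

open Classical in
/-- Projection of a colimit cofan onto a summand. -/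
noncomputable def cPr {C : Type u₁} [Category.{v₁} C] [HasZeroMorphisms C] {I : Type w} {X : I → C}
    {c : Cofan X} (hc : IsColimit c) (i : I) : c.pt ⟶ X i :=
  Cofan.IsColimit.desc hc fun k => if h : k = i then eqToHom (congrArg X h) else 0

theorem inj_cPr {C : Type u₁} [Category.{v₁} C] [HasZeroMorphisms C] {I : Type w} {X : I → C}
    {c : Cofan X} (hc : IsColimit c) (i : I) : c.inj i ≫ cPr hc i = 𝟙 _ := by
  simp [cPr, Cofan.IsColimit.fac]

theorem inj_cPr_ne {C : Type u₁} [Category.{v₁} C] [HasZeroMorphisms C] {I : Type w} {X : I → C}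
    {c : Cofan X} (hc : IsColimit c) {i k : I} (h : k ≠ i) : c.inj k ≫ cPr hc i = 0 := by
  simp [cPr, Cofan.IsColimit.fac, h]

/-- Every map from `K` to a countable sum is supported on finitely many summands. -/
def CountSurj (K : Dual.D A) : Prop :=
  ∀ (E : ℕ → Dual.D A) (c : Cofan E) (_ : IsColimit c) (y : K ⟶ c.pt),
    ∃ (S : Finset ℕ) (g : ∀ n, K ⟶ E n), y = ∑ n ∈ S, g n ≫ c.inj n

theorem countSurj_of_hyp (K : Dual.D A)
    (hK : ∀ (E : ℕ → Dual.D A) [HasCoproduct fun i : ULift.{u + 1} ℕ => E i.down],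
      Function.Bijective (CohDer.homSumToHomCoprod K (fun i : ULift.{u + 1} ℕ => E i.down))) :
    CountSurj K := by
  classical
  intro E c hc y
  let c' : Cofan fun i : ULift.{u + 1} ℕ => E i.down := Cofan.mk c.pt fun i => c.inj i.down
  let hc' : IsColimit c' := Cofan.IsColimit.mk _ (fun s => Cofan.IsColimit.desc hc fun n => s.inj ⟨n⟩)
    (fun s j => Cofan.IsColimit.fac hc (fun n => s.inj ⟨n⟩) j.down)
    (fun s m hm => Cofan.IsColimit.hom_ext hc _ _ fun n =>
      (hm ⟨n⟩).trans (Cofan.IsColimit.fac hc (fun n => s.inj ⟨n⟩) n).symm)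
  haveI : HasCoproduct fun i : ULift.{u + 1} ℕ => E i.down := ⟨⟨⟨_, hc'⟩⟩⟩
  let φ := (coproductIsCoproduct fun i : ULift.{u + 1} ℕ => E i.down).coconePointUniqueUpToIso hc'
  have hφ : ∀ i : ULift.{u + 1} ℕ, Sigma.ι (fun i : ULift.{u + 1} ℕ => E i.down) i ≫ φ.hom = c.inj i.down :=
    fun i => IsColimit.comp_coconePointUniqueUpToIso_hom _ hc' ⟨i⟩
  obtain ⟨s, hs⟩ := (hK E).2 (y ≫ φ.inv)
  refine ⟨(DFinsupp.support s).map Equiv.ulift.toEmbedding, fun n => s ⟨n⟩, ?_⟩
  have : y = CohDer.homSumToHomCoprod K _ s ≫ φ.hom := by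
    rw [hs, Category.assoc, φ.inv_hom_id]; exact (Category.comp_id _).symm
  rw [this]
  conv_lhs => rw [← DirectSum.sum_support_of s]
  rw [map_sum, Preadditive.sum_comp, Finset.sum_map]
  refine Finset.sum_congr rfl fun i _ => ?_
  rw [CohDer42.homSum_of, Category.assoc, hφ]
  rfl

section Tel

variable {K : Dual.D A} (hK : CountSurj K) {E : ℕ → Dual.D A} (f : ∀ n, E n ⟶ E (n + 1))
  {c : Cofan E} (hc : IsColimit c) (t : c.pt ⟶ c.pt) (ht : ∀ n, c.inj n ≫ t = c.inj n - f n ≫ c.inj (n + 1))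

include ht in
theorem tel_pr_zero (y : K ⟶ c.pt) : y ≫ t ≫ cPr hc 0 = y ≫ cPr hc 0 := by
  have : t ≫ cPr hc 0 = cPr hc 0 := Cofan.IsColimit.hom_ext hc _ _ fun n => by
    rw [← Category.assoc, ht, Preadditive.sub_comp, Category.assoc, inj_cPr_ne hc (Nat.succ_ne_zero n)]
    simp
  rw [this]

include ht in
theorem tel_pr_succ (y : K ⟶ c.pt) (k : ℕ) :
    y ≫ t ≫ cPr hc (k + 1) = y ≫ cPr hc (k + 1) - (y ≫ cPr hc k) ≫ f k := by
  have : t ≫ cPr hc (k + 1) = cPr hc (k + 1) - cPr hc k ≫ f k := Cofan.IsColimit.hom_ext hc _ _ fun n => by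
    rw [← Category.assoc, ht, Preadditive.sub_comp, Preadditive.comp_sub, Category.assoc]
    by_cases h : n = k
    · subst h
      rw [inj_cPr, ← Category.assoc, inj_cPr]
      simp
    · rw [inj_cPr_ne hc (by omega : n + 1 ≠ k + 1), ← Category.assoc (c.inj n), inj_cPr_ne hc h]
      simp
  rw [this, Preadditive.comp_sub, Category.assoc]

include hK in
theorem pr_eventually_zero (y : K ⟶ c.pt) :
    ∃ N, ∀ k, N ≤ k → y ≫ cPr hc k = 0 := by
  obtain ⟨S, g, rfl⟩ := hK E c hc y
  refine ⟨S.sup id + 1, fun k hk => ?_⟩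
  rw [Preadditive.sum_comp]
  refine Finset.sum_eq_zero fun n hn => ?_
  have : n ≤ S.sup id := Finset.le_sup (f := id) hn
  rw [Category.assoc, inj_cPr_ne hc (by omega), comp_zero]

include hK ht hc in
theorem tel_injective (y : K ⟶ c.pt) (hy : y ≫ t = 0) : y = 0 := by
  have h0 : ∀ k, y ≫ cPr hc k = 0 := fun k => by
    induction k with
    | zero => rw [← tel_pr_zero f hc t ht y, reassoc_of% hy, zero_comp]
    | succ k ih =>
      have := tel_pr_succ f hc t ht y k
      rwa [reassoc_of% hy, zero_comp, ih, zero_comp, sub_zero, eq_comm] at this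
  obtain ⟨S, g, rfl⟩ := hK E c hc y
  refine Finset.sum_eq_zero fun n hn => ?_
  have := h0 n
  rw [Preadditive.sum_comp, Finset.sum_eq_single n (fun m _ hm => by
    rw [Category.assoc, inj_cPr_ne hc hm, comp_zero]) (fun h => absurd hn h), Category.assoc, inj_cPr,
    Category.comp_id] at this
  rw [this, zero_comp]

include hK ht hc in
theorem tel_lift (g : ∀ {n m : ℕ}, n ≤ m → (E n ⟶ E m)) (hg0 : ∀ n, g (le_refl n) = 𝟙 _)
    (hgs : ∀ n m (h : n ≤ m), g (Nat.le_succ_of_le h) = g h ≫ f m)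
    {n : ℕ} (y : K ⟶ E n) (w : K ⟶ c.pt) (hw : y ≫ c.inj n = w ≫ t) :
    ∃ (m : ℕ) (h : n ≤ m), y ≫ g h = 0 := by
  have hlt : ∀ k, k < n → w ≫ cPr hc k = 0 := fun k hk => by
    induction k with
    | zero =>
      rw [← tel_pr_zero f hc t ht w, ← Category.assoc, ← hw, Category.assoc, inj_cPr_ne hc (by omega),
        comp_zero]
    | succ k ih =>
      have := tel_pr_succ f hc t ht w k
      rwa [← Category.assoc, ← hw, Category.assoc, inj_cPr_ne hc (by omega), comp_zero,
        ih (by omega), zero_comp, sub_zero, eq_comm] at this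
  have hge : ∀ m (h : n ≤ m), w ≫ cPr hc m = y ≫ g h := fun m h => by
    induction m, h using Nat.le_induction with
    | base =>
      rw [hg0, Category.comp_id]
      cases n with
      | zero => rw [← tel_pr_zero f hc t ht w, ← Category.assoc, ← hw, Category.assoc, inj_cPr, Category.comp_id]
      | succ k =>
        have := tel_pr_succ f hc t ht w k
        rwa [← Category.assoc, ← hw, Category.assoc, inj_cPr, Category.comp_id, hlt k (Nat.lt_succ_self k),
          zero_comp, sub_zero, eq_comm] at this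
    | succ m hm ih =>
      have := tel_pr_succ f hc t ht w m
      rw [← Category.assoc, ← hw, Category.assoc, inj_cPr_ne hc (by omega), comp_zero, eq_comm, sub_eq_zero,
        ih, Category.assoc, ← hgs] at this
      exact this
  obtain ⟨N, hN⟩ := pr_eventually_zero hK hc w
  exact ⟨max n N, le_max_left _ _, (hge _ _).symm.trans (hN _ (le_max_right _ _))⟩

end Tel

theorem mono_tel {L : ℕ → DRing.Cx A} (f : ∀ n, L n ⟶ L (n + 1)) (t : ∐ L ⟶ ∐ L)
    (ht : ∀ n, Sigma.ι L n ≫ t = Sigma.ι L n - f n ≫ Sigma.ι L (n + 1)) : Mono t := by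
  classical
  haveI : ∀ j, Mono (t.f j) := fun j => by
    rw [ModuleCat.mono_iff_injective]
    refine (injective_iff_map_eq_zero _).2 fun x hx => ?_
    have hj : IsColimit (Cofan.mk ((∐ L).X j) fun i => (Sigma.ι L i).f j : Cofan fun i => (L i).X j) :=
      isColimitCofanMkObjOfIsColimit (HomologicalComplex.eval (ModuleCat.{u} A) (ComplexShape.up ℤ) j) _ _
        (coproductIsCoproduct L)
    let π := fun k => cPr hj k
    have hι : ∀ n k (y : (L n).X j), (π k).hom (((Sigma.ι L n).f j).hom y) =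
        ((Cofan.mk ((∐ L).X j) fun i => (Sigma.ι L i).f j : Cofan fun i => (L i).X j).inj n ≫ π k).hom y :=
      fun _ _ _ => rfl
    have ht' : ∀ n, (Sigma.ι L n).f j ≫ t.f j = (Sigma.ι L n).f j - (f n).f j ≫ (Sigma.ι L (n + 1)).f j :=
      fun n => HomologicalComplex.congr_hom (ht n) j
    have hsupp : ∀ z : (∐ L).X j, ∃ N, (∀ k, N ≤ k → (π k).hom z = 0) ∧
        ((∀ k, (π k).hom z = 0) → z = 0) := by
      let M : Submodule A ((∐ L).X j) :=
        { carrier := {z | ∃ N, (∀ k, N ≤ k → (π k).hom z = 0) ∧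
            z = ∑ k ∈ Finset.range N, ((Sigma.ι L k).f j).hom ((π k).hom z)}
          zero_mem' := ⟨0, fun _ _ => map_zero _, by simp⟩
          add_mem' := fun {a b} ⟨N, h1, h2⟩ ⟨N', h1', h2'⟩ => by
            refine ⟨max N N', fun k hk => by rw [map_add, h1 k (by omega), h1' k (by omega), add_zero], ?_⟩
            simp only [map_add, Finset.sum_add_distrib]
            rw [← Finset.sum_subset (Finset.range_mono (le_max_left N N'))
                (fun k _ hk => by rw [h1 k (by simpa using hk), map_zero]),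
              ← Finset.sum_subset (Finset.range_mono (le_max_right N N'))
                (fun k _ hk => by rw [h1' k (by simpa using hk), map_zero]), ← h2, ← h2']
          smul_mem' := fun r a ⟨N, h1, h2⟩ => ⟨N, fun k hk => by rw [map_smul, h1 k hk, smul_zero], by
            simp only [map_smul, ← Finset.smul_sum]; rw [← h2]⟩ }
      have h0 : ModuleCat.ofHom M.mkQ = 0 := Cofan.IsColimit.hom_ext hj _ _ fun n =>
        ModuleCat.hom_ext (LinearMap.ext fun y => (Submodule.Quotient.mk_eq_zero _).2 ⟨n + 1, fun k hk => by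
            refine (hι n k y).trans ?_
            rw [inj_cPr_ne hj (by omega)]; rfl, by
            rw [Finset.sum_eq_single n]
            · refine (congrArg ((Sigma.ι L n).f j).hom ((hι n n y).trans ?_)).symm
              rw [inj_cPr]; rfl
            · intro k _ hk
              refine (congrArg ((Sigma.ι L k).f j).hom ((hι n k y).trans ?_)).trans (map_zero _)
              rw [inj_cPr_ne hj (Ne.symm hk)]; rfl
            · exact fun hn => absurd (Finset.self_mem_range_succ n) hn⟩)
      intro z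
      obtain ⟨N, h1, h2⟩ := (Submodule.Quotient.mk_eq_zero M).1
        (LinearMap.congr_fun (congrArg ModuleCat.Hom.hom h0) z)
      exact ⟨N, h1, fun h => h2.trans (Finset.sum_eq_zero fun k _ => by rw [h k, map_zero])⟩
    have e0 : t.f j ≫ π 0 = π 0 := Cofan.IsColimit.hom_ext hj _ _ fun n => by
      show (Sigma.ι L n).f j ≫ _ = (Sigma.ι L n).f j ≫ _
      rw [reassoc_of% ht', Preadditive.sub_comp, Category.assoc]
      erw [inj_cPr_ne hj (Nat.succ_ne_zero n)]
      simp
    have es : ∀ k, t.f j ≫ π (k + 1) = π (k + 1) - π k ≫ (f k).f j := fun k =>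
      Cofan.IsColimit.hom_ext hj _ _ fun n => by
        show (Sigma.ι L n).f j ≫ _ = (Sigma.ι L n).f j ≫ _
        rw [reassoc_of% ht', Preadditive.sub_comp, Preadditive.comp_sub, Category.assoc]
        by_cases h : n = k
        · subst h
          erw [inj_cPr hj (n + 1), reassoc_of% (inj_cPr hj n)]
          simp
        · erw [inj_cPr_ne hj (by omega : n + 1 ≠ k + 1), reassoc_of% (inj_cPr_ne hj h)]
          simp
    refine (hsupp x).choose_spec.2 fun k => ?_
    induction k with
    | zero => rw [← e0]; show (π 0).hom ((t.f j).hom x) = 0; rw [hx, map_zero]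
    | succ k ih =>
      have := LinearMap.congr_fun (congrArg ModuleCat.Hom.hom (es k)) x
      simp only [ModuleCat.hom_comp, ModuleCat.hom_sub, LinearMap.comp_apply, LinearMap.sub_apply, ih,
        map_zero, sub_zero, hx] at this
      exact this.symm
  exact HomologicalComplex.mono_of_mono_f _ inferInstance

theorem tel_main {K : Dual.D A} (hK : CountSurj K) (L : ℕ ⥤ DRing.Cx A) (c : Cocone L) (hc : IsColimit c) :
    (∀ x : K ⟶ (QA A).obj c.pt, ∃ (n : ℕ) (y : K ⟶ (QA A).obj (L.obj n)),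
        y ≫ (QA A).map (c.ι.app n) = x) ∧
      (∀ (n : ℕ) (y : K ⟶ (QA A).obj (L.obj n)), y ≫ (QA A).map (c.ι.app n) = 0 →
        ∃ (m : ℕ) (h : n ≤ m), y ≫ (QA A).map (L.map (homOfLE h)) = 0) := by
  classical
  let F := fun n => L.obj n
  let f := fun n => L.map (homOfLE (Nat.le_succ n))
  let t : ∐ F ⟶ ∐ F := Sigma.desc fun n => Sigma.ι F n - f n ≫ Sigma.ι F (n + 1)
  have ht : ∀ n, Sigma.ι F n ≫ t = Sigma.ι F n - f n ≫ Sigma.ι F (n + 1) := fun n => Sigma.ι_desc _ _
  haveI := mono_tel f t ht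
  let p : ∐ F ⟶ c.pt := Sigma.desc fun n => c.ι.app n
  have htp : t ≫ p = 0 := Sigma.hom_ext _ _ fun n => by
    rw [reassoc_of% ht, Preadditive.sub_comp, Category.assoc, Sigma.ι_desc, Sigma.ι_desc, comp_zero]
    exact sub_eq_zero.2 (c.w _).symm
  have hcok : IsColimit (CokernelCofork.ofπ p htp) := by
    have hw : ∀ {W : DRing.Cx A} (g : ∐ F ⟶ W), t ≫ g = 0 → ∀ n, f n ≫ Sigma.ι F (n + 1) ≫ g = Sigma.ι F n ≫ g :=
      fun g hg n => by
        have := congrArg (Sigma.ι F n ≫ ·) hg
        simp only [reassoc_of% ht, Preadditive.sub_comp, Category.assoc, comp_zero, sub_eq_zero] at this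
        exact this.symm
    exact CokernelCofork.IsColimit.ofπ _ _
      (fun g hg => hc.desc (Cocone.mk _ (NatTrans.ofSequence (fun n => Sigma.ι F n ≫ g) fun n => by
        simpa [f] using hw g hg n)))
      (fun g hg => Sigma.hom_ext _ _ fun n => by
        simp [p, hc.fac])
      (fun g hg m hm => hc.hom_ext fun n => by
        rw [hc.fac]
        have := congrArg (Sigma.ι F n ≫ ·) hm
        simpa [p] using this)
  let S := ShortComplex.mk t p htp
  have hS : S.ShortExact :=
    { exact := S.exact_of_g_is_cokernel hcok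
      mono_f := inferInstance
      epi_g := Cofork.IsColimit.epi hcok }
  let T := DerivedCategory.triangleOfSES hS
  have hT : T ∈ distinguishedTriangles := DerivedCategory.triangleOfSES_distinguished hS
  obtain ⟨hl⟩ := isColimit_Q (coproductIsCoproduct F)
  let cf : Cofan fun n => (QA A).obj (F n) := Cofan.mk ((QA A).obj (∐ F)) fun n => (QA A).map (Sigma.ι F n)
  have htQ : ∀ n, cf.inj n ≫ (QA A).map t = cf.inj n - (QA A).map (f n) ≫ cf.inj (n + 1) := fun n => by
    show (QA A).map _ ≫ _ = (QA A).map _ - _ ≫ (QA A).map _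
    rw [← Functor.map_comp, ht, Functor.map_sub, Functor.map_comp]
  refine ⟨fun x => ?_, fun n y hy => ?_⟩
  · let Es : ℕ → Dual.D A := fun n => ((QA A).obj (F n))⟦(1 : ℤ)⟧
    let cs : Cofan Es := Cofan.mk (((QA A).obj (∐ F))⟦(1 : ℤ)⟧) fun n => (cf.inj n)⟦(1 : ℤ)⟧'
    let hls : IsColimit cs :=
      isColimitCofanMkObjOfIsColimit (shiftFunctor (Dual.D A) (1 : ℤ)) _ _ hl
    have hx : x ≫ T.mor₃ = 0 := tel_injective hK (E := Es) (c := cs) (fun n => ((QA A).map (f n))⟦(1 : ℤ)⟧') hls
      (((QA A).map t)⟦(1 : ℤ)⟧') (fun n => by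
        show (cf.inj n)⟦(1 : ℤ)⟧' ≫ _ = (cf.inj n)⟦(1 : ℤ)⟧' - _ ≫ (cf.inj (n + 1))⟦(1 : ℤ)⟧'
        rw [← Functor.map_comp, htQ, Functor.map_sub, Functor.map_comp]) _ (by
        exact (Category.assoc _ _ _).trans ((congrArg (x ≫ ·) (comp_distTriang_mor_zero₃₁ _ hT)).trans comp_zero))
    obtain ⟨y, hy⟩ := Triangle.coyoneda_exact₃ _ hT x hx
    obtain ⟨S', g, hg⟩ := hK _ cf hl y
    refine ⟨S'.sup id, ∑ n ∈ S', if h : n ≤ S'.sup id then g n ≫ (QA A).map (L.map (homOfLE h)) else 0, ?_⟩
    rw [hy]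
    show _ = y ≫ (QA A).map p
    rw [hg]
    refine (Preadditive.sum_comp _ _ _).trans (Eq.trans ?_ (Preadditive.sum_comp _ _ _).symm)
    refine Finset.sum_congr rfl fun n hn => ?_
    refine (congrArg (· ≫ _) (dif_pos (Finset.le_sup (f := id) hn))).trans ?_
    refine (Category.assoc _ _ _).trans (Eq.trans ?_ (Category.assoc _ _ _).symm)
    show g n ≫ (QA A).map _ ≫ (QA A).map _ = g n ≫ (QA A).map _ ≫ (QA A).map p
    rw [← Functor.map_comp, ← Functor.map_comp, c.w, Sigma.ι_desc]
  · obtain ⟨w, hw⟩ := Triangle.coyoneda_exact₂ _ hT (y ≫ cf.inj n) (by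
      show (y ≫ (QA A).map (Sigma.ι F n)) ≫ (QA A).map p = 0
      rw [Category.assoc, ← Functor.map_comp, Sigma.ι_desc]
      exact hy)
    exact tel_lift hK (E := fun n => (QA A).obj (F n)) (c := cf) (fun n => (QA A).map (f n)) hl ((QA A).map t) htQ
      (fun {i j} h => (QA A).map (L.map (homOfLE h)))
      (fun i => by rw [show (homOfLE (le_refl i) : i ⟶ i) = 𝟙 i from rfl, L.map_id, (QA A).map_id])
      (fun i j h => by rw [← Functor.map_comp, ← L.map_comp]; rfl) y w hw

end Groth.Agent.DR39
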