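import Groth.Agent.DR39.Minimal
import Groth.Agent.DR39.Existence
import Groth.Agent.DR39.TensorCx
import Groth.Agent.DR39.Residue
import Groth.Agent.DR39.Dualizing
import Groth.Agent.DTen43.TwoTerm
import Mathlib.LinearAlgebra.Dimension.Constructions

/-! Invertible objects of `D(A)` for a local ring. -/

set_option autoImplicit false
set_option linter.style.haveILetI false
set_option linter.unusedSectionVars false

universe u

open CategoryTheory CategoryTheory.Limits HomologicalComplex MonoidalCategory IsLocalRing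
open scoped TensorProduct

attribute [local instance] HasDerivedCategory.standard

namespace Groth.Agent.DR39

variable {A : Type u} [CommRing A]

/-- A summand of the tensor product complex splits off. -/
theorem exists_retraction (P Q : DRing.Cx A) (p q n : ℤ) (h : p + q = n) :
    ∃ r : (P ⊗ Q).X n ⟶ P.X p ⊗ Q.X q, ιTensorObj P Q p q n h ≫ r = 𝟙 _ := by
  classical
  refine ⟨mapBifunctorDesc fun p' q' h' => if hp : p' = p then
    (P.XIsoOfEq hp).hom ▷ Q.X q' ≫ P.X p ◁ (Q.XIsoOfEq (show q' = q by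
      change p' + q' = n at h'
      omega)).hom else 0, ?_⟩
  erw [ι_mapBifunctorDesc]
  rw [dif_pos rfl, XIsoOfEq_rfl, XIsoOfEq_rfl]
  simp

theorem isZero_of_isZero_tensor [Nontrivial A] {M N : ModuleCat.{u} A} [Module.Free A M] [Module.Finite A M]
    [Module.Free A N] [Module.Finite A N] (h : IsZero (M ⊗ N)) : IsZero M ∨ IsZero N := by
  haveI : Subsingleton (TensorProduct A M N) := ModuleCat.subsingleton_of_isZero h
  have h1 : Module.finrank A (TensorProduct A M N) = 0 := Module.finrank_zero_of_subsingleton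
  rw [Module.finrank_tensorProduct] at h1
  have key : ∀ (L : ModuleCat.{u} A) [Module.Free A L] [Module.Finite A L], Module.finrank A L = 0 → IsZero L :=
    fun L _ _ hL => by
      obtain ⟨e⟩ : Nonempty (L ≃ₗ[A] (Fin 0 → A)) :=
        FiniteDimensional.nonempty_linearEquiv_of_finrank_eq (by rw [hL, Module.finrank_fin_fun])
      exact isZero_of_subsingleton' L e.toEquiv.subsingleton
  rcases Nat.mul_eq_zero.1 h1 with h1 | h1
  · exact Or.inl (key M h1)
  · exact Or.inr (key N h1)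

/-- A complex with a single term of rank one is a shift of the ring. -/
theorem nonempty_iso_shift_of_single (P : DRing.Cx A) (p : ℤ) (hz : ∀ i, i ≠ p → IsZero (P.X i))
    (e : P.X p ≃ₗ[A] A) : Nonempty ((QA A).obj P ≅ (Dual.inD A A)⟦-p⟧) := by
  have hH : ∀ i, i ≠ p → IsZero ((HF A i).obj ((QA A).obj P)) := fun i hi =>
    (isZero_HF_Q_iff P i).2 ((isZero_homology_iff P i).2 fun x _ => by
      haveI := ModuleCat.subsingleton_of_isZero (hz i hi)
      exact ⟨0, Subsingleton.elim _ _⟩)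
  obtain ⟨eL⟩ := exists_iso_single_homology ((QA A).obj P) p hH
  have hb : Function.Bijective ((hcls P p).comp (LinearMap.codRestrict _ LinearMap.id fun x => by
      haveI := ModuleCat.subsingleton_of_isZero (hz (p + 1) (by omega))
      exact Subsingleton.elim _ _)) := by
    refine ⟨?_, fun y => ?_⟩
    · rw [injective_iff_map_eq_zero]
      intro x hx
      obtain ⟨y, hy⟩ := (hcls_eq_zero_iff P p _).1 hx
      haveI := ModuleCat.subsingleton_of_isZero (hz (p - 1) (by omega))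
      rw [Subsingleton.elim y 0, map_zero] at hy
      exact hy.symm
    · obtain ⟨z, rfl⟩ := hcls_surjective P p y
      exact ⟨z.1, congrArg (hcls P p) (Subtype.ext rfl)⟩
  exact ⟨eL ≪≫ (DerivedCategory.singleFunctor (ModuleCat.{u} A) p).mapIso
    (HQIso P p ≪≫ (LinearEquiv.ofBijective _ hb).symm.toModuleIso ≪≫ e.toModuleIso) ≪≫
    (((DerivedCategory.singleFunctors (ModuleCat.{u} A)).shiftIso (-p) p 0 (by omega)).app (ModuleCat.of A A)).symm⟩

/-- The left inclusion of a summand. -/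
noncomputable def inclL (P Q : DRing.Cx A) (p q n : ℤ) (h : p + q = n) (y : Q.X q) : P.X p →ₗ[A] (P ⊗ Q).X n where
  toFun s := DTen43.incl P Q s q n h y
  map_add' a b := DTen43.incl_add a b q n h y
  map_smul' c a := DTen43.incl_smul c a q n h y

variable [IsLocalRing A] [IsNoetherianRing A]

theorem exists_minimal_rep {L : Dual.D A} (hfin : ∀ i : ℤ, Module.Finite A (Dual.HD A L i))
    (hbdd : ∃ b : ℤ, ∀ i : ℤ, b < i → Subsingleton (Dual.HD A L i)) :
    ∃ (P : DRing.Cx A) (b : ℤ), DRing.VanishesAbove P b ∧ (∀ i, Module.Free A (P.X i)) ∧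
      (∀ i, Module.Finite A (P.X i)) ∧
      (∀ i j x, (P.d i j).hom x ∈ maximalIdeal A • (⊤ : Submodule A (P.X j))) ∧
      Nonempty ((QA A).obj P ≅ L) := by
  obtain ⟨b, hb'⟩ := hbdd
  have hb : Acyc (b + 1) L := fun i hi => by
    haveI := hb' i (by omega)
    exact ModuleCat.isZero_of_subsingleton _
  haveI := hasLBaseChange (residue A)
  obtain ⟨E, d, hE⟩ := (pc'_iff_forall_pc L).2 (pc_of_noetherian hb hfin)
  obtain ⟨hv, hF, ⟨e⟩⟩ := hE
  obtain ⟨-, -, P, hPv, hP, ⟨eP⟩⟩ := minimal_main L E d hv hF e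
  exact ⟨P, d, hPv, fun i => (hP i).1, fun i => (hP i).2.1,
    d_mem_of_finrank P (isKFlat_of_flat d hPv fun i => by haveI := (hP i).1; exact Module.Flat.of_free) eP hP, ⟨eP⟩⟩

theorem exists_shift_of_tensor_iso_unit (L : Dual.D A) (E : DRing.Cx A) [DRing.HasLTensorCx A E]
    (hLfin : ∀ i : ℤ, Module.Finite A (Dual.HD A L i))
    (hLbdd : ∃ b : ℤ, ∀ i : ℤ, b < i → Subsingleton (Dual.HD A L i))
    (hEfin : ∀ i : ℤ, Module.Finite A (Dual.HD A (DRing.toD E) i))
    (hEbdd : ∃ b : ℤ, ∀ i : ℤ, b < i → Subsingleton (Dual.HD A (DRing.toD E) i))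
    (h : Nonempty ((DRing.LTensorCx A E).obj L ≅ Dual.inD A A)) :
    ∃ n : ℤ, Nonempty (L ≅ (Dual.inD A A)⟦n⟧) ∧ Nonempty (DRing.toD E ≅ (Dual.inD A A)⟦(-n)⟧) := by
  obtain ⟨P, b, hPv, hPf, hPfin, hPd, ⟨eP⟩⟩ := exists_minimal_rep hLfin hLbdd
  obtain ⟨Q, c, hQv, hQf, hQfin, hQd, ⟨eQ⟩⟩ := exists_minimal_rep hEfin hEbdd
  have hPp : ∀ i, FPp (P.X i) := fun i => ⟨hPfin i, by haveI := hPf i; exact Module.Projective.of_free⟩
  have hQp : ∀ i, FPp (Q.X i) := fun i => ⟨hQfin i, by haveI := hQf i; exact Module.Projective.of_free⟩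
  obtain ⟨t⟩ := exists_tensor_rep hPv hQv hPp hQp eP eQ
  obtain ⟨h⟩ := h
  let S : DRing.Cx A := sgl (ModuleCat.of A A)
  have hTd : ∀ i j (x : (P ⊗ Q).X i),
      ((P ⊗ Q).d i j).hom x ∈ maximalIdeal A • (⊤ : Submodule A ((P ⊗ Q).X j)) := fun i j x => by
    by_cases hij : i + 1 = j
    · refine DTen43.mem_of_incl_mem ((maximalIdeal A • ⊤ : Submodule A _).comap ((P ⊗ Q).d i j).hom)
        (fun p q hpq s y => ?_) x
      rw [Submodule.mem_comap, DTen43.incl_d rfl rfl hij hpq s y]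
      refine add_mem ?_ ?_
      · exact map_mem_smul_top _ (inclL P Q (p + 1) q j (by omega) y) (hPd p (p + 1) s)
      · rw [Units.smul_def]
        exact zsmul_mem (map_mem_smul_top _ (DTen43.incl P Q s (q + 1) j (by omega)) (hQd q (q + 1) y)) _
    · rw [(P ⊗ Q).shape i j hij]
      exact Submodule.zero_mem _
  have hS : ∀ i, i ≠ 0 → IsZero (S.X i) := fun i hi => isZero_single_obj_X _ _ _ _ hi
  obtain ⟨u⟩ := iso_of_minimal (m := maximalIdeal A) (IsLocalRing.jacobson_eq_maximalIdeal ⊥ bot_ne_top).ge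
    (P ⊗ Q) S (b := b + c) (c := 0) (fun i hi => DR39.isZero_tensor_X P Q i fun p => by
      by_cases hp : b < p
      · exact Or.inl (hPv p hp)
      · exact Or.inr (hQv _ (by omega))) (fun i hi => hS i (by omega))
    (tensor_FP P Q b c hPv hQv hPp hQp) (fun i => by
      by_cases hi : i = 0
      · subst hi
        exact isModClass_FP.of_iso (singleObjXSelf (ComplexShape.up ℤ) 0 (ModuleCat.of A A)).symm
          ⟨inferInstance, inferInstance⟩
      · exact isModClass_FP.of_isZero (hS i hi))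
    hTd (fun i j x => by simp [S]) (t ≪≫ h ≪≫ (sglQIso (ModuleCat.of A A)).symm)
  have hT : ∀ i, i ≠ 0 → IsZero ((P ⊗ Q).X i) := fun i hi =>
    (hS i hi).of_iso ((HomologicalComplex.eval _ _ i).mapIso u)
  let eT : (P ⊗ Q).X 0 ≅ ModuleCat.of A A :=
    (HomologicalComplex.eval _ _ 0).mapIso u ≪≫ singleObjXSelf (ComplexShape.up ℤ) 0 (ModuleCat.of A A)
  have hsum : ∀ p q, p + q ≠ 0 → IsZero (P.X p) ∨ IsZero (Q.X q) := fun p q hpq => by
    haveI := hPf p; haveI := hPfin p; haveI := hQf q; haveI := hQfin q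
    obtain ⟨r, hr⟩ := exists_retraction P Q p q (p + q) rfl
    refine isZero_of_isZero_tensor ((IsZero.iff_id_eq_zero _).2 ?_)
    rw [← hr, (hT _ hpq).eq_of_tgt (ιTensorObj P Q p q (p + q) rfl) 0, zero_comp]
  obtain ⟨p, hp1, hp2⟩ : ∃ p, ¬ IsZero (P.X p) ∧ ¬ IsZero (Q.X (-p)) := by
    by_contra! hne
    have hz : IsZero ((P ⊗ Q).X 0) := DR39.isZero_tensor_X P Q 0 fun p => by
      rw [zero_sub]
      by_cases hp : IsZero (P.X p)
      · exact Or.inl hp
      · exact Or.inr (hne p hp)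
    haveI : Subsingleton A := ModuleCat.subsingleton_of_isZero (hz.of_iso eT.symm)
    exact not_subsingleton A inferInstance
  have hPz : ∀ i, i ≠ p → IsZero (P.X i) := fun i hi => (hsum i (-p) (by omega)).resolve_right hp2
  have hQz : ∀ i, i ≠ -p → IsZero (Q.X i) := fun i hi => (hsum p i (by omega)).resolve_left hp1
  obtain ⟨r, hr⟩ := exists_retraction P Q p (-p) 0 (by omega)
  have hr' : r ≫ ιTensorObj P Q p (-p) 0 (by omega) = 𝟙 _ := by
    refine mapBifunctor.hom_ext fun i j hij => ?_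
    change i + j = 0 at hij
    by_cases hi : i = p
    · subst hi
      obtain rfl : j = -i := by omega
      show ιTensorObj P Q i (-i) 0 hij ≫ r ≫ ιTensorObj P Q i (-i) 0 hij = ιTensorObj P Q i (-i) 0 hij ≫ 𝟙 _
      rw [reassoc_of% hr, Category.comp_id]
    · exact (Functor.map_isZero (tensorRight (Q.X j)) (hPz i hi)).eq_of_src _ _
  let ePQ : TensorProduct A (P.X p) (Q.X (-p)) ≃ₗ[A] A :=
    (({ hom := ιTensorObj P Q p (-p) 0 (by omega), inv := r, hom_inv_id := hr, inv_hom_id := hr' } :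
      (MonoidalCategoryStruct.tensorObj (P.X p) (Q.X (-p))) ≅ (P ⊗ Q).X 0) ≪≫ eT).toLinearEquiv
  haveI := hPf p; haveI := hPfin p; haveI := hQf (-p); haveI := hQfin (-p)
  have hrank := ePQ.finrank_eq
  rw [Module.finrank_tensorProduct, Module.finrank_self] at hrank
  obtain ⟨n1, n2⟩ : Module.finrank A (P.X p) = 1 ∧ Module.finrank A (Q.X (-p)) = 1 := mul_eq_one.1 hrank
  obtain ⟨fP⟩ : Nonempty (P.X p ≃ₗ[A] A) :=
    FiniteDimensional.nonempty_linearEquiv_of_finrank_eq (by rw [n1, Module.finrank_self])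
  obtain ⟨fQ⟩ : Nonempty (Q.X (-p) ≃ₗ[A] A) :=
    FiniteDimensional.nonempty_linearEquiv_of_finrank_eq (by rw [n2, Module.finrank_self])
  obtain ⟨sP⟩ := nonempty_iso_shift_of_single P p hPz fP
  obtain ⟨sQ⟩ := nonempty_iso_shift_of_single Q (-p) hQz fQ
  exact ⟨-p, ⟨eP.symm ≪≫ sP⟩, ⟨eQ.symm ≪≫ sQ⟩⟩

end Groth.Agent.DR39
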