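import Groth.Agent.DR39.Perf
import Mathlib.LinearAlgebra.FreeModule.Finite.Basic

/-! Classes of objects containing the ring contain all perfect objects. -/

set_option autoImplicit false
set_option linter.style.haveILetI false
set_option linter.unusedSectionVars false

universe u

open CategoryTheory CategoryTheory.Limits CategoryTheory.Pretriangulated

attribute [local instance] HasDerivedCategory.standard

namespace Groth.Agent.DR39

variable {A : Type u} [CommRing A]

/-- Isomorphic modules give isomorphic objects. -/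
noncomputable def inDLinIso {M N : Type u} [AddCommGroup M] [Module A M] [AddCommGroup N] [Module A N]
    (e : M ≃ₗ[A] N) : Dual.inD A M ≅ Dual.inD A N :=
  (DerivedCategory.singleFunctor (ModuleCat.{u} A) 0).mapIso e.toModuleIso

theorem exists_triangle_prod (M N : Type u) [AddCommGroup M] [Module A M] [AddCommGroup N] [Module A N] :
    ∃ T : Triangle (Dual.D A), T ∈ distinguishedTriangles ∧ Nonempty (T.obj₁ ≅ Dual.inD A M) ∧
      T.obj₂ = Dual.inD A (M × N) ∧ T.obj₃ = Dual.inD A N := by
  obtain ⟨T, hT, e1, e2, e3⟩ := exists_triangle_of_surjective (A := A) (F := M × N)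
    (LinearMap.snd A M N) LinearMap.snd_surjective
  have e : LinearMap.ker (LinearMap.snd A M N) ≃ₗ[A] M :=
    (LinearEquiv.ofEq _ _ (LinearMap.range_inl A M N).symm).trans
      (LinearEquiv.ofInjective _ LinearMap.inl_injective).symm
  exact ⟨T, hT, ⟨eqToIso e1 ≪≫ inDLinIso e⟩, e2, e3⟩

/-- Thick classes containing `A` contain perfect objects. -/
theorem perfect_mem {P : Dual.D A → Prop} (hiso : ∀ {X Y : Dual.D A}, (X ≅ Y) → P X → P Y)
    (hR : P (Dual.inD A A))
    (hshift : ∀ (K : Dual.D A) (n : ℤ), P K → P (K⟦n⟧))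
    (hext : ∀ T : Triangle (Dual.D A), T ∈ distinguishedTriangles → P T.obj₁ → P T.obj₃ → P T.obj₂)
    (hzero : ∀ X : Dual.D A, IsZero X → P X)
    (hsum : ∀ (X Y : Dual.D A) [HasBinaryBiproduct X Y], P (X ⊞ Y) → P X)
    {K : Dual.D A} (hK : DRing.IsPerfect A K) : P K := by
  have hpi : ∀ k : ℕ, P (Dual.inD A (Fin k → A)) := by
    intro k
    induction k with
    | zero => exact hzero _ (Functor.map_isZero _ (ModuleCat.isZero_of_subsingleton _))
    | succ k ih =>
      obtain ⟨T, hT, ⟨e1⟩, e2, e3⟩ := exists_triangle_prod (A := A) A (Fin k → A)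
      have := hext T hT (hiso e1.symm hR) (e3 ▸ ih)
      rw [e2] at this
      exact hiso (inDLinIso (Fin.consLinearEquiv A (fun _ => A))) this
  obtain ⟨E, a, b, hv, hE, ⟨e⟩⟩ := hK
  haveI := cutι_isIso_of_vanishesOutside E a b hv
  refine hiso ((QA A).mapIso (asIso (cutι E a)) ≪≫ e) (induction_terms hext hzero E b
    (fun i hi => hv i (Or.inr hi)) a fun i _ => ?_)
  refine hiso (singleShiftIso (E.X i) i (-i) (by omega)) (hshift _ _ ?_)
  haveI := (hE i).1
  haveI := (hE i).2
  obtain ⟨n, g, hg⟩ := Module.Finite.exists_fin' A (E.X i)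
  obtain ⟨s, hs⟩ := Module.projective_lifting_property g LinearMap.id hg
  let S := DerivedCategory.singleFunctor (ModuleCat.{u} A) 0
  obtain ⟨C, v, w, hT⟩ := distinguished_cocone_triangle (S.map (ModuleCat.ofHom s))
  have hmono : Mono ((Triangle.mk (S.map (ModuleCat.ofHom s)) v w).mor₁) :=
    (SplitMono.mk (S.map (ModuleCat.ofHom g)) (by
      show S.map (ModuleCat.ofHom s) ≫ S.map (ModuleCat.ofHom g) = _
      rw [← Functor.map_comp, ← ModuleCat.ofHom_comp, hs]
      exact S.map_id _)).mono
  have hz : w = 0 := (Triangle.mor₃_eq_zero_iff_mono₁ _ hT).2 hmono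
  obtain ⟨f, -⟩ := exists_iso_binaryBiproduct_of_distTriang _ hT hz
  exact hsum _ C (hiso f (hpi n))

end Groth.Agent.DR39
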