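import Groth.Agent.Small51.NormBundle
import Groth.Agent.Pool36.RegConormal
import Mathlib

/-! Top exterior powers of projective modules; adjunction formula for regular sequences. -/

set_option autoImplicit false
set_option linter.style.haveILetI false
set_option linter.unusedSectionVars false

universe u

open TensorProduct

namespace Groth.Agent.DR39

section Inv

variable {R : Type u} [CommRing R] {N : Type u} [AddCommGroup N] [Module R N]

theorem invertible_of_approx (h : ∀ q : Ideal R, q.IsMaximal → ∃ a, a ∉ q ∧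
    ∃ (u : N →ₗ[R] R) (v : R →ₗ[R] N), u ∘ₗ v = a • LinearMap.id ∧ v ∘ₗ u = a • LinearMap.id) :
    Module.Invertible R N := by
  refine ⟨⟨(injective_iff_map_eq_zero _).2 fun t ht => ?_, LinearMap.range_eq_top.1 ?_⟩⟩
  · suffices ∀ q : Ideal R, q.IsMaximal → ∃ b, b ∉ q ∧ b • t = 0 by
      have hann : (⊥ : Submodule R (Module.Dual R N ⊗[R] N)).colon {t} = ⊤ := by
        by_contra hne
        obtain ⟨q, hq, hle⟩ := Ideal.exists_le_maximal _ hne
        obtain ⟨b, hb, hb0⟩ := this q hq
        exact hb (hle (Submodule.mem_colon_singleton.2 ((Submodule.mem_bot R).2 hb0)))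
      have h1 := Submodule.mem_colon_singleton.1 (hann ▸ Submodule.mem_top : (1 : R) ∈ _)
      rwa [Submodule.mem_bot, one_smul] at h1
    intro q hq
    obtain ⟨a, ha, u, v, huv, hvu⟩ := h q hq
    refine ⟨a * a, fun hm => (hq.isPrime.mem_or_mem hm).elim ha ha, ?_⟩
    suffices ∀ s : Module.Dual R N ⊗[R] N, (a * a) • s = (a * contractLeft R N s) • (u ⊗ₜ[R] v 1) by
      rw [this, ht, mul_zero, zero_smul]
    intro s
    induction s using TensorProduct.induction_on with
    | zero => simp
    | add x y hx hy => rw [smul_add, hx, hy, map_add, mul_add, add_smul]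
    | tmul f x =>
      have hva : ∀ z, v (u z) = a • z := fun z => LinearMap.congr_fun hvu z
      have hv1 : ∀ r, v r = r • v 1 := fun r => by rw [← map_smul, smul_eq_mul, mul_one]
      have hf : ∀ z, a * f z = u z * f (v 1) := fun z => by
        rw [← smul_eq_mul, ← map_smul, ← hva, hv1 (u z), map_smul, smul_eq_mul]
      have e1 : a • (f ⊗ₜ[R] x) = (u x • f) ⊗ₜ[R] v 1 := by
        rw [← TensorProduct.tmul_smul, ← hva, hv1 (u x), TensorProduct.tmul_smul, TensorProduct.smul_tmul']
      rw [mul_smul, e1, TensorProduct.smul_tmul']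
      rw [contractLeft_apply, TensorProduct.smul_tmul']
      congr 1
      refine LinearMap.ext fun y => ?_
      simp only [LinearMap.smul_apply, smul_eq_mul]
      rw [show a * (u x * f y) = u x * (a * f y) by ring, hf y,
        show a * f x * u y = (a * f x) * u y from rfl, hf x]
      ring
  · by_contra hne
    obtain ⟨q, hq, hle⟩ := Ideal.exists_le_maximal _ hne
    obtain ⟨a, ha, u, v, huv, -⟩ := h q hq
    refine ha (hle ⟨u ⊗ₜ v 1, ?_⟩)
    rw [contractLeft_apply]
    exact (LinearMap.congr_fun huv 1).trans (mul_one a)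

theorem invertible_top_of_rank {P : Type u} [AddCommGroup P] [Module R P] [Module.Finite R P] [Module.Projective R P]
    {n : ℕ} (hn : ∀ q : PrimeSpectrum R, Module.rankAtStalk P q = n) :
    Module.Invertible R (⋀[R]^n P) := by
  refine invertible_of_approx fun q hq => ?_
  obtain ⟨a, ha, u, v, huv, hvu⟩ := NormBundle51.approx_of_finrank (A := R) (P := P) hn q hq
  obtain ⟨τ⟩ := NormBundle51.top_iso_self R n
  refine ⟨a ^ n, fun hm => ha (hq.isPrime.mem_of_pow_mem n hm),
    τ.toLinearMap ∘ₗ exteriorPower.map n v, exteriorPower.map n u ∘ₗ τ.symm.toLinearMap, ?_, ?_⟩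
  · refine LinearMap.ext fun r => ?_
    show τ (exteriorPower.map n v (exteriorPower.map n u (τ.symm r))) = _
    rw [← LinearMap.comp_apply (exteriorPower.map n v), ← exteriorPower.map_comp, hvu, NormBundle51.map_smul_id,
      LinearMap.smul_apply, LinearMap.id_apply, map_smul, τ.apply_symm_apply]
    rfl
  · refine LinearMap.ext fun r => ?_
    show exteriorPower.map n u (τ.symm (τ (exteriorPower.map n v r))) = _
    rw [τ.symm_apply_apply, ← LinearMap.comp_apply (exteriorPower.map n u), ← exteriorPower.map_comp, huv,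
      NormBundle51.map_smul_id]

end Inv

section Wedge

variable {R : Type u} [CommRing R] (Q : Type u) [AddCommGroup Q] [Module R Q]

theorem exists_surjective_succ (k : ℕ) :
    ∃ φ : ⋀[R]^(k + 1) (R × Q) →ₗ[R] ⋀[R]^k Q, Function.Surjective φ := by
  let F : R × Q →ₗ[R] (R × Q) [⋀^Fin k]→ₗ[R] (⋀[R]^k Q) :=
    (LinearMap.fst R R Q).smulRight ((exteriorPower.ιMulti R k).compLinearMap (LinearMap.snd R R Q))
  refine ⟨exteriorPower.alternatingMapLinearEquiv (AlternatingMap.alternatizeUncurryFin F), ?_⟩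
  rw [← LinearMap.range_eq_top, eq_top_iff, ← exteriorPower.ιMulti_span R k Q, Submodule.span_le]
  rintro _ ⟨v, rfl⟩
  refine ⟨exteriorPower.ιMulti R (k + 1) (Fin.cons ((1 : R), (0 : Q)) fun i => ((0 : R), v i)), ?_⟩
  rw [exteriorPower.alternatingMapLinearEquiv_apply_ιMulti, AlternatingMap.alternatizeUncurryFin_apply,
    Finset.sum_eq_single 0]
  · simp [F]
  · intro i _ hi
    obtain ⟨j, rfl⟩ := Fin.exists_succ_eq.2 hi
    simp [F]
  · simp

theorem exists_surjective_top : ∀ (p k : ℕ),
    ∃ φ : ⋀[R]^(p + k) ((Fin p → R) × Q) →ₗ[R] ⋀[R]^k Q, Function.Surjective φ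
  | 0, k => ⟨exteriorPower.map k (LinearMap.snd R (Fin 0 → R) Q) ∘ₗ
      (LinearEquiv.ofEq _ _ (by rw [Nat.zero_add])).toLinearMap,
      (exteriorPower.map_surjective LinearMap.snd_surjective).comp (LinearEquiv.surjective _)⟩
  | p + 1, k => by
    obtain ⟨φ, hφ⟩ := exists_surjective_top p k
    obtain ⟨ψ, hψ⟩ := exists_surjective_succ (R := R) ((Fin p → R) × Q) (p + k)
    let e : ((Fin (p + 1) → R) × Q) ≃ₗ[R] R × ((Fin p → R) × Q) :=
      ((Fin.consLinearEquiv R fun _ : Fin (p + 1) => R).symm.prodCongr (LinearEquiv.refl R Q)).trans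
        (LinearEquiv.prodAssoc R _ _ _)
    exact ⟨φ ∘ₗ ψ ∘ₗ exteriorPower.map (p + k + 1) e.toLinearMap ∘ₗ
      (LinearEquiv.ofEq _ _ (by rw [Nat.add_right_comm])).toLinearMap,
      hφ.comp (hψ.comp ((exteriorPower.map_surjective e.surjective).comp (LinearEquiv.surjective _)))⟩

theorem nonempty_top_prod [Module.Finite R Q] [Module.Projective R Q] {p k n : ℕ} (hn : p + k = n)
    (hQ : ∀ q : PrimeSpectrum R, Module.rankAtStalk Q q = k) :
    Nonempty (⋀[R]^n ((Fin p → R) × Q) ≃ₗ[R] ⋀[R]^k Q) := by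
  subst hn
  haveI := invertible_top_of_rank hQ
  haveI : Module.Invertible R (⋀[R]^(p + k) ((Fin p → R) × Q)) := invertible_top_of_rank fun q => by
    haveI : Nontrivial R := q.nontrivial
    rw [Module.rankAtStalk_prod, Pi.add_apply, hQ, Module.rankAtStalk_eq_finrank_of_free,
      Module.finrank_fin_fun]
    rfl
  obtain ⟨φ, hφ⟩ := exists_surjective_top (R := R) Q p k
  exact ⟨LinearEquiv.ofBijective φ (Module.Invertible.bijective_of_surjective hφ)⟩

theorem nonempty_top_baseChange (B : Type u) [CommRing B] [Algebra R B] [Module.Finite R Q] [Module.Projective R Q]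
    {n : ℕ} (hn : ∀ q : PrimeSpectrum R, Module.rankAtStalk Q q = n) :
    Nonempty ((B ⊗[R] (⋀[R]^n Q)) ≃ₗ[B] ⋀[B]^n (B ⊗[R] Q)) := by
  haveI := invertible_top_of_rank hn
  haveI : Module.Invertible B (⋀[B]^n (B ⊗[R] Q)) := invertible_top_of_rank fun q => by
    rw [Module.rankAtStalk_baseChange, hn]
  let Ψ : ⋀[R]^n Q →ₗ[R] ⋀[B]^n (B ⊗[R] Q) := exteriorPower.alternatingMapLinearEquiv
    { toFun := fun v => exteriorPower.ιMulti B n fun i => (1 : B) ⊗ₜ[R] v i
      map_update_add' := fun v i x y => by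
        have h : ∀ z, (fun j => (1 : B) ⊗ₜ[R] Function.update v i z j) =
            Function.update (fun j => (1 : B) ⊗ₜ[R] v j) i ((1 : B) ⊗ₜ[R] z) := fun z => by
          funext j; by_cases hj : j = i
          · subst hj; simp
          · simp [hj]
        simp only [h, TensorProduct.tmul_add, AlternatingMap.map_update_add]
      map_update_smul' := fun v i c x => by
        have h : ∀ z, (fun j => (1 : B) ⊗ₜ[R] Function.update v i z j) =
            Function.update (fun j => (1 : B) ⊗ₜ[R] v j) i ((1 : B) ⊗ₜ[R] z) := fun z => by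
          funext j; by_cases hj : j = i
          · subst hj; simp
          · simp [hj]
        simp only [h, TensorProduct.tmul_smul]
        rw [← algebraMap_smul B c ((1 : B) ⊗ₜ[R] x), AlternatingMap.map_update_smul, algebraMap_smul]
      map_eq_zero_of_eq' := fun v i j hij hne =>
        AlternatingMap.map_eq_zero_of_eq _ _ (by rw [hij]) hne }
  let Φ : B ⊗[R] (⋀[R]^n Q) →ₗ[B] ⋀[B]^n (B ⊗[R] Q) := LinearMap.liftBaseChange B Ψ
  have hs : Submodule.span B (Set.range fun x : Q => (1 : B) ⊗ₜ[R] x) = ⊤ := by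
    rw [eq_top_iff]
    intro t _
    induction t using TensorProduct.induction_on with
    | zero => exact zero_mem _
    | add x y hx hy => exact add_mem (hx trivial) (hy trivial)
    | tmul b x =>
      rw [show b ⊗ₜ[R] x = b • ((1 : B) ⊗ₜ[R] x) by rw [TensorProduct.smul_tmul', smul_eq_mul, mul_one]]
      exact Submodule.smul_mem _ b (Submodule.subset_span ⟨x, rfl⟩)
  refine ⟨LinearEquiv.ofBijective Φ (Module.Invertible.bijective_of_surjective ?_)⟩
  rw [← LinearMap.range_eq_top, eq_top_iff, ← exteriorPower.ιMulti_span_of_span B n (B ⊗[R] Q) hs, Submodule.span_le]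
  rintro _ ⟨a, ha, rfl⟩
  choose x hx using fun i => ha ⟨i, rfl⟩
  refine ⟨(1 : B) ⊗ₜ[R] exteriorPower.ιMulti R n x, ?_⟩
  show LinearMap.liftBaseChange B Ψ _ = _
  rw [LinearMap.liftBaseChange_tmul, one_smul, exteriorPower.alternatingMapLinearEquiv_apply_ιMulti]
  show exteriorPower.ιMulti B n (fun i => (1 : B) ⊗ₜ[R] x i) = _
  rw [show (fun i => (1 : B) ⊗ₜ[R] x i) = a from funext hx]

end Wedge

theorem nonempty_adjunction {k A : Type u} [Field k] [CommRing A] [Algebra k A] [Algebra.FiniteType k A]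
    [Algebra.Smooth k A] {n : ℕ} (hn : ∀ q : PrimeSpectrum A, Module.rankAtStalk (Ω[A⁄k]) q = n)
    (xs : List A) (hreg : RingTheory.Sequence.IsWeaklyRegular A xs) (J : Ideal A) (hJ : Ideal.ofList xs = J)
    [Algebra.Smooth k (A ⧸ J)] (hpn : xs.length ≤ n) :
    Module.Invertible (A ⧸ J) (⋀[A ⧸ J]^(n - xs.length) (Ω[(A ⧸ J)⁄k])) ∧
      Nonempty (((A ⧸ J) ⊗[A] (⋀[A]^n (Ω[A⁄k]))) ≃ₗ[A ⧸ J] ⋀[A ⧸ J]^(n - xs.length) (Ω[(A ⧸ J)⁄k])) := by
  let B := A ⧸ J
  let p := xs.length
  let x : Fin p → A := fun i => xs[i]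
  have hof : List.ofFn x = xs := List.ofFn_getElem
  have hspan : Ideal.span (Set.range x) = J := by
    rw [← hJ, ← hof]
    exact congrArg Ideal.span (Set.ext fun z => by simp [List.mem_ofFn, eq_comm])
  have hsur : Function.Surjective (algebraMap A B) := Ideal.Quotient.mk_surjective
  have hker : RingHom.ker (algebraMap A B) = Ideal.span (Set.range x) := by rw [hspan]; exact Ideal.mk_ker
  obtain ⟨bC, hbC⟩ := Pool36.exists_basis x (by rw [hof]; exact hreg)
  obtain ⟨l, hl⟩ := (Algebra.FormallySmooth.iff_split_injection (R := k) (P := A) (A := B) hsur).1 inferInstance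
  let π : B ⊗[A] Ω[A⁄k] →ₗ[B] Ω[B⁄k] := KaehlerDifferential.mapBaseChange k A B
  have hπ : Function.Surjective π := KaehlerDifferential.mapBaseChange_surjective k A B hsur
  let dx : Fin p → B ⊗[A] Ω[A⁄k] := fun i => (1 : B) ⊗ₜ[A] KaehlerDifferential.D k A (x i)
  have hdx : ∀ i, dx i ∈ LinearMap.ker π := fun i => by
    rw [LinearMap.mem_ker]
    show KaehlerDifferential.mapBaseChange k A B ((1 : B) ⊗ₜ[A] KaehlerDifferential.D k A (x i)) = 0
    rw [KaehlerDifferential.mapBaseChange_tmul, KaehlerDifferential.map_D, one_smul,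
      show algebraMap A B (x i) = 0 from Ideal.Quotient.eq_zero_iff_mem.2 (hspan ▸ Ideal.subset_span ⟨i, rfl⟩),
      map_zero]
  let θ : (Fin p → B) →ₗ[B] LinearMap.ker π :=
    LinearMap.codRestrict _ (Fintype.linearCombination B dx) fun c => by
      rw [Fintype.linearCombination_apply]
      exact Submodule.sum_mem _ fun i _ => Submodule.smul_mem _ _ (hdx i)
  have hθval : ∀ a : Fin p → A, (θ fun i => algebraMap A B (a i) : B ⊗[A] Ω[A⁄k]) =
      KaehlerDifferential.kerCotangentToTensor k A B (Ideal.toCotangent _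
        (∑ i, a i • (⟨x i, hker.symm ▸ Ideal.subset_span ⟨i, rfl⟩⟩ : RingHom.ker (algebraMap A B)))) := fun a => by
    simp only [θ, LinearMap.codRestrict_apply, Fintype.linearCombination_apply, map_sum, map_smul,
      KaehlerDifferential.kerCotangentToTensor_toCotangent, dx, algebraMap_smul]
  have hθ : Function.Bijective θ := by
    refine ⟨(injective_iff_map_eq_zero θ).2 fun c hc => ?_, fun y => ?_⟩
    · choose a ha using fun i => hsur (c i)
      obtain rfl : c = fun i => algebraMap A B (a i) := funext fun i => (ha i).symm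
      have h1 := hθval a
      rw [hc] at h1
      have h2 := congrArg l h1
      rw [show ((0 : LinearMap.ker π) : B ⊗[A] Ω[A⁄k]) = 0 from rfl, map_zero, ← LinearMap.comp_apply, hl,
        LinearMap.id_apply, eq_comm, Ideal.toCotangent_eq_zero] at h2
      have h3 : ∑ i, (Ideal.Quotient.mk (Ideal.span (Set.range x)) (a i)) • bC i = 0 := by
        simp only [hbC]
        have h4 : (Ideal.span (Set.range x)).toCotangent
            (∑ i, a i • (⟨x i, Ideal.subset_span ⟨i, rfl⟩⟩ : Ideal.span (Set.range x))) = 0 := by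
          rw [Ideal.toCotangent_eq_zero]
          simp only [Submodule.coe_sum, SetLike.val_smul] at h2 ⊢
          rwa [hker] at h2
        rw [map_sum] at h4
        simp only [map_smul] at h4
        exact h4
      funext i
      have h5 := Fintype.linearIndependent_iff.1 bC.linearIndependent _ h3 i
      exact Ideal.Quotient.eq_zero_iff_mem.2 (hspan ▸ Ideal.Quotient.eq_zero_iff_mem.1 h5)
    · have hy : (y : B ⊗[A] Ω[A⁄k]) ∈ LinearMap.range (KaehlerDifferential.kerCotangentToTensor k A B) := by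
        rw [KaehlerDifferential.range_kerCotangentToTensor k A B hsur]
        exact y.2
      obtain ⟨z, hz⟩ := hy
      obtain ⟨⟨z, hzm⟩, rfl⟩ := Ideal.toCotangent_surjective _ z
      obtain ⟨a, ha⟩ := (Submodule.mem_span_range_iff_exists_fun A).1
        (show z ∈ Submodule.span A (Set.range x) by rw [hker] at hzm; exact hzm)
      refine ⟨fun i => algebraMap A B (a i), Subtype.ext ?_⟩
      rw [hθval, ← hz]
      congr 2
      exact Subtype.ext (by simpa using ha)
  haveI : Module.Projective B (Ω[B⁄k]) := inferInstance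
  obtain ⟨s, hs⟩ := Module.projective_lifting_property π LinearMap.id hπ
  have hπs : ∀ q, π (s q) = q := fun q => LinearMap.congr_fun hs q
  let E : B ⊗[A] Ω[A⁄k] ≃ₗ[B] LinearMap.ker π × Ω[B⁄k] :=
    { toFun := fun e => (⟨e - s (π e), by rw [LinearMap.mem_ker, map_sub, hπs, sub_self]⟩, π e)
      map_add' := fun a b => by
        ext <;> simp [sub_add_sub_comm]
      map_smul' := fun c a => by
        ext <;> simp [smul_sub]
      invFun := fun w => w.1 + s w.2
      left_inv := fun e => sub_add_cancel e _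
      right_inv := fun w => by
        have h1 : π (w.1 : B ⊗[A] Ω[A⁄k]) = 0 := LinearMap.mem_ker.1 w.1.2
        ext <;> simp [h1, hπs] }
  let E' : B ⊗[A] Ω[A⁄k] ≃ₗ[B] (Fin p → B) × Ω[B⁄k] :=
    E.trans ((LinearEquiv.ofBijective θ hθ).symm.prodCongr (LinearEquiv.refl B _))
  haveI : Module.Projective A (Ω[A⁄k]) := inferInstance
  have hQ : ∀ q : PrimeSpectrum B, Module.rankAtStalk (Ω[B⁄k]) q = n - p := fun q => by
    haveI : Nontrivial B := q.nontrivial
    have h1 : Module.rankAtStalk (B ⊗[A] Ω[A⁄k]) q = n := by rw [Module.rankAtStalk_baseChange, hn]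
    rw [Module.rankAtStalk_eq_of_equiv E', Module.rankAtStalk_prod, Pi.add_apply,
      Module.rankAtStalk_eq_finrank_of_free, Module.finrank_fin_fun] at h1
    simp only [Pi.natCast_apply, Nat.cast_id] at h1
    omega
  obtain ⟨e1⟩ := nonempty_top_baseChange (R := A) (Ω[A⁄k]) B hn
  obtain ⟨e2⟩ := nonempty_top_prod (R := B) (Ω[B⁄k]) (Nat.add_sub_cancel' hpn) hQ
  exact ⟨invertible_top_of_rank hQ, ⟨e1.trans ((LinearEquiv.ofBijective (exteriorPower.map n E'.toLinearMap)
    ⟨exteriorPower.map_injective E'.symm.toLinearMap (LinearMap.ext fun e => E'.symm_apply_apply e),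
      exteriorPower.map_surjective E'.surjective⟩).trans e2)⟩⟩

end Groth.Agent.DR39
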