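import Groth.Agent.DTen43.TwoTerm
import Groth.Agent.DTen43.Base
import Groth.Agent.DTen43.Monoidal

/-! Elementwise formulas for tensor products of complexes with a ring in degree zero. -/

set_option autoImplicit false
set_option linter.style.haveILetI false
set_option linter.unusedSectionVars false
set_option backward.isDefEq.respectTransparency false

universe u

open CategoryTheory CategoryTheory.Limits MonoidalCategory HomologicalComplex

attribute [local instance] HasDerivedCategory.standard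

namespace Groth.Agent.DR39.TorBC

open Groth.Agent.DTen43 (incl)

variable {S T : Type u} [CommRing S] [CommRing T]

/-- An element of the ring in the unit complex. -/
noncomputable def one₀ (t : T) : (𝟙_ (DRing.Cx T)).X 0 :=
  (singleObjXSelf (ComplexShape.up ℤ) 0 (𝟙_ (ModuleCat.{u} T))).inv.hom t

theorem one₀_smul (a t : T) : a • one₀ t = one₀ (a * t) :=
  ((singleObjXSelf (ComplexShape.up ℤ) 0 (𝟙_ (ModuleCat.{u} T))).inv.hom.map_smul a t).symm

theorem one₀_surjective (s : (𝟙_ (DRing.Cx T)).X 0) : ∃ t : T, one₀ t = s :=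
  ⟨(singleObjXSelf (ComplexShape.up ℤ) 0 (𝟙_ (ModuleCat.{u} T))).hom.hom s,
    Iso.hom_inv_id_apply (singleObjXSelf (ComplexShape.up ℤ) 0 (𝟙_ (ModuleCat.{u} T))) s⟩

theorem isZero_unit_X {p : ℤ} (hp : p ≠ 0) : IsZero ((𝟙_ (DRing.Cx T)).X p) :=
  isZero_single_obj_X (ComplexShape.up ℤ) 0 (𝟙_ (ModuleCat.{u} T)) p hp

theorem rightUnitor_incl (K : DRing.Cx T) (i : ℤ) (x : K.X i) (t : T) :
    ((ρ_ K).hom.f i).hom (incl K (𝟙_ (DRing.Cx T)) x 0 i (add_zero i) (one₀ t)) = t • x := by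
  have h : ((ρ_ K).inv.f i).hom (t • x) = incl K (𝟙_ (DRing.Cx T)) x 0 i (add_zero i) (one₀ t) := by
    have e : (ρ_ K).inv.f i = (ρ_ (K.X i)).inv ≫ (K.X i ◁ (singleObjXSelf _ 0 (𝟙_ (ModuleCat.{u} T))).inv) ≫
        ιTensorObj K (𝟙_ (DRing.Cx T)) i 0 i (add_zero i) :=
      rightUnitor'_inv K i
    rw [e]
    show incl K (𝟙_ (DRing.Cx T)) (t • x) 0 i (add_zero i) (one₀ 1) = _
    rw [DTen43.incl_smul, ← LinearMap.map_smul, one₀_smul, mul_one]
  rw [← h]
  exact LinearMap.congr_fun (congrArg (fun f : (K : DRing.Cx T) ⟶ K => (f.f i).hom) (ρ_ K).inv_hom_id) _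

theorem leftUnitor_incl (K : DRing.Cx T) (i : ℤ) (x : K.X i) (t : T) :
    ((λ_ K).hom.f i).hom (incl (𝟙_ (DRing.Cx T)) K (one₀ t) i i (zero_add i) x) = t • x := by
  have h : ((λ_ K).inv.f i).hom (t • x) = incl (𝟙_ (DRing.Cx T)) K (one₀ t) i i (zero_add i) x := by
    have e : (λ_ K).inv.f i = (λ_ (K.X i)).inv ≫ ((singleObjXSelf _ 0 (𝟙_ (ModuleCat.{u} T))).inv ▷ K.X i) ≫
        ιTensorObj (𝟙_ (DRing.Cx T)) K 0 i i (zero_add i) :=
      leftUnitor'_inv K i
    rw [e]
    show incl (𝟙_ (DRing.Cx T)) K (one₀ 1) i i (zero_add i) (t • x) = _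
    rw [LinearMap.map_smul, ← DTen43.incl_smul, one₀_smul, mul_one]
  rw [← h]
  exact LinearMap.congr_fun (congrArg (fun f : (K : DRing.Cx T) ⟶ K => (f.f i).hom) (λ_ K).inv_hom_id) _

variable (φ : S →+* T)

/-- The ring `T` as a complex of `S`-modules. -/
noncomputable abbrev resOne : DRing.Cx S := (DTen.resCx φ).obj (𝟙_ (DRing.Cx T))

/-- An element of the ring in the restricted unit complex. -/
noncomputable def oneR (t : T) : (resOne φ).X 0 := (one₀ t : (𝟙_ (DRing.Cx T)).X 0)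

theorem resTen_incl (Y Y' : DRing.Cx T) {p : ℤ} (s : Y.X p) (j n : ℤ) (h : p + j = n) (y : Y'.X j) :
    ((DTen.resTenCx φ Y Y').f n).hom
      (incl ((DTen.resCx φ).obj Y) ((DTen.resCx φ).obj Y') (show ((DTen.resCx φ).obj Y).X p from s) j n h
        (show ((DTen.resCx φ).obj Y').X j from y)) = incl Y Y' s j n h y :=
  LinearMap.congr_fun (congrArg ModuleCat.Hom.hom (DTen.ι_resTenCx φ Y Y' p j n h))
    ((show ((DTen.resCx φ).obj Y).X p from s) ⊗ₜ[S] (show ((DTen.resCx φ).obj Y').X j from y))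

theorem unitCx_apply (K : DRing.Cx S) (i : ℤ) (x : K.X i) :
    (((DTen.unitCx φ).app K).f i).hom x =
      ((ModuleCat.extendRestrictScalarsAdj.{u, u, u} φ).unit.app (K.X i)).hom x := rfl

theorem pfCx_incl (Y : DRing.Cx T) (K : DRing.Cx S) {p : ℤ} (s : Y.X p) (j n : ℤ) (h : p + j = n) (x : K.X j) :
    ((DTen43.pfCx φ Y K).f n).hom (incl ((DTen.resCx φ).obj Y) K (show ((DTen.resCx φ).obj Y).X p from s) j n h x) =
      incl Y ((DTen.extCx φ).obj K) s j n h
        (show ((DTen.extCx φ).obj K).X j from (((DTen.unitCx φ).app K).f j).hom x) := by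
  rw [DTen43.pfCx, HomologicalComplex.comp_f, ModuleCat.hom_comp, LinearMap.comp_apply, ← id_tensorHom,
    DTen43.incl_map]
  exact resTen_incl φ Y ((DTen.extCx φ).obj K) s j n h _

theorem braid_incl_zero (K L : DRing.Cx T) (i : ℤ) (x : K.X i) (s : L.X 0) :
    ((DTen.braidCx K L).hom.f i).hom (incl K L x 0 i (add_zero i) s) = incl L K s i i (zero_add i) x := by
  have h := DTen.ι_braidCx_hom K L i 0 i (add_zero i)
  rw [mul_zero, Int.negOnePow_zero, one_smul] at h
  exact LinearMap.congr_fun (congrArg ModuleCat.Hom.hom h) (x ⊗ₜ[T] s)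

/-- Maps out of `Z ⊗ T` are determined on the elements `z ⊗ t`. -/
theorem hom_ext_one {Z W : DRing.Cx S} {f g : Z ⊗ resOne φ ⟶ W}
    (h : ∀ (i : ℤ) (z : Z.X i) (t : T), (f.f i).hom (incl Z (resOne φ) z 0 i (add_zero i) (oneR φ t)) =
      (g.f i).hom (incl Z (resOne φ) z 0 i (add_zero i) (oneR φ t))) : f = g := by
  refine HomologicalComplex.hom_ext _ _ fun i => ModuleCat.hom_ext (LinearMap.ext fun x => ?_)
  refine DTen43.mem_of_incl_mem (LinearMap.eqLocus (f.f i).hom (g.f i).hom) (fun p j hpj z s => ?_) x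
  by_cases hj : j = 0
  · subst hj
    obtain rfl : p = i := by omega
    obtain ⟨t, rfl⟩ := one₀_surjective (T := T) s
    exact h p z t
  · haveI : Subsingleton ((resOne φ).X j) := ModuleCat.subsingleton_of_isZero
      (Functor.map_isZero (DTen.resM φ) (isZero_unit_X hj))
    rw [Subsingleton.elim s 0, map_zero]
    exact zero_mem _

/-- `Z ⊗ T ≅ (T ⊗ Z)|_S`. -/
noncomputable def nMap (Z : DRing.Cx S) : Z ⊗ resOne φ ⟶ (DTen.resCx φ).obj ((DTen.extCx φ).obj Z) :=
  (DTen.braidCx Z (resOne φ)).hom ≫ DTen43.pfCx φ (𝟙_ (DRing.Cx T)) Z ≫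
    (DTen.resCx φ).map (λ_ ((DTen.extCx φ).obj Z)).hom

instance isIso_nMap (Z : DRing.Cx S) : IsIso (nMap φ Z) :=
  IsIso.comp_isIso' inferInstance (IsIso.comp_isIso' inferInstance inferInstance)

theorem nMap_incl (Z : DRing.Cx S) (i : ℤ) (z : Z.X i) (t : T) :
    ((nMap φ Z).f i).hom (incl Z (resOne φ) z 0 i (add_zero i) (oneR φ t)) =
      (show ((DTen.resCx φ).obj ((DTen.extCx φ).obj Z)).X i from
        t • (show ((DTen.extCx φ).obj Z).X i from (((DTen.unitCx φ).app Z).f i).hom z)) := by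
  rw [nMap, HomologicalComplex.comp_f, HomologicalComplex.comp_f, ModuleCat.hom_comp, ModuleCat.hom_comp,
    LinearMap.comp_apply, LinearMap.comp_apply, braid_incl_zero, pfCx_incl]
  exact leftUnitor_incl _ i _ t

theorem nMap_natural {Z Z' : DRing.Cx S} (f : Z ⟶ Z') :
    (f ▷ resOne φ) ≫ nMap φ Z' = nMap φ Z ≫ (DTen.resCx φ).map ((DTen.extCx φ).map f) := by
  refine hom_ext_one φ fun i z t => ?_
  rw [HomologicalComplex.comp_f, HomologicalComplex.comp_f, ModuleCat.hom_comp, ModuleCat.hom_comp,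
    LinearMap.comp_apply, LinearMap.comp_apply, ← tensorHom_id, DTen43.incl_map, nMap_incl]
  have hn := LinearMap.congr_fun (congrArg (fun g : Z ⟶ _ => (g.f i).hom) ((DTen.unitCx φ).naturality f)) z
  erw [nMap_incl φ Z' i]
  refine Eq.trans ?_ (LinearMap.map_smul (((DTen.extCx φ).map f).f i).hom t _).symm
  exact congrArg (t • ·) hn

end Groth.Agent.DR39.TorBC
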