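import Groth.Agent.DR39.BC
import Groth.Agent.DR39.Derived
import Groth.Agent.DR39.RelPerfectBC

/-! Tor independent base change preserves quasi-isomorphisms of bounded above complexes of flat modules. -/

set_option autoImplicit false
set_option linter.style.haveILetI false
set_option linter.unusedSectionVars false
set_option backward.isDefEq.respectTransparency false

universe u

open CategoryTheory CategoryTheory.Limits CategoryTheory.Pretriangulated
open scoped TensorProduct

attribute [local instance] HasDerivedCategory.standard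

namespace Groth.Agent.DR39

variable {R R' P P' : Type u} [CommRing R] [CommRing R'] [CommRing P] [CommRing P']
  [Algebra R R'] [Algebra R P] [aPP' : Algebra P P'] [Algebra R' P'] [Algebra R P']
  [IsScalarTower R R' P'] [IsScalarTower R P P'] [Algebra.IsPushout R R' P P']

theorem exact_baseChange_pushout {M N L : Type u} [AddCommGroup M] [Module R M] [Module P M] [IsScalarTower R P M]
    [AddCommGroup N] [Module R N] [Module P N] [IsScalarTower R P N]
    [AddCommGroup L] [Module R L] [Module P L] [IsScalarTower R P L] (f : M →ₗ[P] N) (g : N →ₗ[P] L)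
    (h : Function.Exact ((f.restrictScalars R).rTensor R') ((g.restrictScalars R).rTensor R')) :
    Function.Exact (f.baseChange P') (g.baseChange P') := by
  let e := fun (X : Type u) [AddCommGroup X] [Module R X] [Module P X] [IsScalarTower R P X] =>
    (TensorProduct.comm R X R').toAddEquiv.trans
      (Algebra.IsPushout.cancelBaseChange R R' P P' X).symm.toAddEquiv
  have nat : ∀ {X Y : Type u} [AddCommGroup X] [Module R X] [Module P X] [IsScalarTower R P X]
      [AddCommGroup Y] [Module R Y] [Module P Y] [IsScalarTower R P Y] (φ : X →ₗ[P] Y) (z : X ⊗[R] R'),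
      φ.baseChange P' (e X z) = e Y ((φ.restrictScalars R).rTensor R' z) := by
    intro X Y _ _ _ _ _ _ _ _ φ z
    induction z using TensorProduct.induction_on with
    | zero => simp
    | add x y hx hy => simp only [map_add, hx, hy]
    | tmul m s => simp [e]
  exact (Function.Exact.iff_of_ladder_addEquiv (e₁ := e M) (e₂ := e N) (e₃ := e L)
    (f₁₂ := ((f.restrictScalars R).rTensor R').toAddMonoidHom)
    (f₂₃ := ((g.restrictScalars R).rTensor R').toAddMonoidHom)
    (g₁₂ := (f.baseChange P').toAddMonoidHom) (g₂₃ := (g.baseChange P').toAddMonoidHom)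
    (AddMonoidHom.ext fun z => nat f z) (AddMonoidHom.ext fun z => nat g z)).2 h

include R' in
theorem isZero_homology_ext_pushout (C : DRing.Cx P) (b : ℤ) (hb : DRing.VanishesAbove C b)
    (hflat : ∀ i, Module.Flat R ((ModuleCat.restrictScalars (algebraMap R P)).obj (C.X i)))
    (hac : ∀ i, IsZero (C.homology i)) (i : ℤ) :
    IsZero ((((extA P P').mapHomologicalComplex (ComplexShape.up ℤ)).obj C).homology i) := by
  obtain ⟨g, rfl⟩ : ∃ g : P →+* P', aPP' = g.toAlgebra :=
    ⟨algebraMap P P', Algebra.algebra_ext _ _ fun _ => rfl⟩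
  letI := g.toAlgebra
  let C' := (DRing.restrictCx (algebraMap R P)).obj C
  have hk : DRing.IsKFlat R C' :=
    isKFlat_of_flat b (fun i hi => (ModuleCat.restrictScalars (algebraMap R P)).map_isZero (hb i hi)) hflat
  have hz : IsZero ((QA R).obj C') := isZero_of_forall fun j => (isZero_HF_Q_iff C' j).2
    ((isZero_homology_iff C' j).2 fun x hx => (isZero_homology_iff C j).1 (hac j) x hx)
  have hex : ExT C' (ModuleCat.of R R') i :=
    exT_of_lowEx ((ta_of_isZero (i + 1) (i + 1) hz).lowEx hk (Iso.refl _)) _ (by omega)
  letI : ∀ k, Module R (C.X k) := fun k => Module.compHom (C.X k) (algebraMap R P)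
  haveI : ∀ k, IsScalarTower R P (C.X k) := fun k => ⟨fun r a m => by
    show (r • a) • m = algebraMap R P r • a • m
    rw [Algebra.smul_def, mul_smul]⟩
  have he := exact_baseChange_pushout (R' := R') (P' := P') (C.d (i - 1) i).hom (C.d i (i + 1)).hom
    ((exT_iff_exact C' (ModuleCat.of R R') i).1 hex)
  exact (isZero_homology_iff _ i).2 fun x hx => (he x).1 hx

include R' in
theorem quasiIso_ext_of_flat {X Y : DRing.Cx P} (φ : X ⟶ Y) [QuasiIso φ] {b c : ℤ}
    (hX : DRing.VanishesAbove X b) (hY : DRing.VanishesAbove Y c)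
    (fX : ∀ i, Module.Flat R ((ModuleCat.restrictScalars (algebraMap R P)).obj (X.X i)))
    (fY : ∀ i, Module.Flat R ((ModuleCat.restrictScalars (algebraMap R P)).obj (Y.X i))) :
    QuasiIso (((extA P P').mapHomologicalComplex (ComplexShape.up ℤ)).map φ) := by
  haveI : IsIso ((QA P).map φ) :=
    (DerivedCategory.isIso_Q_map_iff_quasiIso (ModuleCat.{u} P) φ).2 inferInstance
  let C := CochainComplex.mappingCone φ
  have hT := DerivedCategory.mappingCone_triangle_distinguished φ
  have hzC : IsZero ((QA P).obj C) :=
    (Triangle.isZero₃_iff_isIso₁ _ hT).2 (inferInstanceAs (IsIso ((QA P).map φ)))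
  have hC : ∀ i, IsZero (C.homology i) := fun i => (isZero_HF_Q_iff C i).1 (Functor.map_isZero _ hzC)
  let rs := ModuleCat.restrictScalars.{u} (algebraMap R P)
  have hCf : ∀ i, Module.Flat R (rs.obj (C.X i)) := fun i => by
    haveI := fX (i + 1)
    haveI := fY i
    haveI := flat_prod (A := R) (rs.obj (X.X (i + 1))) (rs.obj (Y.X i))
    let e' := ((ModuleCat.biprodIsoProd _ _).symm ≪≫
      (HomologicalComplex.homotopyCofiber.XIsoBiprod φ i (i + 1) rfl).symm)
    exact Module.Flat.of_linearEquiv (M := (rs.obj (X.X (i + 1))) × (rs.obj (Y.X i)))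
      { toFun := fun z => e'.inv.hom z
        map_add' := fun x y => map_add _ x y
        map_smul' := fun r x => map_smul e'.inv.hom (algebraMap R P r) x
        invFun := fun z => e'.hom.hom z
        left_inv := fun z => congrArg (fun f : C.X i ⟶ C.X i => f.hom z) e'.inv_hom_id
        right_inv := fun z => congrArg (fun f : ModuleCat.of P (X.X (i + 1) × Y.X i) ⟶ _ => f.hom z) e'.hom_inv_id }
  have hCb : DRing.VanishesAbove C (max b c) := fun i hi => IsZero.of_iso
    ((biprod_isZero_iff _ _).2 ⟨hX _ (by omega), hY _ (by omega)⟩)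
    (HomologicalComplex.homotopyCofiber.XIsoBiprod φ i (i + 1) rfl)
  let Φ := extA P P'
  let G := Φ.mapHomologicalComplex (ComplexShape.up ℤ)
  have hT' := DerivedCategory.mappingCone_triangle_distinguished (G.map φ)
  exact (DerivedCategory.isIso_Q_map_iff_quasiIso (ModuleCat.{u} P') (G.map φ)).1
    ((Triangle.isZero₃_iff_isIso₁ _ hT').1 (isZero_of_forall fun i => (isZero_HF_Q_iff _ i).2
      ((isZero_homology_ext_pushout (R := R) (R' := R') C _ hCb hCf hC i).of_iso
        ((HomologicalComplex.homologyFunctor _ _ i).mapIso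
          (CochainComplex.mappingCone.mapHomologicalComplexIso φ Φ).symm))))

end Groth.Agent.DR39
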