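import Groth.Agent.DR39.EvalTenFin
import Groth.Agent.DR39.RHomBridge
import Groth.Agent.DR39.RelPair
import Groth.Agent.DR39.Fibre

/-! Duality exchanges finite tor dimension and finite injective dimension. -/

set_option autoImplicit false
set_option linter.style.haveILetI false
set_option linter.unusedSectionVars false

universe u

open CategoryTheory CategoryTheory.Limits MonoidalCategory

attribute [local instance] HasDerivedCategory.standard

namespace Groth.Agent.DR39

open Groth.Agent.DTen43 Groth.Agent.DR39.RelDual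

variable {A : Type u} [CommRing A] [DTen.HasLTen A] [DTen.HasLTen₃ A] [DTen.IsSymMonoidal A] [DTen.HasRHom A]

theorem exists_isGE_of_finiteInjDim {M : Dual.D A} (hM : DRing.HasFiniteInjDim A M) : ∃ n : ℤ, M.IsGE n := by
  obtain ⟨p, q, E, hE, -, ⟨e⟩⟩ := hM
  haveI : CochainComplex.IsStrictlyGE E p :=
    (CochainComplex.isStrictlyGE_iff _ _).2 fun i hi => hE i (Or.inl hi)
  exact ⟨p, DerivedCategory.TStructure.t.isGE_of_iso e p⟩

theorem isGE_rhom (W M : Dual.D A) (p q : ℤ) (hW : W.IsLE p) (hM : M.IsGE q) :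
    ((DTen.RHomR A W).obj M).IsGE (q - p) := by
  refine (DerivedCategory.isGE_iff _ _).2 fun j hj => isZero_HF_of_hom_unitAt _ j fun g => ?_
  refine hom_rhom_eq_zero _ _ _ (fun x => ?_) g
  haveI := isLE_tensor_unitAt W p j hW
  exact eq_zero_of_le_of_ge x (p := p + j)
    (DerivedCategory.TStructure.t.isLE_of_iso (β_ W (unitAt A j)) (p + j)) hM (by omega)

theorem isLE_rhom (W M : Dual.D A) (p c : ℤ) (hW : W.IsGE p) (hM : Van c M) :
    ((DTen.RHomR A W).obj M).IsLE (c - p) := by
  refine (DerivedCategory.isLE_iff _ _).2 fun j hj => isZero_HF_of_hom_unitAt _ j fun g => ?_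
  refine hom_rhom_eq_zero _ _ _ (fun x => ?_) g
  haveI := isGE_tensor_unitAt W p j hW
  exact hM (p + j) _ (by omega) (DerivedCategory.TStructure.t.isGE_of_iso (β_ W (unitAt A j)) (p + j)) x

variable [IsNoetherianRing A]

theorem finiteInjDim_rhom_of_perfect {G ω : Dual.D A} (hG : DRing.IsPerfect A G)
    (hω : DRing.HasFiniteInjDim A ω) : DRing.HasFiniteInjDim A ((DTen.RHomR A G).obj ω) := by
  obtain ⟨G', ⟨hp⟩, hG'⟩ := exists_exactPairing_perfect G hG
  letI := hp
  obtain ⟨a, b, h⟩ := ((perfect_iff G').1 hG').2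
  refine finiteInjDim_of_iso (finiteInjDim_tensor h hω) ?_
  let i : DTen.tensorRightD A G ≅ tensorRight G :=
    NatIso.ofComponents (fun Z => Iso.refl _) fun {Z Z'} f => by
      simp only [Iso.refl_hom, Category.comp_id, Category.id_comp]
      rfl
  exact β_ G' ω ≪≫
    (((tensorRightAdjunction G G').ofNatIsoLeft i.symm).rightAdjointUniq (DTen.rhomAdj A G)).app ω

theorem finiteTorDim_iff_finiteInjDim {ω : Dual.D A} (hω : Dual.IsDualizing A ω) (G : DRing.Cx A)
    [DRing.HasRHomCx G] (hfin : ∀ i : ℤ, Module.Finite A (Dual.HD A (DRing.toD G) i))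
    (hbdd : ∃ a b : ℤ, ∀ i : ℤ, (i < a ∨ b < i) → Subsingleton (Dual.HD A (DRing.toD G) i)) :
    DRing.HasFiniteTorDimCx A (DRing.toD G) ↔ DRing.HasFiniteInjDim A ((DRing.RHomCx G).obj ω) := by
  obtain ⟨a₀, b₀, hb⟩ := hbdd
  have hpc : DRing.IsPseudoCoherent' A (DRing.toD G) :=
    pc'_of_isLE b₀ ((DerivedCategory.isLE_iff _ _).2 fun i hi => by
      haveI := hb i (Or.inr hi)
      exact ModuleCat.isZero_of_subsingleton _) hfin
  have hω' : DRing.HasFiniteInjDim A ω := exists_ia hω
  obtain ⟨r⟩ := nonempty_RHomCx_iso_RHomR G ω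
  constructor
  · intro h
    exact finiteInjDim_of_iso (finiteInjDim_rhom_of_perfect ((perfect_iff _).2 ⟨hpc, h⟩) hω') r.symm
  · intro hD
    obtain ⟨k⟩ := nonempty_rhomR_bidual hω G hfin
    let D : Dual.D A := (DRing.RHomCx G).obj ω
    obtain ⟨n, hn⟩ := exists_isGE_of_finiteInjDim hD
    obtain ⟨q, hq⟩ := exists_isGE_of_finiteInjDim hω'
    obtain ⟨cD, hcD⟩ := exists_hom_vanish_of_finiteInjDim hD
    obtain ⟨cω, hcω⟩ := exists_hom_vanish_of_finiteInjDim hω'
    obtain ⟨E, d, hv, hE, ⟨e⟩⟩ := hpc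
    have hk : DRing.IsKFlat A E := isKFlat_of_flat d hv fun i => flat_of_PR (proj_of_FF (hE i))
    have key := perfect_of_fibres E d hv hE e (q - cD) (cω - n) fun m hm i hi => by
      let φ : A →+* A ⧸ m := algebraMap A (A ⧸ m)
      haveI := DTen43.hasLTen (A ⧸ m)
      haveI := DTen43.hasLTen₃ (A ⧸ m)
      haveI := DTen43.isSymMonoidal (A ⧸ m)
      haveI := DTen43.hasLBase φ
      haveI := DTen43.hasResTen φ
      haveI := DTen43.resLegIso φ
      haveI := hasRHom (A := A ⧸ m)
      haveI := hasLBaseChange φ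
      let N : Dual.D A := Dual.inD A (A ⧸ m)
      haveI := isIso_evalHom_of_pseudoCoherent N D ω (pc'_inD _) n hn hω'
      haveI : N.IsLE 0 := inferInstanceAs
        (((DerivedCategory.singleFunctor (ModuleCat.{u} A) 0).obj _).IsLE 0)
      haveI : N.IsGE 0 := inferInstanceAs
        (((DerivedCategory.singleFunctor (ModuleCat.{u} A) 0).obj _).IsGE 0)
      have h1 := isGE_rhom N D 0 n inferInstance hn
      have h2 := isLE_rhom N D 0 cD inferInstance hcD
      have hz : IsZero ((HF A i).obj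
          ((DTen.RHomR A ((DTen.RHomR A N).obj D)).obj ω)) := by
        rcases hi with hi | hi
        · exact (DerivedCategory.isGE_iff _ _).1 (isGE_rhom _ ω (cD - 0) q h2 hq) i (by omega)
        · exact (DerivedCategory.isLE_iff _ _).1 (isLE_rhom _ ω (n - 0) cω h1 hcω) i (by omega)
      obtain ⟨l⟩ := nonempty_lbase_lb φ (DRing.toD G)
      let u : (DRing.restrictD φ).obj ((DRing.LBaseChange φ).obj (DRing.toD G)) ≅
          (DTen.RHomR A ((DTen.RHomR A N).obj D)).obj ω :=
        (DRing.restrictD φ).mapIso (l.symm ≪≫ (λ_ _).symm) ≪≫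
          (@asIso _ _ _ _ _ (isIso_projD φ (𝟙_ (Dual.D (A ⧸ m))) (DRing.toD G))).symm ≪≫
          (restrictUnitIso A (A ⧸ m) ⊗ᵢ k.symm) ≪≫ β_ N _ ≪≫ asIso (DTen.evalHom N D ω)
      have hz' := (isZero_DF_iff_of_faithful _ (isZero_of_isZero_restrict φ)
        ((DRing.LBaseChange φ).obj (DRing.toD G)) i).1 (hz.of_iso ((HF A i).mapIso u))
      exact exT_of_fibre_zero φ E hk e i (ModuleCat.subsingleton_of_isZero hz')
    exact ⟨q - cD, cω - n, key.2⟩

end Groth.Agent.DR39
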