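import Groth.Agent.DR39.Fibre2
import Groth.Agent.DR39.RelPerfectBC
import Groth.Agent.DR39.Derived
import Groth.Agent.DR39.SmoothCodim
import Groth.Agent.EGA4H10.Serre
import Groth.Agent.S7100

/-! Tor amplitude of localizations from the fibres. -/

set_option autoImplicit false
set_option linter.style.haveILetI false
set_option linter.unusedSectionVars false
set_option backward.isDefEq.respectTransparency false

universe u

open CategoryTheory CategoryTheory.Limits
open scoped TensorProduct

attribute [local instance] HasDerivedCategory.standard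

namespace Groth.Agent.DR39

theorem ff_extendScalars {A B : Type u} [CommRing A] [CommRing B] (φ : A →+* B) {M : ModuleCat.{u} A}
    (h : FFp M) : FFp ((ModuleCat.extendScalars.{u, u, u} φ).obj M) := by
  letI := φ.toAlgebra
  haveI := h.1; haveI := h.2
  exact ⟨(inferInstance : Module.Finite B (TensorProduct A B M)),
    (inferInstance : Module.Free B (TensorProduct A B M))⟩

section Pushout

variable (R A R' B : Type u) [CommRing R] [CommRing A] [CommRing R'] [CommRing B] [Algebra R A]
  [alg : Algebra R R'] [algAB : Algebra A B] [Algebra R' B] [Algebra R B] [IsScalarTower R A B]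
  [IsScalarTower R R' B] [Algebra.IsPushout R R' A B]

theorem extCx_restrict_iso_of_isPushout (F : DRing.Cx A) :
    Nonempty ((DRing.restrictCx (algebraMap R' B)).obj (extCx (algebraMap A B) F) ≅
      extCx (algebraMap R R') ((DRing.restrictCx (algebraMap R A)).obj F)) := by
  obtain ⟨φ, rfl⟩ : ∃ φ : R →+* R', alg = φ.toAlgebra :=
    ⟨algebraMap R R', Algebra.algebra_ext _ _ fun _ => rfl⟩
  obtain ⟨ψ, rfl⟩ : ∃ ψ : A →+* B, algAB = ψ.toAlgebra :=
    ⟨algebraMap A B, Algebra.algebra_ext _ _ fun _ => rfl⟩
  letI : Algebra R R' := φ.toAlgebra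
  letI : Algebra A B := ψ.toAlgebra
  let c : ∀ M : ModuleCat.{u} A,
      (ModuleCat.restrictScalars (algebraMap R' B)).obj ((extA A B).obj M) ≅
        (extA R R').obj ((ModuleCat.restrictScalars (algebraMap R A)).obj M) := fun M =>
    letI : Module R M := Module.compHom M (algebraMap R A)
    haveI : IsScalarTower R A M := ⟨fun r a m => by
      show (r • a) • m = algebraMap R A r • a • m
      rw [Algebra.smul_def, mul_smul]⟩
    let c0 := Algebra.IsPushout.cancelBaseChange R R' A B M
    LinearEquiv.toModuleIso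
      (X₁ := ((ModuleCat.restrictScalars (algebraMap R' B)).obj ((extA A B).obj M)))
      (X₂ := ((extA R R').obj ((ModuleCat.restrictScalars (algebraMap R A)).obj M)))
      { toFun := fun z => c0 z
        map_add' := fun x y => c0.map_add x y
        map_smul' := fun s x => by
          have h := c0.map_smul s (show B ⊗[A] M from x)
          rw [← IsScalarTower.algebraMap_smul B] at h
          exact h
        invFun := fun z => c0.symm z
        left_inv := fun z => c0.symm_apply_apply z
        right_inv := fun z => c0.apply_symm_apply z }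
  refine ⟨(HomologicalComplex.Hom.isoOfComponents (fun i => (c (F.X i)).symm) fun i j _ => ?_).symm⟩
  letI : ∀ k, Module R (F.X k) := fun k => Module.compHom (F.X k) (algebraMap R A)
  haveI : ∀ k, IsScalarTower R A (F.X k) := fun k => ⟨fun r a m => by
    show (r • a) • m = algebraMap R A r • a • m
    rw [Algebra.smul_def, mul_smul]⟩
  refine ModuleCat.hom_ext (LinearMap.ext fun z => ?_)
  show (F.d i j).hom.baseChange B
      ((Algebra.IsPushout.cancelBaseChange R R' A B (F.X i)).symm z) =
    (Algebra.IsPushout.cancelBaseChange R R' A B (F.X j)).symm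
      (((F.d i j).hom.restrictScalars R).baseChange R' z)
  induction (show R' ⊗[R] (F.X i) from z) using TensorProduct.induction_on with
  | zero => simp
  | add x y hx hy => simp only [map_add, hx, hy]
  | tmul s m => simp

end Pushout

/-- Restriction of scalars twice. -/
noncomputable def resCxComp {R S T : Type u} [CommRing R] [CommRing S] [CommRing T] (f : R →+* S)
    (g : S →+* T) (h : R →+* T) (e : g.comp f = h) (E : DRing.Cx T) :
    (DRing.restrictCx f).obj ((DRing.restrictCx g).obj E) ≅ (DRing.restrictCx h).obj E :=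
  HomologicalComplex.Hom.isoOfComponents
    (fun i => ((ModuleCat.restrictScalarsComp'App f g h e.symm (E.X i)).symm))
    (fun i j _ => rfl)

theorem ta_restrict_of_flat {A B : Type u} [CommRing A] [CommRing B] [Algebra A B] [Module.Flat A B]
    {X : Dual.D B} {a b : ℤ} (h : TA a b X) :
    TA a b ((DRing.restrictD (algebraMap A B)).obj X) := by
  obtain ⟨F, hv, hF, ⟨e⟩⟩ := (ta_iff_rep a b X).1 h
  exact (ta_iff_rep a b _).2 ⟨(DRing.restrictCx (algebraMap A B)).obj F,
    fun i hi => (ModuleCat.restrictScalars _).map_isZero (hv i hi), fun i => flat_restrictCx F i (hF i),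
    ⟨(restrictDIso (algebraMap A B) F).symm ≪≫ (DRing.restrictD (algebraMap A B)).mapIso e⟩⟩

theorem exists_fibre_prime' {A B : Type u} [CommRing A] [CommRing B] [Algebra A B] (p : Ideal A) [p.IsPrime]
    (q : Ideal B) [q.IsPrime] [hq : q.LiesOver p] : ∃ (Q : Ideal (p.Fiber B)) (_ : Q.IsPrime),
      Q.comap (Algebra.TensorProduct.includeRight : B →ₐ[A] p.Fiber B) = q := by
  obtain ⟨rfl⟩ := hq
  exact CAlg1.exists_fibre_prime (R := A) q

theorem ringKrullDim_fibre_mvPolynomial {R : Type u} [CommRing R] (p : Ideal R) [p.IsPrime] (d : ℕ) :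
    ringKrullDim (p.Fiber (MvPolynomial (Fin d) R)) = (d : ℕ∞) := by
  rw [ringKrullDim_eq_of_ringEquiv (MvPolynomial.algebraTensorAlgEquiv R p.ResidueField).toRingEquiv,
    MvPolynomial.ringKrullDim_of_isNoetherianRing, ringKrullDim_eq_zero_of_field]
  simp

theorem isKFlat_res_localization {R A : Type u} [CommRing R] [CommRing A] [Algebra R A] [Module.Flat R A]
    (q : Ideal A) [q.IsPrime] (p : Ideal R) [p.IsPrime] (hpq : p = Ideal.comap (algebraMap R A) q)
    (E : DRing.Cx A) (e0 : ℤ) (hv : DRing.VanishesAbove E e0) (hE : ∀ i, FFp (E.X i)) :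
    DRing.IsKFlat (Localization.AtPrime p)
      ((DRing.restrictCx (Localization.localRingHom p q (algebraMap R A) hpq)).obj
        (extCx (algebraMap A (Localization.AtPrime q)) E)) := by
  let Rp := Localization.AtPrime p
  let Aq := Localization.AtPrime q
  letI : Algebra Rp Aq := (Localization.localRingHom p q (algebraMap R A) hpq).toAlgebra
  haveI : IsScalarTower R Rp Aq := IsScalarTower.of_algebraMap_eq fun r =>
    ((Localization.localRingHom_to_map p q (algebraMap R A) hpq r).trans
      (IsScalarTower.algebraMap_apply R A Aq r).symm).symm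
  haveI : Module.Flat A Aq := IsLocalization.flat Aq q.primeCompl
  haveI : Module.Flat R Aq := Module.Flat.trans R A Aq
  haveI : Module.Flat Rp Aq := (Module.flat_iff_of_isLocalization Rp p.primeCompl Aq).2 inferInstance
  exact isKFlat_of_flat e0 (fun j hj => (ModuleCat.restrictScalars _).map_isZero
    ((extA A Aq).map_isZero (hv j hj))) fun j =>
      flat_restrictCx (extCx (algebraMap A Aq) E) j
        (flat_extendScalars (algebraMap A Aq) (flat_of_PR (proj_of_FF (hE j))))

theorem ta_localization_of_fibre {R P A : Type u} [CommRing R] [CommRing P] [CommRing A] [Algebra R P]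
    [Algebra R A] [Algebra P A] [IsScalarTower R P A] [Algebra.Smooth R P]
    [Module.Flat R A] [Algebra.FinitePresentation R A] (d : ℕ)
    (hψ : Function.Surjective (algebraMap P A))
    (hd : ∀ (p : Ideal R) [p.IsPrime], ringKrullDim (p.Fiber P) ≤ (d : ℕ∞))
    (q : Ideal A) [q.IsPrime] (p : Ideal R) [p.IsPrime] (hpq : p = Ideal.comap (algebraMap R A) q)
    (E : DRing.Cx A) (e0 : ℤ) (hv : DRing.VanishesAbove E e0) (hE : ∀ i, FFp (E.X i)) (a b : ℤ)
    (hfib : ∀ i : ℤ, i < a ∨ b < i → ExT
      ((DRing.restrictCx (Localization.localRingHom p q (algebraMap R A) hpq)).obj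
        (extCx (algebraMap A (Localization.AtPrime q)) E))
      (ModuleCat.of (Localization.AtPrime p) p.ResidueField) i) :
    TA (a - d) b ((QA R).obj ((DRing.restrictCx (algebraMap R (Localization.AtPrime q))).obj
      (extCx (algebraMap A (Localization.AtPrime q)) E))) := by
  let Q : Ideal P := q.comap (algebraMap P A)
  haveI : Q.IsPrime := inferInstanceAs (q.comap (algebraMap P A)).IsPrime
  haveI : Q.LiesOver p := ⟨by
    rw [hpq, IsScalarTower.algebraMap_eq R P A, ← Ideal.comap_comap]⟩
  let PQ := Localization.AtPrime Q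
  let Aq := Localization.AtPrime q
  let Rp := Localization.AtPrime p
  let := Localization.AtPrime.algebraOfLiesOver p Q
  haveI : Module.Flat Rp PQ := inferInstance
  haveI : IsLocalHom (algebraMap Rp PQ) := Localization.isLocalHom_localRingHom p Q _ _
  letI : Algebra PQ Aq := (Localization.localRingHom Q q (algebraMap P A) rfl).toAlgebra
  haveI : IsScalarTower P PQ Aq := IsScalarTower.of_algebraMap_eq fun x =>
    ((Localization.localRingHom_to_map Q q (algebraMap P A) rfl x).trans
      (IsScalarTower.algebraMap_apply P A Aq x).symm).symm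
  haveI hloc : IsLocalization (Algebra.algebraMapSubmonoid A Q.primeCompl) Aq := by
    have : Algebra.algebraMapSubmonoid A Q.primeCompl = q.primeCompl := by
      ext x
      obtain ⟨y, rfl⟩ := hψ x
      constructor
      · rintro ⟨z, hz, hzy⟩ hy
        exact hz (show algebraMap P A z ∈ q from (show algebraMap P A z = algebraMap P A y from hzy) ▸ hy)
      · intro hy
        exact ⟨y, hy, rfl⟩
    rw [this]
    infer_instance
  haveI : Algebra.IsPushout P PQ A Aq := (Algebra.isPushout_of_isLocalization Q.primeCompl PQ A Aq).symm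
  -- the class over `P_Q`
  let Eq' : DRing.Cx Aq := extCx (algebraMap A Aq) E
  let K' : Dual.D PQ := (QA PQ).obj ((DRing.restrictCx (algebraMap PQ Aq)).obj Eq')
  have hK' : DRing.IsPseudoCoherent' PQ K' := by
    obtain ⟨F, f0, hFv, hFF, ⟨eF⟩⟩ := ((Groth.Agent.S7100.result R P A hψ _).1).1
      (⟨E, e0, hv, hE, ⟨Iso.refl _⟩⟩ : DRing.IsPseudoCoherent' A ((QA A).obj E))
    obtain ⟨c⟩ := extCx_restrict_iso_of_isPushout P A PQ Aq E
    haveI : Module.Flat P PQ := IsLocalization.flat PQ Q.primeCompl
    refine ⟨extCx (algebraMap P PQ) F, f0, fun i hi => (extA P PQ).map_isZero (hFv i hi),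
      fun i => ff_extendScalars (algebraMap P PQ) (hFF i), ⟨?_⟩⟩
    exact (DFQ (extA P PQ) F).symm ≪≫ (DF (extA P PQ)).mapIso (eF ≪≫ restrictDIso (algebraMap P A) E) ≪≫
      DFQ (extA P PQ) _ ≪≫ (QA PQ).mapIso c.symm
  obtain ⟨G, g0, hGv, hG, ⟨g⟩⟩ := hK'
  have hB : ∀ j, Module.Flat PQ (G.X j) := fun j => flat_of_PR (proj_of_FF (hG j))
  let RG := (DRing.restrictCx (algebraMap Rp PQ)).obj G
  have hRGk : DRing.IsKFlat Rp RG := isKFlat_of_flat g0
    (fun j hj => (ModuleCat.restrictScalars _).map_isZero (hGv j hj)) fun j => flat_restrictCx G j (hB j)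
  have hcomp : (algebraMap PQ Aq).comp (algebraMap Rp PQ) =
      Localization.localRingHom p q (algebraMap R A) hpq := by
    refine (Localization.localRingHom_unique p q _ hpq fun r => ?_).symm
    show Localization.localRingHom Q q (algebraMap P A) rfl
      (Localization.localRingHom p Q (algebraMap R P) _ (algebraMap R Rp r)) = _
    rw [Localization.localRingHom_to_map, Localization.localRingHom_to_map,
      ← IsScalarTower.algebraMap_apply R P A]
  let RE := (DRing.restrictCx (Localization.localRingHom p q (algebraMap R A) hpq)).obj Eq'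
  have hREk : DRing.IsKFlat Rp RE := isKFlat_res_localization q p hpq E e0 hv hE
  let eR : (QA Rp).obj RG ≅ (QA Rp).obj RE :=
    (restrictDIso (algebraMap Rp PQ) G).symm ≪≫ (DRing.restrictD (algebraMap Rp PQ)).mapIso g ≪≫
      restrictDIso (algebraMap Rp PQ) _ ≪≫ (QA Rp).mapIso (resCxComp _ _ _ hcomp Eq')
  have hv' : ∀ i, (i < a ∨ b < i) → ExT RG (ModuleCat.of Rp p.ResidueField) i := fun i hi => by
    rw [← isZero_tensorCx_iff]
    obtain ⟨t⟩ := tensor_iso hRGk hREk eR (ModuleCat.of Rp p.ResidueField) i
    exact ((isZero_tensorCx_iff _ _ _).2 (hfib i hi)).of_iso t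
  -- the closed fibre
  obtain ⟨F', hF', hFQ⟩ := exists_fibre_prime' p Q
  haveI hreg : IsRegularLocalRing (PQ ⧸ p.map (algebraMap R PQ)) :=
    regular_fibre_local (fun p _ => FlatMor67.isRegularRing_of_smooth p.ResidueField _) p F' Q hFQ
      (Ideal.over_def Q p)
  have hdim : ringKrullDim (PQ ⧸ p.map (algebraMap R PQ)) ≤ (d : ℕ∞) := by
    rw [ringKrullDim_fibre_local p F' Q hFQ (Ideal.over_def Q p)]
    exact (Ideal.height_le_ringKrullDim_of_ne_top hF'.ne_top).trans (hd p)
  obtain ⟨d', hd'⟩ : ∃ n : ℕ, ringKrullDim (PQ ⧸ p.map (algebraMap R PQ)) = (n : ℕ∞) :=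
    ⟨_, (IsRegularLocalRing.spanFinrank_maximalIdeal (R := PQ ⧸ p.map (algebraMap R PQ))).symm⟩
  have hdd : d' ≤ d := by rw [hd'] at hdim; exact_mod_cast hdim
  have hTA : TA (a - d) b K' := (perfect_of_flat_fibres (A := Rp) G g0 hGv hG g a b d fun m hm => by
    obtain rfl := IsLocalRing.eq_maximalIdeal hm
    have hI : (IsLocalRing.maximalIdeal Rp).map (algebraMap Rp PQ) = p.map (algebraMap R PQ) := by
      rw [← Localization.AtPrime.map_eq_maximalIdeal, Ideal.map_map, ← IsScalarTower.algebraMap_eq]
    have hle : p.map (algebraMap R PQ) ≤ IsLocalRing.maximalIdeal PQ := hI ▸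
      ((IsLocalRing.local_hom_TFAE (algebraMap Rp PQ)).out 0 2 rfl rfl).mp inferInstance
    let I := (IsLocalRing.maximalIdeal Rp).map (algebraMap Rp PQ)
    refine ⟨ModuleCat.of Rp (Rp ⧸ IsLocalRing.maximalIdeal Rp), PQ ⧸ I, inferInstance, Ideal.Quotient.mk I,
      { (Algebra.TensorProduct.quotIdealMapEquivTensorQuot PQ (IsLocalRing.maximalIdeal Rp)).symm.toLinearEquiv with
        map_smul' := fun r x =>
          ((Algebra.TensorProduct.quotIdealMapEquivTensorQuot PQ (IsLocalRing.maximalIdeal Rp)).symm.toLinearEquiv.map_smul r x).trans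
            (Algebra.smul_def (A := PQ ⧸ I) r _) },
      Ideal.Quotient.factor (hI.le.trans hle), Ideal.Quotient.factor_comp_mk _, hv', fun M _ _ => ?_⟩
    haveI : IsRegularLocalRing (PQ ⧸ I) :=
      IsRegularLocalRing.of_ringEquiv (Ideal.quotEquivOfEq hI).symm
    have hI' : ringKrullDim (PQ ⧸ I) = d' := by
      rw [ringKrullDim_eq_of_ringEquiv (Ideal.quotEquivOfEq hI), hd']; rfl
    haveI := Groth.Agent.EGA4H10.hasPD_of_regular (PQ ⧸ I) d' hI' M
    exact hasProjectiveDimensionLT_of_ge _ (d' + 1) (d + 1) (by omega)).2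
  haveI : Module.Flat R PQ := by
    haveI : Module.Flat P PQ := IsLocalization.flat PQ Q.primeCompl
    exact Module.Flat.trans R P PQ
  exact (ta_restrict_of_flat (A := R) hTA).of_iso (restrictDIso (algebraMap R PQ) _ ≪≫
    (QA R).mapIso (resCxComp _ _ _ (IsScalarTower.algebraMap_eq R PQ Aq).symm Eq'))

end Groth.Agent.DR39
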