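import Groth.Agent.S13563
import Groth.Agent.DR39.RelPair
import Groth.Agent.DR39.TensorMap
import Groth.Agent.DTen43.RelHom

/-! The two actions on a module restricted from a pushout. -/

set_option autoImplicit false
set_option linter.style.haveILetI false
set_option linter.unusedSectionVars false
set_option backward.isDefEq.respectTransparency false

universe u

open CategoryTheory CategoryTheory.Limits MonoidalCategory

attribute [local instance] HasDerivedCategory.standard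

namespace Groth.Agent.DR39.Triv

open Groth.Agent.DTen43

variable {R A R' A' : Type u} [CommRing R] [CommRing A] [CommRing R'] [CommRing A']
  {φ : R →+* A} {ρ : R →+* R'} {α : A →+* A'} {φ' : R' →+* A'}

/-- The identification of the two restrictions on complexes. -/
noncomputable def jCx (h : α.comp φ = φ'.comp ρ) (Y : DRing.Cx A') :
    (DTen.resCx φ).obj ((DTen.resCx α).obj Y) ≅ (DTen.resCx ρ).obj ((DTen.resCx φ').obj Y) :=
  HomologicalComplex.Hom.isoOfComponents (fun i => (TrivBC.resCommMod h).app (Y.X i))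
    fun i j _ => ((TrivBC.resCommMod h).hom.naturality (Y.d i j)).symm

variable (h : α.comp φ = φ'.comp ρ) (Y : DRing.Cx A')

theorem jCx_eq : (TrivBC.resCommCx h).hom.app Y = DerivedCategory.Q.map (jCx h Y).hom := by
  simp only [TrivBC.resCommCx, Iso.trans_hom, Iso.symm_hom, NatTrans.comp_app, Functor.associator_hom_app,
    Functor.associator_inv_app, Functor.isoWhiskerRight_hom, Functor.whiskerRight_app]
  refine (Category.id_comp _).trans ((Category.comp_id _).trans (congrArg DerivedCategory.Q.map ?_))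
  exact HomologicalComplex.hom_ext _ _ fun i => ModuleCat.hom_ext (LinearMap.ext fun x => rfl)

/-- The action of `A` on the restriction. -/
noncomputable def rCx :
    (DTen.resCx φ).obj ((DTen.resCx α).obj Y) ⊗ (DTen.resCx φ).obj (𝟙_ (DRing.Cx A)) ⟶
      (DTen.resCx φ).obj ((DTen.resCx α).obj Y) :=
  DTen.resTenCx φ ((DTen.resCx α).obj Y) (𝟙_ (DRing.Cx A)) ≫
    (DTen.resCx φ).map (ρ_ ((DTen.resCx α).obj Y)).hom

/-- The action of `R'` on the restriction. -/
noncomputable def lCx :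
    (DTen.resCx ρ).obj (𝟙_ (DRing.Cx R')) ⊗ (DTen.resCx φ).obj ((DTen.resCx α).obj Y) ⟶
      (DTen.resCx φ).obj ((DTen.resCx α).obj Y) :=
  (_ ◁ (jCx h Y).hom) ≫ DTen.resTenCx ρ (𝟙_ (DRing.Cx R')) ((DTen.resCx φ').obj Y) ≫
    (DTen.resCx ρ).map (λ_ ((DTen.resCx φ').obj Y)).hom ≫ (jCx h Y).inv

theorem subsingleton_one (B : Type u) [CommRing B] (p : ℤ) (hp : p ≠ 0) :
    Subsingleton ((𝟙_ (DRing.Cx B)).X p) :=
  ModuleCat.subsingleton_of_isZero (HomologicalComplex.isZero_single_obj_X (ComplexShape.up ℤ) 0 _ p hp)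

theorem rCx_apply (q : ℤ) (y : Y.X q) (z : (𝟙_ (DRing.Cx A)).X 0) :
    ((rCx (φ := φ) (α := α) Y).f q).hom ((HomologicalComplex.ιTensorObj ((DTen.resCx φ).obj ((DTen.resCx α).obj Y))
      ((DTen.resCx φ).obj (𝟙_ (DRing.Cx A))) q 0 q (add_zero q)).hom (y ⊗ₜ[R] z)) =
      (show ((DTen.resCx φ).obj ((DTen.resCx α).obj Y)).X q from α (show A from uIso.hom.hom z) • y) := by
  refine (congrArg ((((DTen.resCx φ).map (ρ_ ((DTen.resCx α).obj Y)).hom)).f q).hom
    (LinearMap.congr_fun (congrArg ModuleCat.Hom.hom (DTen.ι_resTenCx φ ((DTen.resCx α).obj Y)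
      (𝟙_ (DRing.Cx A)) q 0 q (add_zero q))) (y ⊗ₜ[R] z))).trans ?_
  have e := LinearMap.congr_fun (congrArg ModuleCat.Hom.hom (ι_rightUnitor ((DTen.resCx α).obj Y) q q (add_zero q)))
    (y ⊗ₜ[A] uIso.hom.hom z)
  rw [HomologicalComplex.XIsoOfEq_rfl, Iso.refl_hom, Category.comp_id] at e
  have e' : uIso.inv.hom (uIso.hom.hom z) = z := LinearMap.congr_fun (congrArg ModuleCat.Hom.hom uIso.hom_inv_id) z
  refine Eq.trans ?_ (e.trans (TensorProduct.rid_tmul _ _))
  show _ = ((HomologicalComplex.ιTensorObj ((DTen.resCx α).obj Y) (𝟙_ (DRing.Cx A)) q 0 q _) ≫ (ρ_ ((DTen.resCx α).obj Y)).hom.f q).hom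
    (y ⊗ₜ[A] uIso.inv.hom (uIso.hom.hom z))
  rw [e']
  rfl

theorem lCx_apply (q : ℤ) (x : (𝟙_ (DRing.Cx R')).X 0) (y : Y.X q) :
    ((lCx h Y).f q).hom ((HomologicalComplex.ιTensorObj ((DTen.resCx ρ).obj (𝟙_ (DRing.Cx R')))
      ((DTen.resCx φ).obj ((DTen.resCx α).obj Y)) 0 q q (zero_add q)).hom (x ⊗ₜ[R] y)) =
      (show ((DTen.resCx φ).obj ((DTen.resCx α).obj Y)).X q from φ' (show R' from uIso.hom.hom x) • y) := by
  refine (congrArg ((DTen.resTenCx ρ (𝟙_ (DRing.Cx R')) ((DTen.resCx φ').obj Y) ≫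
    (DTen.resCx ρ).map (λ_ ((DTen.resCx φ').obj Y)).hom ≫ (jCx h Y).inv).f q).hom
      (LinearMap.congr_fun (congrArg ModuleCat.Hom.hom (whiskerLeft_ι (M := (DTen.resCx ρ).obj (𝟙_ (DRing.Cx R')))
        (jCx h Y).hom 0 q (zero_add q))) (x ⊗ₜ[R] y))).trans ?_
  refine (congrArg (((DTen.resCx ρ).map (λ_ ((DTen.resCx φ').obj Y)).hom ≫ (jCx h Y).inv).f q).hom
    (LinearMap.congr_fun (congrArg ModuleCat.Hom.hom (DTen.ι_resTenCx ρ (𝟙_ (DRing.Cx R'))
      ((DTen.resCx φ').obj Y) 0 q q (zero_add q))) (x ⊗ₜ[R] (show ((DTen.resCx ρ).obj ((DTen.resCx φ').obj Y)).X q from y)))).trans ?_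
  have e := LinearMap.congr_fun (congrArg ModuleCat.Hom.hom (ι_leftUnitor ((DTen.resCx φ').obj Y) q q (zero_add q)))
    (uIso.hom.hom x ⊗ₜ[R'] (show ((DTen.resCx φ').obj Y).X q from y))
  rw [HomologicalComplex.XIsoOfEq_rfl, Iso.refl_hom, Category.comp_id] at e
  have e' : uIso.inv.hom (uIso.hom.hom x) = x := LinearMap.congr_fun (congrArg ModuleCat.Hom.hom uIso.hom_inv_id) x
  refine Eq.trans ?_ (e.trans (TensorProduct.lid_tmul _ _))
  show _ = ((HomologicalComplex.ιTensorObj (𝟙_ (DRing.Cx R')) ((DTen.resCx φ').obj Y) 0 q q _) ≫ (λ_ ((DTen.resCx φ').obj Y)).hom.f q).hom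
    (uIso.inv.hom (uIso.hom.hom x) ⊗ₜ[R'] (show ((DTen.resCx φ').obj Y).X q from y))
  rw [e']
  rfl

/-- The two actions commute. -/
theorem lCx_rCx :
    lCx h Y ▷ (DTen.resCx φ).obj (𝟙_ (DRing.Cx A)) ≫ rCx (φ := φ) (α := α) Y =
      (α_ _ _ _).hom ≫ _ ◁ rCx (φ := φ) (α := α) Y ≫ lCx h Y := by
  refine HomologicalComplex.hom_ext _ _ fun n => HomologicalComplex.mapBifunctor₁₂.hom_ext fun p q r hn => ?_
  have hn' : p + q + r = n := hn
  rw [HomologicalComplex.mapBifunctor₁₂.ι_eq (curriedTensor (ModuleCat.{u} R))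
    (curriedTensor (ModuleCat.{u} R)) _ _ _ (ComplexShape.up ℤ) (ComplexShape.up ℤ) p q r (p + q) n rfl hn']
  refine ModuleCat.hom_ext (TensorProduct.ext_threefold fun x y z => ?_)
  by_cases hp : p = 0
  swap
  · haveI := subsingleton_one R' p hp
    rw [Subsingleton.elim (α := (𝟙_ (DRing.Cx R')).X p) x 0]
    erw [TensorProduct.zero_tmul, TensorProduct.zero_tmul, map_zero, map_zero]
  by_cases hr : r = 0
  swap
  · haveI := subsingleton_one A r hr
    rw [Subsingleton.elim (α := (𝟙_ (DRing.Cx A)).X r) z 0]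
    erw [TensorProduct.tmul_zero, map_zero, map_zero]
  subst hp hr
  obtain rfl : q = n := by omega
  let a := (DTen.resCx φ).obj ((DTen.resCx α).obj Y)
  let o := (DTen.resCx ρ).obj (𝟙_ (DRing.Cx R'))
  let o' := (DTen.resCx φ).obj (𝟙_ (DRing.Cx A))
  show ((lCx h Y ▷ o' ≫ rCx (φ := φ) (α := α) Y).f q).hom
      ((HomologicalComplex.ιTensorObj (o ⊗ a) o' (0 + q) 0 q hn').hom
        ((HomologicalComplex.ιTensorObj o a 0 q (0 + q) rfl).hom (x ⊗ₜ[R] y) ⊗ₜ[R] z)) =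
    (((α_ o a o').hom ≫ o ◁ rCx (φ := φ) (α := α) Y ≫ lCx h Y).f q).hom
      ((HomologicalComplex.ιTensorObj (o ⊗ a) o' (0 + q) 0 q hn').hom
        ((HomologicalComplex.ιTensorObj o a 0 q (0 + q) rfl).hom (x ⊗ₜ[R] y) ⊗ₜ[R] z))
  have e1 := LinearMap.congr_fun (congrArg ModuleCat.Hom.hom (ι_assocCx o a o' 0 q 0 q q q (zero_add q) (add_zero q)
    (add_zero q))) ((x ⊗ₜ[R] y) ⊗ₜ[R] z)
  have z0 : ∀ (s : ℤ) (hs : s = q) (hs' : 0 + q = s) (hs'' : s + 0 = q),
      (HomologicalComplex.ιTensorObj (o ⊗ a) o' s 0 q hs'').hom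
        ((HomologicalComplex.ιTensorObj o a 0 q s hs').hom (x ⊗ₜ[R] y) ⊗ₜ[R] z) =
      (HomologicalComplex.ιTensorObj (o ⊗ a) o' q 0 q (add_zero q)).hom
        ((HomologicalComplex.ιTensorObj o a 0 q q (zero_add q)).hom (x ⊗ₜ[R] y) ⊗ₜ[R] z) := by
    rintro s rfl hs' hs''
    rfl
  rw [z0 (0 + q) (zero_add q) rfl hn']
  simp only [HomologicalComplex.comp_f, ModuleCat.hom_comp, LinearMap.comp_apply]
  have w1 := LinearMap.congr_fun (congrArg ModuleCat.Hom.hom
    (whiskerRight_ι (P := o') (lCx h Y) q 0 (add_zero q)))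
      ((HomologicalComplex.ιTensorObj o a 0 q q (zero_add q)).hom (x ⊗ₜ[R] y) ⊗ₜ[R] z)
  have w2 := LinearMap.congr_fun (congrArg ModuleCat.Hom.hom
    (whiskerLeft_ι (M := o) (rCx (φ := φ) (α := α) Y) 0 q (zero_add q)))
      (x ⊗ₜ[R] (HomologicalComplex.ιTensorObj a o' q 0 q (add_zero q)).hom (y ⊗ₜ[R] z))
  refine (congrArg _ w1).trans (Eq.trans ?_ ((congrArg _ ((congrArg _ e1).trans w2)).symm))
  refine (congrArg (fun t => ((rCx (φ := φ) (α := α) Y).f q).hom
    ((HomologicalComplex.ιTensorObj a o' q 0 q (add_zero q)).hom (t ⊗ₜ[R] z))) (lCx_apply h Y q x y)).trans ?_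
  refine (rCx_apply (φ := φ) (α := α) Y q _ z).trans ?_
  refine Eq.trans ?_ ((congrArg (fun t => ((lCx h Y).f q).hom
    ((HomologicalComplex.ιTensorObj o a 0 q q (zero_add q)).hom (x ⊗ₜ[R] t))) (rCx_apply (φ := φ) (α := α) Y q y z)).trans
      (lCx_apply h Y q x _)).symm
  exact smul_comm (α (show A from (uIso (A := A)).hom.hom z)) (φ' (show R' from (uIso (A := R')).hom.hom x)) y

end Groth.Agent.DR39.Triv
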