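import Groth.Agent.DR39.TrivAct
import Groth.Agent.DR39.HasRHom
import Groth.Agent.DTen43.EvalTenPC

/-! The base change map of trivial duality and the evaluation map. -/

set_option autoImplicit false
set_option linter.style.haveILetI false
set_option linter.unusedSectionVars false

universe u

open CategoryTheory CategoryTheory.Limits MonoidalCategory

attribute [local instance] HasDerivedCategory.standard

namespace Groth.Agent.DR39.Triv

open Groth.Agent.DTen43 Groth.Agent.DR39.RelDual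

section Single

variable {P A : Type u} [CommRing P] [CommRing A] (φ : P →+* A)
variable [DTen.HasLTen P] [DTen.HasLTen A] [DTen.HasLBase φ] [DTen.HasResTen φ] [DTen.ResLegIso φ]
variable [DTen.HasLTen₃ P] [DTen.IsSymMonoidal P] [DTen.HasLTen₃ A] [DTen.IsSymMonoidal A]

/-- The action of the algebra on a restricted object. -/
noncomputable def act1 (U : Dual.D A) :
    (DRing.restrictD φ).obj U ⊗ (DRing.restrictD φ).obj (𝟙_ (Dual.D A)) ⟶ (DRing.restrictD φ).obj U :=
  lax φ U (𝟙_ (Dual.D A)) ≫ (DRing.restrictD φ).map (ρ_ U).hom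

/-- The action of the algebra on a restricted object, from the left. -/
noncomputable def act2 (U : Dual.D A) :
    (DRing.restrictD φ).obj (𝟙_ (Dual.D A)) ⊗ (DRing.restrictD φ).obj U ⟶ (DRing.restrictD φ).obj U :=
  lax φ (𝟙_ (Dual.D A)) U ≫ (DRing.restrictD φ).map (λ_ U).hom

@[reassoc]
theorem act1_natural {U V : Dual.D A} (f : U ⟶ V) :
    (DRing.restrictD φ).map f ▷ _ ≫ act1 φ V = act1 φ U ≫ (DRing.restrictD φ).map f := by
  rw [act1, act1, Category.assoc, ← tensorHom_id, ← CategoryTheory.Functor.map_id (DRing.restrictD φ) (𝟙_ (Dual.D A)),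
    lax_natural_assoc φ f (𝟙 (𝟙_ (Dual.D A))), ← Functor.map_comp, ← Functor.map_comp, tensorHom_id,
    rightUnitor_naturality]

@[reassoc]
theorem act2_natural {U V : Dual.D A} (f : U ⟶ V) :
    _ ◁ (DRing.restrictD φ).map f ≫ act2 φ V = act2 φ U ≫ (DRing.restrictD φ).map f := by
  rw [act2, act2, Category.assoc, ← id_tensorHom, ← CategoryTheory.Functor.map_id (DRing.restrictD φ) (𝟙_ (Dual.D A)),
    lax_natural_assoc φ (𝟙 (𝟙_ (Dual.D A))) f, ← Functor.map_comp, ← Functor.map_comp, id_tensorHom,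
    leftUnitor_naturality]

theorem act1_Q (Y : DRing.Cx A) :
    act1 φ (DerivedCategory.Q.obj Y) ≫ (DTen.resFactors φ).hom.app Y =
      (((DTen.resFactors φ).hom.app Y) ⊗ₘ (DTen.resFactors φ).hom.app (𝟙_ (DRing.Cx A))) ≫
        μ ((DTen.resCx φ).obj Y) ((DTen.resCx φ).obj (𝟙_ (DRing.Cx A))) ≫
          DerivedCategory.Q.map (DTen.resTenCx φ Y (𝟙_ (DRing.Cx A)) ≫ (DTen.resCx φ).map (ρ_ Y).hom) := by
  have f1 : lax φ (DerivedCategory.Q.obj Y) (𝟙_ (Dual.D A)) ≫ (DTen.resβB φ).app (Y, 𝟙_ (DRing.Cx A)) =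
      (((DTen.resFactors φ).hom.app Y) ⊗ₘ (DTen.resFactors φ).hom.app (𝟙_ (DRing.Cx A))) ≫
        μ ((DTen.resCx φ).obj Y) ((DTen.resCx φ).obj (𝟙_ (DRing.Cx A))) ≫
          DerivedCategory.Q.map (DTen.resTenCx φ Y (𝟙_ (DRing.Cx A))) := DTen.resPF_fac φ (Y, 𝟙_ (DRing.Cx A))
  have hn : (DRing.restrictD φ).map (ρ_ (DerivedCategory.Q.obj Y)).hom ≫ (DTen.resFactors φ).hom.app Y =
      (DTen.resβB φ).app (Y, 𝟙_ (DRing.Cx A)) ≫ DerivedCategory.Q.map ((DTen.resCx φ).map (ρ_ Y).hom) := by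
    rw [μ_right, Functor.map_comp, Category.assoc]
    refine Eq.trans ?_ (Category.assoc _ _ _).symm
    exact congrArg (_ ≫ ·) ((DTen.resFactors φ).hom.naturality (ρ_ Y).hom)
  rw [act1, Category.assoc, hn, reassoc_of% f1, ← Functor.map_comp]

theorem act2_Q (Y : DRing.Cx A) :
    act2 φ (DerivedCategory.Q.obj Y) ≫ (DTen.resFactors φ).hom.app Y =
      (((DTen.resFactors φ).hom.app (𝟙_ (DRing.Cx A))) ⊗ₘ (DTen.resFactors φ).hom.app Y) ≫
        μ ((DTen.resCx φ).obj (𝟙_ (DRing.Cx A))) ((DTen.resCx φ).obj Y) ≫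
          DerivedCategory.Q.map (DTen.resTenCx φ (𝟙_ (DRing.Cx A)) Y ≫ (DTen.resCx φ).map (λ_ Y).hom) := by
  have f1 : lax φ (𝟙_ (Dual.D A)) (DerivedCategory.Q.obj Y) ≫ (DTen.resβB φ).app (𝟙_ (DRing.Cx A), Y) =
      (((DTen.resFactors φ).hom.app (𝟙_ (DRing.Cx A))) ⊗ₘ (DTen.resFactors φ).hom.app Y) ≫
        μ ((DTen.resCx φ).obj (𝟙_ (DRing.Cx A))) ((DTen.resCx φ).obj Y) ≫
          DerivedCategory.Q.map (DTen.resTenCx φ (𝟙_ (DRing.Cx A)) Y) := DTen.resPF_fac φ (𝟙_ (DRing.Cx A), Y)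
  have hn : (DRing.restrictD φ).map (λ_ (DerivedCategory.Q.obj Y)).hom ≫ (DTen.resFactors φ).hom.app Y =
      (DTen.resβB φ).app (𝟙_ (DRing.Cx A), Y) ≫ DerivedCategory.Q.map ((DTen.resCx φ).map (λ_ Y).hom) := by
    rw [μ_left, Functor.map_comp, Category.assoc]
    refine Eq.trans ?_ (Category.assoc _ _ _).symm
    exact congrArg (_ ≫ ·) ((DTen.resFactors φ).hom.naturality (λ_ Y).hom)
  rw [act2, Category.assoc, hn, reassoc_of% f1, ← Functor.map_comp]

end Single

section Square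

variable {R A R' A' : Type u} [CommRing R] [CommRing A] [CommRing R'] [CommRing A']
  {φ : R →+* A} {ρ : R →+* R'} {α : A →+* A'} {φ' : R' →+* A'}
variable [DTen.HasLTen R] [DTen.HasLTen₃ R] [DTen.IsSymMonoidal R] [DTen.HasRHom R]
variable [DTen.HasLTen A] [DTen.HasLTen₃ A] [DTen.IsSymMonoidal A]
variable [DTen.HasLTen R'] [DTen.HasLTen₃ R'] [DTen.IsSymMonoidal R']
variable [DTen.HasLBase φ] [DTen.HasResTen φ] [DTen.ResLegIso φ] [DTen.HasLBase ρ] [DTen.HasResTen ρ] [DTen.ResLegIso ρ]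
variable (h : α.comp φ = φ'.comp ρ)

theorem resComm_app_Q (Z : DRing.Cx A') :
    (TrivBC.resComm h).hom.app (DerivedCategory.Q.obj Z) =
      ((DRing.restrictD φ).map ((DTen.resFactors α).hom.app Z) ≫
        (DTen.resFactors φ).hom.app ((DTen.resCx α).obj Z)) ≫
      DerivedCategory.Q.map (jCx h Z).hom ≫
      ((DTen.resFactors ρ).inv.app ((DTen.resCx φ').obj Z) ≫
        (DRing.restrictD ρ).map ((DTen.resFactors φ').inv.app Z)) := by
  rw [← jCx_eq h Z]
  letI i₁ := TrivBC.liftingRes₂ α φ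
  letI i₂ := TrivBC.liftingRes₂ φ' ρ
  simp only [TrivBC.resComm, Localization.liftNatIso_hom]
  refine (Localization.liftNatTrans_app _ _ _ _ _ _ _ Z).trans ?_
  have e : ∀ {B C D : Type u} [CommRing B] [CommRing C] [CommRing D] (g : C →+* D) (f : B →+* C),
      (TrivBC.liftingRes₂ g f).1 = (Functor.associator _ _ _).symm ≪≫
        Functor.isoWhiskerRight (ModuleCat.restrictScalars.{u} g).mapDerivedCategoryFactors _ ≪≫
          Functor.associator _ _ _ ≪≫
            Functor.isoWhiskerLeft _ (ModuleCat.restrictScalars.{u} f).mapDerivedCategoryFactors := fun g f => rfl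
  erw [e, e]
  simp

/-- The action of `R'` on an object restricted from `A'`. -/
noncomputable def L (T : Dual.D A') :
    (DRing.restrictD ρ).obj (𝟙_ (Dual.D R')) ⊗ (DRing.restrictD φ).obj ((DRing.restrictD α).obj T) ⟶
      (DRing.restrictD φ).obj ((DRing.restrictD α).obj T) :=
  _ ◁ (TrivBC.resComm h).hom.app T ≫ act2 ρ ((DRing.restrictD φ').obj T) ≫ (TrivBC.resComm h).inv.app T

theorem L_natural {T T' : Dual.D A'} (f : T ⟶ T') :
    _ ◁ (DRing.restrictD φ).map ((DRing.restrictD α).map f) ≫ L h T' =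
      L h T ≫ (DRing.restrictD φ).map ((DRing.restrictD α).map f) := by
  have h1 := (TrivBC.resComm h).hom.naturality f
  have h2 := (TrivBC.resComm h).inv.naturality f
  simp only [Functor.comp_map, Functor.comp_obj] at h1 h2
  simp only [L, Category.assoc]
  rw [← MonoidalCategory.whiskerLeft_comp_assoc, h1, MonoidalCategory.whiskerLeft_comp_assoc,
    act2_natural_assoc, h2]

/-- The two actions commute. -/
theorem L_act1 (T : Dual.D A') :
    L h T ▷ (DRing.restrictD φ).obj (𝟙_ (Dual.D A)) ≫ act1 φ ((DRing.restrictD α).obj T) =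
      (α_ _ _ _).hom ≫ _ ◁ act1 φ ((DRing.restrictD α).obj T) ≫ L h T := by
  obtain ⟨Y, -, -, ⟨e⟩⟩ := exists_kproj T
  let G := DRing.restrictD φ
  let Gα := DRing.restrictD α
  suffices hY : L h (DerivedCategory.Q.obj Y) ▷ G.obj (𝟙_ (Dual.D A)) ≫ act1 φ (Gα.obj (DerivedCategory.Q.obj Y)) =
      (α_ _ _ _).hom ≫ _ ◁ act1 φ (Gα.obj (DerivedCategory.Q.obj Y)) ≫ L h (DerivedCategory.Q.obj Y) by
    rw [← cancel_epi (((DRing.restrictD ρ).obj (𝟙_ (Dual.D R')) ◁ G.map (Gα.map e.hom)) ▷ G.obj (𝟙_ (Dual.D A))),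
      ← MonoidalCategory.comp_whiskerRight_assoc, L_natural h e.hom, MonoidalCategory.comp_whiskerRight_assoc,
      act1_natural, reassoc_of% hY, ← L_natural h e.hom, associator_naturality_middle_assoc,
      ← MonoidalCategory.whiskerLeft_comp_assoc, ← MonoidalCategory.whiskerLeft_comp_assoc, act1_natural]
  let QY := DerivedCategory.Q.obj Y
  let a := (DTen.resCx φ).obj ((DTen.resCx α).obj Y)
  let o := (DTen.resCx ρ).obj (𝟙_ (DRing.Cx R'))
  let o' := (DTen.resCx φ).obj (𝟙_ (DRing.Cx A))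
  let r₁ : (DRing.restrictD ρ).obj (𝟙_ (Dual.D R')) ⟶ DerivedCategory.Q.obj o :=
    (DTen.resFactors ρ).hom.app (𝟙_ (DRing.Cx R'))
  let r₂ : G.obj (𝟙_ (Dual.D A)) ⟶ DerivedCategory.Q.obj o' :=
    (DTen.resFactors φ).hom.app (𝟙_ (DRing.Cx A))
  let sM : G.obj (Gα.obj QY) ⟶ DerivedCategory.Q.obj a :=
    G.map ((DTen.resFactors α).hom.app Y) ≫ (DTen.resFactors φ).hom.app ((DTen.resCx α).obj Y)
  have hR : act1 φ (Gα.obj QY) ≫ sM =
      (sM ⊗ₘ r₂) ≫ μ a o' ≫ DerivedCategory.Q.map (rCx (φ := φ) (α := α) Y) := by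
    have hn := act1_natural φ ((DTen.resFactors α).hom.app Y)
    have hQ : act1 φ (DerivedCategory.Q.obj ((DTen.resCx α).obj Y)) ≫
          (DTen.resFactors φ).hom.app ((DTen.resCx α).obj Y) =
        ((DTen.resFactors φ).hom.app ((DTen.resCx α).obj Y) ⊗ₘ r₂) ≫ μ a o' ≫
          DerivedCategory.Q.map (rCx (φ := φ) (α := α) Y) := act1_Q φ ((DTen.resCx α).obj Y)
    refine (Category.assoc _ _ _).symm.trans ((congrArg (· ≫ _) hn.symm).trans ?_)
    refine (Category.assoc _ _ _).trans ((congrArg (_ ≫ ·) hQ).trans ?_)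
    rw [← tensorHom_id, tensorHom_comp_tensorHom_assoc, Category.id_comp]
  have hL : L h QY ≫ sM = (r₁ ⊗ₘ sM) ≫ μ o a ≫ DerivedCategory.Q.map (lCx h Y) := by
    let b := (DTen.resCx ρ).obj ((DTen.resCx φ').obj Y)
    let sB : (DRing.restrictD ρ).obj ((DRing.restrictD φ').obj QY) ⟶ DerivedCategory.Q.obj b :=
      (DRing.restrictD ρ).map ((DTen.resFactors φ').hom.app Y) ≫
        (DTen.resFactors ρ).hom.app ((DTen.resCx φ').obj Y)
    have hc : (TrivBC.resComm h).hom.app QY ≫ sB = sM ≫ DerivedCategory.Q.map (jCx h Y).hom := by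
      rw [resComm_app_Q]
      refine (Category.assoc _ _ _).trans (congrArg (_ ≫ ·) ((Category.assoc _ _ _).trans ?_))
      refine (congrArg (_ ≫ ·) ?_).trans (Category.comp_id _)
      exact (Category.assoc _ _ _).trans ((congrArg (_ ≫ ·) (((Category.assoc _ _ _).symm.trans
        (congrArg (· ≫ _) (((DRing.restrictD ρ).map_comp _ _).symm.trans ((congrArg (DRing.restrictD ρ).map
          ((DTen.resFactors φ').inv_hom_id_app Y)).trans (CategoryTheory.Functor.map_id _ _))))).trans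
            (Category.id_comp _))).trans ((DTen.resFactors ρ).inv_hom_id_app _))
    have hci : (TrivBC.resComm h).inv.app QY ≫ sM = sB ≫ DerivedCategory.Q.map (jCx h Y).inv := by
      rw [← cancel_epi ((TrivBC.resComm h).hom.app QY), Iso.hom_inv_id_app_assoc, ← Category.assoc]
      refine Eq.trans ?_ (congrArg (· ≫ _) hc.symm)
      rw [Category.assoc, ← Functor.map_comp, Iso.hom_inv_id, CategoryTheory.Functor.map_id]
      exact (Category.comp_id _).symm
    have hB : act2 ρ ((DRing.restrictD φ').obj QY) ≫ sB = (r₁ ⊗ₘ sB) ≫ μ o b ≫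
        DerivedCategory.Q.map (DTen.resTenCx ρ (𝟙_ (DRing.Cx R')) ((DTen.resCx φ').obj Y) ≫
          (DTen.resCx ρ).map (λ_ ((DTen.resCx φ').obj Y)).hom) := by
      have hn := act2_natural ρ ((DTen.resFactors φ').hom.app Y)
      refine (Category.assoc _ _ _).symm.trans ((congrArg (· ≫ _) hn.symm).trans ?_)
      refine (Category.assoc _ _ _).trans ((congrArg (_ ≫ ·) (act2_Q ρ ((DTen.resCx φ').obj Y))).trans ?_)
      rw [← id_tensorHom, tensorHom_comp_tensorHom_assoc, Category.id_comp]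
    have hμ := DTen43.μ_natural (𝟙 o) (jCx h Y).hom
    rw [CategoryTheory.Functor.map_id] at hμ
    refine (Category.assoc _ _ _).trans ((congrArg (_ ≫ ·) ((Category.assoc _ _ _).trans
      ((congrArg (_ ≫ ·) hci).trans ((Category.assoc _ _ _).symm.trans (congrArg (· ≫ _) hB))))).trans ?_)
    rw [← id_tensorHom, Category.assoc, Category.assoc, tensorHom_comp_tensorHom_assoc, Category.id_comp, hc,
      ← Category.comp_id r₁, ← tensorHom_comp_tensorHom_assoc, Category.comp_id r₁, reassoc_of% hμ,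
      ← Functor.map_comp, ← Functor.map_comp, id_tensorHom]
    simp only [lCx, Category.assoc]
    rfl
  haveI : IsIso sM := by
    haveI : IsIso (G.map ((DTen.resFactors α).hom.app Y)) := inferInstance
    exact IsIso.comp_isIso' this inferInstance
  rw [← cancel_mono sM, Category.assoc, hR, Category.assoc, Category.assoc, hL]
  rw [← tensorHom_id (L h QY), tensorHom_comp_tensorHom_assoc, Category.id_comp, hL, ← id_tensorHom _ (act1 φ _),
    tensorHom_comp_tensorHom_assoc, Category.id_comp, hR]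
  have hl := DTen43.μ_natural (lCx h Y) (𝟙 o')
  have hr := DTen43.μ_natural (𝟙 o) (rCx (φ := φ) (α := α) Y)
  rw [CategoryTheory.Functor.map_id] at hl hr
  have key := congrArg DerivedCategory.Q.map (lCx_rCx h Y)
  rw [← tensorHom_id, ← id_tensorHom] at key
  rw [← Category.comp_id r₂, ← tensorHom_comp_tensorHom_assoc, Category.comp_id, reassoc_of% (show
    (μ o a ≫ DerivedCategory.Q.map (lCx h Y) ⊗ₘ 𝟙 (DerivedCategory.Q.obj o')) ≫ μ a o' =
      (μ o a ⊗ₘ 𝟙 (DerivedCategory.Q.obj o')) ≫ μ (o ⊗ a) o' ≫ DerivedCategory.Q.map (lCx h Y ⊗ₘ 𝟙 o') by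
      rw [← hl, tensorHom_comp_tensorHom_assoc, Category.id_comp])]
  rw [← Category.comp_id r₁, ← tensorHom_comp_tensorHom_assoc, Category.comp_id, reassoc_of% (show
    (𝟙 (DerivedCategory.Q.obj o) ⊗ₘ μ a o' ≫ DerivedCategory.Q.map (rCx (φ := φ) (α := α) Y)) ≫ μ o a =
      (𝟙 (DerivedCategory.Q.obj o) ⊗ₘ μ a o') ≫ μ o (a ⊗ o') ≫
        DerivedCategory.Q.map (𝟙 o ⊗ₘ rCx (φ := φ) (α := α) Y) by
      rw [← hr, tensorHom_comp_tensorHom_assoc, Category.id_comp])]
  rw [← associator_naturality_assoc, reassoc_of% (DTen43.μ_assoc o a o'), ← Functor.map_comp, ← Functor.map_comp,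
    key, ← Functor.map_comp]

variable [DRing.HasLBaseChange ρ] [DRing.HasLBaseChange α]
variable (adjρ : DRing.LBaseChange ρ ⊣ DRing.restrictD ρ) (adjα : DRing.LBaseChange α ⊣ DRing.restrictD α)

/-- Tensoring with the restricted ring is restricting the base change. -/
noncomputable def nu (X : Dual.D R) :
    (DRing.restrictD ρ).obj (𝟙_ (Dual.D R')) ⊗ X ⟶ (DRing.restrictD ρ).obj ((DRing.LBaseChange ρ).obj X) :=
  _ ◁ adjρ.unit.app X ≫ act2 ρ ((DRing.LBaseChange ρ).obj X)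

@[reassoc]
theorem nu_natural {X Y : Dual.D R} (f : X ⟶ Y) :
    _ ◁ f ≫ nu adjρ Y = nu adjρ X ≫ (DRing.restrictD ρ).map ((DRing.LBaseChange ρ).map f) := by
  simp only [nu, Category.assoc]
  rw [← act2_natural, ← MonoidalCategory.whiskerLeft_comp_assoc, ← MonoidalCategory.whiskerLeft_comp_assoc]
  exact congrArg (fun t => _ ◁ t ≫ _) (adjρ.unit.naturality f)

theorem isIso_nu (X : Dual.D R) : IsIso (nu adjρ X) := by
  let e := (DTen.baseAdj ρ).leftAdjointUniq adjρ
  have he : (DTen.baseAdj ρ).unit.app X ≫ (DRing.restrictD ρ).map (e.hom.app X) = adjρ.unit.app X := by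
    simp [e]
  haveI := isIso_projD ρ (𝟙_ (Dual.D R')) X
  have hn : nu adjρ X = projD ρ (𝟙_ (Dual.D R')) X ≫
      (DRing.restrictD ρ).map (λ_ ((DTen.LBase ρ).obj X)).hom ≫ (DRing.restrictD ρ).map (e.hom.app X) := by
    rw [nu, ← he, MonoidalCategory.whiskerLeft_comp, Category.assoc, act2_natural, projD_lax, act2]
    simp only [Category.assoc]
  rw [hn]
  infer_instance

variable {Rφ : Dual.D R ⥤ Dual.D A} (adj : DRing.restrictD φ ⊣ Rφ)
variable {Rφ' : Dual.D R' ⥤ Dual.D A'} (adj' : DRing.restrictD φ' ⊣ Rφ')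

theorem isIso_bcMap_iff (hall : ∀ U : Dual.D A, IsIso (TrivBC.cmp adjρ adjα h U)) (K : Dual.D R)
    (hc : IsIso (TrivBC.cmp adjρ adjα h (Rφ.obj K))) :
    IsIso (TrivBC.bcMap adjρ adjα h adj adj' K hc) ↔
      IsIso (DTen.evalTen ((DRing.restrictD ρ).obj (DTen.unit R')) K
        ((DRing.restrictD φ).obj (DTen.unit A))) := by
  haveI := hc
  let G := DRing.restrictD φ
  let Gρ := DRing.restrictD ρ
  let Gα := DRing.restrictD α
  let G' := DRing.restrictD φ'
  let F := DRing.LBaseChange ρ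
  let U := Rφ.obj K
  let T := (DRing.LBaseChange α).obj U
  let S := Rφ'.obj (F.obj K)
  let A₁ := G.obj (𝟙_ (Dual.D A))
  let R₁ := Gρ.obj (𝟙_ (Dual.D R'))
  let b : T ⟶ S := TrivBC.bcMap adjρ adjα h adj adj' K hc
  show IsIso b ↔ _
  have hone : ∀ Z : Dual.D A, IsIHom (C := Dual.D A) (ρ_ Z).hom := fun Z W => by
    have : (fun g : W ⟶ Z => g ▷ 𝟙_ (Dual.D A) ≫ (ρ_ Z).hom) = (ρ_ W).symm.homFromEquiv := by
      funext g
      exact rightUnitor_naturality g
    rw [this]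
    exact Equiv.bijective _
  let cS : G.obj (Gα.obj S) ⟶ Gρ.obj (F.obj K) :=
    (TrivBC.resComm h).hom.app S ≫ Gρ.map (adj'.counit.app (F.obj K))
  have hcS : ∀ Z : Dual.D A, Function.Bijective fun x : Z ⟶ Gα.obj S => G.map x ≫ cS := fun Z => by
    haveI := hall Z
    let E : (Z ⟶ Gα.obj S) ≃ (G.obj Z ⟶ Gρ.obj (F.obj K)) :=
      (adjα.homEquiv Z S).symm.trans <| (adj'.homEquiv _ (F.obj K)).symm.trans <|
        (asIso (TrivBC.cmp adjρ adjα h Z)).symm.homFromEquiv.trans (adjρ.homEquiv _ _)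
    have : (fun x : Z ⟶ Gα.obj S => G.map x ≫ cS) = E := by
      funext x
      let x' := (adjα.homEquiv Z S).symm x
      have hx : x = adjα.unit.app Z ≫ Gα.map x' :=
        ((adjα.homEquiv Z S).apply_symm_apply x).symm.trans (adjα.homEquiv_unit _ _ x')
      show G.map x ≫ cS = adjρ.homEquiv _ _ (TrivBC.cmp adjρ adjα h Z ≫ (adj'.homEquiv _ _).symm x')
      rw [adjρ.homEquiv_naturality_right, adj'.homEquiv_counit, TrivBC.cmp, Equiv.apply_symm_apply, hx]
      simp only [Functor.map_comp, Category.assoc, cS]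
      refine congrArg (_ ≫ ·) ?_
      rw [← Category.assoc, ← Category.assoc]
      exact congrArg (· ≫ _) ((TrivBC.resComm h).hom.naturality x')
    rw [this]
    exact E.bijective
  let PS := act1 φ (Gα.obj S) ≫ cS
  have hPS : IsIHom PS := by
    have := isIHom_res φ cS hcS (hone (Gα.obj S))
    rw [← Category.assoc] at this
    exact this
  have hW : IsIHom (act1 φ U ≫ adj.counit.app K) := by
    have := isIHom_res φ (adj.counit.app K) (fun Z => by
      convert (adj.homEquiv Z K).symm.bijective using 1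
      funext x
      exact (adj.homEquiv_counit _ _ _).symm) (hone U)
    rw [← Category.assoc] at this
    exact this
  let W0 := act1 φ U ≫ adj.counit.app K
  let cT : G.obj (Gα.obj T) ⟶ Gρ.obj (F.obj K) :=
    (TrivBC.resComm h).hom.app T ≫ Gρ.map (inv (TrivBC.cmp adjρ adjα h U) ≫ F.map (adj.counit.app K))
  have hcT : G.map (Gα.map b) ≫ cS = cT := by
    have hb : G'.map b ≫ adj'.counit.app (F.obj K) = inv (TrivBC.cmp adjρ adjα h U) ≫ F.map (adj.counit.app K) :=
      (adj'.homEquiv_counit _ _ b).symm.trans (Equiv.symm_apply_apply _ _)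
    simp only [cS, cT]
    rw [← hb, Functor.map_comp, ← Category.assoc, ← Category.assoc]
    exact congrArg (· ≫ _) ((TrivBC.resComm h).hom.naturality b)
  haveI := isIso_nu adjρ (G.obj U)
  haveI := isIso_nu adjρ K
  let κ₁ : R₁ ⊗ G.obj U ⟶ G.obj (Gα.obj T) :=
    nu adjρ (G.obj U) ≫ Gρ.map (TrivBC.cmp adjρ adjα h U) ≫ (TrivBC.resComm h).inv.app T
  haveI : IsIso κ₁ := inferInstance
  have hκ₁ : κ₁ = R₁ ◁ G.map (adjα.unit.app U) ≫ L h T := by
    have hη : adjρ.unit.app (G.obj U) ≫ Gρ.map (TrivBC.cmp adjρ adjα h U) =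
        G.map (adjα.unit.app U) ≫ (TrivBC.resComm h).hom.app T :=
      (adjρ.homEquiv_unit _ _ _).symm.trans (Equiv.apply_symm_apply _ _)
    simp only [κ₁, nu, L, Category.assoc]
    rw [← act2_natural_assoc, ← MonoidalCategory.whiskerLeft_comp_assoc, hη,
      MonoidalCategory.whiskerLeft_comp_assoc]
  -- the pairing of the source corresponds to the pairing of the evaluation map
  have key : κ₁ ▷ A₁ ≫ act1 φ (Gα.obj T) ≫ cT = (α_ R₁ (G.obj U) A₁).hom ≫ R₁ ◁ W0 ≫ nu adjρ K := by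
    have h1 : κ₁ ▷ A₁ ≫ act1 φ (Gα.obj T) =
        (α_ R₁ (G.obj U) A₁).hom ≫ R₁ ◁ act1 φ U ≫ κ₁ := by
      let u : G.obj U ⟶ G.obj (Gα.obj T) := G.map (adjα.unit.app U)
      have hn : u ▷ A₁ ≫ act1 φ (Gα.obj T) = act1 φ U ≫ u := act1_natural φ (adjα.unit.app U)
      have hκ : κ₁ = R₁ ◁ u ≫ L h T := hκ₁
      have hl : L h T ▷ A₁ ≫ act1 φ (Gα.obj T) =
          (α_ R₁ (G.obj (Gα.obj T)) A₁).hom ≫ R₁ ◁ act1 φ (Gα.obj T) ≫ L h T := L_act1 h T
      rw [hκ, MonoidalCategory.comp_whiskerRight, Category.assoc, hl, associator_naturality_middle_assoc,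
        ← MonoidalCategory.whiskerLeft_comp_assoc, ← MonoidalCategory.whiskerLeft_comp_assoc, hn]
    rw [reassoc_of% h1]
    refine congrArg (_ ≫ ·) ?_
    simp only [W0, MonoidalCategory.whiskerLeft_comp, Category.assoc]
    refine congrArg (_ ≫ ·) ?_
    erw [nu_natural]
    simp only [κ₁, cT, Category.assoc, Iso.inv_hom_id_app_assoc, ← Functor.map_comp, IsIso.hom_inv_id_assoc]
    rfl
  let M' := (DTen.RHomR R A₁).obj K
  obtain ⟨j, hj⟩ := (isIHom_ev (A := R) A₁ K (G.obj U)).2 W0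
  haveI : IsIso j := (isIHom_ev (A := R) A₁ K).isIso hW j hj
  let Q' := (α_ R₁ M' A₁).hom ≫ R₁ ◁ DTen.ev A₁ K
  have hE : DTen.evalTen R₁ K A₁ ▷ A₁ ≫ DTen.ev A₁ (R₁ ⊗ K) = Q' := DTen.evalTen_fac R₁ K A₁
  have hevQ : IsIso (DTen.evalTen R₁ K A₁) ↔ IsIHom Q' :=
    ⟨fun _ => hE ▸ (isIHom_ev (A := R) A₁ (R₁ ⊗ K)).comp_iso (asIso (DTen.evalTen R₁ K A₁)),
      fun hq => (isIHom_ev (A := R) A₁ (R₁ ⊗ K)).isIso hq _ hE⟩
  let PT := G.map (Gα.map b) ▷ A₁ ≫ PS
  have hPT : IsIso b ↔ IsIHom PT := by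
    refine ⟨fun _ => hPS.comp_iso (asIso (G.map (Gα.map b))), fun hp => ?_⟩
    haveI : IsIso (G.map (Gα.map b)) := hPS.isIso hp _ rfl
    haveI : IsIso (Gρ.map (G'.map b)) :=
      (NatIso.isIso_map_iff (TrivBC.resComm h) b).1 (inferInstanceAs (IsIso (G.map (Gα.map b))))
    haveI := DTen43.hasLTen (A := A')
    haveI := DTen43.hasLBase φ'
    haveI := DTen43.hasResTen φ'
    haveI := DTen43.resLegIso φ'
    haveI := isIso_of_isIso_restrictD ρ (G'.map b)
    exact isIso_of_isIso_restrictD φ' b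
  have hlink : (R₁ ◁ j) ▷ A₁ ≫ Q' ≫ nu adjρ K = κ₁ ▷ A₁ ≫ PT := by
    have hPT' : PT = act1 φ (Gα.obj T) ≫ cT := by
      simp only [PT, PS]
      rw [act1_natural_assoc, hcT]
    rw [hPT', key]
    simp only [Q', Category.assoc]
    rw [associator_naturality_middle_assoc, ← MonoidalCategory.whiskerLeft_comp_assoc]
    exact congrArg (fun t => _ ≫ R₁ ◁ t ≫ _) hj
  have post : ∀ {M N N' : Dual.D R} (e : M ⊗ A₁ ⟶ N) (f : N ⟶ N') [IsIso f], IsIHom e ↔ IsIHom (e ≫ f) := by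
    intro M N N' e f _
    refine forall_congr' fun X => ?_
    have : (fun g : X ⟶ M => g ▷ A₁ ≫ e ≫ f) = (asIso f).homToEquiv ∘ fun g => g ▷ A₁ ≫ e := by
      funext g
      simp [Iso.homToEquiv]
    rw [this]
    exact ((asIso f).homToEquiv.bijective.of_comp_iff' _).symm
  have pre : ∀ {M M' N : Dual.D R} (i : M' ⟶ M) [IsIso i] (e : M ⊗ A₁ ⟶ N), IsIHom e ↔ IsIHom (i ▷ A₁ ≫ e) := by
    intro M M' N i _ e
    refine ⟨fun he => he.comp_iso (asIso i), fun he => ?_⟩
    have := he.comp_iso (asIso i).symm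
    simpa using this
  rw [hPT, pre κ₁ PT, ← hlink, ← pre (R₁ ◁ j) (Q' ≫ nu adjρ K), ← post Q' (nu adjρ K)]
  exact hevQ.symm

end Square

end Groth.Agent.DR39.Triv
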